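import Cfsg.Prelude.Def_OddOrderLocal
import Cfsg.Agent.Core.Fitting
import Cfsg.Agent.Core.PCore
import Cfsg.Agent.Core.Basics

/-!
Elementary facts about `M_F` and subgroups of type P.
-/

set_option autoImplicit false

namespace Cfsg.Agent.OddLocal

universe u

variable {G : Type u} [Group G]

/-- In a finite nilpotent group elements of coprime order commute. -/
theorem commute_of_coprime_orderOf {N : Type u} [Group N] [Finite N] (hN : Group.IsNilpotent N)
    {x y : N} (h : (orderOf x).Coprime (orderOf y)) : Commute x y := by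
  obtain ⟨e⟩ := ((isNilpotent_of_finite_tfae (G := N)).out 0 4).mp hN
  apply e.symm.injective
  rw [map_mul, map_mul]
  funext p P
  have hp : Fact (p : ℕ).Prime := ⟨Nat.prime_of_mem_primeFactors p.2⟩
  simp only [Pi.mul_apply]
  have hxd : ∀ z : N, orderOf ((e.symm z) p P) ∣ orderOf z := fun z =>
    orderOf_dvd_of_pow_eq_one (by
      rw [← Pi.pow_apply, ← Pi.pow_apply, ← map_pow, pow_orderOf_eq_one, map_one]; rfl)
  rcases eq_or_ne ((e.symm x) p P) 1 with e1 | e1
  · rw [e1, one_mul, mul_one]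
  rcases eq_or_ne ((e.symm y) p P) 1 with e2 | e2
  · rw [e2, one_mul, mul_one]
  exfalso
  obtain ⟨a, ha⟩ := P.isPGroup' ((e.symm x) p P)
  obtain ⟨b, hb⟩ := P.isPGroup' ((e.symm y) p P)
  obtain ⟨a', -, ha'⟩ := (Nat.dvd_prime_pow hp.out).mp (orderOf_dvd_of_pow_eq_one ha)
  obtain ⟨b', -, hb'⟩ := (Nat.dvd_prime_pow hp.out).mp (orderOf_dvd_of_pow_eq_one hb)
  have ha0 : a' ≠ 0 := fun z => e1 (orderOf_eq_one_iff.mp (by rw [ha', z, pow_zero]))
  have hb0 : b' ≠ 0 := fun z => e2 (orderOf_eq_one_iff.mp (by rw [hb', z, pow_zero]))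
  exact hp.out.one_lt.ne' (Nat.dvd_one.mp (h ▸ Nat.dvd_gcd
    ((dvd_pow_self _ ha0).trans (ha' ▸ hxd x)) ((dvd_pow_self _ hb0).trans (hb' ▸ hxd y))))

/-- In a nilpotent subgroup, elements of coprime order commute. -/
theorem commute_of_mem [Finite G] {K : Subgroup G} (hK : Group.IsNilpotent K) {x y : G}
    (hx : x ∈ K) (hy : y ∈ K) (h : (orderOf x).Coprime (orderOf y)) : Commute x y :=
  congrArg Subtype.val (commute_of_coprime_orderOf hK (x := (⟨x, hx⟩ : K)) (y := ⟨y, hy⟩)
    (by rwa [← Subgroup.orderOf_coe, ← Subgroup.orderOf_coe]))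

/-- `M_F` is a Hall subgroup. -/
theorem coprime_fittingHall (M : Type u) [Group M] [Finite M] :
    (Nat.card (fittingHall M)).Coprime (fittingHall M).index := by
  refine Nat.coprime_of_dvd fun p hp hd hdi => ?_
  have := Fact.mk hp
  have hle : fittingHall M ≤ pPrimeCore p M := sSup_le fun N hN => by
    have := hN.1
    refine Core.le_pPrimeCore (Nat.Coprime.symm ((Nat.Prime.coprime_iff_not_dvd hp).mpr fun hpN => ?_))
    exact Nat.not_coprime_of_dvd_of_dvd hp.one_lt hpN
      (hdi.trans (Subgroup.index_dvd_of_le (show N ≤ fittingHall M from le_sSup hN))) hN.2.2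
  exact Core.not_dvd_card_pPrimeCore (hd.trans (Subgroup.card_dvd_of_le hle))

theorem fittingHallOf_le (M : Subgroup G) : fittingHallOf M ≤ M := Subgroup.map_subtype_le _

theorem fittingOf_le (M : Subgroup G) : fittingOf M ≤ M := Subgroup.map_subtype_le _

theorem card_fittingHallOf (M : Subgroup G) :
    Nat.card (fittingHallOf M) = Nat.card (fittingHall M) :=
  Subgroup.card_map_of_injective M.subtype_injective

theorem isNilpotent_fittingOf [Finite G] (M : Subgroup G) : Group.IsNilpotent (fittingOf M) :=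
  Core.isNilpotent_map Core.fittingSubgroup_isNilpotent M.subtype

/-- A subgroup of `M` meeting `M_F` trivially has order coprime to that of `M_F`. -/
theorem coprime_of_inf_eq_bot [Finite G] {M U : Subgroup G} (hU : U ≤ M)
    (hd : fittingHallOf M ⊓ U = ⊥) : (Nat.card (fittingHallOf M)).Coprime (Nat.card U) := by
  rw [card_fittingHallOf]
  refine (coprime_fittingHall M).coprime_dvd_right ?_
  have hd' : U.subgroupOf M ⊓ fittingHall M = ⊥ := by
    refine eq_bot_iff.mpr fun x hx => Subgroup.mem_bot.mpr (Subtype.ext ?_)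
    exact Subgroup.mem_bot.mp (hd.le ⟨⟨x, hx.2, rfl⟩, Subgroup.mem_subgroupOf.mp hx.1⟩)
  rw [← Nat.card_congr (Subgroup.subgroupOfEquivOfLe hU).toEquiv,
    ← Subgroup.relIndex_bot_left, ← hd', Subgroup.inf_relIndex_left]
  exact Subgroup.relIndex_dvd_index_of_normal _ _

/-- The Fitting subgroup part of a complement to `M_F` centralises `M_F`. -/
theorem mem_centralizer_fittingHallOf [Finite G] {M U : Subgroup G} (hU : U ≤ M)
    (hd : fittingHallOf M ⊓ U = ⊥) (hHF : fittingHallOf M ≤ fittingOf M) {u : G} (hu : u ∈ U)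
    (huF : u ∈ fittingOf M) : u ∈ Subgroup.centralizer (fittingHallOf M : Set G) := by
  rw [Subgroup.mem_centralizer_iff]
  intro h hh
  exact commute_of_mem (isNilpotent_fittingOf M) (hHF hh) huF
    (((coprime_of_inf_eq_bot hU hd).coprime_dvd_left (Subgroup.orderOf_dvd_natCard _ hh)).coprime_dvd_right
      (Subgroup.orderOf_dvd_natCard _ hu))

end Cfsg.Agent.OddLocal
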