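import Cfsg.Agent.OddLocal.SigmaCoreAction

/-!
BG 12.13: normalisers of `σ`-subgroups lying in another maximal subgroup.
-/

set_option autoImplicit false
set_option linter.unusedSectionVars false
set_option linter.style.haveILetI false

namespace Cfsg.Agent.OddLocal

open Subgroup Cfsg

universe u

variable {G : Type u} [Group G] [Finite G] {p : ℕ} [hp : Fact p.Prime] {M : Subgroup G}

omit hp in
theorem eq_of_card_eq_of_isCyclic {X Y S : Subgroup G} (hS : IsCyclic S) (hX : X ≤ S) (hY : Y ≤ S)
    (h : Nat.card X = Nat.card Y) : X = Y := by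
  letI : CommGroup S := IsCyclic.commGroup
  haveI := hS
  have key : ∀ Z : Subgroup G, Z ≤ S →
      Z.subgroupOf S = (powMonoidHom (Nat.card Z) : S →* S).ker := by
    intro Z hZ
    refine eq_of_le_of_card_ge (fun z hz => Subtype.ext ?_) ?_
    · exact (congrArg Subtype.val (pow_card_eq_one' (x := (⟨(z : G), hz⟩ : Z))) :)
    · rw [IsCyclic.card_powMonoidHom_ker, Coprime.card_subgroupOf hZ]
      exact Nat.le_of_dvd Nat.card_pos (Nat.gcd_dvd_right _ _)
  have h1 : X.subgroupOf S = Y.subgroupOf S := by rw [key X hX, key Y hY, h]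
  rw [← map_subgroupOf_eq_of_le hX, ← map_subgroupOf_eq_of_le hY, h1]

omit hp in
theorem normalizer_le_normalizer_of_isCyclic {X S : Subgroup G} (hS : IsCyclic S) (hX : X ≤ S) :
    normalizer (S : Set G) ≤ normalizer (X : Set G) := fun n hn =>
  mem_normalizer_of_map_conj (eq_of_card_eq_of_isCyclic hS
    (map_conj_eq_self_of_mem hn ▸ map_mono hX) hX (card_map_conj X n))

/-- A Sylow subgroup of `K` containing its `H`-normaliser's `p`-part is a Sylow subgroup of `H`. -/
theorem exists_sylow_eq_of_normalizer_le {K H : Subgroup G} (hKH : K ≤ H) (S : Sylow p K)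
    (hN : normalizer ((S : Subgroup K).map K.subtype : Set G) ⊓ H ≤ K) :
    ∃ T : Sylow p H, (T : Subgroup H).map H.subtype = (S : Subgroup K).map K.subtype := by
  set R := (S : Subgroup K).map K.subtype with hR
  have hRp : IsPGroup p R := S.2.map _
  have hRK : R ≤ K := map_subtype_le _
  obtain ⟨T, hRT⟩ := exists_sylow_ge hRp (hRK.trans hKH)
  refine ⟨T, le_antisymm ?_ hRT⟩
  by_contra hc
  set T' := (T : Subgroup H).map H.subtype with hT'
  have hlt := card_lt_card_inf_normalizer (T.2.map H.subtype) (lt_of_le_not_ge hRT hc)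
  set U := normalizer (R : Set G) ⊓ T' with hU
  have hUK : U ≤ K := (le_inf inf_le_left (inf_le_right.trans (map_subtype_le _))).trans hN
  have hRU : R ≤ U := le_inf Subgroup.le_normalizer hRT
  have h2 : (S : Subgroup K) ≤ U.subgroupOf K := fun x hx =>
    mem_subgroupOf.mpr (hRU (mem_map_of_mem _ hx))
  have h3 := S.3 (((T.2.map H.subtype).to_le inf_le_right : IsPGroup p U).comap_of_injective _
    K.subtype_injective) h2
  have h4 : U ≤ R := fun x hx => by
    rw [hR, ← h3]
    exact ⟨⟨x, hUK hx⟩, mem_subgroupOf.mpr hx, rfl⟩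
  exact absurd (card_le_of_le h4) (not_le.mpr hlt)

variable (hG : IsMinSimpleOddOrder G) (hM : IsCoatom M)
include hG hM

/-- BG 12.13. -/
theorem sigma_normalizer_other (hσ : p ∈ sigma M) {X : Subgroup G} (hXp : IsPGroup p X)
    (hX1 : X ≠ ⊥) (hXM : X ≤ M) {H : Subgroup G} (hH : IsCoatom H) (hne : H ≠ M)
    (hNX : normalizer (X : Set G) ≤ H) (S : Sylow p ↥(M ⊓ H))
    (hXS : X ≤ (S : Subgroup ↥(M ⊓ H)).map (M ⊓ H).subtype) :
    (∀ g : G, H ≠ M.map (MulAut.conj g).toMonoidHom) ∧
      normalizer ((S : Subgroup ↥(M ⊓ H)).map (M ⊓ H).subtype : Set G) ≤ M ∧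
      ∃ T : Sylow p H,
        (T : Subgroup H).map H.subtype = (S : Subgroup ↥(M ⊓ H)).map (M ⊓ H).subtype := by
  set R := (S : Subgroup ↥(M ⊓ H)).map (M ⊓ H).subtype with hR
  have hRM : R ≤ M := (map_subtype_le _).trans inf_le_left
  have hXH : X ≤ H := Subgroup.le_normalizer.trans hNX
  have hN : normalizer (R : Set G) ≤ M := by
    by_cases hc : IsCyclic R
    · have h1 : normalizer (R : Set G) ≤ H :=
        (normalizer_le_normalizer_of_isCyclic hc hXS).trans hNX
      obtain ⟨T, hT⟩ := exists_sylow_eq_of_normalizer_le (H := M) inf_le_left S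
        (le_inf inf_le_right (inf_le_left.trans h1))
      have h2 := sigma_normalizer_le hσ T
      rwa [hT] at h2
    · exact normalizer_le_of_not_isCyclic hG hM hσ (S.2.map _) hRM hc
  refine ⟨fun g hHg => ?_, hN, exists_sylow_eq_of_normalizer_le inf_le_right S
    (le_inf (inf_le_left.trans hN) inf_le_right)⟩
  have h : X.map (MulAut.conj g⁻¹).toMonoidHom ≤ M := by
    refine (map_mono (hXH.trans hHg.le)).trans (le_of_eq ?_)
    rw [map_conj_inv_cancel]
  obtain ⟨m, hm, c, hc, hmc⟩ := fusion_of_sigma hG hM hσ hXp hX1 hXM h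
  have hcH : c ∈ H := hNX (centralizer_le_normalizer _ hc)
  refine hne ?_
  have hgc : g = c⁻¹ * m⁻¹ := by rw [← inv_inj, hmc]; simp
  have h1 : H = M.map (MulAut.conj c⁻¹).toMonoidHom := by
    rw [hHg, hgc, ← map_conj_map_conj, map_conj_eq_self_of_mem
      (Subgroup.le_normalizer (inv_mem hm))]
  calc H = H.map (MulAut.conj c).toMonoidHom :=
        (map_conj_eq_self_of_mem (Subgroup.le_normalizer hcH)).symm
    _ = (M.map (MulAut.conj c⁻¹).toMonoidHom).map (MulAut.conj c).toMonoidHom := by rw [h1]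
    _ = M := by
        rw [map_conj_map_conj, mul_inv_cancel]
        exact map_conj_eq_self_of_mem (one_mem _)

end Cfsg.Agent.OddLocal
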