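import Cfsg.Agent.OddLocal.CentralEigen
import Cfsg.Agent.WielandtFixed.Main
import Cfsg.Agent.FixedPointFree.Prime
import Cfsg.Agent.Core.Frattini
import Cfsg.Agent.Core.Solvable

/-!
# A fixed-point-free element on an `r`-group acting on a `q`-group with small fixed points

If `c` of prime order acts without fixed points on the `r`-group `P`, both act coprimely on the
`q`-group `Q` and the fixed points of `c` on `Q` form a cyclic group, then `[P, P]` centralises
`Q`.
-/

set_option autoImplicit false

open Subgroup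
open scoped commutatorElement

namespace Cfsg.Agent.OddLocal.NilpotentPrimeAction

set_option maxHeartbeats 400000

universe u

variable {Y : Type u} [Group Y]

/-- Conjugation on a normalised subgroup as a homomorphism to `MulAut`. -/
def conjHom {P V : Subgroup Y} (hPV : P ≤ normalizer (V : Set Y)) : P →* MulAut V :=
  V.normalizerMonoidHom.comp (inclusion hPV)

theorem conjHom_apply {P V : Subgroup Y} (hPV : P ≤ normalizer (V : Set Y)) (g : P) (v : V) :
    (conjHom hPV g v : Y) = (g : Y) * v * (g : Y)⁻¹ := rfl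

theorem conjHom_eq_one {P V : Subgroup Y} (hPV : P ≤ normalizer (V : Set Y)) (g : P) :
    conjHom hPV g = 1 ↔ (g : Y) ∈ centralizer (V : Set Y) := by
  rw [mem_centralizer_iff]
  constructor
  · intro h v hv
    have := congrArg Subtype.val (DFunLike.congr_fun h ⟨v, hv⟩)
    rw [conjHom_apply] at this
    exact (mul_inv_eq_iff_eq_mul.mp this).symm
  · intro h
    refine MulEquiv.ext fun v => Subtype.ext ?_
    rw [conjHom_apply]
    exact mul_inv_eq_iff_eq_mul.mpr (h v v.2).symm

/-- A representation over `ZMod q` of a group acting on an elementary abelian `q`-group. -/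
theorem exists_rep {q : ℕ} [Fact q.Prime] {P V : Subgroup Y} (hPV : P ≤ normalizer (V : Set Y))
    [IsMulCommutative V] (hexp : ∀ a ∈ V, a ^ q = 1) :
    letI : CommGroup V :=
      { (inferInstance : Group V) with mul_comm := fun a b => IsMulCommutative.is_comm.comm a b }
    letI := AddCommGroup.zmodModule (n := q) (G := Additive V) (fun x => Additive.toMul.injective
      (Subtype.ext ((SubmonoidClass.coe_pow (Additive.toMul x) q).trans
        (hexp _ (Additive.toMul x).2))))
    ∃ σ : P →* Module.End (ZMod q) (Additive V),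
      ∀ g v, σ g v = Additive.ofMul (conjHom hPV g (Additive.toMul v)) := by
  letI : CommGroup V :=
    { (inferInstance : Group V) with mul_comm := fun a b => IsMulCommutative.is_comm.comm a b }
  letI := AddCommGroup.zmodModule (n := q) (G := Additive V) (fun x => Additive.toMul.injective
    (Subtype.ext ((SubmonoidClass.coe_pow (Additive.toMul x) q).trans
      (hexp _ (Additive.toMul x).2))))
  exact ⟨{
      toFun := fun g => AddMonoidHom.toZModLinearMap q
        (MonoidHom.toAdditive (conjHom hPV g).toMonoidHom)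
      map_one' := LinearMap.ext fun v => congrArg Additive.ofMul
        (DFunLike.congr_fun (map_one (conjHom hPV)) (Additive.toMul v))
      map_mul' := fun g h => LinearMap.ext fun v => congrArg Additive.ofMul
        (DFunLike.congr_fun (map_mul (conjHom hPV) g h) (Additive.toMul v)) }, fun g v => rfl⟩

/-- The codimension of the points fixed by a set of central commutators of order `r`. -/
theorem exists_card_eq_mul_pow {q r : ℕ} [Fact q.Prime] (hr : r.Prime) (hqr : q ≠ r)
    {P V : Subgroup Y} [Finite Y] (hPV : P ≤ normalizer (V : Set Y)) [IsMulCommutative V]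
    (hexp : ∀ a ∈ V, a ^ q = 1) (Z : Set P) (hZc : ∀ z ∈ Z, z ∈ commutator P)
    (hcomm : ∀ z ∈ Z, ∀ g, Commute (conjHom hPV z) (conjHom hPV g))
    (hpow : ∀ z ∈ Z, conjHom hPV z ^ r = 1) :
    ∃ m, Nat.card V = q ^ (r * m) *
      Nat.card ↥(V ⊓ centralizer (P.subtype '' Z : Set Y)) := by
  letI : CommGroup V :=
    { (inferInstance : Group V) with mul_comm := fun a b => IsMulCommutative.is_comm.comm a b }
  letI := AddCommGroup.zmodModule (n := q) (G := Additive V) (fun x => Additive.toMul.injective
    (Subtype.ext ((SubmonoidClass.coe_pow (Additive.toMul x) q).trans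
      (hexp _ (Additive.toMul x).2))))
  obtain ⟨σ, hσ⟩ := exists_rep (q := q) hPV hexp
  let F : Submodule (ZMod q) (Additive V) := ⨅ z ∈ Z, LinearMap.ker (σ z - 1)
  have hF : ∀ x, x ∈ F ↔ ∀ z ∈ Z, σ z x = x := fun x => by simp [F, sub_eq_zero]
  have hrk : (r : ZMod q) ≠ 0 := by
    rw [ne_eq, ZMod.natCast_eq_zero_iff]
    exact fun h => hqr ((Nat.prime_dvd_prime_iff_eq (Fact.out (p := q.Prime)) hr).mp h)
  have hσmul : ∀ a b : P, σ (a * b) = σ a * σ b := map_mul σ
  obtain ⟨m, hm⟩ := CentralEigen.finrank_fixed_modEq hr hrk Z hZc _ σ rfl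
    (fun z hz g => by
      show σ z * σ g = σ g * σ z
      rw [← map_mul, ← map_mul]
      refine LinearMap.ext fun v => ?_
      rw [hσ, hσ, map_mul, map_mul, (hcomm z hz g).eq])
    (fun z hz => by
      rw [← map_pow]
      refine LinearMap.ext fun v => ?_
      rw [hσ, map_pow, hpow z hz]
      rfl) F hF
  refine ⟨m, ?_⟩
  have h1 : Nat.card F = Nat.card ↥(V ⊓ centralizer (P.subtype '' Z : Set Y)) := by
    have key : ∀ v : Additive V, v ∈ F ↔
        ((Additive.toMul v : V) : Y) ∈ centralizer (P.subtype '' Z : Set Y) := by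
      intro v
      rw [hF, mem_centralizer_iff]
      simp only [Set.forall_mem_image]
      refine forall₂_congr fun z _ => ?_
      rw [hσ]
      constructor
      · intro h
        have := congrArg (fun w : Additive V => ((Additive.toMul w : V) : Y)) h
        simp only [toMul_ofMul, conjHom_apply] at this
        exact mul_inv_eq_iff_eq_mul.mp this
      · intro h
        refine Additive.toMul.injective (Subtype.ext ?_)
        rw [toMul_ofMul, conjHom_apply]
        exact mul_inv_eq_iff_eq_mul.mpr h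
    exact Nat.card_congr
      { toFun := fun v => ⟨(Additive.toMul v.1 : V), (Additive.toMul v.1).2, (key v.1).mp v.2⟩
        invFun := fun y => ⟨Additive.ofMul ⟨y.1, y.2.1⟩, (key _).mpr y.2.2⟩
        left_inv := fun v => rfl
        right_inv := fun y => rfl }
  have : Finite (Additive V) := Finite.of_equiv V Additive.ofMul
  rw [← h1, Module.natCard_eq_pow_finrank (K := ZMod q) (V := F), Nat.card_zmod, ← pow_add,
    Nat.add_comm, ← hm]
  rw [show Nat.card V = Nat.card (Additive V) from rfl,
    Module.natCard_eq_pow_finrank (K := ZMod q) (V := Additive V), Nat.card_zmod]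

variable [Finite Y]

/-- The elementary abelian case. -/
theorem commutator_le_centralizer_elementary {p q r : ℕ} (hp : p.Prime) [Fact q.Prime]
    [Fact r.Prime] {P V : Subgroup Y} [IsMulCommutative V] {c : Y}
    (hP : IsPGroup r P) (hc : c ^ p = 1) (hcP : c ∈ normalizer (P : Set Y))
    (hcV : c ∈ normalizer (V : Set Y)) (hPV : P ≤ normalizer (V : Set Y))
    (hfix : P ⊓ centralizer {c} = ⊥) (hexp : ∀ a ∈ V, a ^ q = 1)
    (hcop : ¬ q ∣ Nat.card ↥(P ⊔ zpowers c))
    (hC : Nat.card ↥(V ⊓ centralizer {c}) ∣ q) :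
    ⁅P, P⁆ ≤ centralizer (V : Set Y) := by
  classical
  by_contra hne
  have hr : r.Prime := Fact.out
  have hq : q.Prime := Fact.out
  -- basic facts
  have hP1 : P ≠ ⊥ := by
    rintro rfl
    exact hne (by simp)
  have hcop' := FixedPointFree.coprime_of_fixed hp (FixedPointFree.isPGroup_zpowers hc)
    (L := P) (zpowers_le.mpr hcP) (by rwa [FixedPointFree.centralizer_zpowers])
  have hc1 : c ≠ 1 := by
    rintro rfl
    exact hP1 (le_bot_iff.mp (hfix ▸ le_inf le_rfl (fun x _ => mem_centralizer_singleton_iff.mpr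
      ((mul_one x).trans (one_mul x).symm))))
  have hcard : Nat.card (zpowers c) = p := by
    have := Fact.mk hp
    rw [Nat.card_zpowers, orderOf_eq_prime hc hc1]
  have hrP : r ∣ Nat.card P := by
    obtain ⟨n, hn⟩ := hP.exists_card_eq
    rw [hn]
    exact dvd_pow_self r (fun h => hP1 (card_eq_one.mp (by rw [hn, h, pow_zero])))
  have hpr : p ≠ r := by
    rintro rfl
    rw [hcard] at hcop'
    exact hp.not_dvd_one (hcop'.gcd_eq_one ▸ Nat.dvd_gcd dvd_rfl hrP)
  have hqr : q ≠ r := by
    rintro rfl
    exact hcop (hrP.trans (card_dvd_of_le le_sup_left))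
  -- the image of `P`
  set φ := conjHom hPV with hφ
  have hSp : IsPGroup r φ.range := hP.of_surjective φ.rangeRestrict φ.rangeRestrict_surjective
  have hne' : commutator φ.range ≠ ⊥ := by
    intro h
    apply hne
    rw [commutator_le]
    intro a ha b hb
    have h1 : (φ.rangeRestrict ⁅(⟨a, ha⟩ : P), (⟨b, hb⟩ : P)⁆) ∈ commutator φ.range := by
      rw [map_commutatorElement]
      exact commutator_mem_commutator (mem_top _) (mem_top _)
    rw [h, Subgroup.mem_bot] at h1
    exact (conjHom_eq_one hPV ⁅(⟨a, ha⟩ : P), (⟨b, hb⟩ : P)⁆).mp (congrArg Subtype.val h1)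
  -- the central commutators of order `r`
  set Z : Set P := {z | z ∈ commutator P ∧ (∀ g, Commute (φ z) (φ g)) ∧ φ z ^ r = 1} with hZ
  obtain ⟨z, hz, hz1⟩ : ∃ z ∈ Z, φ z ≠ 1 := by
    have := hSp.isNilpotent
    have h2 := Core.inf_center_ne_bot (N := commutator φ.range) hne'
    have h3 : r ∣ Nat.card ↥(commutator φ.range ⊓ center φ.range) := by
      obtain ⟨n, hn⟩ := (hSp.to_subgroup (commutator φ.range ⊓ center φ.range)).exists_card_eq
      rw [hn]
      exact dvd_pow_self r (fun h => h2 (card_eq_one.mp (by rw [hn, h, pow_zero])))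
    obtain ⟨s, hs⟩ := exists_prime_orderOf_dvd_card' r h3
    have hmap : commutator φ.range = (commutator P).map φ.rangeRestrict := by
      rw [_root_.commutator_def, _root_.commutator_def, map_commutator,
        map_top_of_surjective φ.rangeRestrict φ.rangeRestrict_surjective]
    have hsmem : (s : φ.range) ∈ (commutator P).map φ.rangeRestrict := hmap ▸ s.2.1
    obtain ⟨z, hz, hzs⟩ := hsmem
    refine ⟨z, ⟨hz, fun g => ?_, ?_⟩, ?_⟩
    · have := congrArg Subtype.val (mem_center_iff.mp s.2.2 (φ.rangeRestrict g))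
      rw [← hzs] at this
      exact (show Commute (φ g) (φ z) from this).symm
    · have h4 : s ^ r = 1 := hs ▸ pow_orderOf_eq_one s
      have := congrArg (fun x : ↥(commutator φ.range ⊓ center φ.range) => ((x : φ.range) : MulAut V)) h4
      simp only [SubmonoidClass.coe_pow, OneMemClass.coe_one, ← hzs] at this
      exact this
    · intro h
      have h5 : s = 1 := Subtype.ext (Subtype.ext (by rw [← hzs]; simpa using h))
      rw [h5, orderOf_one] at hs
      exact hr.ne_one hs.symm
  obtain ⟨m, hm⟩ := exists_card_eq_mul_pow hr hqr hPV hexp Z (fun z hz => hz.1)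
    (fun z hz g => hz.2.1 g) (fun z hz => hz.2.2)
  set T : Set Y := P.subtype '' Z with hT
  set W := V ⊓ centralizer T with hW
  -- invariance
  have hWV : W ≤ V := inf_le_left
  have hWlt : W ≠ V := by
    intro h
    refine hz1 ((conjHom_eq_one hPV z).mpr fun v hv => ?_)
    have : v ∈ W := h.symm ▸ hv
    exact (mem_centralizer_iff.mp this.2 z ⟨z, hz, rfl⟩).symm
  have hnormW : ∀ x ∈ P ⊔ zpowers c, ∀ v ∈ W, x * v * x⁻¹ ∈ W := by
    intro x hx
    have hxV : x ∈ normalizer (V : Set Y) := sup_le hPV (zpowers_le.mpr hcV) hx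
    have hxP : x ∈ normalizer (P : Set Y) := sup_le le_normalizer (zpowers_le.mpr hcP) hx
    rintro v ⟨hv, hvT⟩
    refine ⟨(mem_normalizer_iff.mp hxV v).mp hv, mem_centralizer_iff.mpr ?_⟩
    rintro _ ⟨w, ⟨hwc, hwcomm, hwpow⟩, rfl⟩
    -- the conjugate of `w` is again in `Z`
    set w' : P := ⟨x⁻¹ * w * x, by
      simpa using (mem_normalizer_iff.mp (inv_mem hxP) (w : Y)).mp w.2⟩ with hw'
    have hval : ∀ (g : P) (u : V), (φ g u : Y) = (g : Y) * u * (g : Y)⁻¹ := fun g u => rfl
    have hw'Z : w' ∈ Z := by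
      refine ⟨?_, fun g => ?_, ?_⟩
      · have h1 : (w : Y) ∈ ⁅P, P⁆ := by
          rw [← map_subtype_commutator]
          exact ⟨w, hwc, rfl⟩
        have hn : x⁻¹ ∈ normalizer ((⁅P, P⁆ : Subgroup Y) : Set Y) :=
          FixedPointFree.mem_normalizer_commutator (inv_mem hxP) (inv_mem hxP)
        have h2 : (w' : Y) ∈ ⁅P, P⁆ := by
          have := (mem_normalizer_iff.mp hn (w : Y)).mp h1
          simpa [hw'] using this
        rw [← map_subtype_commutator] at h2
        obtain ⟨y, hy, hy'⟩ := h2
        rwa [← Subtype.ext (a1 := y) (a2 := w') hy']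
      · set g' : P := ⟨x * g * x⁻¹, (mem_normalizer_iff.mp hxP (g : Y)).mp g.2⟩
        refine MulEquiv.ext fun u => Subtype.ext ?_
        have h := congrArg Subtype.val (DFunLike.congr_fun (hwcomm g').eq
          ⟨x * u * x⁻¹, (mem_normalizer_iff.mp hxV (u : Y)).mp u.2⟩)
        simp only [MulAut.mul_apply, hval, g'] at h ⊢
        simp only [hw']
        calc x⁻¹ * w * x * (g * u * (g : Y)⁻¹) * (x⁻¹ * w * x)⁻¹
            = x⁻¹ * (w * (x * g * x⁻¹ * (x * u * x⁻¹) * (x * g * x⁻¹)⁻¹) * (w : Y)⁻¹) * x := by group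
          _ = x⁻¹ * (x * g * x⁻¹ * (w * (x * u * x⁻¹) * (w : Y)⁻¹) * (x * g * x⁻¹)⁻¹) * x := by rw [h]
          _ = _ := by group
      · rw [← map_pow]
        rw [conjHom_eq_one]
        rw [← map_pow, conjHom_eq_one] at hwpow
        have hxC : x⁻¹ ∈ normalizer ((centralizer (V : Set Y) : Subgroup Y) : Set Y) := by
          rw [mem_normalizer_iff]
          intro y
          have key : ∀ g ∈ normalizer (V : Set Y), ∀ y ∈ centralizer (V : Set Y),
              g * y * g⁻¹ ∈ centralizer (V : Set Y) := by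
            intro g hg y hy
            rw [mem_centralizer_iff]
            intro u hu
            have := mem_centralizer_iff.mp hy _ ((mem_normalizer_iff''.mp hg u).mp hu)
            calc u * (g * y * g⁻¹) = g * ((g⁻¹ * u * g) * y) * g⁻¹ := by group
              _ = g * (y * (g⁻¹ * u * g)) * g⁻¹ := by rw [this]
              _ = g * y * g⁻¹ * u := by group
          refine ⟨key _ (inv_mem hxV) y, fun h => ?_⟩
          have := key x hxV _ h
          simpa [mul_assoc] using this
        have := (mem_normalizer_iff.mp hxC _).mp hwpow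
        have e : (x⁻¹ * (w : Y) * x) ^ r = x⁻¹ * (w : Y) ^ r * x := by
          rw [show x⁻¹ * (w : Y) * x = x⁻¹ * w * x⁻¹⁻¹ by rw [inv_inv], conj_pow, inv_inv]
        show ((w' ^ r : P) : Y) ∈ _
        rw [SubmonoidClass.coe_pow, hw', e]
        simpa using this
    have := mem_centralizer_iff.mp hvT _ ⟨w', hw'Z, rfl⟩
    simp only [coe_subtype, hw'] at this ⊢
    calc (w : Y) * (x * v * x⁻¹) = x * ((x⁻¹ * w * x) * v) * x⁻¹ := by group
      _ = x * (v * (x⁻¹ * w * x)) * x⁻¹ := by rw [this]
      _ = x * v * x⁻¹ * w := by group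
  -- the order formula on `V` and `W`
  have hUE : P ⊓ zpowers c = ⊥ := inf_eq_bot_of_coprime hcop'.symm
  have hUn : ∀ e ∈ zpowers c, ∀ u ∈ P, e * u * e⁻¹ ∈ P := fun e he u hu =>
    (mem_normalizer_iff.mp (zpowers_le.mpr hcP he) u).mp hu
  have hfpf : ∀ e ∈ zpowers c, e ≠ 1 → ∀ u ∈ P, e * u = u * e → u = 1 := by
    intro e he he1 u hu h
    have := Fact.mk hp
    obtain ⟨k, hk⟩ := mem_zpowers_iff.mp he
    have hgen : zpowers e = zpowers c := by
      refine eq_of_le_of_card_ge (zpowers_le.mpr he) ?_
      rw [hcard, Nat.card_zpowers]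
      have : e ^ p = 1 := by
        rw [← hk, ← zpow_natCast, ← zpow_mul, mul_comm, zpow_mul, zpow_natCast, hc, one_zpow]
      rw [orderOf_eq_prime this he1]
    have hcu : Commute c u := by
      have hce : c ∈ zpowers e := by rw [hgen]; exact mem_zpowers c
      obtain ⟨j, hj⟩ := mem_zpowers_iff.mp hce
      rw [← hj]
      exact (show Commute e u from h).zpow_left j
    exact FixedPointFree.eq_one_of_fixed hfix hu hcu
  have hab : ∀ a ∈ V, ∀ b ∈ V, a * b = b * a := fun a ha b hb => setLike_mul_comm ha hb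
  have f1 := WielandtFixed.formula_elementary (p := q) P (zpowers c) V hUE hUn hfpf
    (fun x hx v hv => (mem_normalizer_iff.mp (sup_le hPV (zpowers_le.mpr hcV) hx) v).mp hv)
    hab hexp hcop
  have f2 := WielandtFixed.formula_elementary (p := q) P (zpowers c) W hUE hUn hfpf hnormW
    (fun a ha b hb => hab a (hWV ha) b (hWV hb)) (fun a ha => hexp a (hWV ha)) hcop
  rw [hcard] at f1 f2
  have hfixeq : ∀ A : Subgroup Y, P ≤ A → WielandtFixed.fixCard V A = WielandtFixed.fixCard W A := by
    intro A hA
    unfold WielandtFixed.fixCard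
    rw [hW, inf_assoc, inf_eq_right.mpr (centralizer_le (show T ⊆ (A : Set Y) by
      rintro _ ⟨w, -, rfl⟩
      exact hA w.2))]
  rw [← hfixeq P le_rfl, ← hfixeq _ le_sup_left] at f2
  set a := WielandtFixed.fixCard V (P ⊔ zpowers c)
  set f := WielandtFixed.fixCard V P
  set b := WielandtFixed.fixCard V (zpowers c) with hbdef
  set b' := WielandtFixed.fixCard W (zpowers c) with hb'def
  have ha0 : 0 < a := Nat.card_pos
  have hf0 : 0 < f := Nat.card_pos
  have hW0 : 0 < Nat.card W := Nat.card_pos
  have hrel : Nat.card V * b' ^ p = b ^ p * Nat.card W := by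
    refine Nat.eq_of_mul_eq_mul_left (show 0 < a ^ p by positivity) ?_
    calc a ^ p * (Nat.card V * b' ^ p) = (a ^ p * Nat.card V) * b' ^ p := by ring
      _ = b ^ p * f * b' ^ p := by rw [f1]
      _ = b ^ p * (a ^ p * Nat.card W) := by rw [f2]; ring
      _ = _ := by ring
  have hbq : b ∣ q := by
    rw [hbdef, WielandtFixed.fixCard, FixedPointFree.centralizer_zpowers]; exact hC
  have hb'b : b' ∣ b := card_dvd_of_le (inf_le_inf_right _ hWV)
  have hlt : Nat.card W < Nat.card V :=
    lt_of_le_of_ne (card_le_of_le hWV) fun h => hWlt (eq_of_le_of_card_ge hWV h.ge)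
  have hbb' : b' = 1 ∧ b = q := by
    rcases (Nat.dvd_prime hq).mp hbq with h | h
    · rw [h, Nat.dvd_one] at hb'b
      rw [h, hb'b] at hrel
      simp at hrel
      omega
    · refine ⟨?_, h⟩
      rcases (Nat.dvd_prime hq).mp (h ▸ hb'b) with h' | h'
      · exact h'
      · rw [h, h', mul_comm] at hrel
        exact absurd (Nat.eq_of_mul_eq_mul_left (by have := hq.pos; positivity) hrel) hlt.ne'
  rw [hbb'.1, hbb'.2, one_pow, mul_one, hm] at hrel
  have h1 : q ^ (r * m) = q ^ p := Nat.eq_of_mul_eq_mul_right hW0 hrel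
  have h2 : r * m = p := Nat.pow_right_injective hq.two_le h1
  exact hpr ((Nat.prime_dvd_prime_iff_eq hr hp).mp ⟨m, h2.symm⟩).symm

/-- The case of a normal `q`-subgroup. -/
theorem commutator_le_centralizer_normal {p q r : ℕ} (hp : p.Prime) [Fact q.Prime]
    [Fact r.Prime] {P Q : Subgroup Y} [Q.Normal] {c : Y}
    (hP : IsPGroup r P) (hQ : IsPGroup q Q) (hc : c ^ p = 1) (hcP : c ∈ normalizer (P : Set Y))
    (hfix : P ⊓ centralizer {c} = ⊥) (hcop : ¬ q ∣ Nat.card ↥(P ⊔ zpowers c))
    (hC : IsCyclic ↥(Q ⊓ centralizer {c})) :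
    ⁅P, P⁆ ≤ centralizer (Q : Set Y) := by
  classical
  have hqprime : q.Prime := Fact.out
  have := hQ.isNilpotent
  have hcopQ : (Nat.card ↥(P ⊔ zpowers c)).Coprime (Nat.card Q) := by
    obtain ⟨n, hn⟩ := hQ.exists_card_eq
    rw [hn]
    exact ((hqprime.coprime_iff_not_dvd.mpr hcop).pow_left n).symm
  set F : Subgroup Y := (frattini Q).map Q.subtype with hFdef
  have hFQ : F ≤ Q := map_subtype_le _
  have hFn : F.Normal := inferInstance
  set f := QuotientGroup.mk' F with hf
  have hker : f.ker = F := QuotientGroup.ker_mk' F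
  have hinj : ∀ x ∈ P ⊔ zpowers c, ∀ y ∈ P ⊔ zpowers c, f x = f y → x = y := by
    intro x hx y hy h
    have h1 : x⁻¹ * y ∈ (P ⊔ zpowers c) ⊓ Q := by
      refine ⟨(P ⊔ zpowers c).mul_mem ((P ⊔ zpowers c).inv_mem hx) hy, hFQ ?_⟩
      rw [← hker, MonoidHom.mem_ker, map_mul, map_inv, h, inv_mul_cancel]
    rw [inf_eq_bot_of_coprime hcopQ, mem_bot, inv_mul_eq_one] at h1
    exact h1
  have hVc : IsMulCommutative ↥(Q.map f) := by
    refine ⟨⟨?_⟩⟩
    rintro ⟨_, x, hx, rfl⟩ ⟨_, y, hy, rfl⟩
    refine Subtype.ext ?_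
    show f x * f y = f y * f x
    rw [← commutatorElement_eq_one_iff_mul_comm, ← map_commutatorElement, ← MonoidHom.mem_ker, hker]
    exact ⟨⁅(⟨x, hx⟩ : Q), (⟨y, hy⟩ : Q)⁆, Core.commutator_le_frattini
      (commutator_mem_commutator (mem_top _) (mem_top _)), rfl⟩
  have hexp : ∀ a ∈ Q.map f, a ^ q = 1 := by
    rintro _ ⟨x, hx, rfl⟩
    rw [← map_pow, ← MonoidHom.mem_ker, hker]
    exact ⟨⟨x, hx⟩ ^ q, Core.pow_mem_frattini hQ _, rfl⟩
  have hVn : (Q.map f).Normal := Normal.map inferInstance f (QuotientGroup.mk'_surjective F)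
  have key := commutator_le_centralizer_elementary (q := q) (r := r) hp (P := P.map f)
    (V := Q.map f) (c := f c) (hP.map f) (by rw [← map_pow, hc, map_one])
    (le_normalizer_map f (mem_map_of_mem f hcP))
    (by rw [normalizer_eq_top]; exact mem_top _)
    (by rw [normalizer_eq_top]; exact le_top)
    (by
      rw [eq_bot_iff]
      rintro _ ⟨⟨x, hx, rfl⟩, hxc⟩
      have h := mem_centralizer_singleton_iff.mp hxc
      rw [← map_mul, ← map_mul] at h
      have hcm : c ∈ P ⊔ zpowers c := mem_sup_right (mem_zpowers c)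
      have h' := hinj _ (mul_mem (mem_sup_left hx) hcm) _ (mul_mem hcm (mem_sup_left hx)) h
      rw [FixedPointFree.eq_one_of_fixed hfix hx (show Commute x c from h').symm, map_one]
      exact one_mem _)
    hexp
    (by
      rw [← MonoidHom.map_zpowers, ← Subgroup.map_sup]
      exact fun h => hcop (h.trans (Subgroup.card_map_dvd (P ⊔ zpowers c) f)))
    (by
      have hm := Coprime.map_inf_centralizer f (A := zpowers c) (K := Q)
        le_normalizer_of_normal (hker.le.trans hFQ)
        ((hcopQ.coprime_dvd_left (card_dvd_of_le le_sup_right)).coprime_dvd_right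
          (card_dvd_of_le (hker.le.trans hFQ)))
        (Or.inr (by
          rw [hker]
          exact Core.isSolvable_mono (H := F) (K := Q) inferInstance hFQ))
      rw [FixedPointFree.centralizer_zpowers, MonoidHom.map_zpowers,
        FixedPointFree.centralizer_zpowers] at hm
      rw [← hm]
      have : IsCyclic ↥((Q ⊓ centralizer {c}).map f) :=
        isCyclic_of_surjective _ (MonoidHom.subgroupMap_surjective f _)
      rw [← IsCyclic.exponent_eq_card]
      refine Monoid.exponent_dvd_of_forall_pow_eq_one fun x => Subtype.ext ?_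
      rw [SubmonoidClass.coe_pow]
      exact hexp _ (map_mono inf_le_left x.2))
  refine Coprime.le_centralizer_of_trivial_mod_frattini le_normalizer_of_normal ?_ ?_
  · exact (hcopQ.coprime_dvd_left (card_dvd_of_le ((commutator_le.mpr fun _ ha _ hb => P.mul_mem (P.mul_mem (P.mul_mem ha hb) (P.inv_mem ha)) (P.inv_mem hb) : ⁅P, P⁆ ≤ P).trans le_sup_left))).coprime_dvd_right
      (card_subgroup_dvd_card _)
  · intro a ha k hk
    rw [← hFdef, ← hker, MonoidHom.mem_ker]
    have h := mem_centralizer_iff.mp (key (x := f a) (by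
      rw [← map_commutator]; exact mem_map_of_mem f ha)) (f k) (mem_map_of_mem f hk)
    simp only [map_mul, map_inv]
    rw [← h]
    group

/-- **The action on a `q`-group.** -/
theorem commutator_le_centralizer_pgroup {p q r : ℕ} (hp : p.Prime) [Fact q.Prime]
    [Fact r.Prime] {P Q : Subgroup Y} {c : Y}
    (hP : IsPGroup r P) (hQ : IsPGroup q Q) (hc : c ^ p = 1) (hcP : c ∈ normalizer (P : Set Y))
    (hcQ : c ∈ normalizer (Q : Set Y)) (hPQ : P ≤ normalizer (Q : Set Y))
    (hfix : P ⊓ centralizer {c} = ⊥) (hcop : ¬ q ∣ Nat.card ↥(P ⊔ zpowers c))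
    (hC : IsCyclic ↥(Q ⊓ centralizer {c})) :
    ⁅P, P⁆ ≤ centralizer (Q : Set Y) := by
  set N := normalizer (Q : Set Y) with hN
  let c' : N := ⟨c, hcQ⟩
  have hQN : Q ≤ N := le_normalizer
  have : (Q.subgroupOf N).Normal := inferInstanceAs (Q.subgroupOf (normalizer (Q : Set Y))).Normal
  have hz : zpowers c' = (zpowers c).subgroupOf N := by
    apply map_injective N.subtype_injective
    rw [MonoidHom.map_zpowers, subgroupOf_map_subtype, inf_eq_left.mpr (zpowers_le.mpr hcQ)]
    rfl
  have key := commutator_le_centralizer_normal (q := q) (r := r) hp (P := P.subgroupOf N)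
    (Q := Q.subgroupOf N) (c := c') (hP.comap_subtype) (hQ.comap_subtype)
    (Subtype.ext (by simpa [c'] using hc))
    (by
      rw [mem_normalizer_iff]
      intro g
      exact mem_normalizer_iff.mp hcP (g : Y))
    (by
      rw [eq_bot_iff]
      rintro x ⟨hx, hxc⟩
      exact mem_bot.mpr (Subtype.ext (FixedPointFree.eq_one_of_fixed hfix hx
        (show Commute (x : Y) c from congrArg Subtype.val (mem_centralizer_singleton_iff.mp hxc)).symm)))
    (by
      rw [hz, ← subgroupOf_sup hPQ (zpowers_le.mpr hcQ),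
        Nat.card_congr (subgroupOfEquivOfLe (sup_le hPQ (zpowers_le.mpr hcQ))).toEquiv]
      exact hcop)
    (by
      refine isCyclic_of_injective
        (f := ({ toFun := fun x => ⟨x.1.1, x.2.1, mem_centralizer_singleton_iff.mpr
                  (congrArg Subtype.val (mem_centralizer_singleton_iff.mp x.2.2))⟩
                 map_one' := rfl
                 map_mul' := fun _ _ => rfl } :
          ↥(Q.subgroupOf N ⊓ centralizer {c'}) →* ↥(Q ⊓ centralizer {c}))) fun x y h => ?_
      exact Subtype.ext (Subtype.ext (congrArg (fun z : ↥(Q ⊓ centralizer {c}) => (z : Y)) h)))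
  rw [commutator_le]
  intro a ha b hb
  rw [mem_centralizer_iff]
  intro y hy
  exact congrArg Subtype.val (mem_centralizer_iff.mp
    (key (commutator_mem_commutator (g₁ := (⟨a, hPQ ha⟩ : N)) (g₂ := ⟨b, hPQ hb⟩) ha hb))
    ⟨y, hQN hy⟩ hy)

/-- A finite nilpotent group is generated by its elements of Sylow subgroups. -/
theorem closure_sylow_eq_top (K : Type u) [Group K] [Finite K] :
    closure {x : K | ∃ (q : ℕ) (_ : Fact q.Prime) (S : Sylow q K), x ∈ S} = ⊤ := by
  apply eq_top_of_card_eq
  refine Nat.dvd_antisymm (card_subgroup_dvd_card _) (Nat.dvd_of_primeFactorsList_subperm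
    Nat.card_pos.ne' ?_)
  rw [List.subperm_ext_iff]
  intro q hq
  have hqp := Nat.prime_of_mem_primeFactorsList hq
  rw [Nat.primeFactorsList_count_eq, Nat.primeFactorsList_count_eq]
  have := Fact.mk hqp
  obtain ⟨S⟩ := (inferInstance : Nonempty (Sylow q K))
  have h1 : q ^ (Nat.card K).factorization q ∣
      Nat.card ↥(closure {x : K | ∃ (q : ℕ) (_ : Fact q.Prime) (S : Sylow q K), x ∈ S}) := by
    rw [← S.card_eq_multiplicity]
    exact card_dvd_of_le (fun x hx => subset_closure ⟨q, ‹_›, S, hx⟩)
  exact (hqp.pow_dvd_iff_le_factorization Nat.card_pos.ne').mp h1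

/-- If every Sylow subgroup of the nilpotent group `K` has commutator in `C`, so has `K`. -/
theorem commutator_le_of_sylow {K C : Subgroup Y} (hK : Group.IsNilpotent K)
    (hC : K ≤ normalizer (C : Set Y))
    (h : ∀ (q : ℕ) [Fact q.Prime] (S : Sylow q K),
      ⁅(S : Subgroup K).map K.subtype, (S : Subgroup K).map K.subtype⁆ ≤ C) :
    ⁅K, K⁆ ≤ C := by
  have : (C.subgroupOf K).Normal := normal_subgroupOf_of_le_normalizer hC
  set f := QuotientGroup.mk' (C.subgroupOf K) with hf
  set A : Set K := {x : K | ∃ (q : ℕ) (_ : Fact q.Prime) (S : Sylow q K), x ∈ S} with hA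
  have hgen : ∀ a ∈ A, ∀ b ∈ A, f a * f b = f b * f a := by
    rintro a ⟨q, hq, S, ha⟩ b ⟨r, hr, T, hb⟩
    have hn := fun (q : ℕ) (hq : Fact q.Prime) (S : Sylow q K) =>
      (Group.isNilpotent_of_finite_tfae.out 0 3 rfl rfl).mp hK q hq S
    by_cases hqr : q = r
    · subst hqr
      have := hn q hq S
      have hTS : T = S := by
        obtain ⟨x, hx⟩ := MulAction.exists_smul_eq K S T
        rw [← hx, Sylow.smul_eq_of_normal]
      subst hTS
      rw [← commutatorElement_eq_one_iff_mul_comm, ← map_commutatorElement, ← MonoidHom.mem_ker,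
        hf, QuotientGroup.ker_mk', mem_subgroupOf]
      exact h q T (by simpa [commutatorElement_def] using
        commutator_mem_commutator (mem_map_of_mem K.subtype ha) (mem_map_of_mem K.subtype hb))
    · rw [← map_mul, ← map_mul, (Subgroup.commute_of_normal_of_disjoint _ _ (hn q hq S) (hn r hr T)
        (IsPGroup.disjoint_of_ne q r hqr _ _ S.2 T.2) a b ha hb).eq]
  have hsub : closure (f '' A) = ⊤ := by
    rw [← MonoidHom.map_closure, closure_sylow_eq_top,
      map_top_of_surjective f (QuotientGroup.mk'_surjective _)]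
  have hcomm : ∀ x y : K ⧸ C.subgroupOf K, x * y = y * x := by
    have hc : closure (f '' A) ≤ centralizer (f '' A) := by
      rw [closure_le]
      rintro _ ⟨a, ha, rfl⟩
      rw [SetLike.mem_coe, mem_centralizer_iff]
      rintro _ ⟨b, hb, rfl⟩
      exact hgen b hb a ha
    intro x y
    have hy : y ∈ centralizer (f '' A) := hc (hsub ▸ mem_top y)
    have hx : x ∈ centralizer ({y} : Set (K ⧸ C.subgroupOf K)) := by
      have : closure (f '' A) ≤ centralizer {y} := by
        rw [closure_le]
        intro g hg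
        exact mem_centralizer_singleton_iff.mpr (mem_centralizer_iff.mp hy g hg)
      exact this (hsub ▸ mem_top x)
    exact mem_centralizer_singleton_iff.mp hx
  rw [commutator_le]
  intro a ha b hb
  have h1 : f ⁅(⟨a, ha⟩ : K), (⟨b, hb⟩ : K)⁆ = 1 := by
    rw [map_commutatorElement, commutatorElement_eq_one_iff_mul_comm]
    exact hcomm _ _
  rw [← MonoidHom.mem_ker, hf, QuotientGroup.ker_mk', mem_subgroupOf] at h1
  exact h1

end Cfsg.Agent.OddLocal.NilpotentPrimeAction
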