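import Cfsg.Agent.OddLocal.SigmaLineUnique
import Cfsg.Agent.Coprime.Derived

/-!
BG 12.11: the action of a complement on `M_σ` and intersections with conjugates.
-/

set_option autoImplicit false
set_option linter.unusedSectionVars false
set_option linter.style.haveILetI false

namespace Cfsg.Agent.OddLocal

open Subgroup Cfsg
open scoped commutatorElement

universe u

variable {G : Type u} [Group G] [Finite G] {p : ℕ} [hp : Fact p.Prime] {M E : Subgroup G}
  (hG : IsMinSimpleOddOrder G) (hM : IsCoatom M)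
include hG hM

omit hp in
theorem sigmaCore_le_derived : sigmaCore M ≤ ⁅M, M⁆ := by
  have h := map_mono (f := M.subtype) (sigma_le_commutator hG hM)
  rwa [map_subtype_commutator] at h

omit hp in
/-- BG 12.11: `[M_σ, E] = M_σ`. -/
theorem commutator_sigmaCore_compl (hE : IsComplIn E (sigmaCore M) M) :
    ⁅sigmaCore M, E⁆ = sigmaCore M := by
  set S := sigmaCore M with hS
  set L := ⁅S, E⁆ with hL
  have hSM : S ≤ M := sigmaCore_le M
  have hES : E ≤ normalizer (S : Set G) := hE.1.trans (le_normalizer_sigmaCore M)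
  have hLS : L ≤ S := Coprime.commutator_le_of_le_normalizer hES
  have hMsup : M ≤ S ⊔ E := fun m hm => by
    obtain ⟨e, he, s, hs, rfl⟩ := hE.2.2.2 m hm
    exact mul_mem (mem_sup_right he) (mem_sup_left hs)
  have hLn : M ≤ normalizer (L : Set G) := hMsup.trans Coprime.le_normalizer_commutator
  have hDn : M ≤ normalizer ((⁅S, S⁆ : Subgroup G) : Set G) := fun m hm =>
    mem_normalizer_of_map_conj (by
      rw [map_commutator, map_conj_eq_self_of_mem (le_normalizer_sigmaCore M hm)])
  set K := L ⊔ ⁅S, S⁆ with hK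
  have hKn : M ≤ normalizer (K : Set G) := fun m hm => mem_normalizer_of_map_conj (by
    rw [Subgroup.map_sup, map_conj_eq_self_of_mem (hLn hm), map_conj_eq_self_of_mem (hDn hm)])
  haveI := normal_subgroupOf_of_le_normalizer hKn
  set f := QuotientGroup.mk' (K.subgroupOf M) with hf
  have hcomm : ∀ a b : M, ⁅(a : G), (b : G)⁆ ∈ K → Commute (f a) (f b) := by
    intro a b hab
    rw [← commutatorElement_eq_one_iff_commute, ← map_commutatorElement, ← MonoidHom.mem_ker, hf,
      QuotientGroup.ker_mk', mem_subgroupOf]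
    simpa [commutatorElement_def] using hab
  have hcentral : ∀ s : M, (s : G) ∈ S → ∀ m : M, Commute (f s) (f m) := by
    intro s hs m
    obtain ⟨e, he, t, ht, het⟩ := hE.2.2.2 m m.2
    have h1 : Commute (f s) (f ⟨e, hE.1 he⟩) :=
      hcomm _ _ (mem_sup_left (commutator_mem_commutator hs he))
    have h2 : Commute (f s) (f ⟨t, hSM ht⟩) :=
      hcomm _ _ (mem_sup_right (commutator_mem_commutator hs ht))
    rw [show m = (⟨e, hE.1 he⟩ : M) * ⟨t, hSM ht⟩ from Subtype.ext het, map_mul]
    exact h1.mul_right h2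
  have hder : ⁅M, M⁆ ≤ K ⊔ ⁅E, E⁆ := by
    rw [commutator_le]
    intro a ha b hb
    obtain ⟨e, he, s, hs, rfl⟩ := hE.2.2.2 a ha
    obtain ⟨d, hd, t, ht, rfl⟩ := hE.2.2.2 b hb
    set e' : M := ⟨e, hE.1 he⟩
    set d' : M := ⟨d, hE.1 hd⟩
    set s' : M := ⟨s, hSM hs⟩
    set t' : M := ⟨t, hSM ht⟩
    have h1 : f ⁅e' * s', d' * t'⁆ = f ⁅e', d'⁆ := by
      simp only [map_commutatorElement, map_mul]
      have hse : Commute (f s') (f d') := hcentral s' hs d'
      have hst : Commute (f s') (f t') := hcentral s' hs t'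
      have hte : Commute (f t') (f e') := hcentral t' ht e'
      have hse' : Commute (f s') (f e') := hcentral s' hs e'
      have htd : Commute (f t') (f d') := hcentral t' ht d'
      have e1 : f e' * f s' * (f d' * f t') = f e' * f d' * (f s' * f t') := by
        rw [mul_assoc, ← mul_assoc (f s'), hse.eq, mul_assoc (f d'), ← mul_assoc]
      have e2 : f d' * f t' * (f e' * f s') = f d' * f e' * (f s' * f t') := by
        rw [mul_assoc, ← mul_assoc (f t'), hte.eq, mul_assoc (f e'), ← hst.eq, ← mul_assoc]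
      calc ⁅f e' * f s', f d' * f t'⁆ =
            (f e' * f s' * (f d' * f t')) * (f d' * f t' * (f e' * f s'))⁻¹ := by
            rw [commutatorElement_def]; group
        _ = ⁅f e', f d'⁆ := by rw [e1, e2, commutatorElement_def]; group
    have h2 : ⁅e' * s', d' * t'⁆ * (⁅e', d'⁆)⁻¹ ∈ K.subgroupOf M := by
      rw [← QuotientGroup.ker_mk' (K.subgroupOf M), MonoidHom.mem_ker, map_mul, map_inv, ← hf, h1,
        mul_inv_cancel]
    have h3 := mul_mem (mem_sup_left (T := ⁅E, E⁆) (mem_subgroupOf.mp h2))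
      (mem_sup_right (S := K) (commutator_mem_commutator he hd))
    have h4 : ((⁅e' * s', d' * t'⁆ * (⁅e', d'⁆)⁻¹ : M) : G) * ⁅e, d⁆ = ⁅e * s, d * t⁆ := by
      simp [commutatorElement_def, e', d', s', t', mul_assoc]
    rwa [h4] at h3
  have hKS : K ≤ S := sup_le hLS (commutator_le_self S)
  have hSK : S ≤ K := by
    intro s hs
    obtain ⟨k, hk, e, he, rfl⟩ := (Coprime.mem_sup_of_le_normalizer (N := K) (A := ⁅E, E⁆)
      (((commutator_le_self E).trans hE.1).trans hKn)).mp (hder (sigmaCore_le_derived hG hM hs))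
    have he1 : e ∈ E ⊓ S := ⟨commutator_le_self E he, by
      have := mul_mem (inv_mem (hKS hk)) hs
      rwa [inv_mul_cancel_left] at this⟩
    rw [hE.2.2.1, mem_bot] at he1
    rw [he1, mul_one]
    exact hk
  haveI : Group.IsSolvable S := Coprime.isSolvable_of_le hSM (isSolvable_coatom hG hM)
  haveI := normal_subgroupOf_of_le_normalizer (hSM.trans hLn)
  set φ := QuotientGroup.mk' (L.subgroupOf S) with hφ
  haveI : Group.IsSolvable (S ⧸ L.subgroupOf S) :=
    Group.isSolvable_of_surjective (QuotientGroup.mk'_surjective (L.subgroupOf S))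
  have htop : commutator (S ⧸ L.subgroupOf S) = ⊤ := by
    have h1 : (L.subgroupOf S ⊔ commutator S).map φ = ⊤ := by
      have h2 : L.subgroupOf S ⊔ commutator S = ⊤ := by
        apply map_injective S.subtype_injective
        rw [Subgroup.map_sup, map_subgroupOf_eq_of_le hLS, map_subtype_commutator,
          ← MonoidHom.range_eq_map, range_subtype]
        exact le_antisymm hKS hSK
      rw [h2, Subgroup.map_top_of_surjective _ (QuotientGroup.mk'_surjective _)]
    rw [Subgroup.map_sup, (Subgroup.map_eq_bot_iff _).mpr (QuotientGroup.ker_mk' _).ge,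
      bot_sup_eq] at h1
    rw [eq_top_iff, ← h1, _root_.commutator_def, map_commutator, _root_.commutator_def]
    exact commutator_mono le_top le_top
  refine le_antisymm hLS fun s hs => ?_
  rcases subsingleton_or_nontrivial (S ⧸ L.subgroupOf S) with hsub | hnt
  · have h1 : φ ⟨s, hs⟩ = 1 := Subsingleton.elim _ _
    rwa [← MonoidHom.mem_ker, hφ, QuotientGroup.ker_mk'] at h1
  · exact absurd htop (Group.IsSolvable.commutator_lt_top_of_nontrivial _).ne

omit hp in
/-- BG 12.11: `C(E) ∩ M_σ ≤ M_σ'`. -/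
theorem inf_centralizer_compl_le (hE : IsComplIn E (sigmaCore M) M) :
    sigmaCore M ⊓ centralizer (E : Set G) ≤ ⁅sigmaCore M, sigmaCore M⁆ :=
  Coprime.inf_centralizer_le_derived (hE.1.trans (le_normalizer_sigmaCore M))
    (compl_coprime hG hM hE) (commutator_sigmaCore_compl hG hM hE)

/-- An element of `σ`-prime order in `M_σ ∩ M^g` with centraliser in `M` forces `g ∈ M`. -/
theorem mem_of_centralizer_le (hσ : p ∈ sigma M) {X : Subgroup G} (hX : IsPGroup p X)
    (hX1 : X ≠ ⊥) (hXM : X ≤ M) {g : G} (hXg : X ≤ M.map (MulAut.conj g).toMonoidHom)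
    (hC : centralizer (X : Set G) ≤ M) : g ∈ M := by
  have h : X.map (MulAut.conj g⁻¹).toMonoidHom ≤ M := by
    refine (map_mono hXg).trans (le_of_eq ?_)
    rw [map_conj_inv_cancel]
  obtain ⟨m, hm, c, hc, hmc⟩ := fusion_of_sigma hG hM hσ hX hX1 hXM h
  rw [← M.inv_mem_iff, hmc]
  exact M.mul_mem hm (hC hc)

omit hp in
/-- BG 12.11: `M_σ ∩ M^g` for `g ∉ M`. -/
theorem inf_conj_structure {g : G} (hg : g ∉ M) :
    IsCyclic ↥(sigmaCore M ⊓ M.map (MulAut.conj g).toMonoidHom) ∧
      (∀ r : ℕ, r.Prime → r ∣ Nat.card ↥(sigmaCore M ⊓ M.map (MulAut.conj g).toMonoidHom) →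
        r ∉ beta M) ∧
      sigmaCore M ⊓ M.map (MulAut.conj g).toMonoidHom ⊓ ⁅sigmaCore M, sigmaCore M⁆ = ⊥ := by
  set D := sigmaCore M ⊓ M.map (MulAut.conj g).toMonoidHom with hD
  have hkey : ∀ (r : ℕ) [Fact r.Prime] (x : G), x ∈ D → orderOf x = r →
      ¬ (r ∈ beta M ∨ x ∈ ⁅sigmaCore M, sigmaCore M⁆) := by
    intro r _ x hx hxo h
    have hrσ : r ∈ sigma M := piNum_sigmaCore M r Fact.out
      (hxo ▸ Subgroup.orderOf_dvd_natCard _ hx.1)
    have hx1 : x ≠ 1 := fun e => (Fact.out : r.Prime).ne_one (by rw [← hxo, e, orderOf_one])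
    refine hg (mem_of_centralizer_le hG hM (X := zpowers x) hrσ
      (IsPGroup.of_card (n := 1) (by rw [Nat.card_zpowers, hxo, pow_one]))
      (by rwa [Ne, zpowers_eq_bot]) (zpowers_le.mpr (sigmaCore_le M hx.1))
      (zpowers_le.mpr hx.2) ?_)
    rw [zpowers_eq_closure, centralizer_closure]
    exact (unique_centralizer_line hG hM hrσ (sigmaCore_le M hx.1) hx1
      (by rw [← hxo, pow_orderOf_eq_one]) h).1
  have hinf : D ⊓ ⁅sigmaCore M, sigmaCore M⁆ = ⊥ := by
    by_contra hne
    obtain ⟨r, hr, hrd⟩ := exists_prime_dvd_of_ne_bot hne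
    haveI := Fact.mk hr
    obtain ⟨y, hy⟩ := exists_prime_orderOf_dvd_card' r hrd
    exact hkey r y y.2.1 (by rw [orderOf_coe, hy]) (Or.inr y.2.2)
  have hcommD : IsMulCommutative D := by
    rw [← le_centralizer_iff_isMulCommutative, ← commutator_eq_bot_iff_le_centralizer, ← le_bot_iff,
      ← hinf]
    exact le_inf (commutator_le_self D) (commutator_mono inf_le_left inf_le_left)
  haveI : IsZGroup D := ⟨fun r hr P => by
    haveI := Fact.mk hr
    by_cases hP1 : (P : Subgroup D) = ⊥
    · rw [hP1]; infer_instance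
    by_contra hnc
    obtain ⟨s, hs, hsd⟩ := exists_prime_dvd_of_ne_bot hP1
    obtain ⟨j, hj⟩ := IsPGroup.iff_card.mp P.2
    have hsr : s = r := (Nat.prime_dvd_prime_iff_eq hs hr).mp (hs.dvd_of_dvd_pow (hj ▸ hsd))
    have hrD : r ∣ Nat.card D := hsr ▸ hsd.trans (card_subgroup_dvd_card _)
    have hr2 : r ≠ 2 := by
      intro e
      exact absurd (hG.1.of_dvd_nat (hrD.trans (card_subgroup_dvd_card D))) (by rw [e]; decide)
    obtain ⟨B, -, hBe, hB2⟩ := Fusion.exists_normal_elementary_card_sq hr2 P.2 hnc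
    set A := (B.map (P : Subgroup D).subtype).map D.subtype with hA
    have hAe : IsElementaryAbelian r A := Thompson.ea_map (Thompson.ea_map hBe _) _
    have hA2 : Nat.card A = r ^ 2 := by
      rw [hA, card_map_of_injective D.subtype_injective,
        card_map_of_injective (Subgroup.subtype_injective _), hB2]
    have hAD : A ≤ D := map_subtype_le _
    exact hg (mem_of_centralizer_le hG hM (X := A)
      (piNum_sigmaCore M r hr (hrD.trans (card_dvd_of_le inf_le_left)))
      (Coprime.ea_isPGroup hAe) (Coprime.ea_ne_bot two_ne_zero hA2.ge)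
      ((hAD.trans inf_le_left).trans (sigmaCore_le M)) (hAD.trans inf_le_right)
      (centralizer_plane_le hG hM ((hAD.trans inf_le_left).trans (sigmaCore_le M)) hAe hA2))⟩
  haveI : Group.IsNilpotent D := by
    letI : CommGroup D := { mul_comm := fun a b => @mul_comm' _ _ hcommD a b }
    exact CommGroup.isNilpotent
  refine ⟨inferInstance, fun r hr hrd hrβ => ?_, hinf⟩
  haveI := Fact.mk hr
  obtain ⟨y, hy⟩ := exists_prime_orderOf_dvd_card' r hrd
  exact hkey r y y.2 (by rw [orderOf_coe, hy]) (Or.inl hrβ)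

end Cfsg.Agent.OddLocal
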