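import Cfsg.Agent.OddLocal.KappaStructure

/-!
BG 14.4 and 14.5: centralisers of elements of `M_σ` not contained in `M`, and the subgroups `R(x)`.
-/

set_option autoImplicit false
set_option linter.unusedSectionVars false
set_option linter.style.haveILetI false

namespace Cfsg.Agent.OddLocal

open Subgroup Cfsg
open scoped commutatorElement

universe u

variable {G : Type u} [Group G] [Finite G] {p : ℕ} [hp : Fact p.Prime] {M N L E : Subgroup G}

omit hp in
/-- The two components of an element commuting with an element of the complement commute with it. -/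
theorem commute_components (hE : IsComplIn E (sigmaCore M) M) {a b x : G} (ha : a ∈ E)
    (hb : b ∈ sigmaCore M) (hx : x ∈ E) (h : Commute (a * b) x) :
    Commute a x ∧ Commute b x := by
  have hbM : b ∈ M := sigmaCore_le M hb
  have hn : b * x * b⁻¹ * x⁻¹ ∈ sigmaCore M := by
    have h1 := (mem_normalizer_iff.mp (le_normalizer_sigmaCore M (hE.1 hx)) b⁻¹).mp (inv_mem hb)
    simpa [mul_assoc] using (sigmaCore M).mul_mem hb h1
  have he : b * x * b⁻¹ * x⁻¹ ∈ E := by
    have h1 : a⁻¹ * x * a * x⁻¹ ∈ E := E.mul_mem (E.mul_mem (E.mul_mem (inv_mem ha) hx) ha) (inv_mem hx)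
    have h2 : b * x * b⁻¹ = a⁻¹ * x * a := by
      calc b * x * b⁻¹ = a⁻¹ * (a * b * x) * (a * b)⁻¹ * a := by group
        _ = a⁻¹ * (x * (a * b)) * (a * b)⁻¹ * a := by rw [h.eq]
        _ = a⁻¹ * x * a := by group
    rwa [h2]
  have h1 : b * x * b⁻¹ * x⁻¹ = 1 := mem_bot.mp (hE.2.2.1 ▸ ⟨he, hn⟩)
  have hbx : Commute b x := mul_inv_eq_iff_eq_mul.mp (mul_inv_eq_one.mp h1)
  refine ⟨?_, hbx⟩
  have := h.mul_left hbx.inv_left
  rwa [mul_inv_cancel_right] at this

variable (hG : IsMinSimpleOddOrder G) (hM : IsCoatom M)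
include hG hM

omit hp in
/-- `M_F ≤ M_σ`. -/
theorem fittingHallOf_le_sigmaCore : fittingHallOf M ≤ sigmaCore M := by
  rw [fittingHallOf, map_le_iff_le_comap, fittingHall]
  refine sSup_le fun N ⟨hNn, hNnil, hNc⟩ => ?_
  rw [← map_le_iff_le_comap]
  refine le_sigmaCore hG hM (map_subtype_le _) fun r hr hd => ?_
  haveI := Fact.mk hr
  by_contra hσ
  rw [card_map_of_injective M.subtype_injective] at hd
  obtain ⟨T⟩ : Nonempty (Sylow r N) := inferInstance
  haveI := hNnil
  have hchar := T.characteristic_of_normal inferInstance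
  have hXn : ((T : Subgroup N).map N.subtype).Normal := inferInstance
  have hd' : ¬ r ∣ ((T : Subgroup N).map N.subtype).index := fun hh => by
    rw [← relIndex_mul_index (map_subtype_le (T : Subgroup N))] at hh
    rcases hr.dvd_mul.mp hh with h | h
    · rw [show ((T : Subgroup N).map N.subtype).relIndex N = (T : Subgroup N).index by
        rw [← relIndex_top_right, ← relIndex_map_map_of_injective _ _ N.subtype_injective,
          ← MonoidHom.range_eq_map, range_subtype]] at h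
      exact T.not_dvd_index h
    · exact hr.not_dvd_one (hNc ▸ Nat.dvd_gcd hd h)
  set T' : Sylow r M := (T.2.map N.subtype).toSylow hd' with hT'
  refine hσ ⟨hr, hd.trans (card_subgroup_dvd_card N), T', ?_⟩
  set R := (T' : Subgroup M).map M.subtype with hR
  have hRne : R ≠ ⊥ := fun e => by
    have h1 : (T' : Subgroup M) = ⊥ := (map_eq_bot_iff_of_injective _ M.subtype_injective).mp e
    rw [hT', IsPGroup.toSylow_coe] at h1
    exact T.ne_bot_of_dvd_card hd ((map_eq_bot_iff_of_injective _ N.subtype_injective).mp h1)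
  have hMR : M ≤ normalizer (R : Set G) := by
    intro m hm
    refine mem_normalizer_of_map_conj ?_
    have h1 := map_conj_eq_self_of_mem (X := (T' : Subgroup M)) (n := (⟨m, hm⟩ : M))
      (by rw [hT', IsPGroup.toSylow_coe, normalizer_eq_top_iff.mpr hXn]; exact mem_top _)
    conv_rhs => rw [hR, ← h1]
    rw [hR, Subgroup.map_map, Subgroup.map_map]
    rfl
  rcases eq_or_lt_of_le hMR with he | hlt
  · exact he.ge
  · exact absurd (hM.2 _ hlt) (ne_top_of_normal_ne_bot hG hRne (ne_top_of_not_dvd hM (map_subtype_le _)))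

omit hp in
/-- `M_F = M_σ` when `M_σ` is nilpotent. -/
theorem fittingHallOf_eq_of_nilpotent (hn : Group.IsNilpotent (sigmaCore M)) :
    fittingHallOf M = sigmaCore M := by
  refine le_antisymm (fittingHallOf_le_sigmaCore hG hM) (map_mono ?_)
  refine le_sSup ⟨piCore_normal _ _, ?_, ?_⟩
  · exact (Group.isNilpotent_congr
      (equivMapOfInjective (piCore (sigma M) M) M.subtype M.subtype_injective)).mpr hn
  · refine Nat.coprime_of_dvd fun r hr h1 h2 => ?_
    refine (isPiHallOf_sigmaCore hG hM).2.2 r hr (piNum_piCore (sigma M) r hr h1) ?_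
    rwa [sigmaCore, relIndex, subgroupOf, comap_map_eq_self_of_injective M.subtype_injective]

/-- An element of prime order of `M_σ` with centraliser outside `M` (BG 14.4, first step). -/
theorem outside_prime (hσ : p ∈ sigma M) {y : G} (hyM : y ∈ M) (hy1 : y ≠ 1) (hyp : y ^ p = 1)
    (hyC : ¬ centralizer ({y} : Set G) ≤ M) :
    ∃ (N A : Subgroup G), IsCoatom N ∧ N ≠ M ∧ centralizer ({y} : Set G) ≤ N ∧
      (∀ L : Subgroup G, IsCoatom L → centralizer ({y} : Set G) ≤ L → L = N) ∧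
      p ∈ tau2 N ∧ IsTauPair p N A ∧ y ∈ A ∧ A ≤ M ∧ IsComplIn (M ⊓ N) (sigmaCore N) N := by
  have hyo : orderOf y = p := orderOf_eq_prime hyp hy1
  have hy' : zpowers y ≠ ⊥ := by rwa [Ne, zpowers_eq_bot]
  have hyc : Nat.card (zpowers y) = p := by rw [Nat.card_zpowers, hyo]
  have hyg := isPGroup_of_card_prime hyc
  have hyMle : zpowers y ≤ M := zpowers_le.mpr hyM
  obtain ⟨N, hN, hNy⟩ := exists_coatom_ge_normalizer hG hM hyMle hy'
  have hCN : centralizer ({y} : Set G) ≤ N := by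
    rw [← centralizer_zpowers]; exact (centralizer_le_normalizer _).trans hNy
  have hne : N ≠ M := fun e => hyC (e ▸ hCN)
  have hyN : y ∈ N := hNy (Subgroup.le_normalizer (mem_zpowers y))
  obtain ⟨S, hS⟩ := exists_sylow_ge hyg (le_inf hyMle (Subgroup.le_normalizer.trans hNy))
  obtain ⟨hnc, -, T, hT⟩ :=
    sigma_normalizer_other hG hM hσ hyg hy' hyMle hN hne hNy S hS
  have hpN : p ∉ sigma N := fun hc => by
    obtain ⟨g, hg⟩ := exists_conj_of_sigma_inter hG hM hN hσ hc
    exact hnc g hg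
  obtain ⟨⟨h2, h1⟩, -⟩ := rank_two_of_normalizer_le hG hN hpN hyc hNy
  have hp2 : p ∈ tau2 N := ⟨hp.out, hpN, h2, h1⟩
  obtain ⟨hTc, A, hAT, hA⟩ := sylow_comm_of_tau2 hG hN hp2 T
  have hAM : A ≤ M := (hAT.trans hT.le).trans ((map_subtype_le _).trans inf_le_left)
  have hyT : y ∈ (T : Subgroup N).map N.subtype := hT.ge (hS (mem_zpowers y))
  have hyA : y ∈ A := hA.mem_of_pow hG hN hyp
    (le_centralizer_of_isMulCommutative le_rfl hAT hTc hyT)
  obtain ⟨E, hE, hAE⟩ := exists_compl_ge hG hN (Coprime.ea_isPGroup hA.elem) hA.le hpN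
  have hEM : E ≤ M := ((hA.isExceptional hG hN).le_normalizer_of_compl hG hN hE hAE).trans
    (normalizer_le_of_not_isCyclic hG hM hσ (Coprime.ea_isPGroup hA.elem) hAM
      ((hA.isExceptional hG hN).toIsTauPair.not_isCyclic))
  have hbot := hA.inf_other_eq_bot hG hN hM hne.symm hAM
  have hMN : IsComplIn (M ⊓ N) (sigmaCore N) N := by
    refine ⟨inf_le_right, sigmaCore_le N, ?_, fun n hn => ?_⟩
    · rw [eq_bot_iff, ← hbot]
      exact fun x hx => ⟨hx.2, hx.1.1⟩
    · obtain ⟨a, ha, b, hb, rfl⟩ := hE.2.2.2 n hn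
      exact ⟨a, ⟨hEM ha, hE.1 ha⟩, b, hb, rfl⟩
  have hyh : y ∈ sigmaHat N := by
    obtain ⟨c, hc, hcM⟩ := SetLike.not_le_iff_exists.mp hyC
    obtain ⟨a, ha, b, hb, rfl⟩ := hMN.2.2.2 c (hCN hc)
    have hcy : Commute (a * b) y := mem_centralizer_singleton_iff.mp hc
    refine ⟨hyN, b, hb, fun e => hcM ?_, ((commute_components hMN ha hb ⟨hyM, hyN⟩ hcy).2).symm⟩
    rw [e, mul_one]
    exact ha.1
  obtain ⟨-, huniq⟩ := unique_of_tau2_elt hG hN hyN hy1 (fun r hr hd => by
    rw [hyo] at hd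
    rw [(Nat.prime_dvd_prime_iff_eq hr hp.out).mp hd]
    exact hp2) hyh
  exact ⟨N, A, hN, hne, hCN, huniq, hp2, hA, hyA, hAM, hMN⟩

omit hp in
/-- BG 14.4: the maximal subgroup over `C(x)` for `x ∈ M_σ` with `C(x) ⊄ M`. -/
theorem exists_support {x : G} (hx : x ∈ sigmaCore M) (hx1 : x ≠ 1)
    (hxC : ¬ centralizer ({x} : Set G) ≤ M) :
    ∃ N : Subgroup G, IsCoatom N ∧ N ≠ M ∧ centralizer ({x} : Set G) ≤ N ∧
      (∀ L : Subgroup G, IsCoatom L → centralizer ({x} : Set G) ≤ L → L = N) ∧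
      (∀ q : ℕ, q.Prime → q ∣ orderOf x → q ∈ tau2 N) ∧
      IsComplIn (M ⊓ N) (sigmaCore N) N ∧ Group.IsNilpotent (sigmaCore N) ∧
      sigmaCore N = fittingHallOf N := by
  have hxM : x ∈ M := sigmaCore_le M hx
  have hprime : ∀ q : ℕ, q.Prime → q ∣ orderOf x → q ∈ sigma M := fun q hq hd =>
    piNum_sigmaCore M q hq (hd.trans (Subgroup.orderOf_dvd_natCard _ hx))
  have hpow : ∀ q : ℕ, q.Prime → q ∣ orderOf x → ∃ (y : G) (N A : Subgroup G), orderOf y = q ∧
      y ∈ zpowers x ∧ IsCoatom N ∧ N ≠ M ∧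
      centralizer ({x} : Set G) ≤ centralizer ({y} : Set G) ∧ centralizer ({y} : Set G) ≤ N ∧
      q ∈ tau2 N ∧ IsTauPair q N A ∧ A ≤ M ∧ IsComplIn (M ⊓ N) (sigmaCore N) N := by
    intro q hq hd
    haveI := Fact.mk hq
    set y := x ^ (orderOf x / q) with hy
    have hyo : orderOf y = q := orderOf_pow_orderOf_div (orderOf_pos x).ne' hd
    have hle : centralizer ({x} : Set G) ≤ centralizer ({y} : Set G) := fun c hc =>
      mem_centralizer_of_commute
        ((show Commute c x from mem_centralizer_singleton_iff.mp hc).pow_right _)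
    obtain ⟨N, A, hN, hne, hCN, -, hq2, hA, -, hAM, hMN⟩ := outside_prime hG hM (hprime q hq hd)
      (M.pow_mem hxM _) (fun e => hq.ne_one (by rw [← hyo, hy, e, orderOf_one]))
      (orderOf_dvd_iff_pow_eq_one.mp (dvd_of_eq hyo)) (fun h => hxC (hle.trans h))
    exact ⟨y, N, A, hyo, pow_mem (mem_zpowers x) _, hN, hne, hle, hCN, hq2, hA, hAM, hMN⟩
  obtain ⟨p, hp, hpd⟩ := Nat.exists_prime_and_dvd (mt orderOf_eq_one_iff.mp hx1)
  haveI := Fact.mk hp
  obtain ⟨y, N, A, hyo, hyx, hN, hne, hle, hCN, hp2, hA, hAM, hMN⟩ := hpow p hp hpd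
  have hxC' := hle.trans hCN
  have hxN : x ∈ N := hxC' (mem_centralizer_singleton_iff.mpr rfl)
  have hAE : A ≤ M ⊓ N := le_inf hAM hA.le
  have hEn := (hA.isExceptional hG hN).le_normalizer_of_compl hG hN hMN hAE
  have hxA : x ∈ centralizer (A : Set G) := by
    refine mem_of_prime_power_parts fun s _ w hw hsd ⟨k, hwk⟩ => ?_
    have hwE : w ∈ M ⊓ N := (zpowers_le.mpr (⟨hxM, hxN⟩ : x ∈ M ⊓ N)) hw
    obtain ⟨i, -, hi⟩ := (Nat.dvd_prime_pow Fact.out).mp (orderOf_dvd_of_pow_eq_one hwk)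
    have hwg : IsPGroup s (zpowers w) := IsPGroup.of_card (n := i) (by rw [Nat.card_zpowers, hi])
    by_cases hsp : s = p
    · subst hsp
      exact le_centralizer_of_isMulCommutative le_rfl le_sup_right (comm_of_not_sigma hG hN
        hA.not_sigma (hwg.to_sup_of_normal_right' (Coprime.ea_isPGroup hA.elem)
          (zpowers_le.mpr (hEn hwE))) (sup_le (zpowers_le.mpr hwE.2) hA.le))
        (mem_sup_left (mem_zpowers w))
    · exact le_centralizer_of_sigma hG hM (hprime s Fact.out hsd) (hprime p hp hpd)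
        (fun hb => not_isIdealPrime_of_not_sigma hG hN hA.not_sigma hp2.2.2.1 hp2.2.2.2 hb.2)
        (Ne.symm hsp) hwg (zpowers_le.mpr hwE.1) (Coprime.ea_isPGroup hA.elem) hAM
        (zpowers_le.mpr (hEn hwE)) (mem_zpowers w)
  obtain ⟨c, hc, hcM⟩ := SetLike.not_le_iff_exists.mp hxC
  obtain ⟨a, ha, b, hb, rfl⟩ := hMN.2.2.2 c (hxC' hc)
  have hbx := (commute_components hMN ha hb ⟨hxM, hxN⟩ (mem_centralizer_singleton_iff.mp hc)).2
  have hb1 : b ≠ 1 := fun e => hcM (by rw [e, mul_one]; exact ha.1)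
  have huniq : ∀ L : Subgroup G, IsCoatom L → centralizer ({x} : Set G) ≤ L → L = N := by
    intro L hL hCL
    by_contra hLN
    have hAL : A ≤ L := fun a ha => hCL (mem_centralizer_singleton_iff.mpr
      (mem_centralizer_iff.mp hxA a ha))
    exact hb1 (mem_bot.mp (hA.inf_other_eq_bot hG hN hL hLN hAL ▸
      (⟨hb, hCL (mem_centralizer_of_commute hbx)⟩ : b ∈ sigmaCore N ⊓ L)))
  have hn := (hA.isExceptional hG hN).sigmaCore_nilpotent hG hN
  refine ⟨N, hN, hne, hxC', huniq, fun q hq hd => ?_, hMN, hn,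
    (fittingHallOf_eq_of_nilpotent hG hN hn).symm⟩
  obtain ⟨y', N', A', -, -, hN', -, hle', hCN', hq2, -⟩ := hpow q hq hd
  exact huniq N' hN' (hle'.trans hCN') ▸ hq2

end Cfsg.Agent.OddLocal
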