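import Cfsg.Agent.OddLocal.GL2Odd
import Cfsg.Agent.FGS.AutFrattini
import Cfsg.Agent.Coprime.Basic
import Cfsg.Agent.FittingPQ.Aut

/-!
In a solvable group of odd order, elements of order prime to `r` of the derived subgroup centralise
every normalised `r`-group with at most two generators.
-/

set_option autoImplicit false
set_option linter.style.haveILetI false

namespace Cfsg.Agent.OddLocal

open Subgroup

universe u

theorem pow_eq_one_linAut {W : Type*} [CommGroup W] [Finite W] {r : ℕ} [hr : Fact r.Prime]
    [Module (ZMod r) (Additive W)] (hr2 : r ≠ 2) (hW : Nat.card W = r ^ 2) {Y : Type*} [Group Y]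
    [Finite Y] [Group.IsSolvable Y] (hodd : Odd (Nat.card Y)) (f : Y →* MulAut W)
    (hf : Function.Injective f) {y : Y} (hy : y ∈ commutator Y) : y ^ r = 1 := by
  haveI : Finite (Additive W) := ‹Finite W›
  haveI : Module.Finite (ZMod r) (Additive W) := Module.Finite.of_finite
  have hdim : Module.finrank (ZMod r) (Additive W) = 2 := by
    have h : Nat.card (Additive W) = Nat.card (ZMod r) ^ Module.finrank (ZMod r) (Additive W) :=
      Module.natCard_eq_pow_finrank
    rw [Nat.card_zmod, show Nat.card (Additive W) = r ^ 2 from hW] at h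
    exact (Nat.pow_right_injective hr.out.two_le h).symm
  let b : Module.Basis (Fin 2) (ZMod r) (Additive W) := Module.finBasisOfFinrankEq _ _ hdim
  let lin : MulAut W →* Module.End (ZMod r) (Additive W) := FittingPQ.linAut
  let g : Y →* GL (Fin 2) (ZMod r) :=
    (((LinearMap.toMatrixAlgEquiv b).toRingEquiv.toMonoidHom).comp (lin.comp f)).toHomUnits
  refine pow_eq_one_of_mem_commutator hr2 hodd g (fun a c h => hf ?_) hy
  have h1 : lin (f a) = lin (f c) :=
    (LinearMap.toMatrixAlgEquiv b).injective (congrArg Units.val h)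
  exact MulEquiv.ext fun w => congrArg Additive.toMul (LinearMap.congr_fun h1 (Additive.ofMul w))


/-- Solvable groups of odd order of automorphisms of a group of order `r ^ 2` and exponent `r`. -/
theorem pow_eq_one_mulAut {W : Type*} [CommGroup W] [Finite W] {r : ℕ} [hr : Fact r.Prime]
    (hr2 : r ≠ 2) (hexp : ∀ x : W, x ^ r = 1) (hW : Nat.card W = r ^ 2) {Y : Type*} [Group Y]
    [Finite Y] [Group.IsSolvable Y] (hodd : Odd (Nat.card Y)) (f : Y →* MulAut W)
    (hf : Function.Injective f) {y : Y} (hy : y ∈ commutator Y) : y ^ r = 1 := by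
  exact @pow_eq_one_linAut W _ _ r hr
    (AddCommGroup.zmodModule fun x => hexp (Additive.toMul x)) hr2 hW Y _ _ _ hodd f hf y hy

/-- The same for a group of exponent `r` and order dividing `r ^ 2`. -/
theorem pow_eq_one_mulAut_of_le {W : Type*} [Group W] [Finite W] {r : ℕ} [hr : Fact r.Prime]
    (hr2 : r ≠ 2) (hcomm : ∀ a c : W, a * c = c * a) (hexp : ∀ x : W, x ^ r = 1) {s : ℕ}
    (hs : s ≤ 2) (hW : Nat.card W = r ^ s) {Y : Type*} [Group Y]
    [Finite Y] [Group.IsSolvable Y] (hodd : Odd (Nat.card Y)) (f : Y →* MulAut W)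
    (hf : Function.Injective f) {y : Y} (hy : y ∈ commutator Y) : y ^ r = 1 := by
  letI : CommGroup W := { ‹Group W› with mul_comm := hcomm }
  interval_cases s
  · haveI : Subsingleton W := (Nat.card_eq_one_iff_unique.mp (by rwa [pow_zero] at hW)).1
    refine hf (MulEquiv.ext fun w => Subsingleton.elim _ _)
  · let dg : MulAut W →* MulAut (W × W) :=
      { toFun := fun φ => φ.prodCongr φ
        map_one' := rfl
        map_mul' := fun _ _ => rfl }
    have hdg : Function.Injective dg := fun φ ψ h => MulEquiv.ext fun w =>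
      congrArg Prod.fst (DFunLike.congr_fun h (w, w))
    refine pow_eq_one_mulAut hr2 (fun x => Prod.ext (hexp x.1) (hexp x.2)) ?_ hodd (dg.comp f)
      (hdg.comp hf) hy
    rw [Nat.card_prod, hW]
    ring
  · exact pow_eq_one_mulAut hr2 hexp hW hodd f hf hy

variable {G : Type u} [Group G] [Finite G]

/-- Elements of `r'`-order of the derived subgroup centralise normal two-generated `r`-groups. -/
theorem mem_centralizer_of_mem_commutator [Group.IsSolvable G] (hodd : Odd (Nat.card G)) {r n s : ℕ}
    [hr : Fact r.Prime] (hr2 : r ≠ 2) {D : Subgroup G} [D.Normal] (hn : Nat.card D = r ^ n)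
    (hs : (frattini D).index = r ^ s) (hs2 : s ≤ 2) {y : G} (hy : y ∈ commutator G)
    (hcop : (orderOf y).Coprime r) : y ∈ centralizer (D : Set G) := by
  obtain ⟨hcomm, hexp⟩ := FGS.frattini_quotient_props (P := D) hn
  obtain ⟨hW, -⟩ := FGS.card_quotient_frattini hn hs
  let q : MulAut D →* MulAut (D ⧸ frattini D) :=
    { toFun := fun β => QuotientGroup.congr (frattini D) (frattini D) β
        (characteristic_iff_map_eq.mp frattini_characteristic β)
      map_one' := MulEquiv.ext fun w => by
        obtain ⟨w, rfl⟩ := QuotientGroup.mk_surjective w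
        rfl
      map_mul' := fun _ _ => MulEquiv.ext fun w => by
        obtain ⟨w, rfl⟩ := QuotientGroup.mk_surjective w
        rfl }
  let f : G →* MulAut (D ⧸ frattini D) := q.comp MulAut.conjNormal
  haveI : Group.IsSolvable f.range := Group.isSolvable_of_surjective f.rangeRestrict_surjective
  have hodd' : Odd (Nat.card f.range) := hodd.of_dvd_nat (Subgroup.card_range_dvd f)
  have hy' : f.rangeRestrict y ∈ commutator f.range := by
    have : (commutator G).map f.rangeRestrict ≤ commutator f.range := by
      rw [_root_.commutator_def, map_commutator, _root_.commutator_def]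
      exact commutator_mono le_top le_top
    exact this (mem_map_of_mem _ hy)
  have h1 := pow_eq_one_mulAut_of_le hr2 hcomm hexp hs2 hW hodd' f.range.subtype
    f.range.subtype_injective hy'
  have hfy : f y = 1 := by
    have h2 : f y ^ r = 1 := congrArg Subtype.val h1
    have h3 : orderOf (f y) ∣ 1 := by
      rw [← hcop.gcd_eq_one]
      exact Nat.dvd_gcd (orderOf_map_dvd f y) (orderOf_dvd_of_pow_eq_one h2)
    exact orderOf_eq_one_iff.mp (Nat.dvd_one.mp h3)
  refine Coprime.le_centralizer_of_trivial_mod_frattini (A := zpowers y) (K := D)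
    le_normalizer_of_normal ?_ ?_ (mem_zpowers y)
  · rw [Nat.card_zpowers]
    refine (hcop.pow_right n).coprime_dvd_right (hn ▸ ?_)
    exact Subgroup.card_subgroup_dvd_card _
  · intro a ha k hk
    have hfa : f a = 1 := by
      obtain ⟨i, rfl⟩ := mem_zpowers_iff.mp ha
      rw [map_zpow, hfy, one_zpow]
    have h2 := DFunLike.congr_fun hfa ((⟨k, hk⟩ : D) : D ⧸ frattini D)
    have h3 : ((MulAut.conjNormal a ⟨k, hk⟩ : D) : D ⧸ frattini D) = ((⟨k, hk⟩ : D) : D ⧸ frattini D) :=
      h2
    have h4 := (QuotientGroup.eq_one_iff _).mp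
      (show ((MulAut.conjNormal a ⟨k, hk⟩ * ⟨k, hk⟩⁻¹ : D) : D ⧸ frattini D) = 1 by
        rw [QuotientGroup.mk_mul, h3, ← QuotientGroup.mk_mul, mul_inv_cancel, QuotientGroup.mk_one])
    exact ⟨_, h4, by simp [mul_assoc]⟩

end Cfsg.Agent.OddLocal
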