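import Cfsg.Agent.OddLocal.TauTwoContext
import Cfsg.Agent.OddLocal.SmallAction

/-!
BG 12.7 (a), 12.8: two primes in `τ₂(M)` have abelian Sylow subgroups in `G`, and commute.
-/

set_option autoImplicit false
set_option linter.unusedSectionVars false
set_option linter.style.haveILetI false

namespace Cfsg.Agent.OddLocal

open Subgroup Cfsg
open scoped commutatorElement

universe u

variable {G : Type u} [Group G] [Finite G] {p : ℕ} [hp : Fact p.Prime] {q : ℕ} [hq : Fact q.Prime]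
  {M A B E : Subgroup G}

omit hq hp [Finite G] in
theorem isElementaryAbelian_map {r : ℕ} {X : Subgroup G} (hX : IsElementaryAbelian r X) (g : G) :
    IsElementaryAbelian r (X.map (MulAut.conj g).toMonoidHom) :=
  ⟨@Subgroup.map_isMulCommutative _ _ _ _ X (MulAut.conj g).toMonoidHom hX.1, by
    rintro _ ⟨x, hx, rfl⟩
    rw [← map_pow, hX.2 x hx, map_one]⟩

variable (hG : IsMinSimpleOddOrder G) (hM : IsCoatom M)
include hG hM

omit hq in
/-- A complement contains a plane for each prime of `τ₂(M)`. -/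
theorem exists_plane_in_compl (hE : IsComplIn E (sigmaCore M) M) (hp2 : p ∈ tau2 M) :
    ∃ A : Subgroup G, A ≤ E ∧ IsTauPair p M A := by
  obtain ⟨PE⟩ : Nonempty (Sylow p E) := inferInstance
  obtain ⟨P, hP⟩ := compl_sylow_exists hG hM hE PE hp2.2.1
  obtain ⟨-, A, hAP, h⟩ := sylow_comm_of_tau2 hG hM hp2 P
  exact ⟨A, hAP.trans (hP.le.trans (map_subtype_le _)), h⟩

theorem le_centralizer_of_pair (hqp : q ≠ p) (hE : IsComplIn E (sigmaCore M) M)
    (h : IsTauPair p M A) (h' : IsTauPair q M B) (hAE : A ≤ E) (hBE : B ≤ E) :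
    B ≤ centralizer (A : Set G) := by
  have hnB := (h'.isExceptional hG hM).le_normalizer_of_compl hG hM hE hBE
  have h1 := (h.isExceptional hG hM).le_centralizer_of_not_sigma hG hM hqp h'.not_sigma
    (Coprime.ea_isPGroup h'.elem) h'.le (hAE.trans hnB)
  exact le_centralizer_iff.mp h1

/-- BG 12.7 (a): two primes in `τ₂(M)` force abelian Sylow subgroups. -/
theorem sylow_comm_of_two (hp2 : p ∈ tau2 M) (hq2 : q ∈ tau2 M) (hqp : q ≠ p) (S : Sylow p G) :
    IsMulCommutative (S : Subgroup G) := by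
  obtain ⟨P₀⟩ : Nonempty (Sylow p M) := inferInstance
  obtain ⟨hcM, A, hAP, h⟩ := sylow_comm_of_tau2 hG hM hp2 P₀
  obtain ⟨E, hE, hAE⟩ := exists_compl_ge hG hM (Coprime.ea_isPGroup h.elem) h.le h.not_sigma
  obtain ⟨B, hBE, h'⟩ := exists_plane_in_compl hG hM hE hq2
  have hBA := le_centralizer_of_pair hG hM hqp hE h h' hAE hBE
  obtain ⟨S₁, hS₁⟩ := (Coprime.ea_isPGroup h.elem).exists_le_sylow
  suffices hc : IsMulCommutative (S₁ : Subgroup G) by
    obtain ⟨g, hg⟩ := MulAction.exists_smul_eq G S₁ S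
    rw [← hg, Sylow.coe_subgroup_smul]
    exact @Subgroup.map_isMulCommutative _ _ _ _ (S₁ : Subgroup G) _ hc
  by_contra hnc
  have hS1 : (S₁ : Subgroup G) ≠ ⊥ :=
    ne_bot_of_le_ne_bot (Coprime.ea_ne_bot two_ne_zero h.card.ge) hS₁
  obtain ⟨z, hz, hz1⟩ := exists_mem_omegaCenter (Q := (S₁ : Subgroup G)) S₁.2 hS1
  obtain ⟨hzS, hzp, hzc⟩ := mem_omegaCenter_iff.mp hz
  have hzA : z ∈ A := h.mem_of_pow hG hM hzp
    (mem_centralizer_iff.mpr fun a ha => (hzc a (hS₁ ha)).symm)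
  obtain ⟨H, hH, hNH⟩ := (IsCoatomic.eq_top_or_exists_le_coatom
    (normalizer (zpowers z : Set G))).resolve_left (ne_top_of_normal_ne_bot hG
      (by rwa [Ne, zpowers_eq_bot]) (ne_top_of_not_dvd hM (zpowers_le.mpr (h.le hzA))))
  have hC : centralizer {z} ≤ H := by
    refine le_trans ?_ hNH
    rw [← centralizer_closure {z}, ← zpowers_eq_closure]
    exact centralizer_le_normalizer _
  have hSH : (S₁ : Subgroup G) ≤ H := fun s hs =>
    hC (mem_centralizer_singleton_iff.mpr (hzc s hs).symm)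
  have hBH : B ≤ H := fun b hb =>
    hC (mem_centralizer_singleton_iff.mpr (mem_centralizer_iff.mp (hBA hb) z hzA).symm)
  have hpH : p ∈ sigma H := by
    by_contra hpH
    have he : IsExceptional p H A := IsTauPair.isExceptional hG hH
      ⟨hS₁.trans hSH, h.elem, h.card, hpH⟩
    have h1 := he.sylow_comm hG hH (S₁.subtype hSH) (by
      rwa [Sylow.coe_subtype, map_subgroupOf_eq_of_le hSH])
    rw [Sylow.coe_subtype, map_subgroupOf_eq_of_le hSH] at h1
    exact hnc h1
  have hSK := sylow_le_sigmaCore hG hH hSH hpH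
  have hBp : IsPGroup q B := Coprime.ea_isPGroup h'.elem
  by_cases hqH : q ∈ sigma H
  swap
  · have hfix := (⟨hBH, h'.elem, h'.card, hqH⟩ : IsTauPair q H B).fixed_eq_bot hG hH
    have : z ∈ sigmaCore H ⊓ centralizer (B : Set G) :=
      ⟨hSK hzS, mem_centralizer_iff.mpr fun b hb =>
        (mem_centralizer_iff.mp (hBA hb) z hzA).symm⟩
    rw [hfix, mem_bot] at this
    exact hz1 this
  have hpb : p ∉ beta H := fun hb =>
    not_isIdealPrime_of_not_sigma hG hM h.not_sigma hp2.2.2.1 hp2.2.2.2 hb.2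
  have hqb : q ∉ beta H := fun hb =>
    not_isIdealPrime_of_not_sigma hG hM h'.not_sigma hq2.2.2.1 hq2.2.2.2 hb.2
  obtain ⟨-, hcompl, -⟩ := (Cfsg.Agent.S1414.result hG H hH).2.2.2.2 p hp.out hpH.2.1 hpb
  haveI : (pResidual p ↥(sigmaCore H)).Characteristic := Fusion.pResidual_characteristic
  set K := (pResidual p ↥(sigmaCore H)).map (sigmaCore H).subtype with hK
  have hcop : (Nat.card (S₁ : Subgroup G)).Coprime (Nat.card K) := by
    obtain ⟨k, hk⟩ := IsPGroup.iff_card.mp S₁.2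
    rw [hk, hK, card_map_of_injective (sigmaCore H).subtype_injective]
    exact (Fusion.coprime_card_pResidual_of_hasNormalPComplement hcompl).symm.pow_left k
  have hSn : (S₁ : Subgroup G) ≤ normalizer (K : Set G) :=
    LocalStructure.le_normalizer_map_characteristic (hSH.trans (le_normalizer_sigmaCore H)) _
  have hBK : B ≤ K := by
    intro b hb
    have hbK : b ∈ sigmaCore H := le_sigmaCore_of_isPGroup hG hH hBH hBp hqH hb
    refine ⟨⟨b, hbK⟩, Fusion.mem_pResidual_of_coprime ?_, rfl⟩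
    obtain ⟨k, hk⟩ := hBp.exists_orderOf_eq_pow ⟨b, hb⟩
    rw [← orderOf_coe] at hk
    rw [← orderOf_coe]
    exact hk ▸ ((Nat.coprime_primes hq.out hp.out).mpr hqp).pow_left k
  haveI : Group.IsSolvable (S₁ : Subgroup G) :=
    Coprime.isSolvable_of_le hSH (isSolvable_coatom hG hH)
  obtain ⟨Q, hQ⟩ := Coprime.exists_invariant_sylow hSn hcop (Or.inl inferInstance) q
  obtain ⟨QB, hQB⟩ := exists_sylow_ge hBp hBK
  obtain ⟨x, hx⟩ := MulAction.exists_smul_eq K QB Q
  have hQH : (Q : Subgroup K).map K.subtype ≤ H :=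
    (map_subtype_le _).trans ((map_subtype_le _).trans (sigmaCore_le H))
  have hS := le_centralizer_of_sigma hG hH hpH hqH hqb hqp S₁.2 hSH (Q.2.map K.subtype) hQH hQ
  have hle : (S₁ : Subgroup G).map (MulAut.conj (x : G)⁻¹).toMonoidHom ≤ M := by
    refine le_trans ?_ (h'.cent_le hG hM)
    rintro _ ⟨s, hs, rfl⟩
    refine mem_centralizer_iff.mpr fun b hb => ?_
    have hbQ : (x : G) * b * (x : G)⁻¹ ∈ (Q : Subgroup K).map K.subtype := by
      rw [← hx, map_subtype_sylow_smul, mem_map_conj_iff]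
      simpa [mul_assoc] using hQB hb
    have h1 := mem_centralizer_iff.mp (hS hs) _ hbQ
    simp only [MulEquiv.coe_toMonoidHom, MulAut.conj_apply, inv_inv]
    calc b * ((x : G)⁻¹ * s * x) = (x : G)⁻¹ * (x * b * (x : G)⁻¹ * s) * x := by group
      _ = (x : G)⁻¹ * (s * (x * b * (x : G)⁻¹)) * x := by rw [h1]
      _ = (x : G)⁻¹ * s * x * b := by group
  set S₂ := MulAut.conj (x : G)⁻¹ • S₁ with hS₂
  have hS₂c : (S₂ : Subgroup G) = (S₁ : Subgroup G).map (MulAut.conj (x : G)⁻¹).toMonoidHom := rfl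
  obtain ⟨hc2, -⟩ := sylow_comm_of_tau2 hG hM hp2 (S₂.subtype (hS₂c.le.trans hle))
  rw [Sylow.coe_subtype, map_subgroupOf_eq_of_le (hS₂c.le.trans hle), hS₂c] at hc2
  refine hnc ⟨⟨fun a b => Subtype.ext ?_⟩⟩
  have h1 := congrArg Subtype.val (@mul_comm' _ _ hc2
    ⟨_, mem_map_of_mem _ a.2⟩ ⟨_, mem_map_of_mem _ b.2⟩)
  change MulAut.conj (x : G)⁻¹ a * MulAut.conj (x : G)⁻¹ b =
    MulAut.conj (x : G)⁻¹ b * MulAut.conj (x : G)⁻¹ a at h1
  rw [← map_mul, ← map_mul] at h1
  exact (MulAut.conj (x : G)⁻¹).injective h1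

omit hp in
/-- `q`-subgroups of `M` are abelian for `q ∉ σ(M)`. -/
theorem comm_of_not_sigma (hqσ : q ∉ sigma M) {X : Subgroup G} (hX : IsPGroup q X) (hXM : X ≤ M) :
    IsMulCommutative X := by
  obtain ⟨P, hP⟩ := exists_sylow_ge hX hXM
  suffices hc : IsMulCommutative ↥((P : Subgroup M).map M.subtype) from
    ⟨⟨fun a b => Subtype.ext (congrArg (fun z : ↥((P : Subgroup M).map M.subtype) => (z : G))
      (@mul_comm' _ _ hc (⟨a, hP a.2⟩ : ↥((P : Subgroup M).map M.subtype)) ⟨b, hP b.2⟩))⟩⟩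
  by_cases hr1 : PRankLE q 1 M
  · by_cases hq2 : q = 2
    · subst hq2
      have h1 : ¬ 2 ∣ Nat.card M := fun h =>
        absurd (hG.1.of_dvd_nat (h.trans (card_subgroup_dvd_card M))) (by decide)
      have hbot : (P : Subgroup M) = ⊥ := by
        by_contra hb
        obtain ⟨r, hr, hrd⟩ := exists_prime_dvd_of_ne_bot hb
        obtain ⟨j, hj⟩ := IsPGroup.iff_card.mp P.2
        exact h1 ((Nat.prime_dvd_prime_iff_eq hr Nat.prime_two).mp (hr.dvd_of_dvd_pow (hj ▸ hrd)) ▸
          hrd.trans (card_subgroup_dvd_card _))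
      rw [hbot, Subgroup.map_bot]
      infer_instance
    haveI := isCyclic_of_pRankLE_one hq2 (P.2.map M.subtype) (pRankLE_of_injective
      (inclusion (map_subtype_le _)) (inclusion_injective _) hr1)
    infer_instance
  · exact (sylow_comm_of_tau2 hG hM ⟨hq.out, hqσ,
      (by by_contra hc; exact hqσ (alpha_subset_sigma hG hM ⟨hq.out, hc⟩)), hr1⟩ P).1

omit hq in
/-- BG 12.6: `N_M(A) ≤ E`. -/
theorem inf_normalizer_le (hE : IsComplIn E (sigmaCore M) M) (h : IsTauPair p M A) (hAE : A ≤ E) :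
    M ⊓ normalizer (A : Set G) ≤ E := by
  have hn := (h.isExceptional hG hM).le_normalizer_of_compl hG hM hE hAE
  intro m hm
  obtain ⟨e, hee, k, hk, rfl⟩ := hE.2.2.2 m hm.1
  have hkN : k ∈ normalizer (A : Set G) := by
    have := (normalizer (A : Set G)).mul_mem ((normalizer (A : Set G)).inv_mem (hn hee)) hm.2
    rwa [inv_mul_cancel_left] at this
  suffices hk1 : k = 1 by rw [hk1, mul_one]; exact hee
  rw [← mem_bot, ← h.fixed_eq_bot hG hM]
  refine ⟨hk, mem_centralizer_iff.mpr fun a ha => ?_⟩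
  have h1 : k * a * k⁻¹ * a⁻¹ ∈ A := A.mul_mem ((mem_normalizer_iff.mp hkN a).mp ha) (A.inv_mem ha)
  have h2 : k * a * k⁻¹ * a⁻¹ ∈ sigmaCore M := by
    have h4 := (sigmaCore M).mul_mem hk ((mem_normalizer_iff.mp
      (le_normalizer_sigmaCore M (h.le ha)) k⁻¹).mp ((sigmaCore M).inv_mem hk))
    simpa [mul_assoc] using h4
  have h3 : k * a * k⁻¹ * a⁻¹ ∈ (⊥ : Subgroup G) := by
    rw [← Coprime.inf_eq_bot_of_coprime (h.coprime_sigma hG hM (le_refl (sigmaCore M)))]
    exact ⟨h1, h2⟩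
  rw [mem_bot, mul_inv_eq_one, mul_inv_eq_iff_eq_mul] at h3
  exact h3.symm

omit hG hM hq in
/-- If `N = K L` with `K` normal, then `N' ≤ K L'`. -/
theorem commutator_le_sup_of_eq {N K L : Subgroup G} (hK : N ≤ normalizer (K : Set G))
    (hN : N = K ⊔ L) : ⁅N, N⁆ ≤ K ⊔ ⁅L, L⁆ := by
  have hKN : K ≤ N := hN ▸ le_sup_left
  have hLN : L ≤ N := hN ▸ le_sup_right
  have hLL : ⁅L, L⁆ ≤ N := (commutator_le_self L).trans hLN
  haveI : (K.subgroupOf N).Normal := normal_subgroupOf_of_le_normalizer hK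
  set f := QuotientGroup.mk' (K.subgroupOf N) with hf
  have hker : f.ker = K.subgroupOf N := QuotientGroup.ker_mk' _
  have hfL : (L.subgroupOf N).map f = (⊤ : Subgroup N).map f := by
    have h1 : (⊤ : Subgroup N) = K.subgroupOf N ⊔ L.subgroupOf N := by
      rw [← subgroupOf_sup hKN hLN, ← hN, subgroupOf_self]
    rw [h1, Subgroup.map_sup, (Subgroup.map_eq_bot_iff _).mpr hker.ge, bot_sup_eq]
  rw [commutator_le]
  intro a ha b hb
  have h1 : f ⁅(⟨a, ha⟩ : N), ⟨b, hb⟩⁆ ∈ (⁅L.subgroupOf N, L.subgroupOf N⁆).map f := by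
    rw [map_commutator, hfL, ← map_commutator]
    exact mem_map_of_mem f (commutator_mem_commutator (mem_top _) (mem_top _))
  obtain ⟨l, hl, hle⟩ := h1
  have h2 : (l : G) ∈ ⁅L, L⁆ := by
    have h3 : (⁅L.subgroupOf N, L.subgroupOf N⁆).map N.subtype = ⁅L, L⁆ := by
      rw [map_commutator, map_subgroupOf_eq_of_le hLN]
    exact h3 ▸ mem_map_of_mem N.subtype hl
  have h4 : ⁅(⟨a, ha⟩ : N), ⟨b, hb⟩⁆ * l⁻¹ ∈ K.subgroupOf N := by
    rw [← hker, MonoidHom.mem_ker, map_mul, map_inv, hle, mul_inv_cancel]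
  have h5 := mul_mem (mem_sup_left (T := ⁅L, L⁆) (mem_subgroupOf.mp h4)) (mem_sup_right h2)
  have h6 : ((⁅(⟨a, ha⟩ : N), ⟨b, hb⟩⁆ * l⁻¹ : N) : G) * (l : G) = ⁅a, b⁆ := by
    simp [commutatorElement_def, mul_assoc]
  rwa [h6] at h5

/-- `p`-elements of a complement centralise the `q`-subgroups they normalise, `p ∈ τ₂(M)`. -/
theorem centralizes_of_normalizes (hE : IsComplIn E (sigmaCore M) M) (h : IsTauPair p M A)
    (hAE : A ≤ E) (hab : ∀ S : Sylow p G, IsMulCommutative (S : Subgroup G)) (hqp : q ≠ p)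
    {R : Subgroup G} (hRE : R ≤ E) (hR : IsPGroup q R) (hRA : R ≤ centralizer (A : Set G)) {k : ℕ}
    {x : G} (hxE : x ∈ E) (hx : x ^ p ^ k = 1) (hxR : x ∈ normalizer (R : Set G)) :
    x ∈ centralizer (R : Set G) := by
  by_cases hR1 : R = ⊥
  · rw [hR1]; simp [mem_centralizer_iff]
  have hqd : q ∣ Nat.card R := by
    obtain ⟨r, hr, hrd⟩ := exists_prime_dvd_of_ne_bot hR1
    obtain ⟨j, hj⟩ := IsPGroup.iff_card.mp hR
    rwa [← (Nat.prime_dvd_prime_iff_eq hr hq.out).mp (hr.dvd_of_dvd_pow (hj ▸ hrd))]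
  have hqσ : q ∉ sigma M := compl_prime_not_sigma hG hM hE hq.out (hqd.trans (card_dvd_of_le hRE))
  have hq2 : q ≠ 2 := by
    intro e
    have h1 : 2 ∣ Nat.card G := e ▸ hqd.trans (card_subgroup_dvd_card R)
    exact absurd (hG.1.of_dvd_nat h1) (by decide)
  have hAp := Coprime.ea_isPGroup h.elem
  have hCM := h.cent_le hG hM
  obtain ⟨S, hAS⟩ := hAp.exists_le_sylow
  haveI := hab S
  have hScA : (S : Subgroup G) ≤ centralizer (A : Set G) := fun s hs => mem_centralizer_iff.mpr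
    fun a ha => congrArg (fun z : (S : Subgroup G) => (z : G))
      (mul_comm' (⟨a, hAS ha⟩ : (S : Subgroup G)) ⟨s, hs⟩)
  have hSM : (S : Subgroup G) ≤ M := hScA.trans hCM
  have hNS : normalizer ((S : Subgroup G) : Set G) ≤ normalizer (A : Set G) := fun n hn =>
    mem_normalizer_of_map_conj (eq_of_le_of_card_ge (by
      rintro _ ⟨a, ha, rfl⟩
      exact h.mem_of_pow hG hM (by rw [← map_pow, h.elem.2 a ha, map_one])
        (hScA ((mem_normalizer_iff.mp hn a).mp (hAS ha)))) (card_map_conj _ _).ge)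
  have hqA : ¬ q ∣ Nat.card A := h.not_dvd hq.out hqp
  have hqC : q ∣ Nat.card (centralizer (A : Set G)) := hqd.trans (card_dvd_of_le hRA)
  have hTH := h.trans_hyp hG hM
  have htr : ∀ Q₁ ∈ maxInvSubgroups ⊤ A {q}, ∀ Q₂ ∈ maxInvSubgroups ⊤ A {q},
      Linked (piCoreOf (primesNotDvd (Nat.card A)) (centralizer (A : Set G))) Q₁ Q₂ :=
    fun Q₁ h₁ Q₂ h₂ => linked_of_rank_two hG hTH hqA h.not_rankLE_center hqC h₁ h₂
  have hpA : p ∣ Nat.card A := h.card ▸ dvd_pow_self p two_ne_zero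
  have hStop : (S : Subgroup G) ≠ ⊤ := ne_top_of_not_dvd hM hSM
  have hSπ : ∀ r : ℕ, r.Prime → r ∣ Nat.card (S : Subgroup G) → r ∣ Nat.card A := fun r hr hd => by
    obtain ⟨j, hj⟩ := IsPGroup.iff_card.mp S.2
    rwa [(Nat.prime_dvd_prime_iff_eq hr hp.out).mp (hr.dvd_of_dvd_pow (hj ▸ hd))]
  haveI : (A.subgroupOf (S : Subgroup G)).Normal :=
    ⟨fun a ha s => by rwa [mul_comm' s a, mul_inv_cancel_right]⟩
  obtain ⟨hsub, htrS⟩ := transitive_of_subnormal hG hTH hqA hStop hSπ hAS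
    (Subgroup.Normal.isSubnormal inferInstance) htr
  obtain ⟨Q, hQ, -⟩ := exists_max_ge (q := q) (A := (S : Subgroup G))
    (IsPGroup.of_bot (p := q) (G := G)) (by rw [normalizer_eq_top]; exact le_top)
  obtain ⟨-, hfac⟩ := normalizer_factorisation hG hTH hAS hSπ htrS hQ
  set K := piCoreOf (primesNotDvd (Nat.card A)) (centralizer ((S : Subgroup G) : Set G)) with hK
  set N := normalizer ((S : Subgroup G) : Set G) with hN
  set L := N ⊓ normalizer (Q : Set G) with hL
  have hSN : (S : Subgroup G) ≤ N := Subgroup.le_normalizer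
  have hSL : (S : Subgroup G) ≤ L := le_inf hSN hQ.1.2.2
  have hKC : K ≤ centralizer ((S : Subgroup G) : Set G) := piCoreOf_le _ _
  haveI : (piCore (primesNotDvd (Nat.card A))
      ↥(centralizer ((S : Subgroup G) : Set G))).Characteristic := piCore_characteristic _
  have hNK : N ≤ normalizer (K : Set G) :=
    LocalStructure.le_normalizer_map_characteristic (Coprime.le_normalizer_centralizer le_rfl) _
  -- `S ≤ L'`
  have hSL' : (S : Subgroup G) ≤ ⁅L, L⁆ := by
    intro s hs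
    have h1 := commutator_le_sup_of_eq hNK hfac (sylow_le_commutator_normalizer hG S (hab S) hs)
    obtain ⟨c, hc, l, hl, hcl⟩ := (Coprime.mem_sup_of_le_normalizer (N := K) (A := ⁅L, L⁆)
      (((commutator_le_self L).trans inf_le_left).trans hNK)).mp h1
    have hcs : Commute c s := (mem_centralizer_iff.mp (hKC hc) s hs).symm
    set m := Nat.card K with hm
    have hlm : l ^ m = s ^ m := by
      have h2 : l = c⁻¹ * s := by rw [← hcl, inv_mul_cancel_left]
      have h3 : c ^ m = 1 := orderOf_dvd_iff_pow_eq_one.mp (Subgroup.orderOf_dvd_natCard _ hc)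
      rw [h2, hcs.inv_left.mul_pow, inv_pow, h3, inv_one, one_mul]
    obtain ⟨j, hj⟩ := S.2.exists_orderOf_eq_pow ⟨s, hs⟩
    rw [← orderOf_coe] at hj
    change orderOf s = p ^ j at hj
    have hcop : (orderOf s).Coprime m := by
      rw [hj]
      refine Nat.Coprime.pow_left j (hp.out.coprime_iff_not_dvd.mpr fun hd => ?_)
      exact (piNum_piCoreOf _ _ p hp.out hd).2 hpA
    obtain ⟨i, hi⟩ := exists_pow_eq_self_of_coprime hcop.symm
    rw [← hi, ← hlm]
    exact pow_mem (pow_mem hl m) i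
  -- the fixed `q`-part
  obtain ⟨R', hR', hRR'⟩ := exists_max_ge (q := q) (A := A) hR
    ((le_centralizer_iff.mp hRA).trans (centralizer_le_normalizer _))
  obtain ⟨c, hc, hcQ⟩ := htr R' hR' Q (hsub hQ)
  have hcA : c ∈ centralizer (A : Set G) := piCoreOf_le _ _ hc
  set V := Q ⊓ centralizer (A : Set G) with hV
  have hVq : IsPGroup q V := (isPGroup_of_singleton hQ.1.2.1).to_le inf_le_left
  have hVM : V ≤ M := inf_le_right.trans hCM
  haveI := comm_of_not_sigma hG hM hqσ hVq hVM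
  have hLV : L ≤ normalizer (V : Set G) := Coprime.le_normalizer_inf inf_le_right
    (Coprime.le_normalizer_centralizer (inf_le_left.trans hNS))
  let W : Subgroup G :=
    { carrier := {v | v ∈ V ∧ v ^ q = 1}
      one_mem' := ⟨one_mem V, one_pow q⟩
      mul_mem' := by
        rintro a b ⟨ha, ha'⟩ ⟨hb, hb'⟩
        refine ⟨mul_mem ha hb, ?_⟩
        have hab' : Commute a b :=
          congrArg (fun z : V => (z : G)) (mul_comm' (⟨a, ha⟩ : V) ⟨b, hb⟩)
        rw [hab'.mul_pow, ha', hb', one_mul]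
      inv_mem' := fun {a} ha => ⟨inv_mem ha.1, by rw [inv_pow, ha.2, inv_one]⟩ }
  have hWV : W ≤ V := fun v hv => hv.1
  have hWe : IsElementaryAbelian q W :=
    ⟨⟨⟨fun a b => Subtype.ext (congrArg (fun z : V => (z : G))
      (mul_comm' (⟨a, hWV a.2⟩ : V) ⟨b, hWV b.2⟩))⟩⟩, fun w hw => hw.2⟩
  obtain ⟨j, hj⟩ := IsPGroup.iff_card.mp (hVq.to_le hWV)
  have hj2 : j ≤ 2 := by
    by_contra hj3
    have hr : PRankLE q 2 M := by
      by_contra hc
      exact hqσ (alpha_subset_sigma hG hM ⟨hq.out, hc⟩)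
    exact not_pRankLE_of_elementary (k := 2) (hWV.trans hVM) hWe
      (hj ▸ Nat.pow_le_pow_right hq.out.pos (by omega)) hr
  have hLW : L ≤ normalizer (W : Set G) := by
    intro l hl
    have hfwd : ∀ l ∈ L, ∀ w ∈ W, l * w * l⁻¹ ∈ W := fun l hl w hw =>
      ⟨(mem_normalizer_iff.mp (hLV hl) w).mp hw.1, by rw [conj_pow, hw.2, mul_one, mul_inv_cancel]⟩
    refine mem_normalizer_iff.mpr fun w => ⟨hfwd l hl w, fun hw => ?_⟩
    have h1 := hfwd l⁻¹ (inv_mem hl) _ hw
    simpa [mul_assoc] using h1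
  haveI : Group.IsSolvable L := hG.2.2.2 L fun e =>
    ne_top_of_normal_ne_bot hG (ne_bot_of_le_ne_bot (Coprime.ea_ne_bot two_ne_zero h.card.ge) hAS)
      hStop (top_le_iff.mp (e ▸ inf_le_left))
  let φ : L →* MulAut W := W.normalizerMonoidHom.comp (inclusion hLW)
  haveI : Group.IsSolvable φ.range := Group.isSolvable_of_surjective φ.rangeRestrict_surjective
  have hoddL : Odd (Nat.card φ.range) :=
    (hG.1.of_dvd_nat (card_subgroup_dvd_card L)).of_dvd_nat (Subgroup.card_range_dvd φ)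
  have hScW : (S : Subgroup G) ≤ centralizer (W : Set G) := by
    intro s hs
    have hsL : (⟨s, hSL hs⟩ : L) ∈ commutator L := by
      have h1 : s ∈ (commutator L).map L.subtype := by
        rw [Subgroup.map_subtype_commutator]; exact hSL' hs
      obtain ⟨l, hl, hls⟩ := h1
      rwa [show (⟨s, hSL hs⟩ : L) = l from Subtype.ext hls.symm]
    have hy : φ.rangeRestrict ⟨s, hSL hs⟩ ∈ commutator φ.range := by
      have h1 : (commutator L).map φ.rangeRestrict ≤ commutator φ.range := by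
        rw [_root_.commutator_def, map_commutator, _root_.commutator_def]
        exact commutator_mono le_top le_top
      exact h1 (mem_map_of_mem _ hsL)
    have h1 := pow_eq_one_mulAut_of_le hq2 (fun a b : W => Subtype.ext (Coprime.ea_comm hWe a.2 b.2))
      (fun w : W => Subtype.ext (by simpa using w.2.2)) hj2 hj hoddL φ.range.subtype
      φ.range.subtype_injective hy
    have h2 : φ ⟨s, hSL hs⟩ ^ q = 1 := congrArg Subtype.val h1
    obtain ⟨i, hi⟩ := S.2.exists_orderOf_eq_pow ⟨s, hs⟩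
    rw [← orderOf_coe] at hi
    have h3 : φ ⟨s, hSL hs⟩ = 1 := by
      rw [← orderOf_eq_one_iff]
      refine Nat.eq_one_of_dvd_coprimes
        (((Nat.coprime_primes hp.out hq.out).mpr hqp.symm).pow_left i)
        ((orderOf_map_dvd φ _).trans ?_) (orderOf_dvd_of_pow_eq_one h2)
      rw [← orderOf_coe]
      exact hi.dvd
    refine mem_centralizer_iff.mpr fun w hw => ?_
    have h4 := congrArg Subtype.val (DFunLike.congr_fun h3 (⟨w, hw⟩ : W))
    change s * w * s⁻¹ = w at h4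
    exact ((mul_inv_eq_iff_eq_mul.mp h4)).symm
  have hcopV : (Nat.card (S : Subgroup G)).Coprime (Nat.card V) := by
    obtain ⟨a, ha⟩ := IsPGroup.iff_card.mp S.2
    obtain ⟨b, hb⟩ := IsPGroup.iff_card.mp hVq
    rw [ha, hb]
    exact (((Nat.coprime_primes hp.out hq.out).mpr hqp.symm).pow_left a).pow_right b
  have hScV : (S : Subgroup G) ≤ centralizer (V : Set G) := by
    refine Coprime.le_centralizer_of_fixes_prime_order (hSL.trans hLV) hcopV ?_
    intro v hv hvp a ha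
    obtain ⟨i, hi⟩ := hVq.exists_orderOf_eq_pow ⟨v, hv⟩
    rw [← orderOf_coe] at hi
    change orderOf v = q ^ i at hi
    have hvq : orderOf v = q :=
      (Nat.prime_dvd_prime_iff_eq hvp hq.out).mp (hvp.dvd_of_dvd_pow hi.dvd)
    exact (mem_centralizer_iff.mp (hScW ha) v ⟨hv, by rw [← hvq, pow_orderOf_eq_one]⟩).symm
  -- pull back by `c`
  set S' := MulAut.conj c⁻¹ • S with hS'
  have hS'c : (S' : Subgroup G) = (S : Subgroup G).map (MulAut.conj c⁻¹).toMonoidHom := rfl
  have hS'R : (S' : Subgroup G) ≤ centralizer (R : Set G) := by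
    rw [hS'c]
    rintro _ ⟨s, hs, rfl⟩
    refine mem_centralizer_iff.mpr fun r hr => ?_
    have hrV : c * r * c⁻¹ ∈ V :=
      ⟨hcQ ▸ mem_map_of_mem (MulAut.conj c).toMonoidHom (hRR' hr),
        (centralizer (A : Set G)).mul_mem ((centralizer (A : Set G)).mul_mem hcA (hRA hr))
          ((centralizer (A : Set G)).inv_mem hcA)⟩
    have h1 := mem_centralizer_iff.mp (hScV hs) _ hrV
    simp only [MulEquiv.coe_toMonoidHom, MulAut.conj_apply, inv_inv]
    calc r * (c⁻¹ * s * c) = c⁻¹ * (c * r * c⁻¹ * s) * c := by group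
      _ = c⁻¹ * (s * (c * r * c⁻¹)) * c := by rw [h1]
      _ = c⁻¹ * s * c * r := by group
  have hS'E : (S' : Subgroup G) ≤ E := by
    rw [hS'c]
    refine le_trans ?_ (inf_normalizer_le hG hM hE h hAE)
    exact le_inf (map_conj_le_of_mem hSM (M.inv_mem (hCM hcA))) (map_conj_le_of_mem
      (hScA.trans (centralizer_le_normalizer _))
      ((normalizer (A : Set G)).inv_mem (centralizer_le_normalizer _ hcA)))
  -- `x` is conjugate into `S'`
  set NR := E ⊓ normalizer (R : Set G) with hNR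
  have hS'N : (S' : Subgroup G) ≤ NR := le_inf hS'E (hS'R.trans (centralizer_le_normalizer _))
  obtain ⟨i, -, hi⟩ := (Nat.dvd_prime_pow hp.out).mp (orderOf_dvd_of_pow_eq_one hx)
  have hxg : IsPGroup p (zpowers x) := IsPGroup.of_card (n := i) (by rw [Nat.card_zpowers, hi])
  have hxN : zpowers x ≤ NR := zpowers_le.mpr ⟨hxE, hxR⟩
  obtain ⟨T, hT⟩ := exists_sylow_ge hxg hxN
  obtain ⟨y, hy⟩ := MulAction.exists_smul_eq NR (S'.subtype hS'N) T
  have hxT : x ∈ ((S'.subtype hS'N : Subgroup NR).map NR.subtype).map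
      (MulAut.conj (y : G)).toMonoidHom := by
    rw [← map_subtype_sylow_smul, hy]
    exact hT (mem_zpowers x)
  rw [Sylow.coe_subtype, map_subgroupOf_eq_of_le hS'N, mem_map_conj_iff] at hxT
  have hyC : (y : G) * ((y : G)⁻¹ * x * y) * (y : G)⁻¹ ∈ centralizer (R : Set G) :=
    (mem_normalizer_iff.mp (Coprime.le_normalizer_centralizer (A := normalizer (R : Set G)) le_rfl
      y.2.2) _).mp (hS'R hxT)
  simpa [mul_assoc] using hyC

end Cfsg.Agent.OddLocal
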