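import Cfsg.Agent.OddLocal.FittingCore
import Cfsg.Agent.OddLocal.SigmaCoreAction
import Cfsg.Agent.OddLocal.SupportSigma
import Cfsg.Agent.OddLocal.TauTwoAbelian
import Cfsg.Agent.OddLocal.NilpotentPrimeAction
import Cfsg.Agent.Coprime.PCoreTools

/-!
# The shape of the normal Sylow subgroup of a non-nilpotent `M_σ` (BG 15.2, second half)

Wielandt's order formula for a complement `D` of `Q` in `M_σ` and the Frobenius group `DK`.
-/

set_option maxHeartbeats 400000

namespace Cfsg.Agent.OddLocal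

open Subgroup
open scoped commutatorElement

variable {G : Type*} [Group G] [Finite G] {M K : Subgroup G}

/-- A subgroup of a group of prime order is trivial or everything. -/
theorem eq_bot_or_eq_of_le_prime {X Y : Subgroup G} (hY : (Nat.card Y).Prime) (hXY : X ≤ Y) :
    X = ⊥ ∨ X = Y :=
  ((Nat.dvd_prime hY).1 (card_dvd_of_le hXY)).imp card_eq_one.1
    fun e => eq_of_le_of_card_ge hXY e.ge

/-- Conjugation carries relative centralisers to relative centralisers. -/
theorem inf_centralizer_map_conj (Q D : Subgroup G) (c : G) :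
    (Q ⊓ centralizer (D : Set G)).map (MulAut.conj c).toMonoidHom =
      Q.map (MulAut.conj c).toMonoidHom ⊓
        centralizer ((D.map (MulAut.conj c).toMonoidHom : Subgroup G) : Set G) := by
  ext x
  rw [mem_map_conj_iff, mem_inf, mem_inf, mem_map_conj_iff, mem_centralizer_iff, mem_centralizer_iff]
  refine and_congr_right fun _ => ⟨fun hx y hy => ?_, fun hx d hd => ?_⟩
  · have := congrArg (fun t => c * t * c⁻¹) (hx _ (mem_map_conj_iff.1 hy))
    simpa [mul_assoc] using this
  · have := congrArg (fun t => c⁻¹ * t * c)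
      (hx (c * d * c⁻¹) (mem_map_conj_iff.2 (by simpa [mul_assoc] using hd)))
    simpa [mul_assoc] using this

namespace CoreData

variable (h : CoreData M K)

include h

theorem not_dvd_card_K : ¬ Nat.card (kStar M K) ∣ Nat.card K := fun hd =>
  Nat.not_coprime_of_dvd_of_dvd h.prime.one_lt hd (card_dvd_of_le inf_le_left) h.coprime

theorem coreSylow_nilpotent : Group.IsNilpotent (coreSylow M K) :=
  have := Fact.mk h.prime
  (coreSylow_isPGroup h).isNilpotent

theorem coreSylow_le_fittingHallOf : coreSylow M K ≤ fittingHallOf M := by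
  have := Fact.mk h.prime
  refine map_mono (le_sSup ⟨piCore_normal _ _, ?_, ?_⟩)
  · exact (Group.isNilpotent_congr (equivMapOfInjective (piCore ({Nat.card (kStar M K)} : Set ℕ) M)
      M.subtype M.subtype_injective)).mpr h.coreSylow_nilpotent
  · refine Nat.coprime_of_dvd fun r hr h1 h2 => ?_
    have hrq : r = Nat.card (kStar M K) := piNum_piCore ({Nat.card (kStar M K)} : Set ℕ) r hr h1
    have h2' : r ∣ (coreSylow M K).relIndex M := by
      rwa [coreSylow, piCoreOf, relIndex, subgroupOf,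
        comap_map_eq_self_of_injective M.subtype_injective]
    rw [← relIndex_mul_relIndex _ _ _ h.coreSylow_le_sigmaCore (sigmaCore_le M)] at h2'
    rcases hr.dvd_mul.1 h2' with h3 | h3
    · exact h.quotient_facts.1 (hrq ▸ h3)
    · exact (isPiHallOf_sigmaCore h.minSimple h.coatom).2.2 r hr (hrq ▸ h.mem_sigma) h3

theorem compl_facts {D : Subgroup G} (hD : IsComplIn (coreSylow M K) D (sigmaCore M)) :
    Group.IsNilpotent D ∧ ¬ Nat.card (kStar M K) ∣ Nat.card D ∧
      IsPiHallOf {r | r ≠ Nat.card (kStar M K)} D (sigmaCore M) := by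
  have := Fact.mk h.prime
  have hidx : (coreSylow M K).relIndex (sigmaCore M) = Nat.card D := by
    have h1 := Coprime.card_mul_relIndex_of_le hD.1
    rw [← IsComplIn.card_mul hD] at h1
    exact Nat.eq_of_mul_eq_mul_left Nat.card_pos h1
  have hidx' : D.relIndex (sigmaCore M) = Nat.card (coreSylow M K) := by
    have h1 := Coprime.card_mul_relIndex_of_le hD.2.1
    rw [← IsComplIn.card_mul hD, mul_comm (Nat.card (coreSylow M K))] at h1
    exact Nat.eq_of_mul_eq_mul_left Nat.card_pos h1
  have hq : ¬ Nat.card (kStar M K) ∣ Nat.card D := hidx ▸ h.quotient_facts.1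
  refine ⟨h.quotient_facts.2 D hD.2.1 hD.2.2.1, hq, hD.2.1, fun r _ hd e => hq (e ▸ hd),
    fun r hr hne hd => hne ?_⟩
  rw [hidx'] at hd
  exact mem_singleton_of_isPGroup (coreSylow_isPGroup h) r hr hd

theorem le_normalizer_coreSylow' {D : Subgroup G} (hD : D ≤ sigmaCore M) :
    D ≤ normalizer (coreSylow M K : Set G) :=
  hD.trans ((sigmaCore_le M).trans (le_normalizer_coreSylow M K))

theorem sigmaCore_eq_sup {D : Subgroup G} (hD : IsComplIn (coreSylow M K) D (sigmaCore M)) :
    sigmaCore M = coreSylow M K ⊔ D := by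
  refine le_antisymm (fun m hm => ?_) (sup_le hD.1 hD.2.1)
  obtain ⟨a, ha, b, hb, rfl⟩ := hD.2.2.2 m hm
  exact mul_mem_sup ha hb

theorem exists_compl : ∃ D : Subgroup G, IsComplIn (coreSylow M K) D (sigmaCore M) ∧
    K ≤ normalizer (D : Set G) := by
  have := Fact.mk h.prime
  obtain ⟨D, hD, hKD⟩ := Coprime.exists_invariant_hall h.le_normalizer_core h.coprime
    h.solvable_core {r | r ≠ Nat.card (kStar M K)}
  have hbot : coreSylow M K ⊓ D = ⊥ :=
    Coprime.inf_eq_bot_of_coprime (Nat.coprime_of_dvd fun r hr h1 h2 =>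
      hD.2.1 r hr h2 (mem_singleton_of_isPGroup (coreSylow_isPGroup h) r hr h1))
  have hle : sigmaCore M ≤ coreSylow M K ⊔ D := by
    refine relIndex_eq_one.1 ?_
    by_contra hne
    obtain ⟨r, hr, hd⟩ := Nat.exists_prime_and_dvd hne
    by_cases hrq : r = Nat.card (kStar M K)
    · exact h.quotient_facts.1 (hrq ▸ hd.trans (relIndex_dvd_of_le_left _ le_sup_left))
    · exact hD.2.2 r hr hrq (hd.trans (relIndex_dvd_of_le_left _ le_sup_right))
  refine ⟨D, ⟨h.coreSylow_le_sigmaCore, hD.1, hbot, fun m hm => ?_⟩, hKD⟩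
  obtain ⟨a, ha, b, hb, e⟩ :=
    (Coprime.mem_sup_of_le_normalizer (h.le_normalizer_coreSylow' hD.1)).1 (hle hm)
  exact ⟨a, ha, b, hb, e.symm⟩

theorem not_le_centralizer {D : Subgroup G} (hD : IsComplIn (coreSylow M K) D (sigmaCore M)) :
    ¬ D ≤ centralizer (coreSylow M K : Set G) := fun hc => by
  have hsup := h.sigmaCore_eq_sup hD
  have hQD : coreSylow M K ≤ normalizer (D : Set G) :=
    (le_centralizer_iff.1 hc).trans (centralizer_le_normalizer _)
  refine h.not_nilpotent (Core.isNilpotent_mono (isNilpotent_fittingOf (sigmaCore M)) ?_)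
  refine hsup.le.trans (sup_le ?_ ?_)
  · exact le_fittingOf_of_normal hD.1 ((sigmaCore_le M).trans (le_normalizer_coreSylow M K))
      h.coreSylow_nilpotent
  · exact le_fittingOf_of_normal hD.2.1 (hsup.le.trans (sup_le hQD Subgroup.le_normalizer))
      (h.compl_facts hD).1

theorem mem_beta : Nat.card (kStar M K) ∈ beta M := by
  have := Fact.mk h.prime
  by_contra hb
  obtain ⟨D, hD, -⟩ := h.exists_compl
  refine h.not_le_centralizer hD fun x hx => mem_of_prime_power_parts fun r _ y hy hd hyr => ?_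
  have hrD : r ∣ Nat.card D := hd.trans (Subgroup.orderOf_dvd_natCard _ hx)
  have hyD : y ∈ D := zpowers_le.2 hx hy
  have hA : IsPGroup r (zpowers y) := by
    obtain ⟨k, hk⟩ := hyr
    obtain ⟨j, -, hj⟩ := (Nat.dvd_prime_pow (Fact.out : r.Prime)).1 (orderOf_dvd_of_pow_eq_one hk)
    exact IsPGroup.of_card (by rw [Nat.card_zpowers, hj])
  exact le_centralizer_of_sigma h.minSimple h.coatom
    (piNum_sigmaCore M r Fact.out (hrD.trans (card_dvd_of_le hD.2.1))) h.mem_sigma hb
    (fun e => (h.compl_facts hD).2.1 (e ▸ hrD)) hA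
    (zpowers_le.2 (sigmaCore_le M (hD.2.1 hyD))) (coreSylow_isPGroup h) (coreSylow_le M K)
    (zpowers_le.2 (h.le_normalizer_coreSylow' hD.2.1 hyD)) (mem_zpowers y)

theorem coreSylow_inf_centralizer_K :
    coreSylow M K ⊓ centralizer (K : Set G) = kStar M K :=
  le_antisymm (inf_le_inf h.coreSylow_le_sigmaCore le_rfl)
    (le_inf h.kStar_le_coreSylow inf_le_right)

theorem coreSylow_inf_centralizer {k : G} (hk : k ∈ K) (hk1 : k ≠ 1) :
    coreSylow M K ⊓ centralizer ({k} : Set G) = kStar M K := by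
  refine le_antisymm ((inf_le_inf h.coreSylow_le_sigmaCore le_rfl).trans (h.fixed hk hk1).le) ?_
  rw [← h.coreSylow_inf_centralizer_K]
  exact inf_le_inf le_rfl (centralizer_le (by simpa using hk))

theorem inf_eq_bot {A E : Subgroup G} (hA : A ≤ sigmaCore M) (hE : E ≤ K) : A ⊓ E = ⊥ := by
  refine eq_bot_iff.2 ((inf_le_inf hA hE).trans ?_)
  rw [inf_comm, Coprime.inf_eq_bot_of_coprime h.coprime]

variable {D : Subgroup G}

theorem fpf (hD : IsComplIn (coreSylow M K) D (sigmaCore M)) {e : G} (he : e ∈ K) (he1 : e ≠ 1) :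
    D ⊓ centralizer ({e} : Set G) = ⊥ := by
  rw [eq_bot_iff, ← hD.2.2.1]
  refine le_inf ?_ inf_le_left
  refine le_trans ?_ h.kStar_le_coreSylow
  rw [← h.fixed he he1]
  exact inf_le_inf hD.2.1 le_rfl

theorem formula (hD : IsComplIn (coreSylow M K) D (sigmaCore M))
    (hKD : K ≤ normalizer (D : Set G)) {E X : Subgroup G} (hE : E ≤ K) (hXQ : X ≤ coreSylow M K)
    (hDX : D ≤ normalizer (X : Set G)) (hEX : E ≤ normalizer (X : Set G)) :
    Nat.card ↥(X ⊓ centralizer ((D ⊔ E : Subgroup G) : Set G)) ^ Nat.card E * Nat.card X =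
      Nat.card ↥(X ⊓ centralizer (E : Set G)) ^ Nat.card E *
        Nat.card ↥(X ⊓ centralizer (D : Set G)) := by
  have := Fact.mk h.prime
  have hXp : IsPGroup (Nat.card (kStar M K)) X := (coreSylow_isPGroup h).to_le hXQ
  refine WielandtFixed.order_formula (Nat.card X) G D E X rfl ?_ ?_ ?_ ?_ ?_ ?_
  · exact h.inf_eq_bot hD.2.1 hE
  · exact fun e he u hu => (mem_normalizer_iff.1 (hKD (hE he)) u).1 hu
  · intro e he he1 u hu hc
    have : u ∈ D ⊓ centralizer ({e} : Set G) :=
      mem_inf.2 ⟨hu, mem_centralizer_singleton_iff.2 hc.symm⟩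
    rwa [h.fpf hD (hE he) he1, mem_bot] at this
  · exact fun x hx y hy => (mem_normalizer_iff.1 ((sup_le hDX hEX) hx) y).1 hy
  · exact Core.isSolvable_mono h.solvable_core (hXQ.trans h.coreSylow_le_sigmaCore)
  · refine Nat.coprime_of_dvd fun r hr h1 h2 => ?_
    have hrq : r = Nat.card (kStar M K) := mem_singleton_of_isPGroup hXp r hr h1
    rcases hr.dvd_mul.1 (h2.trans (dvd_of_eq (Coprime.card_sup_eq_mul
        (hE.trans hKD) (h.inf_eq_bot hD.2.1 hE)))) with h3 | h3
    · exact (h.compl_facts hD).2.1 (hrq ▸ h3)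
    · exact h.not_dvd_card_K (hrq ▸ h3.trans (card_dvd_of_le hE))

theorem fixed_joint (hD : IsComplIn (coreSylow M K) D (sigmaCore M))
    (hKD : K ≤ normalizer (D : Set G)) {E : Subgroup G} (hE : E ≤ K) (hE1 : E ≠ ⊥) :
    coreSylow M K ⊓ centralizer ((D ⊔ E : Subgroup G) : Set G) = ⊥ := by
  obtain ⟨e, he, he1⟩ := (bot_or_exists_ne_one E).resolve_left hE1
  set Q := coreSylow M K with hQ
  have hEfix : Q ⊓ centralizer (E : Set G) = kStar M K := by
    refine le_antisymm ?_ ?_
    · rw [← h.coreSylow_inf_centralizer (hE he) he1]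
      exact inf_le_inf le_rfl (centralizer_le (by simpa using he))
    · rw [← h.coreSylow_inf_centralizer_K]
      exact inf_le_inf le_rfl (centralizer_le hE)
  have hle : Q ⊓ centralizer ((D ⊔ E : Subgroup G) : Set G) ≤ kStar M K := by
    rw [← hEfix]
    exact inf_le_inf le_rfl (centralizer_le (le_sup_right : E ≤ D ⊔ E))
  refine (eq_bot_or_eq_of_le_prime h.prime hle).resolve_right fun heq => ?_
  have hf := h.formula hD hKD hE le_rfl (h.le_normalizer_coreSylow' hD.2.1)
    (hE.trans (h.le_M.trans (le_normalizer_coreSylow M K)))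
  rw [← hQ, heq, hEfix] at hf
  have hcard := Nat.eq_of_mul_eq_mul_left (pow_pos Nat.card_pos _) hf
  refine h.not_le_centralizer hD (le_centralizer_iff.1 ?_)
  have := eq_of_le_of_card_ge (inf_le_left : Q ⊓ centralizer (D : Set G) ≤ Q) hcard.le
  rw [← hQ, ← this]
  exact inf_le_right

theorem card_eq_pow (hD : IsComplIn (coreSylow M K) D (sigmaCore M))
    (hKD : K ≤ normalizer (D : Set G)) {E : Subgroup G} (hE : E ≤ K) (hE1 : E ≠ ⊥) :
    Nat.card (coreSylow M K) = Nat.card ↥(coreSylow M K ⊓ centralizer (D : Set G)) *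
      Nat.card (kStar M K) ^ Nat.card E := by
  obtain ⟨e, he, he1⟩ := (bot_or_exists_ne_one E).resolve_left hE1
  have hf := h.formula hD hKD hE le_rfl (h.le_normalizer_coreSylow' hD.2.1)
    (hE.trans (h.le_M.trans (le_normalizer_coreSylow M K)))
  have hEfix : coreSylow M K ⊓ centralizer (E : Set G) = kStar M K := by
    refine le_antisymm ?_ ?_
    · rw [← h.coreSylow_inf_centralizer (hE he) he1]
      exact inf_le_inf le_rfl (centralizer_le (by simpa using he))
    · rw [← h.coreSylow_inf_centralizer_K]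
      exact inf_le_inf le_rfl (centralizer_le hE)
  rw [h.fixed_joint hD hKD hE hE1, hEfix, card_bot, one_pow, one_mul, mul_comm] at hf
  exact hf

theorem card_K_prime : (Nat.card K).Prime := by
  obtain ⟨D, hD, hKD⟩ := h.exists_compl
  obtain ⟨k, hk, hk1, r, hr, hkr⟩ := h.exists_prime_elt
  have h1 := h.card_eq_pow hD hKD le_rfl h.ne_bot
  have h2 := h.card_eq_pow hD hKD (zpowers_le.2 hk) (by rwa [Ne, zpowers_eq_bot])
  rw [h1, Nat.card_zpowers, hkr] at h2
  rwa [Nat.pow_right_injective h.prime.two_le (Nat.eq_of_mul_eq_mul_left Nat.card_pos h2)]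

theorem dichotomy (hD : IsComplIn (coreSylow M K) D (sigmaCore M))
    (hKD : K ≤ normalizer (D : Set G)) {X : Subgroup G}
    (h0 : coreSylow M K ⊓ centralizer (D : Set G) ≤ X) (hX : X ≤ coreSylow M K)
    (hDX : D ≤ normalizer (X : Set G)) (hKX : K ≤ normalizer (X : Set G)) :
    X = coreSylow M K ⊓ centralizer (D : Set G) ∨ X = coreSylow M K := by
  have hf := h.formula hD hKD le_rfl hX hDX hKX
  have hDfix : X ⊓ centralizer (D : Set G) = coreSylow M K ⊓ centralizer (D : Set G) :=
    le_antisymm (inf_le_inf hX le_rfl) (le_inf h0 inf_le_right)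
  have hjoint : X ⊓ centralizer ((D ⊔ K : Subgroup G) : Set G) = ⊥ :=
    eq_bot_iff.2 ((inf_le_inf hX le_rfl).trans (h.fixed_joint hD hKD le_rfl h.ne_bot).le)
  rw [hjoint, hDfix, card_bot, one_pow, one_mul] at hf
  rcases eq_bot_or_eq_of_le_prime h.prime
      ((inf_le_inf hX le_rfl).trans h.coreSylow_inf_centralizer_K.le :
        X ⊓ centralizer (K : Set G) ≤ kStar M K) with h1 | h1
  · rw [h1, card_bot, one_pow, one_mul] at hf
    exact Or.inl (eq_of_le_of_card_ge h0 hf.le).symm
  · rw [h1, mul_comm, ← h.card_eq_pow hD hKD le_rfl h.ne_bot] at hf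
    exact Or.inr (eq_of_le_of_card_ge hX hf.ge)

theorem fixed_lt (hD : IsComplIn (coreSylow M K) D (sigmaCore M)) :
    coreSylow M K ⊓ centralizer (D : Set G) < coreSylow M K :=
  lt_of_le_of_ne inf_le_left fun e =>
    h.not_le_centralizer hD (le_centralizer_iff.1 (e.ge.trans inf_le_right))

theorem fixed_invariant (hD : IsComplIn (coreSylow M K) D (sigmaCore M))
    (hKD : K ≤ normalizer (D : Set G)) :
    M ≤ normalizer ((coreSylow M K ⊓ centralizer (D : Set G) : Subgroup G) : Set G) := by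
  set Q := coreSylow M K with hQ
  set Q0 := Q ⊓ centralizer (D : Set G) with hQ0
  have hD0 : D ≤ normalizer (Q0 : Set G) := Coprime.le_normalizer_inf
    (h.le_normalizer_coreSylow' hD.2.1) (Coprime.le_normalizer_centralizer Subgroup.le_normalizer)
  have hK0 : K ≤ normalizer (Q0 : Set G) := Coprime.le_normalizer_inf
    (h.le_M.trans (le_normalizer_coreSylow M K)) (Coprime.le_normalizer_centralizer hKD)
  have hlt : Q0 < normalizer (Q0 : Set G) ⊓ Q := by
    haveI := h.coreSylow_nilpotent
    exact lt_normalizer_inf (h.fixed_lt hD)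
  rcases h.dichotomy hD hKD hlt.le inf_le_right
      (Coprime.le_normalizer_inf (hD0.trans Subgroup.le_normalizer)
        (h.le_normalizer_coreSylow' hD.2.1))
      (Coprime.le_normalizer_inf (hK0.trans Subgroup.le_normalizer)
        (h.le_M.trans (le_normalizer_coreSylow M K))) with e | e
  · exact absurd e hlt.ne'
  · conv_lhs => rw [← h.sup_eq, h.sigmaCore_eq_sup hD]
    exact sup_le (sup_le (e.ge.trans inf_le_left) hD0) hK0

/-- All complements have the same fixed points on `Q`. -/
theorem fixed_eq {D₁ : Subgroup G} (hD₁ : IsComplIn (coreSylow M K) D₁ (sigmaCore M))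
    (hKD₁ : K ≤ normalizer (D₁ : Set G)) (hD : IsComplIn (coreSylow M K) D (sigmaCore M)) :
    coreSylow M K ⊓ centralizer (D : Set G) = coreSylow M K ⊓ centralizer (D₁ : Set G) := by
  obtain ⟨c, hc, hcD⟩ := Coprime.exists_conj_isPiHallOf h.solvable_core (h.compl_facts hD₁).2.2
    (h.compl_facts hD).2.2
  have hcD' : D₁.map (MulAut.conj c).toMonoidHom = D := hcD
  have hcM : c ∈ M := sigmaCore_le M hc
  have := inf_centralizer_map_conj (coreSylow M K) D₁ c
  rw [map_conj_eq_self_of_mem (le_normalizer_coreSylow M K hcM), hcD',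
    map_conj_eq_self_of_mem (h.fixed_invariant hD₁ hKD₁ hcM)] at this
  exact this.symm

theorem quotient_elementary (hD : IsComplIn (coreSylow M K) D (sigmaCore M))
    (hKD : K ≤ normalizer (D : Set G)) :
    ∀ a ∈ coreSylow M K, ∀ b ∈ coreSylow M K,
      a ^ Nat.card (kStar M K) ∈ coreSylow M K ⊓ centralizer (D : Set G) ∧
        a * b * a⁻¹ * b⁻¹ ∈ coreSylow M K ⊓ centralizer (D : Set G) := by
  have := Fact.mk h.prime
  set Q := coreSylow M K with hQ
  set Q0 := Q ⊓ centralizer (D : Set G) with hQ0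
  set q := Nat.card (kStar M K) with hq
  have hMQ0 : M ≤ normalizer (Q0 : Set G) := h.fixed_invariant hD hKD
  have hQ0Q : Q0 ≤ Q := inf_le_left
  have hQQ0 : Q ≤ normalizer (Q0 : Set G) := (coreSylow_le M K).trans hMQ0
  haveI hn : (Q0.subgroupOf Q).Normal := normal_subgroupOf_of_le_normalizer hQQ0
  set f := QuotientGroup.mk' (Q0.subgroupOf Q) with hf
  have hmem : ∀ x : Q, f x = 1 ↔ (x : G) ∈ Q0 := fun x => by
    rw [hf, QuotientGroup.mk'_apply, QuotientGroup.eq_one_iff, mem_subgroupOf]
  have hfs : Function.Surjective f := QuotientGroup.mk'_surjective _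
  haveI : Nontrivial (↥Q ⧸ Q0.subgroupOf Q) := QuotientGroup.nontrivial_iff.2 fun e =>
    (h.fixed_lt hD).not_ge (subgroupOf_eq_top.1 e)
  have hqp : IsPGroup q (↥Q ⧸ Q0.subgroupOf Q) := (coreSylow_isPGroup h).to_quotient _
  -- a characteristic condition holding outside `Q0` holds on `Q`
  have key : ∀ P : (↥Q ⧸ Q0.subgroupOf Q) → Prop, P 1 → (∀ a b, P a → P b → P (a * b)) →
      (∀ a, P a → P a⁻¹) → (∃ a, a ≠ 1 ∧ P a) →
      (∀ g ∈ M, ∀ x y : Q, (y : G) = g * x * g⁻¹ → P (f x) → P (f y)) → ∀ a, P a := by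
    intro P h1 hm hi hex hinv
    let X : Subgroup G := ({ carrier := {x : Q | P (f x)}
                             mul_mem' := fun {a b} ha hb => by
                              show P (f (a * b))
                              rw [map_mul]; exact hm _ _ ha hb
                             one_mem' := by show P (f 1); rw [map_one]; exact h1
                             inv_mem' := fun {a} ha => by
                              show P (f a⁻¹)
                              rw [map_inv]; exact hi _ ha } : Subgroup Q).map Q.subtype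
    have hXmem : ∀ x : Q, (x : G) ∈ X ↔ P (f x) := fun x =>
      ⟨fun ⟨y, hy, e⟩ => (Subtype.ext e : y = x) ▸ hy, fun hx => ⟨x, hx, rfl⟩⟩
    have hXQ : X ≤ Q := map_subtype_le _
    have h0X : Q0 ≤ X := fun x hx => (hXmem ⟨x, hQ0Q hx⟩).2 (by rwa [(hmem _).2 hx])
    have hMX : M ≤ normalizer (X : Set G) := by
      have key' : ∀ g ∈ M, ∀ x ∈ X, g * x * g⁻¹ ∈ X := fun g hg x hx =>
        (hXmem ⟨_, (mem_normalizer_iff.1 (le_normalizer_coreSylow M K hg) x).1 (hXQ hx)⟩).2
          (hinv g hg ⟨x, hXQ hx⟩ _ rfl ((hXmem ⟨x, hXQ hx⟩).1 hx))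
      intro g hg
      rw [mem_normalizer_iff]
      refine fun x => ⟨key' g hg x, fun hx => ?_⟩
      simpa [mul_assoc] using key' g⁻¹ (inv_mem hg) _ hx
    rcases h.dichotomy hD hKD h0X hXQ (hD.2.1.trans ((sigmaCore_le M).trans hMX))
        (h.le_M.trans hMX) with e | e
    · obtain ⟨a, ha1, ha⟩ := hex
      obtain ⟨x, rfl⟩ := hfs a
      exact absurd ((hmem x).2 (e.le ((hXmem x).2 ha))) ha1
    · intro a
      obtain ⟨x, rfl⟩ := hfs a
      exact (hXmem x).1 (e.ge x.2)
  have hcomm : ∀ a b : ↥Q ⧸ Q0.subgroupOf Q, a * b = b * a := by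
    have hc : ∀ a, a ∈ center (↥Q ⧸ Q0.subgroupOf Q) := by
      refine key _ (one_mem _) (fun a b => mul_mem) (fun a => inv_mem) ?_ ?_
      · haveI := hqp.center_nontrivial
        obtain ⟨z, hz⟩ := exists_ne (1 : center (↥Q ⧸ Q0.subgroupOf Q))
        exact ⟨z, fun e => hz (Subtype.ext e), z.2⟩
      · intro g hg x y hxy hx
        rw [mem_center_iff]
        intro b
        obtain ⟨z, rfl⟩ := hfs b
        have hz : g⁻¹ * z * g ∈ Q := by
          simpa using (mem_normalizer_iff.1 (le_normalizer_coreSylow M K (inv_mem hg)) z).1 z.2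
        set z' : Q := ⟨g⁻¹ * z * g, hz⟩
        have h1 : f ⁅x, z'⁆ = 1 := by
          rw [map_commutatorElement, commutatorElement_eq_one_iff_commute]
          exact (mem_center_iff.1 hx _).symm
        have h2 : f ⁅y, z⁆ = 1 := by
          rw [hmem] at h1 ⊢
          have := (mem_normalizer_iff.1 (hMQ0 hg) _).1 h1
          simpa [commutatorElement_def, z', hxy, mul_assoc] using this
        rw [map_commutatorElement, commutatorElement_eq_one_iff_commute] at h2
        exact h2.symm
    exact fun a b => mem_center_iff.1 (hc b) a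
  have hpow : ∀ a : ↥Q ⧸ Q0.subgroupOf Q, a ^ q = 1 := by
    refine key _ (one_pow q) (fun a b ha hb => ?_) (fun a ha => ?_) ?_ ?_
    · rw [(show Commute a b from hcomm a b).mul_pow, ha, hb, mul_one]
    · rw [inv_pow, ha, inv_one]
    · obtain ⟨n, hn'⟩ := IsPGroup.iff_card.1 hqp
      have hd : q ∣ Nat.card (↥Q ⧸ Q0.subgroupOf Q) := by
        rw [hn']
        refine dvd_pow_self q fun h0 => ?_
        rw [h0, pow_zero] at hn'
        exact (Finite.one_lt_card (α := ↥Q ⧸ Q0.subgroupOf Q)).ne' hn'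
      obtain ⟨a, ha⟩ := exists_prime_orderOf_dvd_card' q hd
      exact ⟨a, fun e => h.prime.one_lt.ne (orderOf_one.symm.trans (e ▸ ha)),
        ha ▸ pow_orderOf_eq_one a⟩
    · intro g hg x y hxy hx
      rw [← map_pow, hmem] at hx ⊢
      have := (mem_normalizer_iff.1 (hMQ0 hg) _).1 hx
      rw [SubmonoidClass.coe_pow, hxy, conj_pow]
      exact this
  intro a ha b hb
  refine ⟨?_, ?_⟩
  · exact (hmem (⟨a, ha⟩ ^ q)).1 (by rw [map_pow]; exact hpow _)
  · exact (hmem (⟨a, ha⟩ * ⟨b, hb⟩ * ⟨a, ha⟩⁻¹ * ⟨b, hb⟩⁻¹)).1 (by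
      rw [map_mul, map_mul, map_mul, map_inv, map_inv, hcomm (f ⟨a, ha⟩)]; group)

/-- The derived subgroup of an invariant complement centralises `Q`. -/
theorem compl_derived_le (hD : IsComplIn (coreSylow M K) D (sigmaCore M))
    (hKD : K ≤ normalizer (D : Set G)) : ⁅D, D⁆ ≤ centralizer (coreSylow M K : Set G) := by
  have := Fact.mk h.prime
  obtain ⟨k, hk, hk1, p, hp, hkp⟩ := h.exists_prime_elt
  obtain ⟨hDn, hqD, -⟩ := h.compl_facts hD
  refine NilpotentPrimeAction.commutator_le_of_sylow hDn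
    (Coprime.le_normalizer_centralizer (h.le_normalizer_coreSylow' hD.2.1)) fun r _ S => ?_
  have hS : (S : Subgroup D).map D.subtype ≤ D := map_subtype_le _
  have hSn : K ≤ normalizer ((S : Subgroup D).map D.subtype : Set G) := by
    haveI := hDn
    have hnor : (S : Subgroup D).Normal :=
      ((Group.isNilpotent_of_finite_tfae (G := D)).out 0 3 (a := Group.IsNilpotent D)
        (b := ∀ (q : ℕ) (_ : Fact q.Prime) (S : Sylow q D), (S : Subgroup D).Normal)).mp hDn r
        inferInstance S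
    haveI := Sylow.characteristic_of_normal S hnor
    exact Coprime.le_normalizer_map_of_characteristic hKD (S : Subgroup D) inferInstance
  refine NilpotentPrimeAction.commutator_le_centralizer_pgroup hp (S.2.map D.subtype) (coreSylow_isPGroup h)
    (hkp ▸ pow_orderOf_eq_one k) (hSn hk) (h.le_M.trans (le_normalizer_coreSylow M K) hk)
    (hS.trans (h.le_normalizer_coreSylow' hD.2.1)) ?_ ?_ ?_
  · exact eq_bot_iff.2 ((inf_le_inf hS le_rfl).trans (h.fpf hD hk hk1).le)
  · intro hd
    rcases h.prime.dvd_mul.1 (hd.trans (dvd_of_eq (Coprime.card_sup_eq_mul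
        (zpowers_le.2 (hSn hk)) (h.inf_eq_bot (hS.trans hD.2.1) (zpowers_le.2 hk))))) with h1 | h1
    · exact hqD (h1.trans (card_dvd_of_le hS))
    · exact h.not_dvd_card_K (h1.trans (card_dvd_of_le (zpowers_le.2 hk)))
  · rw [h.coreSylow_inf_centralizer hk hk1]
    exact h.isCyclic_kStar

end CoreData

end Cfsg.Agent.OddLocal
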