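import Cfsg.Agent.OddLocal.FrobeniusLine
import Cfsg.Agent.Core.Gaschutz

/-!
BG 12.9: a subgroup of the complement of full exponent acting without fixed points on `M_σ`.
-/

set_option autoImplicit false
set_option linter.unusedSectionVars false
set_option linter.style.haveILetI false

namespace Cfsg.Agent.OddLocal

open Subgroup Cfsg
open scoped commutatorElement

universe u

variable {G : Type u} [Group G] [Finite G] {p : ℕ} [hp : Fact p.Prime] {M A E : Subgroup G}

omit hp in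
theorem exponent_eq_of_le {X Y : Subgroup G} (hXY : X ≤ Y)
    (h : ∀ y ∈ Y, orderOf y ∣ Monoid.exponent X) : Monoid.exponent X = Monoid.exponent Y := by
  refine Nat.dvd_antisymm (Monoid.exponent_dvd_of_monoidHom (inclusion hXY) (inclusion_injective hXY))
    (Monoid.exponent_dvd.mpr fun y => ?_)
  rw [← orderOf_coe]
  exact h y y.2

omit hp in
theorem orderOf_dvd_exponent_of_mem {X : Subgroup G} {x : G} (hx : x ∈ X) :
    orderOf x ∣ Monoid.exponent X :=
  (Subgroup.orderOf_coe (⟨x, hx⟩ : X)).dvd.trans (Monoid.order_dvd_exponent _)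

variable (hG : IsMinSimpleOddOrder G) (hM : IsCoatom M) (hE : IsComplIn E (sigmaCore M) M)
include hG hM hE

/-- The nonabelian case: a complement of the line `A ∩ C(M_σ)`. -/
theorem exists_exponent_nonabelian (hfr : FreeOutsideTau2 M E) (h : IsTauPair p M A) (hAE : A ≤ E)
    (hab : ∀ S : Sylow p G, ¬ IsMulCommutative (S : Subgroup G))
    (htau : ∀ q ∈ tau2 M, q = p) :
    ∃ E₀ : Subgroup G, E₀ ≤ E ∧ Monoid.exponent E₀ = Monoid.exponent E ∧
      ∀ e ∈ E₀, e ≠ 1 → sigmaCore M ⊓ centralizer ({e} : Set G) = ⊥ := by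
  set A₀ := A ⊓ centralizer (sigmaCore M : Set G) with hA₀
  obtain ⟨hcard, -⟩ := h.nonabelian_structure hG hM hab
  have hA₀c : Nat.card A₀ = p := hcard
  have hA₀E : A₀ ≤ E := inf_le_left.trans hAE
  have hA₀n : E ≤ normalizer (A₀ : Set G) :=
    Coprime.le_normalizer_inf ((h.isExceptional hG hM).le_normalizer_of_compl hG hM hE hAE)
      (Coprime.le_normalizer_centralizer (hE.1.trans (le_normalizer_sigmaCore M)))
  obtain ⟨a₀, ha₀, ha₁⟩ := exists_mem_ne_one A₀ fun e => by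
    rw [e, card_bot] at hA₀c; exact hp.out.ne_one hA₀c.symm
  have ha₀p : a₀ ^ p = 1 := h.elem.2 a₀ ha₀.1
  have hA₀z : zpowers a₀ = A₀ := h.line_eq hG hM ha₀.1 ha₁ hA₀c ha₀
  obtain ⟨T, hT⟩ := exists_sylow_ge (Coprime.ea_isPGroup h.elem) hAE
  set P := (T : Subgroup E).map E.subtype with hP
  have hPE : P ≤ E := map_subtype_le _
  have hPc := comm_of_not_sigma hG hM h.not_sigma (T.2.map E.subtype) (hPE.trans hE.1)
  have hPA : P ≤ centralizer (A : Set G) := le_centralizer_of_isMulCommutative le_rfl hT hPc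
  obtain ⟨S, hS⟩ := IsPGroup.exists_le_sylow (P := P) (T.2.map E.subtype)
  obtain ⟨C₁, -, -, hpow, hcen, -⟩ := centralizer_split hG (hT.trans hS) h.elem h.card
    (fun B hB hAB => h.maximal hG hM hB hAB) (hab S)
  have hfix : ∀ z ∈ A₀, z ≠ 1 → sigmaCore M ⊓ centralizer (zpowers z : Set G) ≠ ⊥ := by
    intro z hz hz1 hbot
    refine sigmaCore_ne_bot hG hM (le_bot_iff.mp ?_)
    rw [← hbot]
    exact le_inf le_rfl ((le_centralizer_iff.mp (inf_le_right : A₀ ≤ _)).trans
      (centralizer_le (zpowers_le.mpr hz)))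
  have hnotC : ∀ z ∈ A₀, z ≠ 1 → z ∉ C₁ := fun z hz hz1 hzC => hfix z hz hz1
    (h.central_line hG hM hab hz.1 hz1 (hcen z hzC (h.elem.2 z hz.1))).1
  -- a complement of `A₀` in `P`
  set Pp := closure ((fun y : G => y ^ p) '' (P : Set G)) with hPp
  have hPpC : Pp ≤ C₁ := by
    rw [hPp, closure_le]
    rintro _ ⟨y, hy, rfl⟩
    exact hpow y ⟨hS hy, hPA hy⟩
  have hPpP : Pp ≤ P := by
    rw [hPp, closure_le]
    rintro _ ⟨y, hy, rfl⟩
    exact P.pow_mem hy p
  obtain ⟨D, hD⟩ := (Set.toFinite {D : Subgroup G | Pp ≤ D ∧ D ≤ P ∧ a₀ ∉ D}).exists_maximal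
    ⟨Pp, le_rfl, hPpP, fun hm => hnotC a₀ ha₀ ha₁ (hPpC hm)⟩
  obtain ⟨hDp, hDP, hDa⟩ := hD.1
  have hA₀P : A₀ ≤ P := inf_le_left.trans hT
  have hcommP : ∀ y ∈ P, ∀ z ∈ P, Commute y z := fun y hy z hz =>
    congrArg (fun w : P => (w : G)) (@mul_comm' _ _ hPc ⟨y, hy⟩ ⟨z, hz⟩)
  have hnor : ∀ X Y : Subgroup G, X ≤ P → Y ≤ P → X ≤ normalizer (Y : Set G) := fun X Y hX hY =>
    (le_centralizer_of_isMulCommutative hX hY hPc).trans (centralizer_le_normalizer _)
  have hsup : A₀ ⊔ D = P := by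
    refine le_antisymm (sup_le hA₀P hDP) fun y hy => ?_
    by_cases hyD : y ∈ D
    · exact mem_sup_right hyD
    have hle : zpowers y ≤ P := zpowers_le.mpr hy
    have ha : a₀ ∈ D ⊔ zpowers y := by
      by_contra hc
      exact hyD ((hD.2 ⟨hDp.trans le_sup_left, sup_le hDP hle, hc⟩ le_sup_left)
        (mem_sup_right (mem_zpowers y)))
    obtain ⟨d, hd, w, hw, hdw⟩ := (Coprime.mem_sup_of_le_normalizer (hnor _ _ hle hDP)).mp ha
    obtain ⟨i, rfl⟩ := mem_zpowers_iff.mp hw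
    have hyp : y ^ p ∈ D := hDp (subset_closure ⟨y, hy, rfl⟩)
    have hi : ¬ (p : ℤ) ∣ i := by
      rintro ⟨j, rfl⟩
      refine hDa ?_
      rw [← hdw, zpow_mul, zpow_natCast]
      exact D.mul_mem hd (D.zpow_mem hyp j)
    obtain ⟨a, b, hab'⟩ := ((Nat.prime_iff_prime_int.mp hp.out).coprime_iff_not_dvd.mpr hi)
    have hyi : y ^ i ∈ A₀ ⊔ D := by
      have h1 : y ^ i = d⁻¹ * a₀ := by rw [← hdw, inv_mul_cancel_left]
      rw [h1]
      exact mul_mem (mem_sup_right (D.inv_mem hd)) (mem_sup_left ha₀)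
    have hy' : y = (y ^ p) ^ a * (y ^ i) ^ b := by
      rw [← zpow_natCast, ← zpow_mul, ← zpow_mul, ← zpow_add,
        show (p : ℤ) * a + i * b = 1 by linarith, zpow_one]
    rw [hy']
    exact mul_mem (mem_sup_right (D.zpow_mem hyp a)) ((A₀ ⊔ D).zpow_mem hyi b)
  have hinf : D ⊓ A₀ = ⊥ := by
    refine (eq_bot_iff_forall _).mpr fun z hz => by_contra fun hz1 => hDa ?_
    have : zpowers z = A₀ := h.line_eq hG hM hz.2.1 hz1 hA₀c hz.2
    exact (zpowers_le.mpr hz.1) (this ▸ ha₀)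
  -- Gaschütz
  haveI : (A₀.subgroupOf E).Normal := normal_subgroupOf_of_le_normalizer hA₀n
  haveI : IsMulCommutative (A₀.subgroupOf E) :=
    ⟨⟨fun a b => Subtype.ext (Subtype.ext (Coprime.ea_comm h.elem a.2.1 b.2.1))⟩⟩
  have hKU : A₀.subgroupOf E ≤ (T : Subgroup E) := fun z hz => by
    obtain ⟨w, hw, hwz⟩ := hA₀P hz
    rwa [E.subtype_injective hwz] at hw
  have hcop : (Nat.card (A₀.subgroupOf E)).Coprime (T : Subgroup E).index := by
    rw [Coprime.card_subgroupOf hA₀E, hA₀c]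
    exact hp.out.coprime_iff_not_dvd.mpr T.not_dvd_index
  obtain ⟨H, hH⟩ := Core.gaschutz_exists (U := (T : Subgroup E)) hKU hcop (A := D.subgroupOf E)
    (fun z hz => by
      obtain ⟨w, hw, hwz⟩ := hDP hz
      rwa [E.subtype_injective hwz] at hw)
    (by
      refine (eq_bot_iff_forall _).mpr fun z hz => Subtype.ext ?_
      exact (eq_bot_iff_forall _).mp hinf z ⟨hz.1, hz.2⟩)
    (by
      apply map_injective E.subtype_injective
      rw [Subgroup.map_sup, map_subgroupOf_eq_of_le hA₀E, map_subgroupOf_eq_of_le (hDP.trans hPE),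
        hsup])
  set E₀ := H.map E.subtype with hE₀
  refine ⟨E₀, map_subtype_le _, exponent_eq_of_le (map_subtype_le _) fun e he => ?_,
    fun e he he1 => ?_⟩
  · set N := Monoid.exponent E₀ with hN
    have hHN : ∀ z ∈ H, z ^ N = 1 := fun z hz => by
      have h1 := orderOf_dvd_exponent_of_mem (mem_map_of_mem E.subtype hz)
      rw [E.coe_subtype, orderOf_coe] at h1
      exact orderOf_dvd_iff_pow_eq_one.mp h1
    have hmem : e ^ N ∈ A₀ := by
      obtain ⟨⟨⟨a, haK⟩, ⟨z, hz⟩⟩, haz⟩ := hH.2 ⟨e, he⟩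
      change a * z = (⟨e, he⟩ : E) at haz
      have h1 : QuotientGroup.mk' (A₀.subgroupOf E) ((⟨e, he⟩ : E) ^ N) = 1 := by
        rw [← haz, map_pow, map_mul,
          (MonoidHom.mem_ker).mp ((QuotientGroup.ker_mk' (A₀.subgroupOf E)).ge haK), one_mul,
          ← map_pow, hHN z hz, map_one]
      rw [← MonoidHom.mem_ker, QuotientGroup.ker_mk'] at h1
      exact h1
    refine orderOf_dvd_of_pow_eq_one (by_contra fun hne => ?_)
    have hpN : p ∣ N := by
      have h1 : p ∣ Nat.card H := by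
        have h2 := hH.card_mul_card
        rw [Coprime.card_subgroupOf hA₀E, hA₀c] at h2
        have h3 : p ^ 2 ∣ Nat.card E := h.card ▸ card_dvd_of_le hAE
        rw [← h2, pow_two] at h3
        exact Nat.dvd_of_mul_dvd_mul_left hp.out.pos h3
      obtain ⟨z, hz⟩ := exists_prime_orderOf_dvd_card' p h1
      have h4 := orderOf_dvd_exponent_of_mem (mem_map_of_mem E.subtype z.2)
      rwa [E.coe_subtype, orderOf_coe, orderOf_coe, hz] at h4
    set w := e ^ (N / p) with hw
    have hwp : w ^ p = e ^ N := by rw [hw, ← pow_mul, Nat.div_mul_cancel hpN]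
    have hwg : IsPGroup p (zpowers w) := by
      have h1 : w ^ p ^ 2 = 1 := by rw [pow_two, pow_mul, hwp, h.elem.2 _ hmem.1]
      obtain ⟨i, -, hi⟩ := (Nat.dvd_prime_pow hp.out).mp (orderOf_dvd_of_pow_eq_one h1)
      exact IsPGroup.of_card (n := i) (by rw [Nat.card_zpowers, hi])
    have hwE : w ∈ E := E.pow_mem he _
    have hK : IsPGroup p ↥(zpowers w ⊔ A) := hwg.to_sup_of_normal_right'
      (Coprime.ea_isPGroup h.elem) (zpowers_le.mpr
        ((h.isExceptional hG hM).le_normalizer_of_compl hG hM hE hAE hwE))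
    have hc := comm_of_not_sigma hG hM h.not_sigma hK (sup_le (zpowers_le.mpr (hE.1 hwE)) h.le)
    have hwA : w ∈ centralizer (A : Set G) :=
      le_centralizer_of_isMulCommutative le_rfl le_sup_right hc (mem_sup_left (mem_zpowers w))
    obtain ⟨S', hS'⟩ := hK.exists_le_sylow
    obtain ⟨C', -, -, hpow', hcen', -⟩ := centralizer_split hG (le_sup_right.trans hS') h.elem
      h.card (fun B hB hAB => h.maximal hG hM hB hAB) (hab S')
    exact hfix _ hmem hne (h.central_line hG hM hab hmem.1 hne (hcen' _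
      (hwp ▸ hpow' w ⟨hS' (mem_sup_left (mem_zpowers w)), hwA⟩) (h.elem.2 _ hmem.1))).1
  · refine (eq_bot_iff_forall _).mpr fun x hx => by_contra fun hx1 => he1 ?_
    obtain ⟨z, hz, rfl⟩ := he
    have h1 : (z : G) ∈ A₀ := mem_line_of_fixed hG hM hE hfr h hAE hab htau z.2 hx.1 hx1
      (mem_centralizer_singleton_iff.mp hx.2).symm
    have h2 : z ∈ A₀.subgroupOf E ⊓ H := ⟨h1, hz⟩
    rw [hH.disjoint.eq_bot, mem_bot] at h2
    rw [h2, map_one]

omit hp in
/-- BG 12.9: a subgroup of `E` of full exponent acting without fixed points on `M_σ`. -/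
theorem exists_exponent_subgroup (hfr : FreeOutsideTau2 M E) :
    ∃ E₀ : Subgroup G, E₀ ≤ E ∧ Monoid.exponent E₀ = Monoid.exponent E ∧
      ∀ e ∈ E₀, e ≠ 1 → sigmaCore M ⊓ centralizer ({e} : Set G) = ⊥ := by
  classical
  by_cases hab : AbelianTau2 M
  swap
  · unfold AbelianTau2 at hab
    push Not at hab
    obtain ⟨p, hp, hp2, S₀, hS₀⟩ := hab
    have hnab : ∀ S : Sylow p G, ¬ IsMulCommutative (S : Subgroup G) := fun S hc => hS₀ (by
      obtain ⟨g, hg⟩ := MulAction.exists_smul_eq G S S₀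
      rw [← hg, Sylow.coe_subgroup_smul]
      exact @Subgroup.map_isMulCommutative _ _ _ _ (S : Subgroup G) _ hc)
    have htau : ∀ q ∈ tau2 M, q = p := by
      intro q hq
      by_contra hqp
      have : Fact q.Prime := ⟨hq.1⟩
      exact hS₀ (sylow_comm_of_two hG hM hp2 hq hqp S₀)
    obtain ⟨A, hAE, h⟩ := exists_plane_in_compl hG hM hE hp2
    exact exists_exponent_nonabelian hG hM hE hfr h hAE hnab htau
  have hEs : Group.IsSolvable E := Coprime.isSolvable_of_le hE.1 (isSolvable_coatom hG hM)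
  obtain ⟨K, hK⟩ := Coprime.exists_isPiHallOf hEs {r | r ∉ tau2 M}
  have hC : ∀ q : {q : ℕ // q.Prime ∧ q ∈ tau2 M}, ∃ C : Subgroup G, C ≤ E ∧ IsPGroup q.1 C ∧
      K ≤ normalizer (C : Set G) ∧
      (∀ y ∈ E, (∃ j : ℕ, y ^ q.1 ^ j = 1) → ∃ c ∈ C, orderOf y ∣ orderOf c) ∧
      ∀ c ∈ C, c ^ q.1 = 1 → c ≠ 1 → sigmaCore M ⊓ centralizer (zpowers c : Set G) = ⊥ := by
    rintro ⟨q, hq, hq2⟩
    haveI := Fact.mk hq
    obtain ⟨A, hAE, h⟩ := exists_plane_in_compl hG hM hE hq2
    exact h.exists_cyclic_factor hG hM hE hAE (fun S => hab q hq2 S) hfr hK.1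
      fun r hr hd => hK.2.1 r hr hd
  choose C hCE hCp hCK hCexp hCfpf using hC
  set D := closure {x : G | ∃ q, x ∈ C q} with hD
  have hT2comm := tau2Part_comm hG hM hE hab
  have hgen : ∀ q, ∀ x ∈ C q, ∃ k : ℕ, x ^ q.1 ^ k = 1 := fun q x hx => by
    obtain ⟨k, hk⟩ := hCp q ⟨x, hx⟩
    exact ⟨k, congrArg Subtype.val hk⟩
  have hDT : D ≤ tau2Part M E := by
    rw [hD, closure_le]
    rintro x ⟨q, hx⟩
    exact subset_closure ⟨hCE q hx, q.1, q.2.1, q.2.2, hgen q x hx⟩
  have hDK : K ≤ normalizer (D : Set G) := by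
    intro k hk
    refine mem_normalizer_of_map_conj (eq_of_le_of_card_ge ?_ (card_map_conj _ _).ge)
    rw [hD, MonoidHom.map_closure, closure_le]
    rintro _ ⟨x, ⟨q, hx⟩, rfl⟩
    exact subset_closure ⟨q, (mem_normalizer_iff.mp (hCK q hk) x).mp hx⟩
  have hcommT : ∀ a ∈ tau2Part M E, ∀ b ∈ tau2Part M E, Commute a b := fun a ha b hb =>
    congrArg (fun z : tau2Part M E => (z : G)) (@mul_comm' _ _ hT2comm ⟨a, ha⟩ ⟨b, hb⟩)
  -- orders coprime to a given prime
  have hcopord : ∀ (r : ℕ), r.Prime → ∀ x ∈ E, (¬ r ∣ orderOf x) →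
      x ^ (Nat.card E / r ^ (Nat.card E).factorization r) = 1 := by
    intro r hr x hx hnd
    apply orderOf_dvd_iff_pow_eq_one.mp
    refine (Nat.Coprime.pow_right ((Nat.card E).factorization r)
      (hr.coprime_iff_not_dvd.mpr hnd).symm).dvd_of_dvd_mul_right
      (m := Nat.card E / r ^ (Nat.card E).factorization r) ?_
    rw [mul_comm, Nat.ordProj_mul_ordCompl_eq_self]
    exact Subgroup.orderOf_dvd_natCard E hx
  have hnd : ∀ (r s : ℕ), r.Prime → s.Prime → r ≠ s → ∀ x : G, (∃ k : ℕ, x ^ s ^ k = 1) →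
      ¬ r ∣ orderOf x := by
    rintro r s hr hs hrs x ⟨k, hk⟩ hd
    exact hrs ((Nat.prime_dvd_prime_iff_eq hr hs).mp
      (hr.dvd_of_dvd_pow (hd.trans (orderOf_dvd_of_pow_eq_one hk))))
  have hKT : ∀ x ∈ K, x ∈ tau2Part M E → x = 1 := by
    intro x hxK hxT
    by_contra hx1
    obtain ⟨r, hr, hrd⟩ := Nat.exists_prime_and_dvd (mt orderOf_eq_one_iff.mp hx1)
    have hr2 : r ∉ tau2 M := hK.2.1 r hr (hrd.trans (Subgroup.orderOf_dvd_natCard K hxK))
    have h1 : ∀ y ∈ tau2Part M E, y ^ (Nat.card E / r ^ (Nat.card E).factorization r) = 1 := by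
      intro y hy
      induction hy using closure_induction with
      | mem y hy =>
        obtain ⟨hyE, s, hs, hs2, hk⟩ := hy
        exact hcopord r hr y hyE (hnd r s hr hs (fun e => hr2 (e ▸ hs2)) y hk)
      | one => exact one_pow _
      | mul a b ha hb iha ihb => rw [(hcommT a ha b hb).mul_pow, iha, ihb, one_mul]
      | inv a _ iha => rw [inv_pow, iha, inv_one]
    exact Nat.not_dvd_ordCompl hr Nat.card_pos.ne'
      (hrd.trans (orderOf_dvd_of_pow_eq_one (h1 x hxT)))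
  refine ⟨D ⊔ K, sup_le (hDT.trans (tau2Part_le M E)) hK.1,
    exponent_eq_of_le (sup_le (hDT.trans (tau2Part_le M E)) hK.1) fun e he => ?_, fun e he he1 => ?_⟩
  · rw [Nat.dvd_iff_prime_pow_dvd_dvd]
    intro r k hr hrk
    haveI := Fact.mk hr
    set y := e ^ (orderOf e / r ^ k) with hy
    have hyo : orderOf y = r ^ k := orderOf_pow_orderOf_div (orderOf_pos e).ne' hrk
    have hyE : y ∈ E := E.pow_mem he _
    by_cases hr2 : r ∈ tau2 M
    · obtain ⟨c, hc, hcd⟩ := hCexp ⟨r, hr, hr2⟩ y hyE ⟨k, by rw [← hyo, pow_orderOf_eq_one]⟩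
      rw [← hyo]
      exact hcd.trans (orderOf_dvd_exponent_of_mem (mem_sup_left (subset_closure ⟨_, hc⟩)))
    · obtain ⟨H₁, hH₁, -, hyH⟩ := Coprime.exists_le_invariant_hall (A := (⊥ : Subgroup G))
        (K := E) bot_le (by rw [card_bot]; exact Nat.coprime_one_left _) hEs (zpowers_le.mpr hyE)
        bot_le (π := {r | r ∉ tau2 M}) (fun s hs hd => by
          rw [Nat.card_zpowers, hyo] at hd
          rwa [Set.mem_setOf_eq, (Nat.prime_dvd_prime_iff_eq hs hr).mp (hs.dvd_of_dvd_pow hd)])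
      obtain ⟨g, -, hg⟩ := Coprime.exists_conj_isPiHallOf hEs hH₁ hK
      have hgy : MulAut.conj g y ∈ K :=
        hg ▸ mem_map_of_mem (MulAut.conj g).toMonoidHom (hyH (mem_zpowers y))
      rw [← hyo, ← (MulAut.conj g).orderOf_eq]
      exact orderOf_dvd_exponent_of_mem (mem_sup_right hgy)
  · refine (eq_bot_iff_forall _).mpr fun x hx => by_contra fun hx1 => he1 ?_
    obtain ⟨d, hd, k, hk, rfl⟩ := (Coprime.mem_sup_of_le_normalizer hDK).mp he
    have hex : Commute (d * k) x := (mem_centralizer_singleton_iff.mp hx.2).symm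
    have hdkE : d * k ∈ E := E.mul_mem ((hDT.trans (tau2Part_le M E)) hd) (hK.1 hk)
    have hdk := mem_tau2Part_of_fixed hG hM hE hfr hdkE hx.1 hx1 hex
    have hk1 : k = 1 := hKT k hk (by
      have h1 := mul_mem (inv_mem (hDT hd)) hdk
      rwa [inv_mul_cancel_left] at h1)
    subst hk1
    rw [mul_one] at hex ⊢
    by_contra hd1
    obtain ⟨r, hr, hrd⟩ := Nat.exists_prime_and_dvd (mt orderOf_eq_one_iff.mp hd1)
    have hr2 : r ∈ tau2 M :=
      tau2_of_fixed hG hM hE hfr ((hDT.trans (tau2Part_le M E)) hd) hx.1 hx1 hex hr hrd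
    set q : {q : ℕ // q.Prime ∧ q ∈ tau2 M} := ⟨r, hr, hr2⟩
    set z := d ^ (orderOf d / r) with hz
    have hzo : orderOf z = r := orderOf_pow_orderOf_div (orderOf_pos d).ne' hrd
    set N := Nat.card E / r ^ (Nat.card E).factorization r with hN
    have h1 : ∀ y ∈ D, y ^ N ∈ C q := by
      intro y hy
      induction hy using closure_induction with
      | mem y hy =>
        obtain ⟨s, hys⟩ := hy
        by_cases hsq : s = q
        · subst hsq
          exact (C q).pow_mem hys N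
        · rw [hcopord r hr y (hCE s hys) (hnd r s.1 hr s.2.1
            (fun e => hsq (Subtype.ext e.symm)) y (hgen s y hys))]
          exact one_mem _
      | one => rw [one_pow]; exact one_mem _
      | mul a b ha hb iha ihb =>
        rw [(hcommT a (hDT ha) b (hDT hb)).mul_pow]
        exact mul_mem iha ihb
      | inv a _ iha => rw [inv_pow]; exact inv_mem iha
    have hzC : z ∈ C q := by
      obtain ⟨i, hi⟩ := exists_pow_eq_self_of_coprime (x := z) (n := N)
        (by rw [hzo]; exact (hr.coprime_iff_not_dvd.mpr (Nat.not_dvd_ordCompl hr Nat.card_pos.ne')).symm)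
      rw [← hi]
      exact pow_mem (h1 z (D.pow_mem hd _)) i
    have hfpf := hCfpf q z hzC (by show z ^ r = 1; rw [← hzo, pow_orderOf_eq_one])
      (fun e => hr.ne_one (by rw [← hzo, e, orderOf_one]))
    exact hx1 ((eq_bot_iff_forall _).mp hfpf x
      ⟨hx.1, mem_centralizer_zpowers (hex.pow_left _)⟩)

end Cfsg.Agent.OddLocal
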