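import Cfsg.Agent.OddLocal.KappaNormalizer

/-!
BG 14.11: the maximal subgroups over `N(R)` for a Sylow subgroup `R` of `U`.
-/

set_option autoImplicit false
set_option linter.unusedSectionVars false
set_option linter.style.haveILetI false

namespace Cfsg.Agent.OddLocal

open Subgroup Cfsg
open scoped commutatorElement

universe u

variable {G : Type u} [Group G] [Finite G] {M L H E K U : Subgroup G}

theorem normalizer_le_normalizer_sylow {U : Subgroup G} (hU : IsMulCommutative U) {r : ℕ}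
    [Fact r.Prime] (R : Sylow r U) :
    normalizer (U : Set G) ≤
      normalizer (((R : Subgroup U).map U.subtype : Subgroup G) : Set G) := by
  haveI := hU
  intro n hn
  refine mem_normalizer_of_map_conj (eq_of_le_of_card_ge ?_ (by rw [card_map_conj]))
  rintro _ ⟨_, ⟨x, hx, rfl⟩, rfl⟩
  have hxU : n * (x : G) * n⁻¹ ∈ U := (mem_normalizer_iff.mp hn x).mp x.2
  set x' : U := ⟨_, hxU⟩ with hx'
  obtain ⟨k, hk⟩ := R.2 ⟨x, hx⟩
  have hk' : x' ^ r ^ k = 1 := by
    refine Subtype.ext ?_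
    have h1 : ((x : U) : G) ^ r ^ k = 1 := congrArg (fun a : (R : Subgroup U) => ((a : U) : G)) hk
    simp [hx', conj_pow, h1]
  obtain ⟨i, -, hi⟩ := (Nat.dvd_prime_pow Fact.out).mp (orderOf_dvd_of_pow_eq_one hk')
  obtain ⟨T, hT⟩ := (IsPGroup.of_card (p := r) (n := i)
    (show Nat.card (zpowers x') = r ^ i by rw [Nat.card_zpowers, hi])).exists_le_sylow
  obtain ⟨c, hc⟩ := MulAction.exists_smul_eq U R T
  rw [Sylow.smul_eq_of_normal] at hc
  subst hc
  exact ⟨x', hT (mem_zpowers x'), rfl⟩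

variable (hG : IsMinSimpleOddOrder G) (hM : IsCoatom M)
include hG hM

theorem exists_sylow_of_decomp (h : IsSigmaDecomposition M K U) {r : ℕ} [Fact r.Prime]
    (hr : r ∣ Nat.card U) (R : Sylow r U) :
    ∃ P : Sylow r M, (P : Subgroup M).map M.subtype = (R : Subgroup U).map U.subtype := by
  obtain ⟨hE, hUp⟩ := sigmaDecomposition_compl hG hM h
  refine exists_sylow_of_relIndex h.compl.1 (fun hd => ?_) R
  rw [← relIndex_mul_relIndex U (U ⊔ K) M le_sup_left hE.1] at hd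
  rcases (Fact.out : r.Prime).dvd_mul.mp hd with h1 | h1
  · have h2 : U.relIndex (U ⊔ K) ∣ Nat.card K := Nat.dvd_of_mul_dvd_mul_left Nat.card_pos
      (Coprime.card_mul_relIndex_of_le (le_sup_left : U ≤ U ⊔ K) ▸ card_sup_dvd_mul h.normal)
    exact (hUp r Fact.out hr).1 (h.hall.2.1 r Fact.out (h1.trans h2))
  · exact (compl_isPiHallOf hG hM hE).2.2 r Fact.out (hUp r Fact.out hr).2 h1

variable (h : IsSigmaDecomposition M K U) (hK1 : K ≠ ⊥) (hU1 : U ≠ ⊥) (hL : IsCoatom L)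
  (hKst : K = kStar L (kStar M K)) (hKH : IsPiHallOf (kappa L) (kStar M K) L) (hH : IsCoatom H)
  {r : ℕ} [Fact r.Prime] (hr : r ∣ Nat.card U) (R : Sylow r U)
  (hNR : normalizer (((R : Subgroup U).map U.subtype : Subgroup G) : Set G) ≤ H)
include h hK1 hU1 hL hKst hKH hH hr hNR

/-- The properties of `H` needed for the lemmas on `H` outside the pair. -/
theorem over_normalizer :
    U ≤ H ∧ K ≤ H ∧ normalizer (U : Set G) ≤ H ∧
      (∀ g : G, H ≠ M.map (MulAut.conj g).toMonoidHom) ∧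
      ∀ g : G, H ≠ L.map (MulAut.conj g).toMonoidHom := by
  obtain ⟨hE, hUp⟩ := sigmaDecomposition_compl hG hM h
  obtain ⟨hUc, hUn, -⟩ := sigmaDecomposition_structure hG hM h hK1
  have hNU : normalizer (U : Set G) ≤ H := (normalizer_le_normalizer_sylow hUc R).trans hNR
  have hUH : U ≤ H := Subgroup.le_normalizer.trans hNU
  have hKle : K ≤ H := h.normal.trans hNU
  have hnM : H ≠ M := by
    intro e
    obtain ⟨P, hP⟩ := exists_sylow_of_decomp hG hM h hr R
    obtain ⟨n, hn, hnM⟩ := exists_not_mem_normalizer hG hM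
      (hr.trans (card_dvd_of_le h.compl.1)) (hUp r Fact.out hr).2 P
    rw [hP] at hn
    exact hnM (e ▸ hNR hn)
  refine ⟨hUH, hKle, hNU, fun g hg => ?_, fun g hg => ?_⟩
  · -- not conjugate to `M`
    have hEH : U ⊔ K ≤ H := sup_le hUH hKle
    set E' := (U ⊔ K).map (MulAut.conj g).toMonoidHom with hE'
    have hE'H : E' ≤ H := hg ▸ map_mono hE.1
    have hc : IsComplIn E' (sigmaCore H) H := by
      refine ⟨hE'H, sigmaCore_le H, ?_, fun x hx => ?_⟩
      · rw [hg, sigmaCore_map_conj hG hM, hE', ← Subgroup.map_inf _ _ _ (MulAut.conj g).injective,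
          hE.2.2.1, Subgroup.map_bot]
      · rw [hg, mem_map_conj_iff] at hx
        obtain ⟨a, ha, b, hb, hab⟩ := hE.2.2.2 _ hx
        refine ⟨g * a * g⁻¹, mem_map_of_mem (MulAut.conj g).toMonoidHom ha, g * b * g⁻¹, ?_, ?_⟩
        · rw [hg, sigmaCore_map_conj hG hM]
          exact mem_map_of_mem (MulAut.conj g).toMonoidHom hb
        · calc x = g * (g⁻¹ * x * g) * g⁻¹ := by group
            _ = _ := by rw [hab]; group
    obtain ⟨m, hm, hle⟩ := exists_conj_le_of_relIndex (π := {l | l ∉ sigma H})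
      (isSolvable_coatom hG hH) hE'H (compl_isPiHallOf hG hH hc).2.2 hEH
      (fun l hl hd => by
        rw [hg, sigma_map_conj]
        exact compl_prime_not_sigma hG hM hE hl hd)
    set n := g⁻¹ * m with hn
    have hnE : (U ⊔ K).map (MulAut.conj n).toMonoidHom = U ⊔ K := by
      refine eq_of_le_of_card_ge ?_ (by rw [card_map_conj])
      rw [hn, ← map_conj_map_conj]
      exact (map_mono hle).trans (by rw [hE', map_conj_inv_cancel])
    have hnH : H.map (MulAut.conj n).toMonoidHom = M := by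
      rw [hn, ← map_conj_map_conj, map_conj_eq_self_of_mem (Subgroup.le_normalizer hm), hg,
        map_conj_inv_cancel]
    have hnU : n ∈ normalizer (U : Set G) := by
      refine mem_normalizer_of_map_conj (eq_of_le_of_card_ge ?_ (by rw [card_map_conj]))
      refine mem_of_isPiHallOf_normal (π := {s | s ∉ kappa M}) (M := U ⊔ K)
        ⟨le_sup_left, fun s hs hd => (hUp s hs hd).1, fun s hs hsκ hd => ?_⟩ hUn
        ((map_mono le_sup_left).trans hnE.le) (fun s hs hd => (hUp s hs (by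
          rwa [card_map_conj] at hd)).1)
      have h2 : U.relIndex (U ⊔ K) ∣ Nat.card K := Nat.dvd_of_mul_dvd_mul_left Nat.card_pos
        (Coprime.card_mul_relIndex_of_le (le_sup_left : U ≤ U ⊔ K) ▸ card_sup_dvd_mul h.normal)
      exact hsκ (h.hall.2.1 s hs (hd.trans h2))
    rw [map_conj_eq_self_of_mem (Subgroup.le_normalizer (hNU hnU))] at hnH
    exact hnM hnH
  · -- not conjugate to `M*`
    obtain ⟨y, hy, hy1⟩ := exists_mem_ne_one _ hK1
    have hs1 := IsMember.kStar_ne_bot hG (⟨hM, h.hall, hK1, rfl⟩ : IsMember (K ⊔ kStar M K) M K)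
    have hgL : g ∈ L := by
      by_contra hc
      exact hy1 ((eq_bot_iff_forall _).mp (kappa_fixed_inf_conj hG hL hKH hs1 hc) y
        ⟨hKst.le hy, hg ▸ hKle hy⟩)
    rw [map_conj_eq_self_of_mem (Subgroup.le_normalizer hgL)] at hg
    obtain ⟨⟨u, hu⟩, huo⟩ := exists_prime_orderOf_dvd_card' r hr
    rw [← orderOf_coe] at huo
    change orderOf u = r at huo
    have huW : u ∈ K ⊔ kStar M K :=
      (inf_partner_eq hG hM h.hall hK1 hL hKst hKH).le ⟨h.compl.1 hu, hg ▸ hUH hu⟩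
    have hd := Subgroup.orderOf_dvd_natCard _ huW
    rw [huo, kappa_W_card hG hM h.hall] at hd
    rcases (Fact.out : r.Prime).dvd_mul.mp hd with h1 | h1
    · exact (hUp r Fact.out hr).1 (h.hall.2.1 r Fact.out h1)
    · exact (hUp r Fact.out hr).2
        (piNum_sigmaCore M r Fact.out (h1.trans (card_dvd_of_le inf_le_left)))

/-- BG 14.11: `U ≤ H_σ`. -/
theorem U_le_sigmaCore : U ≤ sigmaCore H := by
  obtain ⟨hUH, hKle, -, hncM, hncL⟩ := over_normalizer hG hM h hK1 hU1 hL hKst hKH hH hr R hNR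
  obtain ⟨hUc, -, hfree⟩ := sigmaDecomposition_structure hG hM h hK1
  refine le_sigmaCore hG hH hUH fun s hs hd => ?_
  haveI := Fact.mk hs
  by_contra hsσ
  obtain ⟨⟨v, hv⟩, hvo⟩ := exists_prime_orderOf_dvd_card' s hd
  rw [← orderOf_coe] at hvo
  change orderOf v = s at hvo
  haveI := hUc
  let Q : Subgroup G :=
    { carrier := {x | x ∈ U ∧ x ^ s = 1}
      one_mem' := ⟨one_mem _, one_pow _⟩
      mul_mem' := fun {a b} ha hb => ⟨U.mul_mem ha.1 hb.1, by
        rw [(show Commute a b from setLike_mul_comm ha.1 hb.1).mul_pow, ha.2, hb.2, one_mul]⟩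
      inv_mem' := fun {a} ha => ⟨U.inv_mem ha.1, by rw [inv_pow, ha.2, inv_one]⟩ }
  have hQn : K ≤ normalizer (Q : Set G) := fun k hk => mem_normalizer_of_map_conj
    (eq_of_le_of_card_ge (by
      rintro _ ⟨a, ha, rfl⟩
      exact ⟨(mem_normalizer_iff.mp (h.normal hk) a).mp ha.1,
        by rw [← map_pow, ha.2, map_one]⟩) (by rw [card_map_conj]))
  obtain ⟨E, hE, hle⟩ := exists_compl_ge_of_not_sigma hG hH
    (sup_le (fun x hx => hUH hx.1) hKle : Q ⊔ K ≤ H) (fun l hl hld => by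
      rcases hl.dvd_mul.mp (hld.trans (card_sup_dvd_mul hQn)) with h1 | h1
      · have hQp : IsPGroup s Q := fun x => ⟨1, Subtype.ext (by simpa using x.2.2)⟩
        obtain ⟨j, hj⟩ := IsPGroup.iff_card.mp hQp
        rw [(Nat.prime_dvd_prime_iff_eq hl hs).mp (hl.dvd_of_dvd_pow (hj ▸ h1))]
        exact hsσ
      · exact outside_not_sigma hG hM h hK1 hU1 hL hKst hKH hH hKle hncM hncL hl h1)
  have hc := outside_compl_le hG hM h hK1 hU1 hL hKst hKH hH hKle hncM hncL hE
    (le_sup_right.trans hle)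
  obtain ⟨y, hy, hy1⟩ := exists_mem_ne_one _ hK1
  have hvC : v ∈ centralizer ({y} : Set G) :=
    centralizer_le (Set.singleton_subset_iff.mpr hy)
      (hc (hle (mem_sup_left ⟨hv, by rw [← hvo, pow_orderOf_eq_one]⟩)))
  have hv1 : v = 1 := mem_bot.mp (hfree y hy hy1 ▸
    (⟨hv, hvC⟩ : v ∈ U ⊓ centralizer ({y} : Set G)))
  rw [hv1, orderOf_one] at hvo
  exact hs.ne_one hvo.symm

/-- BG 14.11: `M ∩ H = U K`. -/
theorem inf_over_eq : M ⊓ H = U ⊔ K := by
  obtain ⟨hUH, hKle, -, hncM, -⟩ := over_normalizer hG hM h hK1 hU1 hL hKst hKH hH hr R hNR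
  have hUσ := U_le_sigmaCore hG hM h hK1 hU1 hL hKst hKH hH hr R hNR
  obtain ⟨hE, -⟩ := sigmaDecomposition_compl hG hM h
  refine le_antisymm (fun x hx => ?_) (le_inf hE.1 (sup_le hUH hKle))
  obtain ⟨a, ha, b, hb, rfl⟩ := hE.2.2.2 x hx.1
  have hbH : b ∈ H := (H.mul_mem_cancel_left ((sup_le hUH hKle) ha)).mp hx.2
  have hbot : sigmaCore M ⊓ sigmaCore H = ⊥ := by
    refine Coprime.inf_eq_bot_of_coprime (Nat.coprime_of_dvd fun q hq h1 h2 => ?_)
    haveI := Fact.mk hq
    obtain ⟨g, hg⟩ := exists_conj_of_sigma_inter hG hM hH (piNum_sigmaCore M q hq h1)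
      (piNum_sigmaCore H q hq h2)
    exact hncM g hg
  have hb0 : b ∈ sigmaCore M ⊓ centralizer (U : Set G) := by
    refine ⟨hb, mem_centralizer_iff.mpr fun u hu => ?_⟩
    have h1 : u * b * u⁻¹ * b⁻¹ ∈ sigmaCore M ⊓ sigmaCore H := by
      refine ⟨(sigmaCore M).mul_mem ((mem_normalizer_iff.mp
        (le_normalizer_sigmaCore M (h.compl.1 hu)) b).mp hb) ((sigmaCore M).inv_mem hb), ?_⟩
      have h2 := (sigmaCore H).mul_mem (hUσ hu)
        ((mem_normalizer_iff.mp (le_normalizer_sigmaCore H hbH) u⁻¹).mp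
          ((sigmaCore H).inv_mem (hUσ hu)))
      simpa [mul_assoc] using h2
    rw [hbot, mem_bot, mul_inv_eq_one, mul_inv_eq_iff_eq_mul] at h1
    exact h1
  rw [sigmaCore_inf_centralizer_U hG hM h hK1 hU1, mem_bot] at hb0
  rw [hb0, mul_one]
  exact ha

/-- BG 14.11: `N_H(U) ⊄ M`. -/
theorem normalizer_U_not_le : ¬ H ⊓ normalizer (U : Set G) ≤ M := by
  obtain ⟨hUH, hKle, hNU, hncM, hncL⟩ := over_normalizer hG hM h hK1 hU1 hL hKst hKH hH hr R hNR
  have hUσ := U_le_sigmaCore hG hM h hK1 hU1 hL hKst hKH hH hr R hNR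
  have hp := card_kappa_prime hG hM h hK1 hU1
  obtain ⟨y, hy, hy1⟩ := exists_mem_ne_one _ hK1
  have hnil : Group.IsNilpotent (sigmaCore H) := FixedPointFree.isNilpotent_of_fpf hp (c := y)
    (orderOf_dvd_iff_pow_eq_one.mp (Subgroup.orderOf_dvd_natCard K hy))
    (le_normalizer_sigmaCore H (hKle hy))
    (Coprime.isSolvable_of_le (sigmaCore_le H) (isSolvable_coatom hG hH))
    (outside_fixed_eq_bot hG hM h hK1 hU1 hL hKst hKH hH hKle hncM hncL hy hy1)
  intro hle
  by_cases hUH' : U = sigmaCore H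
  · refine hncM 1 ?_
    rw [map_conj_eq_self_of_mem (one_mem _)]
    have hHM : H ≤ M := fun x hx => hle ⟨hx, by rw [hUH']; exact le_normalizer_sigmaCore H hx⟩
    rcases hH.le_iff.mp hHM with h1 | h1
    · exact absurd h1 hM.1
    · exact h1.symm
  have hlt := (hUσ.lt_of_ne hUH')
  haveI := hnil
  obtain ⟨n, hn, hnU⟩ : ∃ n ∈ sigmaCore H ⊓ normalizer (U : Set G), n ∉ U := by
    have h1 : U.subgroupOf (sigmaCore H) < ⊤ := by
      refine lt_top_iff_ne_top.mpr fun e => hUH' (le_antisymm hUσ ?_)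
      rwa [subgroupOf_eq_top] at e
    obtain ⟨n, hn1, hn2⟩ := SetLike.exists_of_lt (normalizerCondition_of_isNilpotent _ h1)
    refine ⟨n, ⟨n.2, ?_⟩, fun hc => hn2 hc⟩
    refine mem_normalizer_of_map_conj (eq_of_le_of_card_ge ?_ (by rw [card_map_conj]))
    rintro _ ⟨u, hu, rfl⟩
    exact (mem_normalizer_iff.mp hn1 ⟨u, hUσ hu⟩).mp hu
  have h2 : n ∈ M ⊓ H := ⟨hle ⟨sigmaCore_le H hn.1, hn.2⟩, sigmaCore_le H hn.1⟩
  rw [inf_over_eq hG hM h hK1 hU1 hL hKst hKH hH hr R hNR] at h2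
  obtain ⟨u, hu, k, hk, rfl⟩ := (Coprime.mem_sup_of_le_normalizer h.normal).mp h2
  have hk1 : k ∈ sigmaCore H := (Subgroup.mul_mem_cancel_left _ (hUσ hu)).mp hn.1
  have hk0 : k = 1 := by
    refine (orderOf_eq_one_iff.mp ?_)
    by_contra hne
    obtain ⟨s, hs, hsd⟩ := Nat.exists_prime_and_dvd hne
    exact outside_not_sigma hG hM h hK1 hU1 hL hKst hKH hH hKle hncM hncL hs
      (hsd.trans (Subgroup.orderOf_dvd_natCard K hk)) (prime_mem_sigma_of_mem hG hH hk1 hs hsd)
  exact hnU (by rw [hk0, mul_one]; exact hu)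

/-- BG 14.11: `H ∩ M*` complements `H_σ` and has `K` in its Fitting subgroup. -/
theorem inf_partner_compl : IsComplIn (H ⊓ L) (sigmaCore H) H ∧ K ≤ fittingOf (H ⊓ L) := by
  obtain ⟨-, hKle, -, hncM, hncL⟩ := over_normalizer hG hM h hK1 hU1 hL hKst hKH hH hr R hNR
  obtain ⟨y, hy, hy1⟩ := exists_mem_ne_one _ hK1
  obtain ⟨E, hE, hKE⟩ := exists_compl_ge_of_not_sigma hG hH hKle
    (fun s hs hd => outside_not_sigma hG hM h hK1 hU1 hL hKst hKH hH hKle hncM hncL hs hd)
  have hEC := outside_compl_le hG hM h hK1 hU1 hL hKst hKH hH hKle hncM hncL hE hKE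
  obtain ⟨hCy, -⟩ := outside_centralizer hG hM h hK1 hU1 hL hKst hKH hy hy1
  have hEL : E ≤ L := fun e he => hCy (centralizer_le (Set.singleton_subset_iff.mpr hy) (hEC he))
  have hbot : sigmaCore H ⊓ sigmaCore L = ⊥ := by
    refine Coprime.inf_eq_bot_of_coprime (Nat.coprime_of_dvd fun q hq h1 h2 => ?_)
    haveI := Fact.mk hq
    obtain ⟨g, hg⟩ := exists_conj_of_sigma_inter hG hL hH (piNum_sigmaCore L q hq h2)
      (piNum_sigmaCore H q hq h1)
    exact hncL g hg
  have hfix := outside_fixed_eq_bot hG hM h hK1 hU1 hL hKst hKH hH hKle hncM hncL hy hy1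
  have hyL : y ∈ sigmaCore L := (hKst.le hy).1
  have heq : H ⊓ L = E := by
    refine le_antisymm (fun x hx => ?_) (le_inf hE.1 hEL)
    obtain ⟨a, ha, b, hb, rfl⟩ := hE.2.2.2 x hx.1
    have hbL : b ∈ L := (L.mul_mem_cancel_left (hEL ha)).mp hx.2
    have h1 : y * b * y⁻¹ * b⁻¹ ∈ sigmaCore H ⊓ sigmaCore L := by
      refine ⟨(sigmaCore H).mul_mem ((mem_normalizer_iff.mp
        (le_normalizer_sigmaCore H (hKle hy)) b).mp hb) ((sigmaCore H).inv_mem hb), ?_⟩
      have h2 := (sigmaCore L).mul_mem hyL ((mem_normalizer_iff.mp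
        (le_normalizer_sigmaCore L hbL) y⁻¹).mp ((sigmaCore L).inv_mem hyL))
      simpa [mul_assoc] using h2
    rw [hbot, mem_bot, mul_inv_eq_one, mul_inv_eq_iff_eq_mul] at h1
    have hb1 : b = 1 := mem_bot.mp (hfix ▸ ⟨hb, mem_centralizer_singleton_iff.mpr h1.symm⟩)
    rw [hb1, mul_one]
    exact ha
  rw [heq]
  refine ⟨hE, le_fittingOf_of_normal hKE ((hEC).trans (centralizer_le_normalizer _)) ?_⟩
  haveI := h.cyclic
  letI : CommGroup K := IsCyclic.commGroup
  exact CommGroup.isNilpotent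

end Cfsg.Agent.OddLocal
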