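import Cfsg.Agent.OddLocal.TauTwoAbelian
import Cfsg.Agent.Thompson.Basic

/-!
Consequences of BG 12.7: nilpotent `σ'`-subgroups, elements of `τ₂`-order (BG 12.8, 12.9).
-/

set_option autoImplicit false
set_option linter.unusedSectionVars false
set_option linter.style.haveILetI false

namespace Cfsg.Agent.OddLocal

open Subgroup Cfsg
open scoped commutatorElement

universe u

variable {G : Type u} [Group G] [Finite G] {p : ℕ} [hp : Fact p.Prime] {q : ℕ} [hq : Fact q.Prime]
  {M A E : Subgroup G}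

omit hp hq [Finite G] in
theorem isMulCommutative_of_le {X Y : Subgroup G} (h : X ≤ Y) (hY : IsMulCommutative Y) :
    IsMulCommutative X :=
  ⟨⟨fun a b => Subtype.ext (congrArg (fun z : Y => (z : G))
    (@mul_comm' _ _ hY (⟨a, h a.2⟩ : Y) ⟨b, h b.2⟩))⟩⟩

omit hp hq [Finite G] in
theorem le_centralizer_of_isMulCommutative {X Y Z : Subgroup G} (hX : X ≤ Z) (hY : Y ≤ Z)
    (hZ : IsMulCommutative Z) : X ≤ centralizer (Y : Set G) := fun x hx =>
  mem_centralizer_iff.mpr fun y hy => congrArg (fun z : Z => (z : G))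
    (@mul_comm' _ _ hZ (⟨y, hY hy⟩ : Z) ⟨x, hX hx⟩)

omit hp hq in
/-- `x` lies in `C` as soon as the elements of prime-power order in `⟨x⟩` do. -/
theorem mem_of_prime_power_parts {C : Subgroup G} {x : G}
    (h : ∀ (r : ℕ) [Fact r.Prime], ∀ y ∈ zpowers x, r ∣ orderOf x →
      (∃ k : ℕ, y ^ r ^ k = 1) → y ∈ C) : x ∈ C := by
  have h1 : closure {z : zpowers x | ∃ (q : ℕ) (_ : Fact q.Prime) (S : Sylow q (zpowers x)), z ∈ S} ≤
      C.comap (zpowers x).subtype := by
    rw [closure_le]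
    rintro z ⟨r, hr, S, hzS⟩
    obtain ⟨k, hk⟩ := S.2 ⟨z, hzS⟩
    have hzk : (z : G) ^ r ^ k = 1 := by
      simpa using congrArg (fun w : S => (((w : zpowers x)) : G)) hk
    by_cases hd : r ∣ orderOf x
    · exact h r z z.2 hd ⟨k, hzk⟩
    · have hz1 : (z : G) = 1 := by
        rw [← orderOf_eq_one_iff]
        refine Nat.eq_one_of_dvd_coprimes ((hr.out.coprime_iff_not_dvd.mpr hd).pow_left k)
          (orderOf_dvd_of_pow_eq_one hzk) ?_
        obtain ⟨i, hi⟩ := z.2
        exact hi ▸ orderOf_dvd_of_pow_eq_one (by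
          rw [← zpow_natCast, ← zpow_mul, mul_comm, zpow_mul, zpow_natCast, pow_orderOf_eq_one, one_zpow])
      change (z : G) ∈ C
      rw [hz1]
      exact one_mem C
  rw [NilpotentPrimeAction.closure_sylow_eq_top] at h1
  exact h1 (mem_top (⟨x, mem_zpowers x⟩ : zpowers x))

variable (hG : IsMinSimpleOddOrder G) (hM : IsCoatom M)
include hG hM

omit hp hq in
/-- A `σ(M)'`-subgroup of `M` lies in a complement to `M_σ`. -/
theorem exists_compl_ge_of_not_sigma {X : Subgroup G} (hXM : X ≤ M)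
    (hX : ∀ r : ℕ, r.Prime → r ∣ Nat.card X → r ∉ sigma M) :
    ∃ E : Subgroup G, IsComplIn E (sigmaCore M) M ∧ X ≤ E := by
  haveI := isSolvable_coatom hG hM
  obtain ⟨H, hH, -, hXH⟩ := Coprime.exists_le_invariant_hall (A := (⊥ : Subgroup G)) (K := M)
    bot_le (by rw [card_bot]; exact Nat.coprime_one_left _) inferInstance hXM bot_le
    (π := {r | r ∉ sigma M}) hX
  have hK := isPiHallOf_sigmaCore hG hM
  have hcop : (Nat.card H).Coprime (Nat.card (sigmaCore M)) :=
    Nat.coprime_of_dvd fun r hr h1 h2 => hH.2.1 r hr h1 (hK.2.1 r hr h2)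
  have hinf : H ⊓ sigmaCore M = ⊥ := Coprime.inf_eq_bot_of_coprime hcop
  refine ⟨H, ⟨hH.1, hK.1, hinf, ?_⟩, hXH⟩
  have hdvd : Nat.card M ∣ Nat.card H * Nat.card (sigmaCore M) := by
    refine Nat.dvd_of_primeFactorsList_subperm Nat.card_pos.ne' ?_
    rw [List.subperm_ext_iff]
    intro r hr
    have hrp := Nat.prime_of_mem_primeFactorsList hr
    rw [Nat.primeFactorsList_count_eq, Nat.primeFactorsList_count_eq,
      Nat.factorization_mul Nat.card_pos.ne' Nat.card_pos.ne', Finsupp.add_apply]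
    by_cases hrσ : r ∈ sigma M
    · have h1 := Coprime.card_mul_relIndex_of_le hK.1
      rw [← h1, Nat.factorization_mul Nat.card_pos.ne' (fun e => by rw [e, mul_zero] at h1; exact Nat.card_pos.ne h1),
        Finsupp.add_apply, Nat.factorization_eq_zero_of_not_dvd (hK.2.2 r hrp hrσ)]
      omega
    · have h1 := Coprime.card_mul_relIndex_of_le hH.1
      rw [← h1, Nat.factorization_mul Nat.card_pos.ne' (fun e => by rw [e, mul_zero] at h1; exact Nat.card_pos.ne h1),
        Finsupp.add_apply, Nat.factorization_eq_zero_of_not_dvd (hH.2.2 r hrp hrσ)]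
      omega
  intro m hm
  let f : H × sigmaCore M → M := fun x => ⟨x.1 * x.2, M.mul_mem (hH.1 x.1.2) (hK.1 x.2.2)⟩
  have hinj : Function.Injective f := fun x y e =>
    Subgroup.mul_injective_of_disjoint (disjoint_iff.mpr hinf) (congrArg Subtype.val e)
  have hbij : Function.Bijective f :=
    (Nat.bijective_iff_injective_and_card f).mpr ⟨hinj, le_antisymm
      (Nat.card_le_card_of_injective f hinj) (Nat.le_of_dvd Nat.card_pos (by rwa [Nat.card_prod]))⟩
  obtain ⟨⟨a, b⟩, hab⟩ := hbij.2 ⟨m, hm⟩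
  exact ⟨a, a.2, b, b.2, (congrArg Subtype.val hab).symm⟩

omit hp hq in
/-- BG 12.8 (a): nilpotent `σ(M)'`-subgroups of `M` are abelian. -/
theorem comm_of_nilpotent {N : Subgroup G} (hNM : N ≤ M) (hn : Group.IsNilpotent N)
    (hN : ∀ r : ℕ, r.Prime → r ∣ Nat.card N → r ∉ sigma M) : IsMulCommutative N := by
  have h := NilpotentPrimeAction.commutator_le_of_sylow (C := (⊥ : Subgroup G)) hn (by rw [normalizer_eq_top]; exact le_top) ?_
  · rw [le_bot_iff, commutator_eq_bot_iff_le_centralizer] at h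
    exact ⟨⟨fun a b => Subtype.ext (mem_centralizer_iff.mp (h b.2) a a.2)⟩⟩
  intro r _ S
  rw [le_bot_iff, commutator_eq_bot_iff_le_centralizer]
  by_cases hS : (S : Subgroup N) = ⊥
  · rw [hS, Subgroup.map_bot]
    exact bot_le
  obtain ⟨s, hs, hsd⟩ := exists_prime_dvd_of_ne_bot hS
  obtain ⟨j, hj⟩ := IsPGroup.iff_card.mp S.2
  have hrs : s = r := (Nat.prime_dvd_prime_iff_eq hs Fact.out).mp (hs.dvd_of_dvd_pow (hj ▸ hsd))
  exact le_centralizer_of_isMulCommutative le_rfl le_rfl (comm_of_not_sigma hG hM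
    (hN r Fact.out (hrs ▸ hsd.trans (card_subgroup_dvd_card _))) (S.2.map N.subtype)
    ((map_subtype_le _).trans hNM))

omit hq in
/-- An element of order `p` in `M`, `p ∈ τ₂(M)`, lies in a plane. -/
theorem exists_plane_of_line (hp2 : p ∈ tau2 M) {x : G} (hxM : x ∈ M) {k : ℕ} (hx : x ^ p ^ k = 1) :
    ∃ A : Subgroup G, IsTauPair p M A ∧ x ∈ centralizer (A : Set G) ∧ (x ^ p = 1 → x ∈ A) := by
  obtain ⟨i, -, hi⟩ := (Nat.dvd_prime_pow hp.out).mp (orderOf_dvd_of_pow_eq_one hx)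
  obtain ⟨P, hP⟩ := exists_sylow_ge (M := M)
    (IsPGroup.of_card (n := i) (by rw [Nat.card_zpowers, hi])) (zpowers_le.mpr hxM)
  obtain ⟨hc, A, hAP, h⟩ := sylow_comm_of_tau2 hG hM hp2 P
  have hxc : x ∈ centralizer (A : Set G) :=
    le_centralizer_of_isMulCommutative le_rfl hAP hc (hP (mem_zpowers x))
  exact ⟨A, h, hxc, fun hx1 => h.mem_of_pow hG hM hx1 hxc⟩

omit hp hq in
/-- A `τ₂`-element of `M` centralises a plane. -/
theorem exists_plane_centralized {x : G} (hxM : x ∈ M) (hx1 : x ≠ 1)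
    (hx : ∀ r : ℕ, r.Prime → r ∣ orderOf x → r ∈ tau2 M) :
    ∃ (r : ℕ) (_ : Fact r.Prime) (A : Subgroup G),
      IsTauPair r M A ∧ x ∈ centralizer (A : Set G) := by
  obtain ⟨r, hr, hrd⟩ := Nat.exists_prime_and_dvd (mt orderOf_eq_one_iff.mp hx1)
  have : Fact r.Prime := ⟨hr⟩
  obtain ⟨E, hE, hxE⟩ := exists_compl_ge_of_not_sigma hG hM (zpowers_le.mpr hxM) (fun s hs hsd =>
    (hx s hs (by rwa [Nat.card_zpowers] at hsd)).2.1)
  rw [zpowers_le] at hxE
  obtain ⟨A, hAE, h⟩ := exists_plane_in_compl hG hM hE (hx r hr hrd)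
  refine ⟨r, this, A, h, mem_of_prime_power_parts fun s _ y hy hsd ⟨k, hyk⟩ => ?_⟩
  have hyE : y ∈ E := (zpowers_le.mpr hxE) hy
  have hn := (h.isExceptional hG hM).le_normalizer_of_compl hG hM hE hAE
  by_cases hsr : s = r
  · subst hsr
    have hsup : IsPGroup s ↥(zpowers y ⊔ A) := by
      obtain ⟨i, -, hi⟩ := (Nat.dvd_prime_pow hr).mp (orderOf_dvd_of_pow_eq_one hyk)
      exact (IsPGroup.of_card (n := i) (by rw [Nat.card_zpowers, hi])).to_sup_of_normal_right'
        (Coprime.ea_isPGroup h.elem) (zpowers_le.mpr (hn hyE))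
    exact le_centralizer_of_isMulCommutative le_rfl le_sup_right (comm_of_not_sigma hG hM
      h.not_sigma hsup (sup_le (zpowers_le.mpr (hE.1 hyE)) h.le)) (mem_sup_left (mem_zpowers y))
  · obtain ⟨B, hBE, h'⟩ := exists_plane_in_compl hG hM hE (hx s Fact.out hsd)
    exact centralizes_of_normalizes hG hM hE h' hBE
      (fun S => sylow_comm_of_two hG hM (hx s Fact.out hsd) (hx r hr hrd) (Ne.symm hsr) S)
      (Ne.symm hsr) hAE (Coprime.ea_isPGroup h.elem)
      (le_centralizer_of_pair hG hM (Ne.symm hsr) hE h' h hBE hAE) hyE hyk (hn hyE)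

omit hq in
/-- BG 12.8 (c): normalisers of noncyclic `σ(M)`-subgroups lie in `M`. -/
theorem normalizer_le_of_not_isCyclic (hσ : p ∈ sigma M) {P : Subgroup G} (hP : IsPGroup p P)
    (hPM : P ≤ M) (hnc : ¬ IsCyclic P) : normalizer (P : Set G) ≤ M := by
  have hp2 : p ≠ 2 := by
    intro e
    exact absurd (hG.1.of_dvd_nat ((hσ.2.1).trans (card_subgroup_dvd_card M))) (by rw [e]; decide)
  have hP1 : P ≠ ⊥ := by
    intro e
    subst e
    exact hnc inferInstance
  obtain ⟨B, -, hBe, hB2⟩ := Fusion.exists_normal_elementary_card_sq hp2 hP hnc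
  have hBM : B.map P.subtype ≤ M := (map_subtype_le _).trans hPM
  have hC : centralizer (P : Set G) ≤ M := (centralizer_le (map_subtype_le B)).trans
    (centralizer_plane_le hG hM hBM (Thompson.ea_map hBe P.subtype)
      (by rw [card_map_of_injective P.subtype_injective, hB2]))
  intro n hn
  obtain ⟨m, hm, c, hc, rfl⟩ := fusion_of_sigma hG hM hσ hP hP1 hPM
    ((map_conj_eq_self_of_mem hn).le.trans hPM)
  exact M.mul_mem hm (hC hc)

omit hp hq in
/-- BG 12.8 (d). -/
theorem unique_of_tau2_elt {x : G} (hxM : x ∈ M) (hx1 : x ≠ 1)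
    (hx : ∀ r : ℕ, r.Prime → r ∣ orderOf x → r ∈ tau2 M) (hxh : x ∈ sigmaHat M) :
    centralizer ({x} : Set G) ≤ M ∧
      ∀ L : Subgroup G, IsCoatom L → centralizer ({x} : Set G) ≤ L → L = M := by
  obtain ⟨-, y, hy, hy1, hxy⟩ := hxh
  have hyx : y ∈ centralizer ({x} : Set G) := mem_centralizer_singleton_iff.mpr hxy.symm
  refine ⟨?_, fun L hL hCL => ?_⟩
  · obtain ⟨r, hr, hrd⟩ := Nat.exists_prime_and_dvd (mt orderOf_eq_one_iff.mp hx1)
    have : Fact r.Prime := ⟨hr⟩
    set x₀ := x ^ (orderOf x / r) with hx₀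
    have ho : orderOf x₀ = r := orderOf_pow_orderOf_div (orderOf_pos x).ne' hrd
    have hx₀r : x₀ ^ r = 1 := by rw [← ho, pow_orderOf_eq_one]
    obtain ⟨A, h, -, hA⟩ := exists_plane_of_line hG hM (hx r hr hrd) (x := x₀) (k := 1)
      (M.pow_mem hxM _) (by rwa [pow_one])
    have hxA : x₀ ∈ A := hA hx₀r
    have hc : ∀ z, Commute z x → z ∈ centralizer (zpowers x₀ : Set G) := fun z hz =>
      mem_centralizer_iff.mpr fun w hw => by
        obtain ⟨i, rfl⟩ := mem_zpowers_iff.mp hw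
        exact ((hz.pow_right _).zpow_right i).symm
    have h0 := h.unique_centralizer hG hM (zpowers_le.mpr hxA) (fun e => hy1
      ((eq_bot_iff_forall _).mp e y ⟨hy, hc y hxy.symm⟩)) (by
        rw [Ne, zpowers_eq_bot]; intro e; rw [e, orderOf_one] at ho; exact hr.ne_one ho.symm)
    exact fun z hz => h0.1 (hc z (mem_centralizer_singleton_iff.mp hz))
  · by_contra hne
    obtain ⟨r, hr, A, h, hxA⟩ := exists_plane_centralized hG hM hxM hx1 hx
    have hAL : A ≤ L := fun a ha => hCL (mem_centralizer_singleton_iff.mpr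
      (mem_centralizer_iff.mp hxA a ha))
    have h0 : y ∈ sigmaCore M ⊓ L := ⟨hy, hCL hyx⟩
    rw [h.inf_other_eq_bot hG hM hL hne hAL, mem_bot] at h0
    exact hy1 h0

end Cfsg.Agent.OddLocal
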