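import Cfsg.Agent.OddLocal.KappaTI
import Cfsg.Agent.OddLocal.FrobeniusExponent
import Cfsg.Agent.OddLocal.SupportSigma
import Cfsg.Agent.OddLocal.KappaOutside
import Cfsg.Agent.S1420
import Cfsg.Agent.S1421

/-!
BG 15.1 (a)-(d): the elements of `U` with fixed points on `M_σ`.
-/

set_option autoImplicit false
set_option linter.unusedSectionVars false
set_option linter.style.haveILetI false

namespace Cfsg.Agent.OddLocal

open Subgroup Cfsg
open scoped commutatorElement

universe u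

variable {G : Type u} [Group G] [Finite G] {M K U : Subgroup G}

/-- An element of `U` of order prime to `r` does not change the line of an element of order `r`. -/
theorem exists_pow_eq_of_pow_mem {z : G} {n : ℕ} (h : (orderOf z).Coprime n) :
    zpowers (z ^ n) = zpowers z := by
  refine le_antisymm (zpowers_le.mpr (pow_mem (mem_zpowers z) n)) (zpowers_le.mpr ?_)
  obtain ⟨i, hi⟩ := exists_pow_eq_self_of_coprime h.symm
  have h1 := pow_mem (mem_zpowers (z ^ n)) i
  rwa [hi] at h1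

theorem orderOf_pow_orderOf_div_aux {u : G} {n s : ℕ} (huo : orderOf u = n) (hd : s ∣ n) :
    orderOf (u ^ (n / s)) = s := by
  subst huo
  exact orderOf_pow_orderOf_div (orderOf_pos u).ne' hd

variable (hG : IsMinSimpleOddOrder G) (hM : IsCoatom M) (h : IsSigmaDecomposition M K U)
include hG hM h

/-- The primes of an element of `U` with fixed points on `M_σ` lie in `τ₂(M)`. -/
theorem tau2_of_fixed_U {e x : G} (he : e ∈ U) (hx : x ∈ sigmaCore M) (hx1 : x ≠ 1)
    (hex : Commute e x) {r : ℕ} (hr : r.Prime) (hd : r ∣ orderOf e) : r ∈ tau2 M := by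
  obtain ⟨hE, hUp⟩ := sigmaDecomposition_compl hG hM h
  haveI := Fact.mk hr
  set z := e ^ (orderOf e / r) with hz
  have hzo : orderOf z = r := orderOf_pow_orderOf_div (orderOf_pos e).ne' hd
  have hzU : z ∈ U := U.pow_mem he _
  have hrU : r ∣ Nat.card U := hd.trans (Subgroup.orderOf_dvd_natCard U he)
  have hfix : sigmaCore M ⊓ centralizer (zpowers z : Set G) ≠ ⊥ := by
    rw [centralizer_zpowers]
    intro e'
    exact hx1 (mem_bot.mp (e' ▸ ⟨hx, mem_centralizer_of_commute (hex.pow_left _).symm⟩))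
  have hc : Nat.card (zpowers z) = r := by rw [Nat.card_zpowers, hzo]
  rcases tau_cases hG hM hE (hrU.trans (card_dvd_of_le (le_sup_left : U ≤ U ⊔ K))) with h1 | h1 | h1
  · exact absurd (kappa_of_fixed hG hM (Or.inl h1) hc (zpowers_le.mpr (h.compl.1 hzU)) hfix)
      (hUp r hr hrU).1
  · exact h1
  · exact absurd (kappa_of_fixed hG hM (Or.inr h1) hc (zpowers_le.mpr (h.compl.1 hzU)) hfix)
      (hUp r hr hrU).1

/-- An abelian subgroup contains the elements of `U` with fixed points on `M_σ`. -/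
theorem exists_comm_stabilizer_U :
    ∃ A : Subgroup G, IsMulCommutative A ∧
      ∀ x ∈ sigmaCore M, x ≠ 1 → U ⊓ centralizer ({x} : Set G) ≤ A := by
  by_cases hK1 : K = ⊥
  · subst hK1
    obtain ⟨hE, hUp⟩ := sigmaDecomposition_compl hG hM h
    rw [sup_bot_eq] at hE
    obtain ⟨⟨A, -, -, hA, hle⟩, -⟩ := Cfsg.Agent.S1421.result hG M hM U hE fun e he he1 h13 => by
      by_contra hne
      obtain ⟨x, hx, hx1⟩ := exists_mem_ne_one _ hne
      obtain ⟨r, hr, hrd⟩ := Nat.exists_prime_and_dvd (mt orderOf_eq_one_iff.mp he1)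
      have h2 := tau2_of_fixed_U hG hM h he hx.1 hx1
        (mem_centralizer_singleton_iff.mp hx.2 :
          Commute x e).symm hr hrd
      rcases h13 r hr hrd with h1 | h1
      · exact h2.2.2.2 h1.2.2.2.2
      · exact h2.2.2.2 h1.2.2.2
    exact ⟨A, hA, hle⟩
  · exact ⟨U, (sigmaDecomposition_structure hG hM h hK1).1, fun x _ _ => inf_le_left⟩

/-- The centraliser in `U` of a nontrivial element of `M_σ` is cyclic. -/
theorem isCyclic_inf_centralizer_U {x : G} (hx : x ∈ sigmaCore M) (hx1 : x ≠ 1) :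
    IsCyclic ↥(U ⊓ centralizer ({x} : Set G)) := by
  obtain ⟨A, hA, hle⟩ := exists_comm_stabilizer_U hG hM h
  set C := U ⊓ centralizer ({x} : Set G) with hC
  haveI : IsMulCommutative C := isMulCommutative_of_le (hle x hx hx1) hA
  haveI : Group.IsNilpotent C := by
    letI : CommGroup C := { mul_comm := fun a b => mul_comm' a b }
    exact CommGroup.isNilpotent
  haveI : IsZGroup C := isZGroup_of_rankLE_one (hG.1.of_dvd_nat (card_subgroup_dvd_card C))
    fun q hq => by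
    haveI := Fact.mk hq
    by_contra hne
    obtain ⟨B, hBC, hBe, hB2⟩ := exists_elementary_of_not_pRankLE hne
    obtain ⟨b, hb, hb1⟩ := exists_mem_ne_one B (Coprime.ea_ne_bot two_ne_zero hB2)
    have hq2 : q ∈ tau2 M := tau2_of_fixed_U hG hM h (hBC hb).1 hx hx1
      (mem_centralizer_singleton_iff.mp (hBC hb).2) hq
      (orderOf_eq_prime (hBe.2 b hb) hb1).symm.dvd
    have hBM : B ≤ M := hBC.trans (inf_le_left.trans h.compl.1)
    have hBc : Nat.card B = q ^ 2 := by
      obtain ⟨i, hi⟩ := IsPGroup.iff_card.mp (Coprime.ea_isPGroup hBe)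
      have h1 : Nat.card B ≤ q ^ 2 := by
        by_contra hlt
        push Not at hlt
        refine not_pRankLE_of_elementary (k := 2) hBM hBe ?_ hq2.2.2.1
        rw [hi] at hlt ⊢
        exact Nat.pow_le_pow_right hq.pos ((Nat.pow_lt_pow_iff_right hq.one_lt).mp hlt)
      exact le_antisymm h1 hB2
    have hB' := isTauPair_of_tau2 hG hM hq2 ⟨hBM, hBe, hBc⟩
    exact hx1 (mem_bot.mp (hB'.fixed_eq_bot hG hM ▸ ⟨hx, mem_centralizer_iff.mpr fun y hy =>
      mem_centralizer_singleton_iff.mp (hBC hy).2⟩))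
  infer_instance

/-- BG 15.1 (d): a nontrivial subgroup of `U` with fixed points on `M_σ` has centraliser in a
unique maximal subgroup. -/
theorem centralizer_U_unique {X : Subgroup G} (hXU : X ≤ U) (hX : X ≠ ⊥)
    (hXc : sigmaCore M ⊓ centralizer (X : Set G) ≠ ⊥) :
    centralizer (X : Set G) ≤ M ∧
      ∀ L : Subgroup G, IsCoatom L → centralizer (X : Set G) ≤ L → L = M := by
  obtain ⟨x, hx, hx1⟩ := exists_mem_ne_one _ hXc
  have hXC : X ≤ U ⊓ centralizer ({x} : Set G) := le_inf hXU fun y hy =>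
    mem_centralizer_singleton_iff.mpr (mem_centralizer_iff.mp hx.2 y hy)
  haveI := isCyclic_inf_centralizer_U hG hM h hx.1 hx1
  obtain ⟨u, rfl⟩ := X.isCyclic_iff_exists_zpowers_eq_top.mp (isCyclic_of_le inferInstance hXC)
  rw [centralizer_zpowers] at hXc ⊢
  have hu : u ∈ U := hXU (mem_zpowers u)
  have hu1 : u ≠ 1 := fun e => hX (by rw [e, zpowers_one_eq_bot])
  have hux : Commute u x := mem_centralizer_singleton_iff.mp (hXC (mem_zpowers u)).2
  obtain ⟨E, hE, -⟩ := exists_compl_ge_of_not_sigma hG hM (bot_le : (⊥ : Subgroup G) ≤ M)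
    (fun r hr hd => absurd (card_bot (G := G) ▸ hd) hr.not_dvd_one)
  exact (Cfsg.Agent.S1420.result hG M hM E hE).2.2.2 u (h.compl.1 hu) hu1
    (fun p hp hd => tau2_of_fixed_U hG hM h hu hx.1 hx1 hux hp hd)
    ⟨h.compl.1 hu, x, hx.1, hx1, hux.eq⟩

/-- In an abelian `U`, a component of full order whose socle has no fixed points. -/
theorem exists_fpf_component [IsMulCommutative U] {r a : ℕ} [Fact r.Prime]
    (hmax : ∀ y ∈ U, (∃ j : ℕ, y ^ r ^ j = 1) → y ^ r ^ (a + 1) = 1)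
    {x : G} (hx : x ∈ U) (hxo : orderOf x = r ^ (a + 1)) :
    ∃ y ∈ U, orderOf y = r ^ (a + 1) ∧
      sigmaCore M ⊓ centralizer ({y ^ r ^ a} : Set G) = ⊥ := by
  classical
  have hr : r.Prime := Fact.out
  obtain ⟨hE, hUp⟩ := sigmaDecomposition_compl hG hM h
  have hrU : r ∣ Nat.card U :=
    (dvd_pow_self r a.succ_ne_zero).trans (hxo ▸ Subgroup.orderOf_dvd_natCard U hx)
  have hxl : orderOf (x ^ r ^ a) = r := by
    rw [orderOf_pow' _ (pow_ne_zero _ hr.ne_zero), hxo,
      Nat.gcd_eq_right (pow_dvd_pow r a.le_succ), pow_succ, Nat.mul_div_cancel_left _ (pow_pos hr.pos _)]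
  by_cases hr2 : r ∈ tau2 M
  swap
  · refine ⟨x, hx, hxo, by_contra fun hne => hr2 ?_⟩
    obtain ⟨s, hs, hs1⟩ := exists_mem_ne_one _ hne
    exact tau2_of_fixed_U hG hM h (U.pow_mem hx (r ^ a)) hs.1 hs1
      ((mem_centralizer_singleton_iff.mp hs.2 : Commute s (x ^ r ^ a)).symm) hr (hxl.symm.dvd)
  obtain ⟨T⟩ : Nonempty (Sylow r U) := inferInstance
  obtain ⟨Q, hQ⟩ := exists_sylow_of_decomp hG hM h hrU T
  set P := (T : Subgroup U).map U.subtype with hP
  have hPU : P ≤ U := map_subtype_le _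
  have hmemP : ∀ y ∈ U, (∃ j : ℕ, y ^ r ^ j = 1) → y ∈ P := by
    rintro y hy ⟨j, hj⟩
    obtain ⟨s, -, hs⟩ := (Nat.dvd_prime_pow hr).mp (orderOf_dvd_of_pow_eq_one hj)
    have hz : IsPGroup r (zpowers (⟨y, hy⟩ : U)) :=
      IsPGroup.of_card (n := s) (by rw [Nat.card_zpowers, Subgroup.orderOf_mk, hs])
    obtain ⟨T', hT'⟩ := hz.exists_le_sylow
    obtain ⟨g, hg⟩ := MulAction.exists_smul_eq U T T'
    rw [← hg, Sylow.smul_eq_of_normal] at hT'
    exact ⟨⟨y, hy⟩, hT' (mem_zpowers _), rfl⟩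
  have hPp : IsPGroup r P := T.2.map _
  have hexp : ∀ y ∈ P, y ^ r ^ (a + 1) = 1 := fun y hy => hmax y (hPU hy) (by
    obtain ⟨j, hj⟩ := hPp ⟨y, hy⟩
    exact ⟨j, congrArg Subtype.val hj⟩)
  have hxP : x ∈ P := hmemP x hx ⟨a + 1, by rw [← hxo, pow_orderOf_eq_one]⟩
  have hPc : IsMulCommutative P := isMulCommutative_of_le hPU inferInstance
  obtain ⟨A₁, hA₁U, hA⟩ : ∃ A : Subgroup G, A ≤ P ∧ IsTauPair r M A := by
    obtain ⟨-, A, hAQ, hA⟩ := sylow_comm_of_tau2 hG hM hr2 Q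
    exact ⟨A, hAQ.trans hQ.le, hA⟩
  have hmemA : ∀ y ∈ P, y ^ r = 1 → y ∈ A₁ := fun y hy hyp =>
    hA.mem_of_pow hG hM hyp (le_centralizer_of_isMulCommutative le_rfl hA₁U hPc hy)
  set l := x ^ r ^ a with hl
  have hlA : l ∈ A₁ := hmemA l (P.pow_mem hxP _) (by rw [← pow_mul, ← pow_succ]; exact hexp x hxP)
  have hl1 : l ≠ 1 := fun e => hr.ne_one (by rw [← hxl, e, orderOf_one])
  obtain ⟨E', hE', hAE'⟩ := exists_compl_ge_of_not_sigma hG hM (hA.le)
    (fun s hs hd => by
      rw [hA.card] at hd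
      rw [(Nat.prime_dvd_prime_iff_eq hs hr).mp (hs.dvd_of_dvd_pow hd)]
      exact hr2.2.1)
  by_cases hline : ∀ y ∈ P, y ^ r ^ a ∈ zpowers l
  · obtain ⟨n, hn, hnM⟩ := exists_not_mem_normalizer hG hM
      (hrU.trans (card_dvd_of_le h.compl.1)) hr2.2.1 Q
    rw [hQ] at hn
    refine ⟨x, hx, hxo, ?_⟩
    rw [← centralizer_zpowers]
    refine hA.fpf_of_normalized hG hM hE' hAE' hlA hl1 (n := n) ?_ hnM
    refine mem_normalizer_of_map_conj (eq_of_le_of_card_ge ?_ (card_map_conj _ _).ge)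
    rw [MonoidHom.map_zpowers, zpowers_le]
    change MulAut.conj n (x ^ r ^ a) ∈ zpowers l
    rw [map_pow]
    exact hline _ ((mem_normalizer_iff.mp hn x).mp hxP)
  push Not at hline
  obtain ⟨y₂, hy₂, hl₂⟩ := hline
  have hl₂A : y₂ ^ r ^ a ∈ A₁ := hmemA _ (P.pow_mem hy₂ _)
    (by rw [← pow_mul, ← pow_succ]; exact hexp y₂ hy₂)
  have hsup : zpowers l ⊔ zpowers (y₂ ^ r ^ a) = A₁ := by
    refine eq_of_le_of_card_ge (sup_le (zpowers_le.mpr hlA) (zpowers_le.mpr hl₂A)) ?_
    rw [card_sup_zpowers_of_not_mem (hA.elem.2 _ hl₂A) (mem_centralizer_iff.mpr fun z hz =>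
      Coprime.ea_comm hA.elem ((zpowers_le.mpr hlA) hz) hl₂A) hl₂, Nat.card_zpowers,
      orderOf_eq_prime (hA.elem.2 _ hlA) hl1, hA.card, pow_two]
  let pw : Subgroup G :=
    { carrier := {u | ∃ y ∈ P, y ^ r ^ a = u}
      one_mem' := ⟨1, P.one_mem, one_pow _⟩
      mul_mem' := by
        rintro _ _ ⟨y, hy, rfl⟩ ⟨y', hy', rfl⟩
        refine ⟨y * y', P.mul_mem hy hy', ?_⟩
        rw [(show Commute y y' from congrArg (fun z : P => (z : G))
          (@mul_comm' _ _ hPc ⟨y, hy⟩ ⟨y', hy'⟩)).mul_pow]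
      inv_mem' := by
        rintro _ ⟨y, hy, rfl⟩
        exact ⟨y⁻¹, P.inv_mem hy, inv_pow _ _⟩ }
  have hle : A₁ ≤ pw := hsup ▸
    sup_le (zpowers_le.mpr ⟨x, hxP, rfl⟩) (zpowers_le.mpr ⟨y₂, hy₂, rfl⟩)
  obtain ⟨A₀, hA₀, hA₀c, hfA⟩ := hA.exists_fpf_line hG hM
  obtain ⟨u, hu, hu1, -, huz⟩ := exists_generator_of_card hA₀c
  obtain ⟨y, hy, rfl⟩ := hle (hA₀ hu)
  refine ⟨y, hPU hy, orderOf_eq_prime_pow hu1 (hexp y hy), ?_⟩
  rwa [← centralizer_zpowers, huz]

/-- BG 15.1 (b): a subgroup of `U` of full exponent without fixed points on `M_σ`. -/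
theorem exists_fpf_exponent :
    ∃ U₀ : Subgroup G, U₀ ≤ U ∧ Monoid.exponent U₀ = Monoid.exponent U ∧
      ∀ u ∈ U₀, u ∈ sigmaHat M → u = 1 := by
  classical
  by_cases hK1 : K = ⊥
  · subst hK1
    obtain ⟨hE, hUp⟩ := sigmaDecomposition_compl hG hM h
    rw [sup_bot_eq] at hE
    obtain ⟨-, U₀, hU₀, hexp, hfpf⟩ := Cfsg.Agent.S1421.result hG M hM U hE fun e he he1 h13 => by
      by_contra hne
      obtain ⟨x, hx, hx1⟩ := exists_mem_ne_one _ hne
      obtain ⟨r, hr, hrd⟩ := Nat.exists_prime_and_dvd (mt orderOf_eq_one_iff.mp he1)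
      have h2 := tau2_of_fixed_U hG hM h he hx.1 hx1
        (mem_centralizer_singleton_iff.mp hx.2 :
          Commute x e).symm hr hrd
      rcases h13 r hr hrd with h1 | h1
      · exact h2.2.2.2 h1.2.2.2.2
      · exact h2.2.2.2 h1.2.2.2
    refine ⟨U₀, hU₀, hexp, fun u hu ⟨_, y, hy, hy1, huy⟩ => by_contra fun hu1 => hy1 ?_⟩
    exact mem_bot.mp (hfpf u hu hu1 ▸ ⟨hy, mem_centralizer_singleton_iff.mpr huy.symm⟩)
  haveI := (sigmaDecomposition_structure hG hM h hK1).1
  letI : CommGroup U := { (inferInstance : Group U) with mul_comm := fun a c => mul_comm' a c }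
  set n := Monoid.exponent U with hn
  have hn0 : n ≠ 0 := Monoid.exponent_ne_zero_of_finite
  have hpowU : ∀ y ∈ U, y ^ n = 1 := fun y hy =>
    congrArg Subtype.val (Monoid.pow_exponent_eq_one (⟨y, hy⟩ : U))
  have key : ∀ S : Finset ℕ, S ⊆ n.primeFactors → ∃ u ∈ U, orderOf u = n ∧
      ∀ r ∈ S, sigmaCore M ⊓ centralizer ({u ^ (n / r)} : Set G) = ⊥ := by
    intro S
    induction S using Finset.induction_on with
    | empty =>
      intro _
      obtain ⟨⟨u, hu⟩, huo⟩ := Monoid.exists_orderOf_eq_exponent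
        (Monoid.ExponentExists.of_finite : Monoid.ExponentExists U)
      exact ⟨u, hu, by rw [← Subgroup.orderOf_mk u hu]; exact huo, by simp⟩
    | insert r S hrS ih =>
      intro hsub
      obtain ⟨u, hu, huo, hS⟩ := ih ((Finset.subset_insert r S).trans hsub)
      obtain ⟨hr, hrn, -⟩ := Nat.mem_primeFactors.mp (hsub (Finset.mem_insert_self r S))
      haveI := Fact.mk hr
      obtain ⟨a, ha⟩ := Nat.exists_eq_succ_of_ne_zero (hr.factorization_pos_of_dvd hn0 hrn).ne'
      set m := n / r ^ (a + 1) with hm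
      have hmn : r ^ (a + 1) * m = n := by
        rw [hm, ← Nat.succ_eq_add_one, ← ha]; exact Nat.ordProj_mul_ordCompl_eq_self n r
      have hrm : ¬ r ∣ m := by
        rw [hm, ← Nat.succ_eq_add_one, ← ha]; exact Nat.not_dvd_ordCompl hr hn0
      have hm0 : m ≠ 0 := fun e => hn0 (by rw [← hmn, e, mul_zero])
      have hxo : orderOf (u ^ m) = r ^ (a + 1) := by
        rw [orderOf_pow' _ hm0, huo, Nat.gcd_eq_right (hmn ▸ dvd_mul_left _ _), ← hmn,
          Nat.mul_div_cancel _ (Nat.pos_of_ne_zero hm0)]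
      have hcop : (r ^ (a + 1)).Coprime m := (hr.coprime_iff_not_dvd.mpr hrm).pow_left _
      obtain ⟨y, hy, hyo, hyf⟩ := exists_fpf_component hG hM h (a := a)
        (fun y hy ⟨j, hj⟩ => orderOf_dvd_iff_pow_eq_one.mp (by
          obtain ⟨s, -, hs⟩ := (Nat.dvd_prime_pow hr).mp (orderOf_dvd_of_pow_eq_one hj)
          refine (Nat.Coprime.dvd_of_dvd_mul_right ?_ (hmn.symm ▸ orderOf_dvd_of_pow_eq_one (hpowU y hy)))
          rw [hs]
          exact (hr.coprime_iff_not_dvd.mpr hrm).pow_left _))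
        (U.pow_mem hu m) hxo
      have hwo : orderOf (u ^ r ^ (a + 1)) = m := by
        rw [orderOf_pow' _ (pow_ne_zero _ hr.ne_zero), huo,
          Nat.gcd_eq_right (hmn ▸ dvd_mul_right _ _), ← hmn,
          Nat.mul_div_cancel_left _ (pow_pos hr.pos _)]
      have hc : Commute (u ^ r ^ (a + 1)) y := congrArg Subtype.val
        (mul_comm (⟨_, U.pow_mem hu _⟩ : U) ⟨y, hy⟩)
      refine ⟨u ^ r ^ (a + 1) * y, U.mul_mem (U.pow_mem hu _) hy, ?_, fun s hs => ?_⟩
      · rw [hc.orderOf_mul_eq_mul_orderOf_of_coprime (by rw [hwo, hyo]; exact hcop.symm), hwo, hyo,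
          mul_comm, hmn]
      rcases Finset.mem_insert.mp hs with rfl | hsS
      · have hdiv : n / s = s ^ a * m := by
          rw [← hmn, pow_succ, mul_comm (s ^ a) s, mul_assoc, Nat.mul_div_cancel_left _ hr.pos]
        have h1 : (u ^ s ^ (a + 1)) ^ (s ^ a * m) = 1 := orderOf_dvd_iff_pow_eq_one.mp
          (by rw [hwo]; exact dvd_mul_left _ _)
        rw [hdiv, hc.mul_pow, h1, one_mul, ← centralizer_zpowers, pow_mul,
          exists_pow_eq_of_pow_mem, centralizer_zpowers]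
        · exact hyf
        · rw [orderOf_pow' _ (pow_ne_zero _ hr.ne_zero), hyo,
            Nat.gcd_eq_right (pow_dvd_pow s a.le_succ), pow_succ,
            Nat.mul_div_cancel_left _ (pow_pos hr.pos _)]
          exact hr.coprime_iff_not_dvd.mpr hrm
      · obtain ⟨hs', hsn, -⟩ := Nat.mem_primeFactors.mp (hsub (Finset.mem_insert_of_mem hsS))
        have hsr : s ≠ r := fun e => hrS (e ▸ hsS)
        have hsm : s ∣ m := ((Nat.coprime_primes hs' hr).mpr hsr).pow_right (a + 1)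
          |>.dvd_of_dvd_mul_left (hmn.symm ▸ hsn)
        have h1 : y ^ (n / s) = 1 := orderOf_dvd_iff_pow_eq_one.mp (by
          rw [hyo, ← hmn, Nat.mul_div_assoc _ hsm]
          exact dvd_mul_right _ _)
        rw [hc.mul_pow, h1, mul_one, ← centralizer_zpowers, ← pow_mul, mul_comm, pow_mul,
          exists_pow_eq_of_pow_mem, centralizer_zpowers]
        · exact hS s hsS
        · rw [orderOf_pow_orderOf_div_aux huo hsn]
          exact ((Nat.coprime_primes hs' hr).mpr hsr).pow_right _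
  obtain ⟨u, hu, huo, hS⟩ := key n.primeFactors subset_rfl
  refine ⟨zpowers u, zpowers_le.mpr hu, exponent_eq_of_le (zpowers_le.mpr hu) fun y hy => ?_,
    fun z hz ⟨_, y, hy, hy1, hzy⟩ => by_contra fun hz1 => hy1 ?_⟩
  · refine (orderOf_dvd_of_pow_eq_one (hpowU y hy)).trans ?_
    rw [← huo]
    exact orderOf_dvd_exponent_of_mem (mem_zpowers u)
  obtain ⟨s, hs, hsd⟩ := Nat.exists_prime_and_dvd (mt orderOf_eq_one_iff.mp hz1)
  have hsn : s ∣ n := huo ▸ hsd.trans (orderOf_dvd_of_mem_zpowers hz)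
  set v := z ^ (orderOf z / s) with hv
  have hvo : orderOf v = s := orderOf_pow_orderOf_div (orderOf_pos z).ne' hsd
  have heq : zpowers v = zpowers (u ^ (n / s)) := by
    refine eq_of_card_eq_of_isCyclic (S := zpowers u) inferInstance
      (zpowers_le.mpr (pow_mem hz _)) (zpowers_le.mpr (pow_mem (mem_zpowers u) _)) ?_
    rw [Nat.card_zpowers, Nat.card_zpowers, hvo, orderOf_pow_orderOf_div_aux huo hsn]
  have h1 := hS s (Nat.mem_primeFactors.mpr ⟨hs, hsn, hn0⟩)
  rw [← centralizer_zpowers, ← heq, centralizer_zpowers] at h1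
  exact mem_bot.mp (h1 ▸ ⟨hy, mem_centralizer_of_commute
    ((show Commute z y from hzy).pow_left _).symm⟩)

end Cfsg.Agent.OddLocal
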