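import Cfsg.Agent.Fusion.PGroup
import Cfsg.Agent.Core.Frattini
import Cfsg.Agent.FGS.AutFrattini
import Cfsg.Agent.Fusion.Critical
import Cfsg.Agent.Coprime.Hall
import Cfsg.Agent.OddLocal.Basic

/-!
Maximal normal elementary abelian subgroups of `p`-groups, `p` odd: they contain every element of
order `p` of their centralisers, and have order at least `p ^ 3` when the rank is at least three.
-/

set_option autoImplicit false
set_option linter.unusedSectionVars false
set_option linter.style.haveILetI false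

namespace Cfsg.Agent.OddLocal

open Subgroup Cfsg
open scoped commutatorElement

universe u

variable {G : Type u} [Group G] [Finite G] {p : ℕ} [hp : Fact p.Prime]

/-- The quotient of two elements of order `p` lying in one coset of a normal subgroup whose elements
of order `p` commute with both has order dividing `p`. -/
theorem pow_eq_one_of_coset (hG : IsPGroup p G) (hodd : p ≠ 2) {N : Subgroup G} [N.Normal]
    {x y : G} (hx : x ^ p = 1) (hy : y ^ p = 1) (hxy : x⁻¹ * y ∈ N)
    (hc : ∀ n ∈ N, n ^ p = 1 → Commute n x ∧ Commute n y) : (x⁻¹ * y) ^ p = 1 := by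
  suffices h : ∀ m : ℕ, ∀ x y : G, Nat.card (closure {x, y} : Subgroup G) = m → x ^ p = 1 →
      y ^ p = 1 → x⁻¹ * y ∈ N → (∀ n ∈ N, n ^ p = 1 → Commute n x ∧ Commute n y) →
      (x⁻¹ * y) ^ p = 1 from h _ x y rfl hx hy hxy hc
  clear hx hy hxy hc x y
  intro m
  induction m using Nat.strong_induction_on with
  | _ m ih =>
  intro x y hm hx hy hxy hc
  by_cases hcomm : Commute x y
  · rw [hcomm.inv_left.mul_pow, inv_pow, hx, hy, inv_one, one_mul]
  set z := x * y * x⁻¹ with hz
  set K := closure {x, y} with hK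
  have hxK : x ∈ K := subset_closure (by simp)
  have hyK : y ∈ K := subset_closure (by simp)
  have hzK : z ∈ K := mul_mem (mul_mem hxK hyK) (inv_mem hxK)
  have hlt : closure {y, z} < K := by
    refine lt_of_le_of_ne ((closure_le K).mpr ?_) fun heq => hcomm ?_
    · rintro t (rfl | rfl) <;> assumption
    -- otherwise `y` generates `K` modulo the Frattini subgroup
    haveI : Group.IsNilpotent K := (hG.to_subgroup K).isNilpotent
    have htop : zpowers (⟨y, hyK⟩ : K) ⊔ frattini K = ⊤ := by
      rw [eq_top_iff]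
      set W := zpowers (⟨y, hyK⟩ : K) ⊔ frattini K with hW
      have hle : closure {y, z} ≤ W.map K.subtype := by
        rw [closure_le]
        rintro t (rfl | rfl)
        · exact ⟨⟨t, hyK⟩, mem_sup_left (mem_zpowers _), rfl⟩
        · refine ⟨⁅(⟨x, hxK⟩ : K), ⟨y, hyK⟩⁆ * ⟨y, hyK⟩, mul_mem (mem_sup_right ?_)
            (mem_sup_left (mem_zpowers _)), ?_⟩
          · exact Core.commutator_le_frattini (commutator_mem_commutator (mem_top _) (mem_top _))
          · show ⁅x, y⁆ * y = _
            rw [hz, commutatorElement_def]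
            group
      rw [heq] at hle
      intro k _
      obtain ⟨k', hk', hkk⟩ := hle k.2
      rwa [show k' = k from Subtype.ext hkk] at hk'
    have h1 := Core.eq_top_of_sup_frattini le_rfl htop
    obtain ⟨i, hi⟩ := mem_zpowers_iff.mp (h1 ▸ mem_top (⟨x, hxK⟩ : K))
    have hxy' : y ^ i = x := by
      have := congrArg Subtype.val hi
      simpa using this
    rw [← hxy']
    exact (Commute.refl y).zpow_left i
  have hzp : z ^ p = 1 := by rw [hz, conj_pow, hy, mul_one, mul_inv_cancel]
  have hyz : y⁻¹ * z ∈ N := by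
    have h1 : y⁻¹ * z = (x⁻¹ * y)⁻¹ * (x * (x⁻¹ * y) * x⁻¹) := by rw [hz]; group
    rw [h1]
    exact mul_mem (inv_mem hxy) ((inferInstance : N.Normal).conj_mem _ hxy x)
  have hd := ih _ (hm ▸ Core.card_lt_of_lt hlt) y z rfl hy hzp hyz fun n hn hnp =>
    ⟨(hc n hn hnp).2, ((hc n hn hnp).1.mul_right (hc n hn hnp).2).mul_right (hc n hn hnp).1.inv_right⟩
  obtain ⟨hdx, hdy⟩ := hc _ hyz hd
  set d := y⁻¹ * z with hdd
  have hzd : z = y * d := by rw [hdd, mul_inv_cancel_left]
  have hcd : ⁅y, x⁻¹⁆ = d := by
    calc ⁅y, x⁻¹⁆ = x⁻¹ * (z * y⁻¹) * x := by rw [hz, commutatorElement_def]; group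
      _ = x⁻¹ * d * x := by rw [hzd, ← hdy.eq, mul_inv_cancel_right]
      _ = d := by rw [mul_assoc, hdx.eq, inv_mul_cancel_left]
  rw [Fusion.mul_pow_of_commute_commutator (hcd ▸ hdx.inv_right) (hcd ▸ hdy) p, inv_pow, hx, hy,
    hcd, inv_one, one_mul, one_mul]
  obtain ⟨k, hk⟩ := hp.out.dvd_choose_self two_ne_zero
    (lt_of_le_of_ne hp.out.two_le (Ne.symm hodd))
  rw [hk, pow_mul, hd, one_pow]

/-- A maximal normal elementary abelian subgroup contains the elements of order `p` of its
centraliser. -/
theorem mem_of_maximal_normal_elementary (hG : IsPGroup p G) (hodd : p ≠ 2) {E : Subgroup G}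
    [E.Normal] (hE : IsElementaryAbelian p E)
    (hmax : ∀ B : Subgroup G, B.Normal → IsElementaryAbelian p B → E ≤ B → B = E) {x : G}
    (hx : x ∈ centralizer (E : Set G)) (hxp : x ^ p = 1) : x ∈ E := by
  haveI := hG.isNilpotent
  set C := centralizer (E : Set G) with hC
  suffices h : ∀ i : ℕ, ∀ x ∈ Subgroup.upperCentralSeries G i, x ∈ C → x ^ p = 1 → x ∈ E by
    exact h _ x (by rw [Subgroup.upperCentralSeries_nilpotencyClass]; exact mem_top _) hx hxp
  clear hx hxp x
  intro i
  induction i with
  | zero =>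
    intro x hx _ _
    rw [Subgroup.upperCentralSeries_zero, mem_bot] at hx
    exact hx ▸ one_mem E
  | succ i ih =>
    intro x hx hxC hxp
    haveI hn : (Subgroup.upperCentralSeries G i ⊓ C).Normal := inferInstance
    have hdiff : ∀ g : G, x⁻¹ * (g * x * g⁻¹) ∈ E := by
      intro g
      set y := g * x * g⁻¹ with hy
      have hyp : y ^ p = 1 := by rw [hy, conj_pow, hxp, mul_one, mul_inv_cancel]
      have hyC : y ∈ C := (inferInstance : C.Normal).conj_mem x hxC g
      have hmem : x⁻¹ * y ∈ Subgroup.upperCentralSeries G i ⊓ C := by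
        refine Subgroup.mem_inf.mpr ⟨?_, C.mul_mem (C.inv_mem hxC) hyC⟩
        have := (Subgroup.mem_upperCentralSeries_succ_iff.mp (inv_mem hx)) g
        simpa [hy, commutatorElement_def, mul_assoc] using this
      refine ih _ hmem.1 hmem.2 (pow_eq_one_of_coset hG hodd hxp hyp hmem fun n hn hnp => ?_)
      have hnE := ih n hn.1 hn.2 hnp
      exact ⟨mem_centralizer_iff.mp hxC n hnE, mem_centralizer_iff.mp hyC n hnE⟩
    set B := E ⊔ zpowers x with hB
    have hBn : B.Normal := by
      refine ⟨fun b hb g => ?_⟩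
      have hle : B ≤ B.comap (MulAut.conj g).toMonoidHom := by
        refine sup_le (fun e he => ?_) (zpowers_le.mpr ?_)
        · exact mem_sup_left ((inferInstance : E.Normal).conj_mem e he g)
        · show g * x * g⁻¹ ∈ B
          rw [show g * x * g⁻¹ = x * (x⁻¹ * (g * x * g⁻¹)) by group]
          exact mul_mem (mem_sup_right (mem_zpowers x)) (mem_sup_left (hdiff g))
      exact hle hb
    have hBe : IsElementaryAbelian p B := by
      have hxE : E ≤ centralizer (zpowers x : Set G) :=
        le_centralizer_iff.mpr (zpowers_le.mpr hxC)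
      haveI := hE.1
      refine ⟨Fusion.isMulCommutative_sup_of_le_centralizer hE.1 inferInstance hxE, fun b hb => ?_⟩
      obtain ⟨e, he, z, hz, rfl⟩ := (Coprime.mem_sup_of_le_normalizer
        (N := E) (A := zpowers x) le_normalizer_of_normal).mp hb
      obtain ⟨j, rfl⟩ := mem_zpowers_iff.mp hz
      rw [(show Commute e (x ^ j) from
        (mem_centralizer_iff.mp (hxE he) (x ^ j) (zpow_mem (mem_zpowers x) j)).symm).mul_pow,
        hE.2 e he, one_mul, ← zpow_natCast, ← zpow_mul, mul_comm, zpow_mul, zpow_natCast, hxp,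
        one_zpow]
    exact hmax B hBn hBe le_sup_left ▸ mem_sup_right (mem_zpowers x)

/-- In rank at least three there is a normal elementary abelian subgroup of order at least `p ^ 3`
containing the elements of order `p` of its centraliser. -/
theorem exists_normal_elementary_omega (hG : IsPGroup p G) (hodd : p ≠ 2)
    (hr : ¬ PRankLE p 2 G) :
    ∃ E : Subgroup G, E.Normal ∧ IsElementaryAbelian p E ∧ p ^ 3 ≤ Nat.card E ∧
      ∀ x ∈ centralizer (E : Set G), x ^ p = 1 → x ∈ E := by
  obtain ⟨E, ⟨hEn, hEe⟩, hmax⟩ := Set.Finite.exists_maximal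
    (Set.toFinite {E : Subgroup G | E.Normal ∧ IsElementaryAbelian p E})
    ⟨⊥, inferInstance, inferInstance, fun a ha => by rw [mem_bot.mp ha, one_pow]⟩
  have hΩ : ∀ x ∈ centralizer (E : Set G), x ^ p = 1 → x ∈ E := fun x hx hxp =>
    mem_of_maximal_normal_elementary hG hodd hEe
      (fun B hB hBe hle => le_antisymm (hmax ⟨hB, hBe⟩ hle) hle) hx hxp
  refine ⟨E, hEn, hEe, ?_, hΩ⟩
  simp only [PRankLE] at hr
  push Not at hr
  obtain ⟨B, hBc, hBp, hBcard⟩ := hr
  haveI := hBc
  haveI := hEe.1
  by_contra hlt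
  rw [not_le] at hlt
  obtain ⟨n, hn⟩ := IsPGroup.iff_card.mp (hG.to_subgroup E)
  obtain ⟨b, hb⟩ := IsPGroup.iff_card.mp (hG.to_subgroup B)
  have hn2 : n ≤ 2 := by
    rw [hn] at hlt
    have := (Nat.pow_lt_pow_iff_right hp.out.one_lt).mp hlt
    omega
  have hb3 : 3 ≤ b := by
    rw [hb] at hBcard
    exact (Nat.pow_lt_pow_iff_right hp.out.one_lt).mp hBcard
  -- `G / C(E)` embeds in `Aut E`
  set φ : G →* MulAut E := MulAut.conjNormal with hφ
  have hker : φ.ker = centralizer (E : Set G) := by
    ext g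
    rw [MonoidHom.mem_ker, mem_centralizer_iff]
    constructor
    · intro h e he
      have h1 := congrArg Subtype.val (DFunLike.congr_fun h (⟨e, he⟩ : E))
      rw [hφ, MulAut.conjNormal_apply] at h1
      exact (mul_inv_eq_iff_eq_mul.mp h1).symm
    · intro h
      refine MulEquiv.ext fun e => Subtype.ext ?_
      rw [hφ, MulAut.conjNormal_apply, ← h e e.2, mul_inv_cancel_right]
      rfl
  obtain ⟨r, hrn, hrE⟩ : ∃ r, r ≤ n ∧ (frattini E).index = p ^ r := by
    have := Subgroup.index_dvd_card (frattini E)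
    rw [hn] at this
    obtain ⟨r, hr1, hr2⟩ := (Nat.dvd_prime_pow hp.out).mp this
    exact ⟨r, hr1, hr2⟩
  have hidx : Nat.card (B.map φ) ≤ p := by
    obtain ⟨j, hj⟩ := IsPGroup.iff_card.mp ((hG.to_subgroup B).map φ)
    rw [hj]
    have hdvd : p ^ j ∣ Nat.card (MulAut E) := hj ▸ Subgroup.card_subgroup_dvd_card _
    have hfr : frattini E = ⊥ := by
      refine le_bot_iff.mp ?_
      refine Fusion.frattini_le_of_elementary (p := p) _ ?_ fun x => ?_
      · rw [_root_.commutator_def, commutator_le]
        intro a _ c _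
        rw [mem_bot, commutatorElement_eq_one_iff_mul_comm]
        exact IsMulCommutative.is_comm.comm a c
      · rw [mem_bot]
        exact Subtype.ext (by simpa using hEe.2 x x.2)
    have hrn' : r = n := by
      rw [hfr, index_bot, hn] at hrE
      exact (Nat.pow_right_injective hp.out.two_le hrE).symm
    have h1 := hdvd.trans (FGS.card_mulAut_dvd hn hrE)
    subst hrn'
    rw [Nat.sub_self, mul_zero, pow_zero, one_mul] at h1
    interval_cases r
    · simp only [Finset.prod_range_zero, Nat.dvd_one] at h1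
      rw [h1]
      exact hp.out.one_le
    · simp only [Finset.prod_range_one, pow_one, pow_zero] at h1
      rcases Nat.eq_zero_or_pos j with rfl | hj0
      · simpa using hp.out.one_le
      · exact absurd (Nat.le_of_dvd (by have := hp.out.two_le; omega)
          ((dvd_pow_self p hj0.ne').trans h1)) (by have := hp.out.two_le; omega)
    · simp only [Finset.prod_range_succ, Finset.prod_range_zero, one_mul, pow_zero, pow_one] at h1
      rw [show (p ^ 2 - 1) * (p ^ 2 - p) = p * ((p ^ 2 - 1) * (p - 1)) by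
        rw [show p ^ 2 - p = p * (p - 1) by rw [Nat.mul_sub, mul_one, sq]]
        ring] at h1
      have hcop : (p ^ 2 - 1).Coprime p ∧ (p - 1).Coprime p := by
        have h2 : p ∣ p ^ 2 := dvd_pow_self p two_ne_zero
        have h4 : 1 ≤ p ^ 2 := Nat.one_le_pow _ _ hp.out.pos
        refine ⟨Nat.Coprime.symm (hp.out.coprime_iff_not_dvd.mpr fun h3 => ?_),
          Nat.Coprime.symm (hp.out.coprime_iff_not_dvd.mpr fun h3 => ?_)⟩
        · have h5 := Nat.dvd_sub h2 h3
          rw [show p ^ 2 - (p ^ 2 - 1) = 1 by omega] at h5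
          exact hp.out.not_dvd_one h5
        · have h5 := hp.out.two_le
          have := Nat.le_of_dvd (by omega) h3
          omega
      have h6 : p ^ j ∣ p :=
        ((hcop.1.mul_left hcop.2).symm.pow_left j).dvd_of_dvd_mul_right h1
      exact Nat.le_of_dvd hp.out.pos h6
  -- so `B ∩ C(E)` has order at least `p ^ 2`
  have hBC : B ⊓ centralizer (E : Set G) ≤ E := fun x hx => hΩ x hx.2 (hBp x hx.1)
  have hkcard : Nat.card (B ⊓ centralizer (E : Set G) : Subgroup G) * Nat.card (B.map φ) = Nat.card B := by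
    rw [← Subgroup.relIndex_ker φ (K := B), hker]
    rw [← Subgroup.inf_relIndex_left B (centralizer (E : Set G))]
    exact Coprime.card_mul_relIndex_of_le inf_le_left
  obtain ⟨c, hc⟩ := IsPGroup.iff_card.mp (hG.to_subgroup (B ⊓ centralizer (E : Set G)))
  have hc2 : 2 ≤ c := by
    have h1 : p ^ b ≤ p ^ (c + 1) := by
      rw [← hb, ← hkcard, hc, pow_succ]
      exact Nat.mul_le_mul_left _ hidx
    have := (Nat.pow_le_pow_iff_right hp.out.one_lt).mp h1
    omega
  have heq : B ⊓ centralizer (E : Set G) = E := by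
    refine Subgroup.eq_of_le_of_card_ge hBC ?_
    rw [hn, hc]
    exact Nat.pow_le_pow_right hp.out.pos (hn2.trans hc2)
  have hBle : B ≤ centralizer (E : Set G) := by
    refine (le_centralizer_iff_isMulCommutative.mpr hBc).trans (centralizer_le ?_)
    rw [← heq]
    exact inf_le_left
  have hBE : B ≤ E := fun x hx => hΩ x (hBle hx) (hBp x hx)
  have := Nat.le_of_dvd Nat.card_pos (card_dvd_of_le hBE)
  rw [hb, hn] at this
  have := (Nat.pow_le_pow_iff_right hp.out.one_lt).mp this
  omega

end Cfsg.Agent.OddLocal
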