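import Cfsg.Agent.OddLocal.TransConstrained

/-!
Criteria for the transitivity hypothesis in minimal simple groups of odd order.
-/

set_option autoImplicit false
set_option linter.unusedSectionVars false
set_option linter.style.haveILetI false

namespace Cfsg.Agent.OddLocal

open Subgroup Cfsg
open scoped Pointwise

universe u

variable {G : Type u} [Group G] [Finite G] {p : ℕ} [hp : Fact p.Prime]

theorem transitivityHypothesis_of_omega (hG : IsMinSimpleOddOrder G) (hpG : p ∣ Nat.card G)
    {A : Subgroup G} (hAp : IsPGroup p A) [IsMulCommutative A]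
    (hΩ : ∀ x ∈ centralizer (A : Set G), x ^ p = 1 → x ∈ A) : TransitivityHypothesis A := by
  have hp2 : p ≠ 2 := fun h => by
    have := hG.1.of_dvd_nat hpG
    rw [h] at this
    exact absurd this (by decide)
  have hA1 : A ≠ ⊥ := by
    intro h
    obtain ⟨x, hx⟩ := exists_prime_orderOf_dvd_card' p hpG
    have hxA := hΩ x (mem_centralizer_iff.mpr fun y hy => by
      rw [h] at hy
      rw [mem_bot.mp hy, one_mul, mul_one]) (hx ▸ pow_orderOf_eq_one x)
    rw [h, mem_bot] at hxA
    rw [hxA, orderOf_one] at hx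
    exact hp.out.one_lt.ne hx
  have hAtop : A ≠ ⊤ := fun h => hG.2.2.1 ⟨⟨fun a b => congrArg Subtype.val
    (IsMulCommutative.is_comm.comm (⟨a, h ▸ mem_top a⟩ : A) ⟨b, h ▸ mem_top b⟩)⟩⟩
  refine ⟨hA1, hAtop, fun X hX hAX => ?_⟩
  have hπ : primesNotDvd (Nat.card A) = primesNotDvd p := by
    obtain ⟨k, hk⟩ := IsPGroup.iff_card.mp hAp
    have hk0 : k ≠ 0 := fun h => hA1 (Subgroup.card_eq_one.mp (by rw [hk, h, pow_zero]))
    ext r
    refine and_congr_right fun hr => not_congr ⟨fun h => ?_, fun h => ?_⟩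
    · rw [hk] at h; exact hr.dvd_of_dvd_pow h
    · rw [hk]; exact dvd_pow h hk0
  rw [hπ]
  refine le_antisymm (sSup_le fun Y hY => ?_) (le_sSup ⟨piCoreOf_le _ X, piNum_piCoreOf _ X,
    hAX.trans (le_normalizer_piCoreOf _ X)⟩)
  obtain ⟨hYX, hYπ, hAY⟩ := hY
  haveI := hG.2.2.2 X hX
  haveI : IsMulCommutative (A.subgroupOf X) := ⟨⟨fun x y => Subtype.ext (Subtype.ext
    (congrArg (fun z : A => (z : G))
      (IsMulCommutative.is_comm.comm (⟨((x : X) : G), x.2⟩ : A) ⟨((y : X) : G), y.2⟩)))⟩⟩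
  have hQ : (Nat.card (Y.subgroupOf X)).Coprime p := by
    rw [Coprime.card_subgroupOf hYX]
    exact coprime_of_piNum_prime hYπ
  have hle : Y.subgroupOf X ≤ pPrimeCore p X := le_pPrimeCore_of_invariant_odd
    Layer.isPConstrained_of_isSolvable hp2 (A := A.subgroupOf X)
    (hAp.comap_of_injective _ X.subtype_injective)
    (fun x hx hxp => hΩ (x : G) (mem_centralizer_iff.mpr fun a ha =>
      congrArg Subtype.val (mem_centralizer_iff.mp hx ⟨a, hAX ha⟩ ha))
      (congrArg Subtype.val hxp)) hQ (fun a ha => by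
      rw [mem_normalizer_iff]
      exact fun y => mem_normalizer_iff.mp (hAY ha) (y : G))
  refine le_trans ?_ (le_piCoreOf (map_subtype_le (pPrimeCore p X))
    (LocalStructure.le_normalizer_map_characteristic (Q := X) Subgroup.le_normalizer _)
    (piNum_of_coprime ?_))
  · rw [← map_subgroupOf_eq_of_le hYX]
    exact map_mono hle
  · rw [card_map_of_injective X.subtype_injective]
    exact Core.coprime_card_pPrimeCore

/-- In a Sylow `p`-subgroup `P`, a self-centralising normal subgroup contains the `p`-elements of its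
centraliser in `G`. -/
theorem mem_of_scn {P : Sylow p G} {A : Subgroup G} (hA : IsSCN (P : Subgroup G) A) {x : G}
    (hx : x ∈ centralizer (A : Set G)) {k : ℕ} (hxk : x ^ p ^ k = 1) : x ∈ A := by
  set N := normalizer (A : Set G) with hN
  set C := centralizer (A : Set G) with hC
  have hCN : C ≤ N := centralizer_le_normalizer _
  haveI : (C.subgroupOf N).Normal := normal_subgroupOf_of_le_normalizer
    (Coprime.le_normalizer_centralizer le_rfl)
  let PN : Sylow p N := P.subtype hA.2.1
  have hxp : IsPGroup p (zpowers (⟨x, hCN hx⟩ : N)) := by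
    obtain ⟨j, -, hj⟩ := (Nat.dvd_prime_pow hp.out).mp (orderOf_dvd_of_pow_eq_one
      (Subtype.ext (by simpa using hxk) : (⟨x, hCN hx⟩ : N) ^ p ^ k = 1))
    exact IsPGroup.of_card (n := j) (by rw [Nat.card_zpowers, hj])
  obtain ⟨T, hT⟩ := hxp.exists_le_sylow
  obtain ⟨g, hg⟩ := MulAction.exists_smul_eq N T PN
  have h1 : g * (⟨x, hCN hx⟩ : N) * g⁻¹ ∈ (PN : Subgroup N) := by
    rw [← hg, Sylow.coe_subgroup_smul]
    exact Coprime.conj_mem_conj_smul (hT (mem_zpowers _))
  have h1' : (g : G) * x * (g : G)⁻¹ ∈ (P : Subgroup G) := h1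
  have h2 : (g : G) * x * (g : G)⁻¹ ∈ C :=
    (mem_normalizer_iff.mp (Coprime.le_normalizer_centralizer (A := N) le_rfl g.2) x).mp hx
  have h3 : (g : G) * x * (g : G)⁻¹ ∈ A := hA.2.2 ▸ ⟨h1', h2⟩
  exact (mem_normalizer_iff.mp g.2 x).mpr h3

end Cfsg.Agent.OddLocal
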