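import Cfsg.Agent.OddLocal.InvTransitivity
import Cfsg.Agent.LocalStructure.OmegaAction

/-!
Transitivity passes to overgroups containing `A` subnormally.
-/

set_option autoImplicit false
set_option linter.unusedSectionVars false
set_option linter.style.haveILetI false

namespace Cfsg.Agent.OddLocal

open Subgroup Cfsg
open scoped Pointwise

universe u

variable {G : Type u} [Group G] [Finite G]

instance piCore_characteristic (π : Set ℕ) : (piCore π G).Characteristic := by
  rw [characteristic_iff_map_le]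
  intro φ
  exact le_sSup ⟨(piCore_normal π G).map φ.toMonoidHom φ.surjective, fun r hr hd =>
    piNum_piCore π r hr (by rwa [card_map_of_injective φ.injective] at hd)⟩

theorem normalizer_le_normalizer_piCoreOf_centralizer (π : Set ℕ) (B : Subgroup G) :
    normalizer (B : Set G) ≤ normalizer (piCoreOf π (centralizer (B : Set G)) : Set G) :=
  LocalStructure.le_normalizer_map_characteristic (Q := centralizer (B : Set G))
    (Coprime.le_normalizer_centralizer le_rfl) _

variable {A : Subgroup G} {q : ℕ} [Fact q.Prime]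

theorem conj_mem_maxInv_of_normalizer {B Q : Subgroup G} (hQ : Q ∈ maxInvSubgroups ⊤ B {q}) {n : G}
    (hn : n ∈ normalizer (B : Set G)) : MulAut.conj n • Q ∈ maxInvSubgroups ⊤ B {q} := by
  have key : ∀ (R : Subgroup G) (d : G), d ∈ normalizer (B : Set G) →
      R ∈ invSubgroups ⊤ B {q} → MulAut.conj d • R ∈ invSubgroups ⊤ B {q} := by
    intro R d hd hR
    refine ⟨le_top, fun r hr hrd => hR.2.1 r hr (by rwa [Coprime.card_conj_smul] at hrd), ?_⟩
    intro b hb
    apply Coprime.mem_normalizer_of_conj_smul_eq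
    have hb' : d⁻¹ * b * d ∈ normalizer (R : Set G) := hR.2.2 (by
      have := (mem_normalizer_iff.mp (inv_mem hd) b).mp hb
      rwa [inv_inv] at this)
    rw [← Coprime.conj_mul_smul, show b * d = d * (d⁻¹ * b * d) by group, Coprime.conj_mul_smul,
      Coprime.conj_smul_eq_self_of_mem_normalizer hb']
  refine ⟨key Q n hn hQ.1, fun R hR hle => ?_⟩
  have h := hQ.2 _ (key R n⁻¹ (inv_mem hn) hR) (by
    intro x hx
    rw [Coprime.mem_conj_smul, inv_inv]
    exact hle (Coprime.conj_mem_conj_smul hx))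
  rw [← h, ← Coprime.conj_mul_smul, mul_inv_cancel, map_one, one_smul]

variable (hG : IsMinSimpleOddOrder G) (hTH : TransitivityHypothesis A)

include hG in
theorem ne_top_of_isPGroup_minSimple {Q : Subgroup G} (hQ : IsPGroup q Q) : Q ≠ ⊤ := by
  intro h
  subst h
  haveI := hG.2.1
  haveI : Group.IsNilpotent G := (hQ.of_equiv Subgroup.topEquiv).isNilpotent
  exact hG.2.2.1 ⟨⟨IsSimpleGroup.comm_iff_isSolvable.mpr inferInstance⟩⟩

include hG hTH in
/-- `O_{π(A)'}(C(B)) = K ∩ C(B)` for overgroups `B` of `A`. -/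
theorem piCoreOf_centralizer_eq {B : Subgroup G} (hAB : A ≤ B) :
    piCoreOf (primesNotDvd (Nat.card A)) (centralizer (B : Set G)) =
      piCoreOf (primesNotDvd (Nat.card A)) (centralizer (A : Set G)) ⊓ centralizer (B : Set G) :=
  le_antisymm
    (le_inf (hK_of_hypothesis hG hTH _ ((piCoreOf_le _ _).trans (centralizer_le hAB))
      (piNum_piCoreOf _ _)) (piCoreOf_le _ _))
    (piCoreOf_inf_le (centralizer_le hAB))

include hG hTH in
/-- One step of the subnormal chain. -/
theorem transitive_step (hqA : ¬ q ∣ Nat.card A) {B B' : Subgroup G} (hAB : A ≤ B) (hBB' : B ≤ B')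
    (hn : B' ≤ normalizer (B : Set G)) (htop : B' ≠ ⊤)
    (hπ : ∀ r : ℕ, r.Prime → r ∣ Nat.card B' → r ∣ Nat.card A)
    (hsub : maxInvSubgroups ⊤ B {q} ⊆ maxInvSubgroups ⊤ A {q})
    (htr : ∀ Q₁ ∈ maxInvSubgroups ⊤ B {q}, ∀ Q₂ ∈ maxInvSubgroups ⊤ B {q},
      Linked (piCoreOf (primesNotDvd (Nat.card A)) (centralizer (B : Set G))) Q₁ Q₂) :
    maxInvSubgroups ⊤ B' {q} ⊆ maxInvSubgroups ⊤ A {q} ∧
      ∀ Q₁ ∈ maxInvSubgroups ⊤ B' {q}, ∀ Q₂ ∈ maxInvSubgroups ⊤ B' {q},
        Linked (piCoreOf (primesNotDvd (Nat.card A)) (centralizer (B' : Set G))) Q₁ Q₂ := by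
  set π := primesNotDvd (Nat.card A) with hπdef
  set K := piCoreOf π (centralizer (B : Set G)) with hK
  have hqπ : q ∈ π := ⟨Fact.out, hqA⟩
  have hB'K : B' ≤ normalizer (K : Set G) :=
    hn.trans (normalizer_le_normalizer_piCoreOf_centralizer π B)
  have hcop : (Nat.card B').Coprime (Nat.card K) :=
    coprime_card_of_piNum (π := π) (fun r hr hd h => h.2 (hπ r hr hd)) (piNum_piCoreOf _ _)
  have hsolv : Group.IsSolvable B' ∨ Group.IsSolvable K := Or.inl (hG.2.2.2 B' htop)
  letI : MulAction G (Subgroup G) := MulAction.compHom (Subgroup G) (MulAut.conj : G →* MulAut G)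
  -- maximal `B'`-invariant subgroups are maximal for `B`
  have hsubB : maxInvSubgroups ⊤ B' {q} ⊆ maxInvSubgroups ⊤ B {q} := by
    intro Q hQ
    have hQq := isPGroup_of_singleton hQ.1.2.1
    obtain ⟨Q₁, hQ₁, hle⟩ := exists_max_ge (A := B) hQq (hBB'.trans hQ.1.2.2)
    suffices hEq : Q = Q₁ by rwa [hEq]
    by_contra hne
    have hlt : Q < Q₁ := lt_of_le_of_ne hle hne
    by_cases hb : Q = ⊥
    · -- the fixed point of `B'` is trivial
      obtain ⟨k, hk, hfix⟩ := Coprime.exists_fixed_point hB'K hcop hsolv Q₁ (fun b hb' => by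
        obtain ⟨k, hk, hkq⟩ := htr Q₁ hQ₁ _ (conj_mem_maxInv_of_normalizer hQ₁ (hn hb'))
        exact ⟨k, hk, by
          change MulAut.conj b • Q₁ = MulAut.conj k • Q₁
          rw [hkq, Coprime.conj_smul_eq_map]⟩)
      have hkC : k ∈ centralizer (B : Set G) := piCoreOf_le _ _ hk
      have hR := conj_mem_maxInv (A := B) hQ₁ hkC
      have hRinv : MulAut.conj k • Q₁ ∈ invSubgroups ⊤ B' {q} :=
        ⟨le_top, hR.1.2.1, fun b hb' => Coprime.mem_normalizer_of_conj_smul_eq (hfix b hb')⟩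
      have h1 := hQ.2 _ hRinv (hb ▸ bot_le)
      rw [hb] at h1
      refine hlt.ne' (hb ▸ le_bot_iff.mp fun x hx => ?_)
      have h2 := Coprime.conj_mem_conj_smul (g := k) hx
      rw [h1, mem_bot] at h2
      rw [mem_bot]
      exact conj_eq_one_iff.mp h2
    · set X := normalizer (Q : Set G) with hX
      have hXtop : X ≠ ⊤ :=
        ne_top_of_normal_ne_bot hG hb (ne_top_of_isPGroup_minSimple hG hQq)
      have hB'X : B' ≤ X := hQ.1.2.2
      haveI := (isPGroup_of_singleton hQ₁.1.2.1).isNilpotent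
      set U := X ⊓ Q₁ with hU
      have hUlt : Q < U := lt_normalizer_inf hlt
      have hUA : A ≤ normalizer (U : Set G) := Coprime.le_normalizer_inf
        (((hAB.trans hBB').trans hB'X).trans Subgroup.le_normalizer) (hAB.trans hQ₁.1.2.2)
      have hUq : IsPGroup q U := (isPGroup_of_singleton hQ₁.1.2.1).to_le inf_le_right
      set W := piCoreOf π X with hW
      have hUW : U ≤ W := le_piCoreOf_of_hypothesis hTH hXtop ((hAB.trans hBB').trans hB'X)
        inf_le_left (piNum_of_isPGroup hqπ hUq) hUA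
      have hB'W : B' ≤ normalizer (W : Set G) := hB'X.trans (le_normalizer_piCoreOf π X)
      obtain ⟨S, hQS, hS⟩ := Coprime.exists_le_invariant_sylow hB'W
        (coprime_card_of_piNum (π := π) (fun r hr hd h => h.2 (hπ r hr hd)) (piNum_piCoreOf _ _))
        (Or.inl (hG.2.2.2 B' htop)) (hUlt.le.trans hUW) hQq hQ.1.2.2
      have hSQ : (S : Subgroup W).map W.subtype = Q :=
        hQ.2 _ ⟨le_top, mem_singleton_of_isPGroup (S.2.map W.subtype), hS⟩ hQS
      have h1 : Nat.card U ≤ Nat.card Q := by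
        obtain ⟨T, hT⟩ := (IsPGroup.of_equiv hUq (subgroupOfEquivOfLe hUW).symm).exists_le_sylow
        rw [← hSQ, card_map_of_injective W.subtype_injective, S.card_eq_multiplicity,
          ← T.card_eq_multiplicity, ← Coprime.card_subgroupOf hUW]
        exact Nat.le_of_dvd Nat.card_pos (card_dvd_of_le hT)
      exact absurd h1 (not_le.mpr (Core.card_lt_of_lt hUlt))
  refine ⟨hsubB.trans hsub, fun Q₁ h₁ Q₂ h₂ => ?_⟩
  obtain ⟨k, hk, hkq⟩ := htr Q₁ (hsubB h₁) Q₂ (hsubB h₂)
  obtain ⟨c, hc, hcq⟩ := Coprime.exists_centralizer_smul_eq hB'K hcop hsolv (x := Q₁) (y := Q₂)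
    (fun b hb => Coprime.conj_smul_eq_self_of_mem_normalizer (h₁.1.2.2 hb))
    (fun b hb => Coprime.conj_smul_eq_self_of_mem_normalizer (h₂.1.2.2 hb)) hk
    (show MulAut.conj k • Q₁ = Q₂ by rw [hkq, Coprime.conj_smul_eq_map])
  refine ⟨c, piCoreOf_inf_le (centralizer_le hBB') hc, ?_⟩
  rw [← hcq]
  exact Coprime.conj_smul_eq_map c Q₁

include hG hTH in
/-- Transitivity along a subnormal chain from `A` to `P`. -/
theorem transitive_of_subnormal (hqA : ¬ q ∣ Nat.card A) {P : Subgroup G} (hP : P ≠ ⊤)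
    (hPπ : ∀ r : ℕ, r.Prime → r ∣ Nat.card P → r ∣ Nat.card A) (hAP : A ≤ P)
    (hsn : (A.subgroupOf P).IsSubnormal)
    (htr : ∀ Q₁ ∈ maxInvSubgroups ⊤ A {q}, ∀ Q₂ ∈ maxInvSubgroups ⊤ A {q},
      Linked (piCoreOf (primesNotDvd (Nat.card A)) (centralizer (A : Set G))) Q₁ Q₂) :
    maxInvSubgroups ⊤ P {q} ⊆ maxInvSubgroups ⊤ A {q} ∧
      ∀ Q₁ ∈ maxInvSubgroups ⊤ P {q}, ∀ Q₂ ∈ maxInvSubgroups ⊤ P {q},
        Linked (piCoreOf (primesNotDvd (Nat.card A)) (centralizer (P : Set G))) Q₁ Q₂ := by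
  let Good : Subgroup G → Prop := fun B =>
    maxInvSubgroups ⊤ B {q} ⊆ maxInvSubgroups ⊤ A {q} ∧
      ∀ Q₁ ∈ maxInvSubgroups ⊤ B {q}, ∀ Q₂ ∈ maxInvSubgroups ⊤ B {q},
        Linked (piCoreOf (primesNotDvd (Nat.card A)) (centralizer (B : Set G))) Q₁ Q₂
  have key : ∀ H : Subgroup P, H.IsSubnormal → A.subgroupOf P ≤ H → Good (H.map P.subtype) →
      Good ((⊤ : Subgroup P).map P.subtype) := by
    intro H hH
    induction hH with
    | top => exact fun _ h => h
    | step H K hle _ hN ih =>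
      intro hA hgood
      refine ih (hA.trans hle) ?_
      refine transitive_step hG hTH hqA ?_ (map_mono hle) ?_ ?_ ?_ hgood.1 hgood.2
      · rw [← map_subgroupOf_eq_of_le hAP]; exact map_mono hA
      · exact ((map_mono ((normal_subgroupOf_iff_le_normalizer hle).mp hN))).trans
          (le_normalizer_map _)
      · exact fun h => hP (top_le_iff.mp (h ▸ map_subtype_le _))
      · exact fun r hr hd => hPπ r hr (hd.trans (card_dvd_of_le (map_subtype_le _)))
  have h := key _ hsn le_rfl (by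
    show Good ((A.subgroupOf P).map P.subtype)
    rw [map_subgroupOf_eq_of_le hAP]
    exact ⟨le_rfl, htr⟩)
  rwa [← MonoidHom.range_eq_map, range_subtype] at h

include hG hTH in
/-- The normaliser of `P` factorises. -/
theorem normalizer_factorisation {P Q : Subgroup G} (hAP : A ≤ P)
    (hPπ : ∀ r : ℕ, r.Prime → r ∣ Nat.card P → r ∣ Nat.card A)
    (htr : ∀ Q₁ ∈ maxInvSubgroups ⊤ P {q}, ∀ Q₂ ∈ maxInvSubgroups ⊤ P {q},
      Linked (piCoreOf (primesNotDvd (Nat.card A)) (centralizer (P : Set G))) Q₁ Q₂)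
    (hQ : Q ∈ maxInvSubgroups ⊤ P {q}) :
    P ⊓ ⁅normalizer (P : Set G), normalizer (P : Set G)⁆ ≤
        ⁅normalizer (Q : Set G), normalizer (Q : Set G)⁆ ∧
      normalizer (P : Set G) = piCoreOf (primesNotDvd (Nat.card A)) (centralizer (P : Set G)) ⊔
        (normalizer (P : Set G) ⊓ normalizer (Q : Set G)) := by
  have _ := hTH
  have _ := hG
  have _ := hAP
  set π := primesNotDvd (Nat.card A) with hπ
  set M := normalizer (P : Set G) with hM
  set K := piCoreOf π (centralizer (P : Set G)) with hK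
  set L := M ⊓ normalizer (Q : Set G) with hL
  have hKM : K ≤ M := (piCoreOf_le _ _).trans (centralizer_le_normalizer _)
  have heq : M = K ⊔ L := by
    refine le_antisymm (fun n hn => ?_) (sup_le hKM inf_le_left)
    obtain ⟨k, hk, hkq⟩ := htr Q hQ _ (conj_mem_maxInv_of_normalizer hQ hn)
    rw [← Coprime.conj_smul_eq_map] at hkq
    have hl : k⁻¹ * n ∈ L := by
      refine ⟨M.mul_mem (M.inv_mem (hKM hk)) hn, Coprime.mem_normalizer_of_conj_smul_eq ?_⟩
      rw [Coprime.conj_mul_smul, hkq, ← Coprime.conj_mul_smul, inv_mul_cancel, map_one, one_smul]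
    rw [show n = k * (k⁻¹ * n) by group]
    exact mul_mem_sup hk hl
  refine ⟨?_, heq⟩
  rintro x ⟨hxP, hx⟩
  -- work in `M`, modulo the normal subgroup `K`
  set K' := K.subgroupOf M with hK'
  haveI : K'.Normal :=
    normal_subgroupOf_of_le_normalizer (normalizer_le_normalizer_piCoreOf_centralizer π P)
  set f := QuotientGroup.mk' K' with hf
  have hLM : L ≤ M := inf_le_left
  have himg : (L.subgroupOf M).map f = ⊤ := by
    rw [eq_top_iff]
    intro y _
    obtain ⟨m, rfl⟩ := QuotientGroup.mk'_surjective K' y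
    obtain ⟨k, hk, l, hl, hkl⟩ := (Coprime.mem_sup_of_le_normalizer
      (N := K) (A := L) (hLM.trans (normalizer_le_normalizer_piCoreOf_centralizer π P))
      (x := (m : G))).mp (heq ▸ m.2)
    refine ⟨⟨l, hLM hl⟩, hl, ?_⟩
    rw [← mul_inv_eq_one, ← map_inv, ← map_mul, hf, QuotientGroup.mk'_apply, QuotientGroup.eq_one_iff,
      hK', mem_subgroupOf]
    show l * (m : G)⁻¹ ∈ K
    rw [← hkl, mul_inv_rev, mul_inv_cancel_left]
    exact inv_mem hk
  have hxM : x ∈ M := Subgroup.le_normalizer hxP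
  have hx' : (⟨x, hxM⟩ : M) ∈ commutator M := by
    rw [← Subgroup.map_subtype_commutator] at hx
    obtain ⟨y, hy, hyx⟩ := hx
    have : y = ⟨x, hxM⟩ := Subtype.ext hyx
    rwa [this] at hy
  have h1 : f ⟨x, hxM⟩ ∈ (⁅L.subgroupOf M, L.subgroupOf M⁆ : Subgroup M).map f := by
    rw [map_commutator, himg]
    have h2 := mem_map_of_mem f hx'
    rw [_root_.commutator_def, map_commutator,
      Subgroup.map_top_of_surjective f (QuotientGroup.mk'_surjective K')] at h2
    exact h2
  obtain ⟨l, hl, hlx⟩ := h1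
  have hl' : (l : G) ∈ ⁅L, L⁆ := by
    have h3 := mem_map_of_mem M.subtype hl
    rw [map_commutator, map_subgroupOf_eq_of_le hLM] at h3
    exact h3
  set k := x * (l : G)⁻¹ with hk
  have hkK : k ∈ K := by
    have h3 : (⟨x, hxM⟩ : M) * l⁻¹ ∈ K' := by
      rw [← QuotientGroup.eq_one_iff, ← QuotientGroup.mk'_apply, ← hf, map_mul, map_inv, hlx,
        mul_inv_cancel]
    exact h3
  have hxL : x ∈ L := ⟨hxM, hQ.1.2.2 hxP⟩
  have hDL : ⁅L, L⁆ ≤ L := commutator_le.mpr fun a ha b hb => by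
    rw [commutatorElement_def]
    exact mul_mem (mul_mem (mul_mem ha hb) (inv_mem ha)) (inv_mem hb)
  have hxD : x ∈ ⁅L, L⁆ := by
    have hkL : k ∈ L := mul_mem hxL (inv_mem (hDL hl'))
    set ab : L →* L ⧸ commutator L := QuotientGroup.mk' (commutator L) with hab
    have h5 : ab ⟨x, hxL⟩ = ab ⟨k, hkL⟩ := by
      rw [← div_eq_one, ← map_div, hab, QuotientGroup.mk'_apply, QuotientGroup.eq_one_iff]
      rw [← Subgroup.map_subtype_commutator] at hl'
      obtain ⟨d, hd, hdl⟩ := hl'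
      have : (⟨x, hxL⟩ : L) / ⟨k, hkL⟩ = ⟨x, hxL⟩ * d * ⟨x, hxL⟩⁻¹ := by
        refine Subtype.ext ?_
        show x / k = x * (d : G) * x⁻¹
        rw [show (d : G) = (l : G) from hdl, hk, div_eq_mul_inv]
        group
      rw [this]
      exact (inferInstance : (commutator L).Normal).conj_mem d hd _
    have h6 : ab ⟨x, hxL⟩ ^ Nat.card P = 1 := by
      rw [← map_pow, show (⟨x, hxL⟩ : L) ^ Nat.card P = 1 from Subtype.ext
        (orderOf_dvd_iff_pow_eq_one.mp (P.orderOf_dvd_natCard hxP)), map_one]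
    have h7 : ab ⟨x, hxL⟩ ^ Nat.card K = 1 := by
      rw [h5, ← map_pow, show (⟨k, hkL⟩ : L) ^ Nat.card K = 1 from Subtype.ext
        (orderOf_dvd_iff_pow_eq_one.mp (K.orderOf_dvd_natCard hkK)), map_one]
    have h8 := pow_gcd_eq_one.mpr ⟨h6, h7⟩
    rw [(coprime_card_of_piNum (π := π) (fun r hr hd h => h.2 (hPπ r hr hd))
      (piNum_piCoreOf _ _)).gcd_eq_one, pow_one] at h8
    rw [← Subgroup.map_subtype_commutator]
    exact ⟨⟨x, hxL⟩, (QuotientGroup.eq_one_iff _).mp h8, rfl⟩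
  exact commutator_mono inf_le_right inf_le_right hxD

end Cfsg.Agent.OddLocal
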