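import Cfsg.Agent.OddLocal.FittingLocal
import Cfsg.Agent.OddLocal.TransOvergroup

/-!
Consequences of Bender's method: unique invariant Sylow subgroups, and uniqueness of the maximal
overgroup of large subgroups of `F(H)`.
-/

set_option autoImplicit false
set_option linter.unusedSectionVars false
set_option linter.style.haveILetI false

namespace Cfsg.Agent.OddLocal

open Subgroup Cfsg
open scoped Pointwise

universe u

variable {G : Type u} [Group G] [Finite G]

theorem le_normalizer_fittingOf (H : Subgroup G) : H ≤ normalizer (fittingOf H : Set G) :=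
  LocalStructure.le_normalizer_map_characteristic (Q := H) Subgroup.le_normalizer _

/-- S1481: the unique maximal invariant `q`-subgroup. -/
theorem existsUnique_max_invariant {H : Subgroup G}
    (hHmax : ∀ L : Subgroup G, IsLocalSubgroup L → H ≤ L → L = H)
    (hF2 : 2 ≤ (Nat.card (fittingOf H)).primeFactors.card)
    {M : Subgroup G} (hM : M ≤ fittingOf H)
    (hCM : fittingOf H ⊓ centralizer (M : Set G) ≤ M)
    {R : Subgroup G} (hR : Group.IsSolvable R) (hMR : M ≤ normalizer (R : Set G))
    (hXR : H ⊓ centralizer (fittingOf H : Set G) ≤ normalizer (R : Set G))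
    {q : ℕ} [Fact q.Prime] (hq : ¬ q ∣ Nat.card (fittingOf H)) :
    ∃! Q : Subgroup G, Q ∈ maxInvSubgroups R M {q} ∧
      (∀ Q' : Subgroup G, Q' ∈ maxInvSubgroups R M {q} →
        Q' ≤ piCoreOf (primesNotDvd (Nat.card (fittingOf H))) R ∧
        ¬ q ∣ Q'.relIndex (piCoreOf (primesNotDvd (Nat.card (fittingOf H))) R)) := by
  set F := fittingOf H with hF
  set π := primesNotDvd (Nat.card F) with hπ
  have hFn : Group.IsNilpotent F := isNilpotent_fittingOf H
  have hFH : F ≤ H := fittingOf_le H
  have hHF := le_normalizer_fittingOf H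
  have hloc : ∀ s : ℕ, s.Prime → s ∣ Nat.card F → normalizer (rCenter s F : Set G) ≤ H := by
    intro s hs hsd
    haveI := Fact.mk hs
    exact (hHmax _ ⟨s, _, hs, isPGroup_rCenter, rCenter_ne_bot hFn hsd, rfl⟩
      (le_normalizer_rCenter hHF)).le
  have hqπ : q ∈ π := ⟨Fact.out, hq⟩
  -- invariant `π`-subgroups of `R` centralising some `rCenter` are trivial
  have hfree : ∀ Y : Subgroup G, Y ≤ R → PiNum π Y → M ≤ normalizer (Y : Set G) →
      ∀ s : ℕ, s.Prime → s ∣ Nat.card F → Y ≤ centralizer (rCenter s F : Set G) → Y = ⊥ := by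
    intro Y hYR hY hMY s hs hsd hYs
    haveI := Fact.mk hs
    have h1 := le_centralizer_of_rCenter hFH hHF hFn hloc hM hCM hY hMY hsd hYs
    have h2 : R ⊓ (H ⊓ centralizer (F : Set G)) ≤ F := le_fittingOf_of_solvable
      (Coprime.isSolvable_of_le inf_le_left hR) inf_le_right
      (Coprime.le_normalizer_inf hXR Subgroup.le_normalizer)
    have h3 : Y ≤ F := (le_inf hYR h1).trans h2
    refine Subgroup.eq_bot_of_card_eq _ ?_
    by_contra hne
    obtain ⟨t, ht, htd⟩ := Nat.exists_prime_and_dvd hne
    exact (hY t ht htd).2 (htd.trans (card_dvd_of_le h3))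
  set W := piCoreOf π R with hW
  have hWR : W ≤ R := piCoreOf_le π R
  have hMW : M ≤ normalizer (W : Set G) :=
    LocalStructure.le_normalizer_map_characteristic (Q := R) hMR _
  have hcop : (Nat.card M).Coprime (Nat.card W) :=
    coprime_card_of_piNum (π := π) (fun s _ hd h => h.2 (hd.trans (card_dvd_of_le hM)))
      (piNum_piCoreOf π R)
  have hsolv : Group.IsSolvable M ∨ Group.IsSolvable W := Or.inr (Coprime.isSolvable_of_le hWR hR)
  have hmemW : ∀ Q ∈ invSubgroups R M {q}, Q ≤ W := fun Q hQ =>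
    le_piCoreOf_of_fixedFree hFH hHF hFn hloc hM hCM hF2 hR hMR hfree hQ.1
      (piNum_of_isPGroup hqπ (isPGroup_of_singleton hQ.2.1)) hQ.2.2
  obtain ⟨S, hS⟩ := Coprime.exists_invariant_sylow hMW hcop hsolv q
  set Q := (S : Subgroup W).map W.subtype with hQdef
  have hQinv : Q ∈ invSubgroups R M {q} :=
    ⟨(map_subtype_le _).trans hWR, mem_singleton_of_isPGroup (S.2.map W.subtype), hS⟩
  -- every invariant `q`-subgroup lies in `Q`
  have hle : ∀ Q' ∈ invSubgroups R M {q}, Q' ≤ Q := by
    intro Q' hQ'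
    obtain ⟨T, hT, hTi⟩ := Coprime.exists_le_invariant_sylow hMW hcop hsolv (hmemW Q' hQ')
      (isPGroup_of_singleton hQ'.2.1) hQ'.2.2
    obtain ⟨c, hc, hcT⟩ := Coprime.exists_centralizer_conj_sylow hMW hcop hsolv T S hTi hS
    have hc1 : (c : G) = 1 := by
      obtain ⟨r, hr⟩ : (Nat.card F).primeFactors.Nonempty := Finset.card_pos.mp (by omega)
      haveI := Fact.mk (Nat.prime_of_mem_primeFactors hr)
      have h0 := hfree (W ⊓ centralizer (M : Set G)) (inf_le_left.trans hWR)
        ((piNum_piCoreOf π R).mono inf_le_left)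
        (Coprime.le_normalizer_inf hMW (Coprime.le_normalizer_centralizer Subgroup.le_normalizer))
        r (Nat.prime_of_mem_primeFactors hr) (Nat.dvd_of_mem_primeFactors hr)
        (inf_le_right.trans (centralizer_le (rCenter_le_of_selfCentral hFn hM hCM r)))
      have hcm : (c : G) ∈ W ⊓ centralizer (M : Set G) := ⟨c.2, hc⟩
      rwa [h0, mem_bot] at hcm
    have : c = 1 := Subtype.ext hc1
    rw [this, map_one, one_smul] at hcT
    exact hT.trans (le_of_eq (by rw [hQdef, hcT]))
  have hQmax : Q ∈ maxInvSubgroups R M {q} :=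
    ⟨hQinv, fun R' hR' hle' => le_antisymm (hle R' hR') hle'⟩
  refine ⟨Q, ⟨hQmax, fun Q' hQ' => ?_⟩, fun Q' hQ' => (hQ'.1.2 Q hQinv (hle Q' hQ'.1.1)).symm⟩
  have hEq : Q = Q' := hQ'.2 Q hQinv (hle Q' hQ'.1)
  rw [← hEq]
  refine ⟨map_subtype_le _, fun hd => S.not_dvd_index ?_⟩
  rwa [relIndex, subgroupOf, hQdef, comap_map_eq_self_of_injective W.subtype_injective] at hd

/-! ### Maximal subgroups containing a large subgroup of `F(H)` -/

section MinSimple

variable (hG : IsMinSimpleOddOrder G)

include hG in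
theorem normalizer_eq_of_coatom {H T : Subgroup G} (hH : IsCoatom H) (hT : T ≠ ⊥) (hTtop : T ≠ ⊤)
    (hn : H ≤ normalizer (T : Set G)) : normalizer (T : Set G) = H :=
  (hH.le_iff.mp hn).resolve_left (ne_top_of_normal_ne_bot hG hT hTtop)

include hG in
theorem normalizer_rCenter_le {H : Subgroup G} (hH : IsCoatom H) {s : ℕ} (hs : s.Prime)
    (hd : s ∣ Nat.card (fittingOf H)) :
    normalizer (rCenter s (fittingOf H) : Set G) ≤ H := by
  haveI := Fact.mk hs
  refine (normalizer_eq_of_coatom hG hH (rCenter_ne_bot (isNilpotent_fittingOf H) hd) ?_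
    (le_normalizer_rCenter (le_normalizer_fittingOf H))).le
  exact ne_top_of_isPGroup_minSimple hG isPGroup_rCenter

include hG in
/-- The key inclusions. -/
theorem fittingOf_inclusions {H L M : Subgroup G} (hH : IsCoatom H) (hL : IsCoatom L)
    (hF2 : 2 ≤ (Nat.card (fittingOf H)).primeFactors.card)
    (hM : M ≤ fittingOf H)
    (hZM : fittingOf H ⊓ centralizer (fittingOf H : Set G) ≤ M)
    (hinv : ∀ Y ∈ invSubgroups ⊤ M (primesNotDvd (Nat.card (fittingOf H))), Y = ⊥)
    (hML : M ≤ L) :
    fittingOf L ≤ H ∧ fittingOf H ⊓ L ≤ fittingOf L ∧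
      (∀ s : ℕ, s.Prime → (s ∣ Nat.card (fittingOf L) ↔ s ∣ Nat.card (fittingOf H))) := by
  have _ := hM
  set F := fittingOf H with hFdef
  set FL := fittingOf L with hFLdef
  set π := primesNotDvd (Nat.card F) with hπ
  have hFn : Group.IsNilpotent F := isNilpotent_fittingOf H
  have hFLn : Group.IsNilpotent FL := isNilpotent_fittingOf L
  have hLs : Group.IsSolvable L := hG.2.2.2 L hL.1
  have hHF := le_normalizer_fittingOf H
  have hLFL := le_normalizer_fittingOf L
  have hZle : ∀ (s : ℕ) [Fact s.Prime], rCenter s F ≤ M := fun s _ =>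
    (le_inf (rCenter_le.trans rPart_le) (rCenter_le_centralizer hFn)).trans hZM
  have hOL : ∀ Y : Subgroup G, Y ≤ L → L ≤ normalizer (Y : Set G) → PiNum π Y → Y = ⊥ :=
    fun Y _ hn hY => hinv Y ⟨le_top, hY, hML.trans hn⟩
  have hcore : ∀ p : ℕ, p.Prime → p ∣ Nat.card F →
      rPrimePart p F ⊓ L ≤ (pPrimeCore p ↥L).map L.subtype := by
    intro p hp hd
    haveI := Fact.mk hp
    exact inf_le_pPrimeCore hLs isPGroup_rCenter ((hZle p).trans hML)
      ((centralizer_le_normalizer _).trans (normalizer_rCenter_le hG hH hp hd))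
      (le_normalizer_rPrimePart hHF) coprime_card_rPrimePart
      (rPrimePart_le_centralizer_rPart.trans (centralizer_le rCenter_le))
  -- the parts of `F(L)`
  have hFLpart : ∀ (s : ℕ) [Fact s.Prime], (¬ s ∣ Nat.card F → rPart s FL = ⊥) ∧
      rPart s FL ≤ H := by
    intro s hs
    have h1 : ¬ s ∣ Nat.card F → rPart s FL = ⊥ := fun h =>
      hOL _ (rPart_le.trans (fittingOf_le L)) (le_normalizer_rPart hLFL)
        (piNum_of_isPGroup (q := s) (show s ∈ π from ⟨hs.out, h⟩) isPGroup_rPart)
    refine ⟨h1, ?_⟩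
    by_cases hsF : s ∣ Nat.card F
    swap
    · rw [h1 hsF]; exact bot_le
    obtain ⟨r, hrF, hrs⟩ := Finset.exists_mem_ne hF2 s
    have hr := Nat.prime_of_mem_primeFactors hrF
    haveI := Fact.mk hr
    have hZr : rCenter r F ≤ (pPrimeCore s ↥L).map L.subtype :=
      (le_inf (rCenter_le.trans (rPart_le_rPrimePart hrs)) ((hZle r).trans hML)).trans
        (hcore s hs.out hsF)
    refine le_trans ?_ ((centralizer_le_normalizer _).trans
      (normalizer_rCenter_le hG hH hr (Nat.dvd_of_mem_primeFactors hrF)))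
    refine le_trans ?_ (centralizer_le hZr)
    have hsL : rPart s FL ≤ L := rPart_le.trans (fittingOf_le L)
    have hn : ((rPart s FL).subgroupOf L).Normal :=
      normal_subgroupOf_of_le_normalizer (le_normalizer_rPart hLFL)
    intro x hx
    rw [mem_centralizer_iff]
    rintro _ ⟨y, hy, rfl⟩
    exact congrArg Subtype.val (mem_centralizer_iff.mp (Core.pCore_le_centralizer_pPrimeCore
      (Core.le_pCore (N := (rPart s FL).subgroupOf L)
        (isPGroup_rPart.comap_of_injective _ L.subtype_injective)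
        (show (⟨x, hsL hx⟩ : L) ∈ (rPart s FL).subgroupOf L from hx))) y hy)
  have hi : FL ≤ H := (le_iSup_rPart hFLn).trans (iSup_le fun s =>
    haveI := Fact.mk s.2; (hFLpart s).2)
  -- the parts of `F ∩ L`
  have hDpart : ∀ (r : ℕ) [Fact r.Prime], rPart r F ⊓ L ≤ FL := by
    intro r hr
    by_cases hrF : r ∣ Nat.card F
    swap
    · refine le_trans inf_le_left (le_trans ?_ bot_le)
      obtain ⟨k, hk⟩ := IsPGroup.iff_card.mp (isPGroup_rPart (r := r) (F := F))
      refine le_of_eq (Subgroup.eq_bot_of_card_eq _ ?_)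
      rw [hk]
      rcases eq_or_ne k 0 with rfl | hk0
      · rw [pow_zero]
      · exact absurd ((dvd_pow_self _ hk0).trans (hk ▸ card_dvd_of_le rPart_le)) hrF
    set V := piCoreOf {t | t.Prime ∧ (t = r ∨ ¬ t ∣ Nat.card F)} L with hV
    have hVn : L ≤ normalizer (V : Set G) := le_normalizer_piCoreOf _ L
    have hD : rPart r F ⊓ L ≤ V := by
      refine le_piCoreOf_of_forall inf_le_right fun p hp hpπ => ?_
      haveI := Fact.mk hp
      have hpr : r ≠ p := fun h => hpπ ⟨hp, Or.inl h.symm⟩
      have hpF : p ∣ Nat.card F := by_contra fun h => hpπ ⟨hp, Or.inr h⟩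
      exact (inf_le_inf_right _ (rPart_le_rPrimePart hpr)).trans (hcore p hp hpF)
    obtain ⟨p, hpF, hpr⟩ := Finset.exists_mem_ne hF2 r
    have hp := Nat.prime_of_mem_primeFactors hpF
    haveI := Fact.mk hp
    set O := (pPrimeCore r ↥L).map L.subtype with hO
    have hOn : L ≤ normalizer (O : Set G) :=
      LocalStructure.le_normalizer_map_characteristic (Q := L) Subgroup.le_normalizer _
    have hVO : V ⊓ O = ⊥ := by
      refine hOL _ (inf_le_left.trans (piCoreOf_le _ L)) (Coprime.le_normalizer_inf hVn hOn)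
        fun t ht htd => ⟨ht, fun hn => ?_⟩
      rcases (piNum_piCoreOf _ L t ht (htd.trans (card_dvd_of_le inf_le_left))).2 with h | h
      · subst h
        refine Core.not_dvd_card_pPrimeCore (G := ↥L) (p := t) ?_
        have := htd.trans (card_dvd_of_le inf_le_right)
        rwa [hO, card_map_of_injective L.subtype_injective] at this
      · exact h hn
    have hZp : rCenter p F ≤ O :=
      (le_inf (rCenter_le.trans (rPart_le_rPrimePart hpr)) ((hZle p).trans hML)).trans
        (hcore r hr.out hrF)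
    have hVH : V ≤ H := by
      refine le_trans ?_ ((centralizer_le_normalizer _).trans
        (normalizer_rCenter_le hG hH hp (Nat.dvd_of_mem_primeFactors hpF)))
      refine le_trans ?_ (centralizer_le hZp)
      rw [← commutator_eq_bot_iff_le_centralizer, ← le_bot_iff, ← hVO]
      refine commutator_le.mpr fun v hv o ho => ?_
      rw [commutatorElement_def]
      refine ⟨?_, O.mul_mem ((mem_normalizer_iff.mp (hOn (piCoreOf_le _ L hv)) o).mp ho)
        (O.inv_mem ho)⟩
      have h2 := V.mul_mem hv ((mem_normalizer_iff.mp (hVn ((map_subtype_le _ : O ≤ L) ho)) v⁻¹).mp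
        (V.inv_mem hv))
      simpa [mul_assoc] using h2
    -- `rPart r F ⊓ L` is subnormal in `L`
    set D := rPart r F ⊓ L with hDdef
    have hDL : D ≤ L := inf_le_right
    have hDV : D.subgroupOf L ≤ V.subgroupOf L := fun x hx => hD hx
    haveI : (V.subgroupOf L).Normal := normal_subgroupOf_of_le_normalizer hVn
    have hsn : (D.subgroupOf L).IsSubnormal := by
      refine Subgroup.IsSubnormal.step _ _ hDV (Subgroup.Normal.isSubnormal inferInstance) ?_
      refine (normal_subgroupOf_iff_le_normalizer hDV).mpr fun v hv => ?_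
      rw [mem_normalizer_iff]
      exact fun y => mem_normalizer_iff.mp
        (show (v : G) ∈ normalizer (D : Set G) from
          Coprime.le_normalizer_inf (A := V) (hVH.trans (le_normalizer_rPart hHF))
            ((piCoreOf_le _ L).trans Subgroup.le_normalizer) hv) (y : G)
    have h1 := (Layer.subnormal_le_pCore hsn
      ((isPGroup_rPart.to_le inf_le_left).comap_of_injective _ L.subtype_injective)).trans
      (Core.pCore_le_fittingSubgroup r)
    rw [← map_subgroupOf_eq_of_le hDL]
    exact map_mono h1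
  have hii : F ⊓ L ≤ FL := by
    have hn : Group.IsNilpotent (F ⊓ L : Subgroup G) := Core.isNilpotent_mono hFn inf_le_left
    refine (le_iSup_rPart hn).trans (iSup_le fun s => ?_)
    haveI := Fact.mk s.2
    exact (le_inf (le_rPart_of_isPGroup hFn (rPart_le.trans inf_le_left) isPGroup_rPart)
      (rPart_le.trans inf_le_right)).trans (hDpart (s : ℕ))
  refine ⟨hi, hii, fun s hs => ?_⟩
  haveI := Fact.mk hs
  refine ⟨fun h => by_contra fun hn => ?_, fun h => ?_⟩
  · exact rPart_ne_bot hFLn h ((hFLpart s).1 hn)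
  · obtain ⟨k, hk⟩ := IsPGroup.iff_card.mp (isPGroup_rCenter (r := s) (F := F))
    have hk0 : k ≠ 0 := fun h0 => rCenter_ne_bot hFn h
      (Subgroup.card_eq_one.mp (by rw [hk, h0, pow_zero]))
    exact (dvd_pow_self _ hk0).trans (hk ▸ card_dvd_of_le
      ((le_inf (rCenter_le.trans rPart_le) ((hZle s).trans hML)).trans hii))

include hG in
/-- S1482: `H` is the only maximal subgroup containing `M`. -/
theorem eq_of_fitting_large {H L M : Subgroup G} (hH : IsCoatom H) (hL : IsCoatom L)
    (hF2 : 2 ≤ (Nat.card (fittingOf H)).primeFactors.card) (hM : M ≤ fittingOf H)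
    (hZM : fittingOf H ⊓ centralizer (fittingOf H : Set G) ≤ M)
    (hinv : ∀ Y ∈ invSubgroups ⊤ M (primesNotDvd (Nat.card (fittingOf H))), Y = ⊥)
    (hML : M ≤ L) : L = H := by
  obtain ⟨hi, hii, hπ⟩ := fittingOf_inclusions hG hH hL hF2 hM hZM hinv hML
  have hpf : (Nat.card (fittingOf L)).primeFactors = (Nat.card (fittingOf H)).primeFactors := by
    ext s
    simp only [Nat.mem_primeFactors, ne_eq, Nat.card_pos.ne', not_false_eq_true, and_true]
    exact and_congr_right fun hs => hπ s hs
  have hpn : primesNotDvd (Nat.card (fittingOf L)) = primesNotDvd (Nat.card (fittingOf H)) := by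
    ext s
    exact and_congr_right fun hs => not_congr (hπ s hs)
  have hMFL : M ≤ fittingOf L := (le_inf hM hML).trans hii
  obtain ⟨-, hii', -⟩ := fittingOf_inclusions hG hL hH (hpf.symm ▸ hF2) (le_refl (fittingOf L))
    inf_le_left (by
      rw [hpn]
      exact fun Y hY => hinv Y ⟨hY.1, hY.2.1, hMFL.trans hY.2.2⟩) hi
  have hFLF : fittingOf L ≤ fittingOf H := (le_inf le_rfl hi).trans hii'
  set F := fittingOf H with hFdef
  set FL := fittingOf L with hFLdef
  haveI : Group.IsNilpotent F := isNilpotent_fittingOf H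
  have hne : FL ≠ ⊥ := by
    intro h
    have h0 : (Nat.card FL).primeFactors = ∅ := by rw [h, card_bot, Nat.primeFactors_one]
    rw [hpf] at h0
    rw [h0, Finset.card_empty] at hF2
    omega
  have htop : FL ≠ ⊤ := fun h => hL.1 (top_le_iff.mp (h ▸ fittingOf_le L))
  have hNL : normalizer (FL : Set G) = L :=
    normalizer_eq_of_coatom hG hL hne htop (le_normalizer_fittingOf L)
  have heq : FL = F := by
    by_contra hne'
    refine absurd ((lt_normalizer_inf (lt_of_le_of_ne hFLF hne')).trans_le ?_) (lt_irrefl _)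
    rw [hNL, inf_comm]
    exact hii
  rw [← hNL, heq]
  exact normalizer_eq_of_coatom hG hH (heq ▸ hne) (heq ▸ htop) (le_normalizer_fittingOf H)

end MinSimple

end Cfsg.Agent.OddLocal
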