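import Cfsg.Agent.OddLocal.Bender
import Cfsg.Agent.FGS.AutFrattini
import Cfsg.Agent.OddLocal.Basic
import Cfsg.Agent.Core.Frattini

/-!
Solvable groups of odd order with a Sylow `p`-subgroup of rank at most two: `O_{p'}(G) S` is normal.
-/

set_option autoImplicit false
set_option linter.unusedSectionVars false
set_option linter.style.haveILetI false

namespace Cfsg.Agent.OddLocal

open Subgroup Cfsg
open scoped Pointwise commutatorElement

universe u

variable {G : Type u} [Group G] [Finite G] {p : ℕ} [hp : Fact p.Prime]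

/-- The arithmetic behind the rank two case. -/
theorem eq_one_of_modEq {q d : ℕ} (hq : q.Prime) (hq2 : q ≠ 2) (hp2 : p ≠ 2)
    (hmod : q ^ d ≡ 1 [MOD p]) (hdvd : q ^ d ∣ (p - 1) ^ 2 * (p + 1)) : d = 0 := by
  by_contra hd
  have hp3 : 3 ≤ p := by have := hp.out.two_le; omega
  set m := q ^ d with hm
  have hm1 : 1 < m := Nat.one_lt_pow hd hq.one_lt
  have hodd : Odd m := (hq.odd_of_ne_two hq2).pow
  obtain ⟨k, hk⟩ : p ∣ m - 1 := (Nat.modEq_iff_dvd' hm1.le).mp hmod.symm
  have hmp : p + 1 ≤ m := by
    rcases Nat.eq_zero_or_pos k with rfl | hk0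
    · omega
    · have : p * 1 ≤ p * k := Nat.mul_le_mul_left p hk0
      omega
  have hpodd := hp.out.odd_of_ne_two hp2
  by_cases hq1 : q ∣ p + 1
  · have hq' : ¬ q ∣ p - 1 := fun h => by
      have h2 := Nat.dvd_sub hq1 h
      rw [show p + 1 - (p - 1) = 2 by omega] at h2
      exact hq2 ((Nat.prime_dvd_prime_iff_eq hq Nat.prime_two).mp h2)
    have hco : m.Coprime ((p - 1) ^ 2) := ((hq.coprime_iff_not_dvd.mpr hq').pow_left d).pow_right 2
    have h3 := Nat.le_of_dvd (by omega) (hco.dvd_of_dvd_mul_left hdvd)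
    have h4 : m = p + 1 := by omega
    rw [h4] at hodd
    exact (Nat.not_odd_iff_even.mpr hpodd.add_one) hodd
  · have hco : m.Coprime (p + 1) := (hq.coprime_iff_not_dvd.mpr hq1).pow_left d
    obtain ⟨j, hj⟩ := hco.dvd_of_dvd_mul_right hdvd
    -- `j ≡ 1` modulo `p`, so `j = 1`
    have hj1 : j = 1 := by
      have h1 : (p - 1) ^ 2 ≡ 1 [MOD p] := by
        obtain ⟨a, rfl⟩ : ∃ a, p = a + 2 := ⟨p - 2, by omega⟩
        rw [show a + 2 - 1 = a + 1 by omega, Nat.ModEq.comm, Nat.modEq_iff_dvd' (by nlinarith)]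
        exact ⟨a, by
          rw [Nat.sub_eq_iff_eq_add (by nlinarith)]
          ring⟩
      have h2 : j ≡ 1 [MOD p] := by
        have h3 : m * j ≡ 1 * j [MOD p] := hmod.mul_right j
        rw [← hj, one_mul] at h3
        exact h3.symm.trans h1
      have hjle : j < p := by
        by_contra hge
        rw [not_lt] at hge
        have h4 : (p + 1) * p ≤ m * j := Nat.mul_le_mul hmp hge
        rw [← hj] at h4
        obtain ⟨a, rfl⟩ : ∃ a, p = a + 1 := ⟨p - 1, by omega⟩
        rw [Nat.add_sub_cancel] at h4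
        nlinarith
      have h5 : j % p = 1 % p := h2
      rwa [Nat.mod_eq_of_lt hjle, Nat.mod_eq_of_lt (by omega)] at h5
    rw [hj1, mul_one] at hj
    rw [← hj] at hodd
    exact (Nat.not_odd_iff_even.mpr ((Nat.Odd.sub_odd hpodd odd_one).pow_of_ne_zero two_ne_zero)) hodd

/-- A solvable group of odd order with trivial `O_p` whose order divides `p ^ k (p - 1)² (p + 1)` has
order prime to `p`. -/
theorem not_dvd_of_card_dvd [Group.IsSolvable G] (hodd : Odd (Nat.card G)) (hp2 : p ≠ 2)
    (hcore : pCore p G = ⊥) {k : ℕ} (hdvd : Nat.card G ∣ p ^ k * ((p - 1) ^ 2 * (p + 1))) :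
    ¬ p ∣ Nat.card G := by
  intro hpG
  obtain ⟨u, hu⟩ := exists_prime_orderOf_dvd_card' p hpG
  have huC : u ∈ centralizer (fittingSubgroup G : Set G) := by
    rw [← zpowers_le, le_centralizer_iff, Core.fittingSubgroup_eq_iSup_pCore]
    refine iSup_le fun q => ?_
    haveI := Fact.mk q.2
    by_cases hqp : (q : ℕ) = p
    · rw [hqp, hcore]; exact bot_le
    set U := pCore (q : ℕ) G with hU
    obtain ⟨e, he⟩ := IsPGroup.iff_card.mp (Core.pCore_isPGroup (p := (q : ℕ)) (G := G))
    haveI : U.Normal := Core.pCore_normal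
    set L := zpowers u with hL
    have hLp : IsPGroup p L := IsPGroup.of_card (n := 1) (by rw [pow_one, Nat.card_zpowers, hu])
    let _ : MulAction L U := MulAction.compHom U ((MulAut.conjNormal (H := U)).comp L.subtype)
    have hmod := hLp.card_modEq_card_fixedPoints U
    have hfix : ∀ v : U, v ∈ MulAction.fixedPoints L U ↔ (v : G) ∈ U ⊓ centralizer (L : Set G) := by
      intro v
      rw [MulAction.mem_fixedPoints]
      constructor
      · intro h
        refine ⟨v.2, mem_centralizer_iff.mpr fun a ha => ?_⟩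
        have := congrArg Subtype.val (h ⟨a, ha⟩)
        change a * (v : G) * a⁻¹ = v at this
        exact mul_inv_eq_iff_eq_mul.mp this
      · intro h a
        refine Subtype.ext ?_
        change (a : G) * (v : G) * (a : G)⁻¹ = v
        rw [mem_centralizer_iff.mp h.2 a a.2, mul_inv_cancel_right]
    have hcardfix : Nat.card (MulAction.fixedPoints L U) =
        Nat.card (U ⊓ centralizer (L : Set G) : Subgroup G) :=
      Nat.card_congr
        { toFun := fun v => ⟨v.1, (hfix v.1).mp v.2⟩
          invFun := fun v => ⟨⟨v.1, v.2.1⟩, (hfix _).mpr v.2⟩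
          left_inv := fun v => rfl
          right_inv := fun v => rfl }
    rw [hcardfix] at hmod
    obtain ⟨f, hfe, hf⟩ := (Nat.dvd_prime_pow q.2).mp
      (he ▸ card_dvd_of_le (inf_le_left : U ⊓ centralizer (L : Set G) ≤ U))
    rw [he, hf] at hmod
    have hcop : p.Coprime ((q : ℕ) ^ f) :=
      ((Nat.coprime_primes hp.out q.2).mpr (Ne.symm hqp)).pow_right f
    have hd : e - f = 0 := by
      rcases Nat.eq_zero_or_pos (e - f) with h | h
      · exact h
      have hdG : (q : ℕ) ^ (e - f) ∣ Nat.card G :=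
        (pow_dvd_pow _ (Nat.sub_le e f)).trans (he ▸ Subgroup.card_subgroup_dvd_card U)
      refine eq_one_of_modEq q.2 ?_ hp2 ?_ ?_
      · intro h2
        have := hodd.of_dvd_nat ((dvd_pow_self _ h.ne').trans hdG)
        rw [h2] at this
        exact absurd this (by decide)
      · refine Nat.ModEq.cancel_left_of_coprime hcop ?_
        rw [mul_one, ← pow_add, Nat.add_sub_cancel' hfe]
        exact hmod
      · exact (((Nat.coprime_primes q.2 hp.out).mpr hqp).pow (e - f) k).dvd_of_dvd_mul_left
          (hdG.trans hdvd)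
    have heq : U ⊓ centralizer (L : Set G) = U := by
      refine Subgroup.eq_of_le_of_card_ge inf_le_left ?_
      rw [he, hf]
      exact Nat.pow_le_pow_right q.2.pos (by omega)
    exact inf_eq_left.mp heq
  have hF := Core.centralizer_fittingSubgroup_le huC
  -- so `p` divides the order of the Fitting subgroup
  have hpF : p ∣ Nat.card (fittingSubgroup G) := hu ▸ (fittingSubgroup G).orderOf_dvd_natCard hF
  obtain ⟨P⟩ : Nonempty (Sylow p (fittingSubgroup G)) := inferInstance
  have hPn : (P : Subgroup (fittingSubgroup G)).Normal := inferInstance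
  haveI : (P : Subgroup (fittingSubgroup G)).Characteristic := P.characteristic_of_normal hPn
  haveI : ((P : Subgroup (fittingSubgroup G)).map (fittingSubgroup G).subtype).Normal := by
    rw [← normalizer_eq_top_iff, eq_top_iff]
    exact LocalStructure.le_normalizer_map_characteristic le_normalizer_of_normal _
  have hle : (P : Subgroup (fittingSubgroup G)).map (fittingSubgroup G).subtype ≤ pCore p G :=
    Core.le_pCore (P.2.map _)
  rw [hcore, le_bot_iff, Subgroup.map_eq_bot_iff_of_injective _ (fittingSubgroup G).subtype_injective]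
    at hle
  exact P.ne_bot_of_dvd_card hpF hle

/-- An exponent `p` class two group of rank at most two has order at most `p ^ 3` and is at most
two-generated. -/
theorem small_of_rank_le_two {D : Type u} [Group D] [Finite D] (hexp : ∀ x : D, x ^ p = 1)
    (hcl : commutator D ≤ center D) (hr : PRankLE p 2 D) :
    ∃ n r : ℕ, Nat.card D = p ^ n ∧ (frattini D).index = p ^ r ∧ r ≤ 2 := by
  have hD : IsPGroup p D := fun x => ⟨1, by rw [pow_one]; exact hexp x⟩
  obtain ⟨n, hn⟩ := IsPGroup.iff_card.mp hD
  obtain ⟨r, hr1, hr2⟩ := (Nat.dvd_prime_pow hp.out).mp (hn ▸ Subgroup.index_dvd_card (frattini D))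
  refine ⟨n, r, hn, hr2, ?_⟩
  by_cases hcomm : ∀ a b : D, a * b = b * a
  · have h1 := hr ⊤ ⟨⟨fun a b => Subtype.ext (hcomm a b)⟩⟩ (fun a _ => hexp a)
    rw [card_top, hn] at h1
    exact hr1.trans ((Nat.pow_le_pow_iff_right hp.out.one_lt).mp h1)
  push Not at hcomm
  obtain ⟨x, y, hxy⟩ := hcomm
  -- `Z = center D` has order `p`
  have habel : ∀ z : D, ∀ A : Subgroup D, IsMulCommutative A → A ≤ centralizer {z} →
      Nat.card (A ⊔ zpowers z : Subgroup D) ≤ p ^ 2 := fun z A hA hAz =>
    hr _ (Fusion.isMulCommutative_sup_of_le_centralizer hA inferInstance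
      (by rwa [zpowers_eq_closure, centralizer_closure])) (fun a _ => hexp a)
  have hxC : center D ≤ centralizer {x} := fun z hz =>
    mem_centralizer_singleton_iff.mpr (mem_center_iff.mp hz x).symm
  set Z := center D with hZ
  set A := Z ⊔ zpowers x with hA
  have hxZ : x ∉ Z := fun h => hxy (mem_center_iff.mp h y).symm
  have hAle : Nat.card A ≤ p ^ 2 := habel x Z inferInstance hxC
  obtain ⟨za, hza⟩ := IsPGroup.iff_card.mp (hD.to_subgroup Z)
  obtain ⟨aa, haa⟩ := IsPGroup.iff_card.mp (hD.to_subgroup A)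
  have hlt : Z < A := lt_of_le_of_ne le_sup_left fun h => hxZ (h ▸ mem_sup_right (mem_zpowers x))
  have hza1 : za = 1 ∧ aa = 2 := by
    have h1 := Core.card_lt_of_lt hlt
    rw [hza, haa] at h1
    have h2 := (Nat.pow_lt_pow_iff_right hp.out.one_lt).mp h1
    rw [haa] at hAle
    have h3 := (Nat.pow_le_pow_iff_right hp.out.one_lt).mp hAle
    have h4 : za ≠ 0 := by
      intro h0
      have hb : Z = ⊥ := Subgroup.card_eq_one.mp (by rw [hza, h0, pow_zero])
      have hc : ⁅x, y⁆ ∈ Z := hcl (commutator_mem_commutator (mem_top _) (mem_top _))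
      rw [hb, mem_bot] at hc
      exact hxy (commutatorElement_eq_one_iff_mul_comm.mp hc)
    omega
  -- the centraliser of `x` is `A`
  have hCA : centralizer {x} ≤ A := by
    intro w hw
    have hAc : IsMulCommutative A := Fusion.isMulCommutative_sup_of_le_centralizer inferInstance
      inferInstance (by rwa [zpowers_eq_closure, centralizer_closure])
    have hAw : A ≤ centralizer {w} := sup_le
      (fun z hz => mem_centralizer_singleton_iff.mpr (mem_center_iff.mp hz w).symm)
      (zpowers_le.mpr (mem_centralizer_singleton_iff.mpr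
        (mem_centralizer_singleton_iff.mp hw).symm))
    have h1 := habel w A hAc hAw
    have h2 : A ⊔ zpowers w = A := (Subgroup.eq_of_le_of_card_ge le_sup_left (by
      rw [haa, hza1.2]; exact h1)).symm
    exact h2 ▸ mem_sup_right (mem_zpowers w)
  let φ : D →* Z :=
    { toFun := fun w => ⟨⁅x, w⁆, hcl (commutator_mem_commutator (mem_top _) (mem_top _))⟩
      map_one' := Subtype.ext (commutatorElement_one_right x)
      map_mul' := fun a b => Subtype.ext (Fusion.commutatorElement_mul_right_of_le_center hcl x a b) }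
  have hker : φ.ker ≤ A := fun w hw => hCA (mem_centralizer_singleton_iff.mpr
    (commutatorElement_eq_one_iff_mul_comm.mp (congrArg Subtype.val hw)).symm)
  have h1 : Nat.card D ≤ p ^ 3 := by
    rw [← φ.ker.card_mul_index, Subgroup.index_ker]
    calc Nat.card φ.ker * Nat.card φ.range ≤ p ^ 2 * p := by
          refine Nat.mul_le_mul ((Nat.le_of_dvd Nat.card_pos (card_dvd_of_le hker)).trans
            (by rw [haa, hza1.2])) ?_
          calc Nat.card φ.range ≤ Nat.card Z :=
                Nat.le_of_dvd Nat.card_pos (Subgroup.card_subgroup_dvd_card _)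
            _ = p := by rw [hza, hza1.1, pow_one]
      _ = p ^ 3 := by ring
  have hfr : frattini D ≠ ⊥ := by
    intro h
    haveI := hD.isNilpotent
    have hc : ⁅x, y⁆ ∈ frattini D :=
      Core.commutator_le_frattini (commutator_mem_commutator (mem_top _) (mem_top _))
    rw [h, mem_bot] at hc
    exact hxy (commutatorElement_eq_one_iff_mul_comm.mp hc)
  rw [hn] at h1
  have hn3 := (Nat.pow_le_pow_iff_right hp.out.one_lt).mp h1
  by_contra hr3
  have h2 := (frattini D).card_mul_index
  rw [hr2, hn] at h2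
  have h3 : Nat.card (frattini D) * p ^ r ≤ 1 * p ^ r := by
    rw [h2, one_mul]
    exact Nat.pow_le_pow_right hp.out.pos (by omega)
  exact hfr (Subgroup.eq_bot_of_card_le _ (Nat.le_of_mul_le_mul_right h3 (pow_pos hp.out.pos r)))

theorem pRankLE_of_injective {H K : Type*} [Group H] [Group K] [Finite K] {k : ℕ} (f : H →* K)
    (hf : Function.Injective f) (h : PRankLE p k K) : PRankLE p k H := fun A hA hAp => by
  haveI := hA
  rw [← card_map_of_injective hf (K := A)]
  exact h _ (Subgroup.map_isMulCommutative A f) (by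
    rintro _ ⟨a, ha, rfl⟩
    rw [← map_pow, hAp a ha, map_one])

/-- In a solvable group of odd order with Sylow `p`-subgroup of rank at most two, `O_{p'}(G) S` is
normal. -/
theorem sup_sylow_normal_of_rank_le_two [Group.IsSolvable G] (hodd : Odd (Nat.card G)) (hp2 : p ≠ 2)
    (S : Sylow p G) (hr : PRankLE p 2 ↥(S : Subgroup G)) :
    (pPrimeCore p G ⊔ (S : Subgroup G)).Normal := by
  set N := pPrimeCore p G with hN
  set f := QuotientGroup.mk' N with hf
  have hfs : Function.Surjective f := QuotientGroup.mk'_surjective N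
  have hker : f.ker = N := QuotientGroup.ker_mk' N
  set T := S.mapSurjective hfs with hT
  set U := pCore p (G ⧸ N) with hU
  suffices hUT : (T : Subgroup (G ⧸ N)) = U by
    have h1 : ((S : Subgroup G).map f).Normal := by
      rw [← Sylow.coe_mapSurjective hfs S, ← hT, hUT]
      exact Core.pCore_normal
    have h2 : (((S : Subgroup G).map f).comap f).Normal := h1.comap f
    rwa [comap_map_eq, hker, sup_comm] at h2
  have hUp : IsPGroup p U := Core.pCore_isPGroup
  have hUle : U ≤ (T : Subgroup (G ⧸ N)) := Core.pCore_le_sylow T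
  have hsc : Layer.PCoreSelfCentral p (G ⧸ N) :=
    Layer.isPConstrained_iff_selfCentral.mp Layer.isPConstrained_of_isSolvable
  haveI : U.Normal := Core.pCore_normal
  obtain ⟨D, hDU, hDn, hDV, hdet⟩ := exists_detecting hp2 hUp
  -- `D` has rank at most two
  have hrT : PRankLE p 2 ↥(T : Subgroup (G ⧸ N)) := by
    have e : (S : Subgroup G) ≃* (T : Subgroup (G ⧸ N)) := by
      refine MulEquiv.ofBijective ((f.comp (S : Subgroup G).subtype).codRestrict _ fun x => ?_) ⟨?_, ?_⟩
      · rw [Sylow.coe_mapSurjective]; exact mem_map_of_mem f x.2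
      · intro a b hab
        have h1 : f a = f b := congrArg Subtype.val hab
        have h2 : (a : G)⁻¹ * b ∈ N ⊓ (S : Subgroup G) :=
          ⟨hker ▸ (show (a : G)⁻¹ * b ∈ f.ker by
            rw [MonoidHom.mem_ker, map_mul, map_inv, h1, inv_mul_cancel]),
          Subgroup.mul_mem _ (Subgroup.inv_mem _ a.2) b.2⟩
        rw [inf_comm, Layer.inf_eq_bot_of_isPGroup S.2 Core.coprime_card_pPrimeCore, mem_bot,
          inv_mul_eq_one] at h2
        exact Subtype.ext h2
      · rintro ⟨y, hy⟩
        rw [Sylow.coe_mapSurjective] at hy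
        obtain ⟨x, hx, rfl⟩ := hy
        exact ⟨⟨x, hx⟩, rfl⟩
    exact pRankLE_of_injective e.symm.toMonoidHom e.symm.injective hr
  obtain ⟨n, r, hn, hri, hr2⟩ := small_of_rank_le_two (p := p) (D := D)
    (fun x => Subtype.ext (by simpa using hDV.1 x x.2))
    (by
      rw [_root_.commutator_def, commutator_le]
      intro a _ b _
      rw [mem_center_iff]
      intro c
      have h := commutatorElement_eq_one_iff_mul_comm.mp (hDV.2 a a.2 b b.2 c c.2)
      exact Subtype.ext h.symm)
    (pRankLE_of_injective (inclusion (hDU.trans hUle)) (inclusion_injective _) hrT)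
  -- the kernel of the action on `D` lies in `U`
  haveI := hDn
  set φ : G ⧸ N →* MulAut D := MulAut.conjNormal with hφ
  have hkerU : φ.ker ≤ U := by
    refine Core.le_pCore (N := φ.ker) ?_
    by_contra hne
    obtain ⟨z, hz, hz1, hzo⟩ := Layer.exists_coprime_orderOf hne
    have hzD : zpowers z ≤ centralizer (D : Set (G ⧸ N)) := by
      rw [zpowers_le, mem_centralizer_iff]
      intro d hd
      have h := congrArg Subtype.val (DFunLike.congr_fun (MonoidHom.mem_ker.mp hz) (⟨d, hd⟩ : D))
      rw [hφ, MulAut.conjNormal_apply] at h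
      exact (mul_inv_eq_iff_eq_mul.mp h).symm
    have hzcop : (Nat.card (zpowers z)).Coprime p := by rwa [Nat.card_zpowers]
    exact hz1 (zpowers_eq_bot.mp
      (eq_bot_of_le_centralizer_pCore hsc hzcop (hdet _ hzcop hzD)))
  have hdvd : Nat.card ((G ⧸ N) ⧸ U) ∣ p ^ (r * (n - r) + 1) * ((p - 1) ^ 2 * (p + 1)) := by
    have h1 : Nat.card ((G ⧸ N) ⧸ U) ∣ Nat.card (MulAut D) := by
      rw [← Subgroup.index_eq_card]
      refine (Subgroup.index_dvd_of_le hkerU).trans ?_
      rw [Subgroup.index_ker]
      exact Subgroup.card_subgroup_dvd_card _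
    refine h1.trans ((FGS.card_mulAut_dvd hn hri).trans ?_)
    rw [pow_succ, mul_assoc]
    refine Nat.mul_dvd_mul_left _ ?_
    interval_cases r
    · simp
    · simp only [Finset.prod_range_one, pow_one, pow_zero]
      exact dvd_mul_of_dvd_right (dvd_mul_of_dvd_left (dvd_pow_self _ two_ne_zero) _) _
    · refine dvd_of_eq ?_
      simp only [Finset.prod_range_succ, Finset.prod_range_zero, one_mul, pow_zero, pow_one]
      obtain ⟨a, rfl⟩ : ∃ a, p = a + 1 := ⟨p - 1, by have := hp.out.pos; omega⟩
      rw [Nat.add_sub_cancel, show (a + 1) ^ 2 - 1 = a * (a + 2) by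
        rw [Nat.sub_eq_iff_eq_add (Nat.one_le_pow _ _ (by omega))]; ring,
        show (a + 1) ^ 2 - (a + 1) = (a + 1) * a by
        rw [Nat.sub_eq_iff_eq_add (by nlinarith)]; ring]
      ring
  have hoddY : Odd (Nat.card ((G ⧸ N) ⧸ U)) :=
    hodd.of_dvd_nat ((Subgroup.card_quotient_dvd_card U).trans (Subgroup.card_quotient_dvd_card N))
  have hndvd := not_dvd_of_card_dvd hoddY hp2 Core.pCore_quotient_eq_bot hdvd
  rw [← Subgroup.index_eq_card] at hndvd
  refine le_antisymm ?_ hUle
  obtain ⟨P, hP⟩ : ∃ P : Sylow p (G ⧸ N), (P : Subgroup (G ⧸ N)) = U :=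
    ⟨IsPGroup.toSylow hUp hndvd, rfl⟩
  refine le_of_eq (Subgroup.eq_of_le_of_card_ge hUle ?_).symm
  rw [← hP, T.card_eq_multiplicity, P.card_eq_multiplicity]

end Cfsg.Agent.OddLocal
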