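import Cfsg.Prelude.Def_Local
import Cfsg.Agent.Core.PCore
import Cfsg.Agent.Core.Basics

/-!
Groups of `p`-length one.
-/

set_option autoImplicit false

namespace Cfsg.Agent.OddLocal

open Subgroup

universe u

variable {G : Type u} [Group G] [Finite G] {p : ℕ} [Fact p.Prime]

theorem coprime_card_comap {N : Subgroup G} [N.Normal] {B : Subgroup (G ⧸ N)} :
    Nat.card (B.comap (QuotientGroup.mk' N)) = Nat.card N * Nat.card B := by
  have h1 := card_mul_index (B.comap (QuotientGroup.mk' N))
  rw [index_comap_of_surjective B (QuotientGroup.mk'_surjective N), ← card_mul_index N,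
    Subgroup.index_eq_card N, ← card_mul_index B] at h1
  refine Nat.eq_of_mul_eq_mul_right (Nat.pos_of_ne_zero B.index_ne_zero_of_finite) ?_
  rw [h1]; ring

/-- For `p`-length one, a Sylow subgroup together with the `p'`-core is normal. -/
theorem normal_pPrimeCore_sup (hpl : Cfsg.PLengthLE p 1 G) (S : Sylow p G) :
    (pPrimeCore p G ⊔ (S : Subgroup G)).Normal := by
  let U1 := (upperPSeries p G 1).1
  let U2 := (upperPSeries p G 2).1
  have e1 : U1 = (pPrimeCore p (G ⧸ (upperPSeries p G 0).1)).comap (QuotientGroup.mk' _) := by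
    simp [U1, upperPSeries]
  have e2 : U2 = (pCore p (G ⧸ (upperPSeries p G 1).1)).comap (QuotientGroup.mk' _) := by
    simp [U2, upperPSeries]
  have e3 : (upperPSeries p G 3).1 =
      (pPrimeCore p (G ⧸ (upperPSeries p G 2).1)).comap (QuotientGroup.mk' _) := by
    simp [upperPSeries]
  have hU1 : U1.Normal := (upperPSeries p G 1).2
  have hU2 : U2.Normal := (upperPSeries p G 2).2
  have h0 : Nat.card U1 = Nat.card (pPrimeCore p (G ⧸ (upperPSeries p G 0).1)) := by
    rw [e1, coprime_card_comap, show Nat.card (upperPSeries p G 0).1 = 1 from card_bot, one_mul]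
  have hc1 : (Nat.card U1).Coprime p := h0 ▸ Core.coprime_card_pPrimeCore
  have hidx : ¬ p ∣ U2.index := by
    have htop : (upperPSeries p G 3).1 = ⊤ := hpl
    rw [e3] at htop
    have : pPrimeCore p (G ⧸ (upperPSeries p G 2).1) = ⊤ := by
      apply comap_injective (QuotientGroup.mk'_surjective _)
      rw [htop, comap_top]
    rw [Subgroup.index_eq_card U2]
    intro hd
    refine Core.not_dvd_card_pPrimeCore (p := p) (G := G ⧸ (upperPSeries p G 2).1) ?_
    rwa [this, card_top]
  have hSU : (S : Subgroup G) ≤ U2 := by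
    refine Core.le_of_coprime_index ?_
    obtain ⟨n, hn⟩ := IsPGroup.iff_card.mp S.isPGroup'
    rw [hn]
    exact Nat.Coprime.pow_left n ((Nat.Prime.coprime_iff_not_dvd Fact.out).mpr hidx)
  have hU1le : U1 ≤ pPrimeCore p G := Core.le_pPrimeCore hc1
  have hU2eq : U1 ⊔ (S : Subgroup G) = U2 := by
    have hU12 : U1 ≤ U2 := by
      rw [e2]
      intro x hx
      rw [mem_comap, show QuotientGroup.mk' (upperPSeries p G 1).1 x = 1 from
        (QuotientGroup.eq_one_iff x).mpr hx]
      exact one_mem _
    refine eq_of_le_of_card_ge (sup_le hU12 hSU) ?_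
    have hd : U1 ⊓ (S : Subgroup G) = ⊥ := by
      obtain ⟨n, hn⟩ := IsPGroup.iff_card.mp S.isPGroup'
      exact disjoint_iff.mp (disjoint_of_coprime_natCard (hn ▸ hc1.pow_right n))
    obtain ⟨m, hm⟩ := IsPGroup.iff_card.mp (Core.pCore_isPGroup (p := p)
      (G := G ⧸ (upperPSeries p G 1).1))
    have hcard : Nat.card U2 = Nat.card U1 * p ^ m := by rw [e2, coprime_card_comap, hm]
    rw [sup_comm, Core.card_sup_of_inf_eq_bot (by rw [inf_comm]; exact hd), hcard, mul_comm]
    refine Nat.mul_le_mul_right _ (Nat.le_of_dvd Nat.card_pos ?_)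
    exact S.pow_dvd_card_of_pow_dvd_card
      ((Dvd.intro_left _ hcard.symm).trans (card_subgroup_dvd_card U2))
  have : pPrimeCore p G ⊔ (S : Subgroup G) = pPrimeCore p G ⊔ U2 := by
    rw [← hU2eq, ← sup_assoc, sup_of_le_left hU1le]
  rw [this]
  infer_instance

/-- Elements of a `p`-subgroup outside the kernel of the reduction modulo the `p'`-core. -/
theorem inf_pPrimeCore_eq_bot {Q : Subgroup G} (hQ : IsPGroup p Q) :
    Q ⊓ pPrimeCore p G = ⊥ := by
  obtain ⟨n, hn⟩ := IsPGroup.iff_card.mp hQ
  exact disjoint_iff.mp (disjoint_of_coprime_natCard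
    (hn ▸ (Core.coprime_card_pPrimeCore.symm.pow_left n)))

/-- Frattini argument: for `p`-length one, `G = O_{p'}(G) N_G(S)`. -/
theorem pPrimeCore_sup_normalizer (hpl : Cfsg.PLengthLE p 1 G) (S : Sylow p G) :
    pPrimeCore p G ⊔ normalizer ((S : Subgroup G) : Set G) = ⊤ := by
  have hn := normal_pPrimeCore_sup hpl S
  have h := Sylow.normalizer_sup_eq_top' (N := pPrimeCore p G ⊔ (S : Subgroup G)) S le_sup_right
  rw [eq_top_iff, ← h]
  exact sup_le le_sup_right (sup_le le_sup_left (Subgroup.le_normalizer.trans le_sup_right))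

end Cfsg.Agent.OddLocal
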