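import Cfsg.Agent.OddLocal.TransCriteria
import Cfsg.Agent.OddLocal.TransOvergroup
import Cfsg.Agent.OddLocal.FittingUniqueness
import Cfsg.Agent.OddLocal.NormalElementary
import Cfsg.Agent.OddLocal.RankTwoSolvable
import Cfsg.Agent.S1457
import Cfsg.Agent.S1458

/-!
The first steps of Bender's uniqueness theorem: a noncyclic elementary abelian `p`-subgroup whose
invariant `p'`-subgroups lie in one maximal subgroup lies in only that one.
-/

set_option autoImplicit false
set_option linter.unusedSectionVars false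
set_option linter.style.haveILetI false

namespace Cfsg.Agent.OddLocal

open Subgroup Cfsg
open scoped Pointwise

universe u

variable {G : Type u} [Group G] [Finite G] {p : ℕ} [hp : Fact p.Prime]

theorem primesNotDvd_card_eq {A : Subgroup G} (hAp : IsPGroup p A) (hA : A ≠ ⊥) :
    primesNotDvd (Nat.card A) = primesNotDvd p := by
  obtain ⟨k, hk⟩ := IsPGroup.iff_card.mp hAp
  have hk0 : k ≠ 0 := fun h => hA (Subgroup.card_eq_one.mp (by rw [hk, h, pow_zero]))
  ext r
  refine and_congr_right fun hr => not_congr ⟨fun h => ?_, fun h => ?_⟩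
  · rw [hk] at h; exact hr.dvd_of_dvd_pow h
  · rw [hk]; exact dvd_pow h hk0

theorem map_pPrimeCore_le_piCoreOf (X : Subgroup G) :
    (pPrimeCore p ↥X).map X.subtype ≤ piCoreOf (primesNotDvd p) X :=
  le_piCoreOf (map_subtype_le _)
    (LocalStructure.le_normalizer_map_characteristic (Q := X) Subgroup.le_normalizer _)
    (piNum_of_coprime (by
      rw [card_map_of_injective X.subtype_injective]
      exact Core.coprime_card_pPrimeCore))

/-- A solvable group's `p'`-subgroups normalised by a Sylow `p`-subgroup lie in `O_{p'}`. -/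
theorem le_pPrimeCore_of_sylow_invariant [Group.IsSolvable G] (S : Sylow p G) {Y : Subgroup G}
    (hY : (Nat.card Y).Coprime p) (hSY : (S : Subgroup G) ≤ normalizer (Y : Set G)) :
    Y ≤ pPrimeCore p G := by
  set f := QuotientGroup.mk' (pPrimeCore p G) with hf
  have hfs : Function.Surjective f := QuotientGroup.mk'_surjective _
  suffices Y.map f = ⊥ by rwa [Subgroup.map_eq_bot_iff, hf, QuotientGroup.ker_mk'] at this
  have hY' : (Nat.card (Y.map f)).Coprime p := hY.coprime_dvd_left (card_map_dvd _ f)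
  set U := pCore p (G ⧸ pPrimeCore p G) with hU
  have hUY : U ≤ normalizer ((Y.map f : Subgroup _) : Set (G ⧸ pPrimeCore p G)) :=
    (Core.pCore_le_sylow (S.mapSurjective hfs)).trans ((map_mono hSY).trans (le_normalizer_map f))
  refine eq_bot_of_le_centralizer_pCore
    (Layer.isPConstrained_iff_selfCentral.mp Layer.isPConstrained_of_isSolvable) hY' ?_
  rw [← commutator_eq_bot_iff_le_centralizer, ← le_bot_iff,
    ← Layer.inf_eq_bot_of_isPGroup (Core.pCore_isPGroup (p := p) (G := G ⧸ pPrimeCore p G)) hY']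
  haveI : U.Normal := Core.pCore_normal
  refine le_inf (commutator_le_right _ U) ?_
  rw [commutator_comm]
  exact Subgroup.le_normalizer_iff_commutator_le_right.mp hUY

/-- Frattini argument modulo the `p'`-core. -/
theorem le_core_sup_normalizer {X T : Subgroup G} (hT : IsPGroup p T) (hTX : T ≤ X)
    (hn : ((T.subgroupOf X).map (QuotientGroup.mk' (pPrimeCore p ↥X))).Normal) :
    X ≤ piCoreOf (primesNotDvd p) X ⊔ (X ⊓ normalizer (T : Set G)) := by
  set f := QuotientGroup.mk' (pPrimeCore p ↥X) with hf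
  have hker : (Nat.card f.ker).Coprime p := by
    rw [hf, QuotientGroup.ker_mk']
    exact Core.coprime_card_pPrimeCore
  have h1 : (normalizer ((T.subgroupOf X : Subgroup X) : Set X)).map f = ⊤ := by
    have hTp : IsPGroup p (T.subgroupOf X) := hT.comap_of_injective _ X.subtype_injective
    rw [Layer.map_normalizer_of_coprime (QuotientGroup.mk'_surjective _) hker hTp]
    exact normalizer_eq_top_iff.mpr hn
  intro x hx
  have h2 : f ⟨x, hx⟩ ∈ (normalizer ((T.subgroupOf X : Subgroup X) : Set X)).map f := by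
    rw [h1]; exact mem_top _
  obtain ⟨n, hn', hnx⟩ := h2
  have h3 : (⟨x, hx⟩ : X) * n⁻¹ ∈ pPrimeCore p ↥X := by
    rw [← QuotientGroup.eq_one_iff, ← QuotientGroup.mk'_apply, ← hf, map_mul, map_inv, hnx,
      mul_inv_cancel]
  have h4 : (n : G) ∈ normalizer (T : Set G) := by
    rw [mem_normalizer_iff]
    intro t
    constructor
    · intro ht
      exact (mem_normalizer_iff.mp hn' ⟨t, hTX ht⟩).mp ht
    · intro ht
      have htX : t ∈ X := by
        have := X.mul_mem (X.mul_mem (X.inv_mem n.2) (hTX ht)) n.2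
        simpa [mul_assoc] using this
      exact (mem_normalizer_iff.mp hn' ⟨t, htX⟩).mpr ht
  rw [show x = (x * (n : G)⁻¹) * n by group]
  exact mul_mem_sup (map_pPrimeCore_le_piCoreOf X ⟨_, h3, rfl⟩) ⟨n.2, h4⟩

theorem normalizer_le_normalizer_centerThompsonOf (hp2 : p ≠ 2) (R : Subgroup G) :
    normalizer (R : Set G) ≤ normalizer (centerThompsonOf p R : Set G) := by
  intro g hg
  rw [mem_normalizer_iff_map_conj_eq]
  refine ((Fusion.GlaubermanThompson.isZSel_centerThompsonOf (p := p) hp2).map_injective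
    (f := (MulAut.conj g).toMonoidHom) (MulAut.conj g).injective R).trans ?_
  exact congrArg (centerThompsonOf p) (mem_normalizer_iff_map_conj_eq.mp hg)

/-- `X = O_{p'}(X) N_X(ZJ(R))` for a Sylow `p`-subgroup `R` of a solvable `X` of odd order. -/
theorem le_core_sup_normalizer_zj (hp2 : p ≠ 2) {X R : Subgroup G} (hX : Group.IsSolvable X)
    (hodd : Odd (Nat.card X)) (S : Sylow p X) (hS : (S : Subgroup X).map X.subtype = R) :
    X ≤ piCoreOf (primesNotDvd p) X ⊔ (X ⊓ normalizer (centerThompsonOf p R : Set G)) := by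
  haveI := hX
  have hR : IsPGroup p R := hS ▸ S.2.map _
  have hW := Fusion.GlaubermanThompson.isZSel_centerThompsonOf (p := p) hp2
  have hZle : centerThompsonOf p R ≤ R := hW.le G R
  have hRX : R ≤ X := hS ▸ map_subtype_le _
  have heq : (centerThompsonOf p R).subgroupOf X = centerThompsonOf p (S : Subgroup X) := by
    rw [← hS, ← hW.map_injective X.subtype_injective, subgroupOf,
      comap_map_eq_self_of_injective X.subtype_injective]
  refine le_core_sup_normalizer (hR.to_le hZle) (hZle.trans hRX) ?_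
  rw [heq]
  have h1 := S1458.result hodd p S
  have h2 := h1.map (QuotientGroup.mk' (pPrimeCore p ↥X)) (QuotientGroup.mk'_surjective _)
  rwa [Subgroup.map_sup, (Subgroup.map_eq_bot_iff (pPrimeCore p ↥X)).mpr
    (QuotientGroup.ker_mk' _).ge, sup_bot_eq] at h2

/-- Elements of order `p` centralising a normal subgroup of a Sylow subgroup `P` can be moved into
`P`. -/
theorem mem_of_omega_sylow (P : Sylow p G) {E : Subgroup G}
    (hPE : (P : Subgroup G) ≤ normalizer (E : Set G))
    (hΩ : ∀ x ∈ (P : Subgroup G) ⊓ centralizer (E : Set G), x ^ p = 1 → x ∈ E) {x : G}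
    (hx : x ∈ centralizer (E : Set G)) (hxp : x ^ p = 1) : x ∈ E := by
  set N := normalizer (E : Set G) with hN
  set C := centralizer (E : Set G) with hC
  have hCN : C ≤ N := centralizer_le_normalizer _
  let PN : Sylow p N := P.subtype hPE
  have hxpg : IsPGroup p (zpowers (⟨x, hCN hx⟩ : N)) := by
    obtain ⟨j, -, hj⟩ := (Nat.dvd_prime_pow hp.out).mp (orderOf_dvd_of_pow_eq_one
      (Subtype.ext (by simpa using hxp) : (⟨x, hCN hx⟩ : N) ^ p ^ 1 = 1))
    exact IsPGroup.of_card (n := j) (by rw [Nat.card_zpowers, hj])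
  obtain ⟨T, hT⟩ := hxpg.exists_le_sylow
  obtain ⟨g, hg⟩ := MulAction.exists_smul_eq N T PN
  have h1 : g * (⟨x, hCN hx⟩ : N) * g⁻¹ ∈ (PN : Subgroup N) := by
    rw [← hg, Sylow.coe_subgroup_smul]
    exact Coprime.conj_mem_conj_smul (hT (mem_zpowers _))
  have h1' : (g : G) * x * (g : G)⁻¹ ∈ (P : Subgroup G) := h1
  have h2 : (g : G) * x * (g : G)⁻¹ ∈ C :=
    (mem_normalizer_iff.mp (Coprime.le_normalizer_centralizer (A := N) le_rfl g.2) x).mp hx
  exact (mem_normalizer_iff.mp g.2 x).mpr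
    (hΩ _ ⟨h1', h2⟩ (by rw [conj_pow, hxp, mul_one, mul_inv_cancel]))

/-- A `p`-subgroup with no larger `p`-subgroup in `X` above it is Sylow in `X`. -/
theorem exists_sylow_eq {R X : Subgroup G} (hR : IsPGroup p R) (hRX : R ≤ X)
    (hmax : ∀ T : Subgroup G, T ≤ X → IsPGroup p T → R ≤ T → T = R) :
    ∃ S : Sylow p X, (S : Subgroup X).map X.subtype = R := by
  obtain ⟨S, hS⟩ := (IsPGroup.of_equiv hR (subgroupOfEquivOfLe hRX).symm).exists_le_sylow
  refine ⟨S, hmax _ (map_subtype_le _) (S.2.map _) ?_⟩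
  have := map_mono (f := X.subtype) hS
  rwa [map_subgroupOf_eq_of_le hRX] at this

/-- Above a `p`-subgroup of `X` there is one without larger ones. -/
theorem exists_max_pSubgroup {R X : Subgroup G} (hR : IsPGroup p R) (hRX : R ≤ X) :
    ∃ P : Subgroup G, R ≤ P ∧ P ≤ X ∧ IsPGroup p P ∧
      ∀ T : Subgroup G, T ≤ X → IsPGroup p T → P ≤ T → T = P := by
  obtain ⟨P, ⟨h1, h2, h3⟩, hmax⟩ := wellFounded_gt.has_min
    {P : Subgroup G | R ≤ P ∧ P ≤ X ∧ IsPGroup p P} ⟨R, le_rfl, hRX, hR⟩
  exact ⟨P, h1, h2, h3, fun T hT hTp hle => (eq_of_le_of_not_lt hle fun hlt =>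
    hmax T ⟨h1.trans hle, hT, hTp⟩ hlt).symm⟩

/-- A subgroup all whose invariant `p'`-subgroups lie in `M`. -/
def LocalTo (p : ℕ) (B M : Subgroup G) : Prop :=
  ∀ Y : Subgroup G, PiNum (primesNotDvd p) Y → B ≤ normalizer (Y : Set G) → Y ≤ M

section MinSimple

variable (hG : IsMinSimpleOddOrder G)

include hG in
theorem prime_ne_two_of_pGroup {R : Subgroup G} (hR : IsPGroup p R) (hne : R ≠ ⊥) : p ≠ 2 := by
  obtain ⟨k, hk⟩ := IsPGroup.iff_card.mp hR
  have hk0 : k ≠ 0 := fun h => hne (Subgroup.card_eq_one.mp (by rw [hk, h, pow_zero]))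
  intro h
  have := hG.1.of_dvd_nat ((dvd_pow_self p hk0).trans (hk ▸ Subgroup.card_subgroup_dvd_card R))
  rw [h] at this
  exact absurd this (by decide)

include hG in
theorem odd_card_subgroup (X : Subgroup G) : Odd (Nat.card X) :=
  hG.1.of_dvd_nat (Subgroup.card_subgroup_dvd_card X)

include hG in
theorem eq_top_of_inUniqueMaximal_bot : ¬ InUniqueMaximal (⊥ : Subgroup G) := by
  rintro ⟨M, ⟨hM, -⟩, huniq⟩
  refine hM.1 (eq_top_iff.mpr fun x _ => ?_)
  have hx : zpowers x ≠ ⊤ := fun h => hG.2.2.1 ⟨⟨fun a b => by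
    obtain ⟨i, rfl⟩ := mem_zpowers_iff.mp (h ▸ mem_top a : a ∈ zpowers x)
    obtain ⟨j, rfl⟩ := mem_zpowers_iff.mp (h ▸ mem_top b : b ∈ zpowers x)
    exact ((Commute.refl x).zpow_zpow i j).eq⟩⟩
  obtain ⟨L, hL, hle⟩ := (eq_top_or_exists_le_coatom (zpowers x)).resolve_left hx
  exact huniq L ⟨hL, bot_le⟩ ▸ hle (mem_zpowers x)

/-- Overgroups of a uniqueness subgroup. -/
theorem inUniqueMaximal_of_le {B K : Subgroup G} (hB : InUniqueMaximal B) (hBK : B ≤ K)
    (hK : K ≠ ⊤) : InUniqueMaximal K := by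
  obtain ⟨L, hL, hKL⟩ := (eq_top_or_exists_le_coatom K).resolve_left hK
  exact ⟨L, ⟨hL, hKL⟩, fun L' hL' => hB.unique ⟨hL'.1, hBK.trans hL'.2⟩ ⟨hL, hBK.trans hKL⟩⟩

include hG in
/-- All proper subgroups containing a Sylow `p`-subgroup of `M` that contains `B` lie in `M`. -/
theorem le_of_contains_sylow {M B P : Subgroup G} (hM : IsCoatom M) (hB : B ≠ ⊥)
    (hloc : LocalTo p B M) (hBP : B ≤ P) (hPM : P ≤ M) (hP : IsPGroup p P)
    (hmax : ∀ T : Subgroup G, T ≤ M → IsPGroup p T → P ≤ T → T = P)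
    {X : Subgroup G} (hX : X ≠ ⊤) (hPX : P ≤ X) : X ≤ M := by
  set π := primesNotDvd p with hπ
  set W := piCoreOf π M with hW
  have hWM : W ≤ M := piCoreOf_le π M
  have hMW : M ≤ normalizer (W : Set G) := le_normalizer_piCoreOf π M
  have hPne : P ≠ ⊥ := fun h => hB (le_bot_iff.mp (h ▸ hBP))
  have hp2 : p ≠ 2 := prime_ne_two_of_pGroup hG hP hPne
  have hMs : Group.IsSolvable M := hG.2.2.2 M hM.1
  obtain ⟨SM, hSM⟩ := exists_sylow_eq hP hPM hmax
  -- invariant `p'`-subgroups lie in `W`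
  have hinv : ∀ Y : Subgroup G, PiNum π Y → P ≤ normalizer (Y : Set G) → Y ≤ W := by
    intro Y hY hPY
    have hYM : Y ≤ M := hloc Y hY (hBP.trans hPY)
    haveI := hMs
    have h1 : Y.subgroupOf M ≤ pPrimeCore p ↥M := by
      refine le_pPrimeCore_of_sylow_invariant SM ?_ fun x hx => ?_
      · rw [Coprime.card_subgroupOf hYM]
        exact coprime_of_piNum_prime hY
      · rw [mem_normalizer_iff]
        exact fun y => mem_normalizer_iff.mp (hPY (hSM ▸ mem_map_of_mem M.subtype hx)) (y : G)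
    rw [← map_subgroupOf_eq_of_le hYM]
    exact (map_mono h1).trans (map_pPrimeCore_le_piCoreOf M)
  have hOX : piCoreOf π X ≤ W :=
    hinv _ (piNum_piCoreOf π X) (hPX.trans (le_normalizer_piCoreOf π X))
  have hOXM : piCoreOf π X ≤ M := hOX.trans hWM
  have hXs : Group.IsSolvable X := hG.2.2.2 X hX
  -- conjugates fixing an invariant maximum
  have hfix : ∀ n : G, MulAut.conj n • W ≤ W → W ≠ ⊥ → n ∈ M := by
    intro n hn hne
    have h1 : MulAut.conj n • W = W :=
      Subgroup.eq_of_le_of_card_ge hn (Coprime.card_conj_smul n W).ge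
    have h2 : W ≠ ⊤ := fun h => hM.1 (top_le_iff.mp (h ▸ hWM))
    rw [← normalizer_eq_of_coatom hG hM hne h2 hMW]
    exact Coprime.mem_normalizer_of_conj_smul_eq h1
  have hconjπ : ∀ n : G, PiNum π (MulAut.conj n • W : Subgroup G) := fun n =>
    piNum_of_card_eq (piNum_piCoreOf π M) (Coprime.card_conj_smul n W)
  -- normalisers are controlled
  have hNP : normalizer (P : Set G) ≤ M := by
    by_cases hW0 : W = ⊥
    · have hle := le_core_sup_normalizer_zj hp2 hMs (odd_card_subgroup hG M) SM hSM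
      rw [← hW, hW0, bot_sup_eq] at hle
      have hZne : centerThompsonOf p P ≠ ⊥ :=
        (Fusion.GlaubermanThompson.isZSel_centerThompsonOf (p := p) hp2).ne_bot G P hP hPne
      have hZtop : centerThompsonOf p P ≠ ⊤ := fun h => hM.1 (top_le_iff.mp (h ▸
        ((Fusion.GlaubermanThompson.isZSel_centerThompsonOf (p := p) hp2).le G P).trans hPM))
      rw [← normalizer_eq_of_coatom hG hM hZne hZtop (hle.trans inf_le_right)]
      exact normalizer_le_normalizer_centerThompsonOf hp2 P
    · intro n hn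
      refine hfix n (hinv _ (hconjπ n) fun x hx => Coprime.mem_normalizer_of_conj_smul_eq ?_) hW0
      have hx' : n⁻¹ * x * n ∈ P := by
        have := (mem_normalizer_iff.mp (inv_mem hn) x).mp hx
        rwa [inv_inv] at this
      rw [← Coprime.conj_mul_smul, show x * n = n * (n⁻¹ * x * n) by group, Coprime.conj_mul_smul,
        Coprime.conj_smul_eq_self_of_mem_normalizer (hMW (hPM hx'))]
  have hPmax : ∀ T : Subgroup G, IsPGroup p T → P ≤ T → T = P := by
    intro T hT hle
    by_contra hne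
    haveI := hT.isNilpotent
    have hlt := lt_normalizer_inf (lt_of_le_of_ne hle (Ne.symm hne))
    exact hlt.ne (hmax _ (inf_le_left.trans hNP) (hT.to_le inf_le_right) hlt.le).symm
  obtain ⟨SX, hSX⟩ := exists_sylow_eq hP hPX fun T _ hT hle => hPmax T hT hle
  by_cases hW0 : W = ⊥
  · have hle := le_core_sup_normalizer_zj hp2 hXs (odd_card_subgroup hG X) SX hSX
    refine hle.trans (sup_le hOXM ?_)
    have hle' := le_core_sup_normalizer_zj hp2 hMs (odd_card_subgroup hG M) SM hSM
    rw [← hW, hW0, bot_sup_eq] at hle'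
    have hZne : centerThompsonOf p P ≠ ⊥ :=
      (Fusion.GlaubermanThompson.isZSel_centerThompsonOf (p := p) hp2).ne_bot G P hP hPne
    have hZtop : centerThompsonOf p P ≠ ⊤ := fun h => hM.1 (top_le_iff.mp (h ▸
      ((Fusion.GlaubermanThompson.isZSel_centerThompsonOf (p := p) hp2).le G P).trans hPM))
    exact inf_le_right.trans (normalizer_eq_of_coatom hG hM hZne hZtop (hle'.trans inf_le_right)).le
  obtain ⟨PG, hPG⟩ : ∃ PG : Sylow p G, (PG : Subgroup G) = P := by
    obtain ⟨PG, hle⟩ := hP.exists_le_sylow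
    exact ⟨PG, hPmax _ PG.2 hle⟩
  haveI := hXs
  set P' := P.subgroupOf X with hP'
  have hP'S : (SX : Subgroup X) = P' := by
    rw [hP', ← hSX, subgroupOf, comap_map_eq_self_of_injective X.subtype_injective]
  by_cases hr : PRankLE p 2 ↥P
  · -- `O_{p'}(X) P` is normal in `X`
    have hr' : PRankLE p 2 ↥(SX : Subgroup X) := by
      let ι : (SX : Subgroup X) →* P :=
        (X.subtype.comp (SX : Subgroup X).subtype).codRestrict P fun x => by
          rw [← hSX]; exact mem_map_of_mem X.subtype x.2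
      exact pRankLE_of_injective ι (fun a b hab => Subtype.ext (Subtype.ext
        (congrArg (fun z : P => (z : G)) hab))) hr
    have h1 := sup_sylow_normal_of_rank_le_two (odd_card_subgroup hG X) hp2 SX hr'
    have h2 := h1.map (QuotientGroup.mk' (pPrimeCore p ↥X)) (QuotientGroup.mk'_surjective _)
    rw [Subgroup.map_sup, (Subgroup.map_eq_bot_iff (pPrimeCore p ↥X)).mpr
      (QuotientGroup.ker_mk' _).ge, bot_sup_eq, hP'S] at h2
    exact (le_core_sup_normalizer hP hPX h2).trans (sup_le hOXM (inf_le_right.trans hNP))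
  · -- a normal elementary subgroup of order at least `p ^ 3`
    obtain ⟨E, hEn, hEe, hE3, hEΩ⟩ := exists_normal_elementary_omega (G := P) hP hp2 hr
    set E₀ := E.map P.subtype with hE₀
    have hE₀P : E₀ ≤ P := map_subtype_le _
    have hE₀p : IsPGroup p E₀ := hP.to_le hE₀P
    haveI hE₀c : IsMulCommutative E₀ := by
      haveI := hEe.1
      exact Subgroup.map_isMulCommutative E P.subtype
    have hPE₀ : P ≤ normalizer (E₀ : Set G) := by
      intro x hx
      rw [mem_normalizer_iff_map_conj_eq]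
      refine Subgroup.eq_of_le_of_card_ge ?_ (Subgroup.card_map_of_injective (MulAut.conj x).injective).ge
      rintro _ ⟨_, ⟨e, he, rfl⟩, rfl⟩
      exact ⟨⟨x, hx⟩ * e * ⟨x, hx⟩⁻¹, hEn.conj_mem e he _, rfl⟩
    have hΩ : ∀ x ∈ centralizer (E₀ : Set G), x ^ p = 1 → x ∈ E₀ := by
      refine fun x hx hxp => mem_of_omega_sylow PG (hPG ▸ hPE₀) ?_ hx hxp
      rintro y ⟨hyP, hyC⟩ hyp
      have hyP' : y ∈ P := hPG ▸ hyP
      refine ⟨⟨y, hyP'⟩, hEΩ ⟨y, hyP'⟩ (mem_centralizer_iff.mpr fun e he =>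
        Subtype.ext (mem_centralizer_iff.mp hyC (e : G) (mem_map_of_mem P.subtype he)))
        (Subtype.ext (by simpa using hyp)), rfl⟩
    have hpG : p ∣ Nat.card G := by
      obtain ⟨k, hk⟩ := IsPGroup.iff_card.mp hP
      have hk0 : k ≠ 0 := fun h => hPne (Subgroup.card_eq_one.mp (by rw [hk, h, pow_zero]))
      exact (dvd_pow_self p hk0).trans (hk ▸ Subgroup.card_subgroup_dvd_card P)
    have hTH := transitivityHypothesis_of_omega hG hpG hE₀p hΩ
    have hπE : primesNotDvd (Nat.card E₀) = π := primesNotDvd_card_eq hE₀p hTH.1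
    have hE₀card : p ^ 3 ≤ Nat.card E₀ := by
      rwa [hE₀, card_map_of_injective P.subtype_injective]
    have hZ : ¬ RankLE 2 ↥(E₀ ⊓ centralizer (E₀ : Set G)) := by
      rw [inf_of_le_left (le_centralizer_iff_isMulCommutative.mpr hE₀c)]
      intro h
      have h1 := h p hp.out ⊤ ⟨⟨fun a b => Subtype.ext (hE₀c.is_comm.comm (a : E₀) b)⟩⟩
        (fun a _ => by
          obtain ⟨e, he, hea⟩ := a.2
          refine Subtype.ext ?_
          rw [SubmonoidClass.coe_pow, ← hea, ← map_pow, hEe.2 e he, map_one]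
          rfl)
      rw [card_top] at h1
      have h2 := hE₀card.trans h1
      have := (Nat.pow_le_pow_iff_right hp.out.one_lt).mp h2
      omega
    have hall : ∀ Y : Subgroup G, PiNum π Y → E₀ ≤ normalizer (Y : Set G) → Y ≤ W := by
      intro Y hY hEY
      refine Coprime.le_of_forall_sylow_le fun q hq => ?_
      haveI := Fact.mk hq
      have hcop : (Nat.card E₀).Coprime (Nat.card Y) := coprime_card_of_piNum (π := π)
        (fun r hr hd h => h.2 (by rw [show r = p from mem_singleton_of_isPGroup hE₀p r hr hd])) hY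
      obtain ⟨S, hS⟩ := Coprime.exists_invariant_sylow hEY hcop
        (Or.inl (Layer.isSolvable_of_isPGroup hE₀p)) q
      refine ⟨S, ?_⟩
      by_cases hqY : q ∣ Nat.card Y
      swap
      · have hbot : (S : Subgroup Y) = ⊥ := by
          refine Subgroup.eq_bot_of_card_eq _ ?_
          rw [S.card_eq_multiplicity, Nat.factorization_eq_zero_of_not_dvd hqY, pow_zero]
        rw [hbot, Subgroup.map_bot]
        exact bot_le
      have hqπ : q ∈ π := hY q hq hqY
      have hqA : ¬ q ∣ Nat.card E₀ := fun h => hqπ.2 (by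
        rw [show q = p from mem_singleton_of_isPGroup hE₀p q hq h])
      have hPπ : ∀ r : ℕ, r.Prime → r ∣ Nat.card P → r ∣ Nat.card E₀ := by
        intro r hr hd
        rw [show r = p from mem_singleton_of_isPGroup hP r hr hd]
        obtain ⟨k, hk⟩ := IsPGroup.iff_card.mp hE₀p
        rw [hk]
        exact dvd_pow_self p fun h => hTH.1 (Subgroup.card_eq_one.mp (by rw [hk, h, pow_zero]))
      have hPtop : P ≠ ⊤ := fun h => hM.1 (top_le_iff.mp (h ▸ hPM))
      haveI : (E₀.subgroupOf P).Normal := normal_subgroupOf_of_le_normalizer hPE₀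
      obtain ⟨hsub, -⟩ := transitive_of_subnormal (q := q) hG hTH hqA hPtop hPπ hE₀P
        (Subgroup.Normal.isSubnormal inferInstance)
        (fun Q₁ h₁ Q₂ h₂ => linked_of_rank_three hG hTH hqA hZ h₁ h₂)
      obtain ⟨Q₀, hQ₀, -⟩ := exists_max_ge (A := P) (IsPGroup.of_bot (G := G) (p := q))
        le_normalizer_of_normal
      have hQ₀W : Q₀ ≤ W :=
        hinv Q₀ (piNum_of_isPGroup hqπ (isPGroup_of_singleton hQ₀.1.2.1)) hQ₀.1.2.2
      obtain ⟨R, hR, hSR⟩ := exists_max_ge (S.2.map Y.subtype) hS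
      obtain ⟨k, hk, hkR⟩ := linked_of_rank_three hG hTH hqA hZ (hsub hQ₀) hR
      rw [hπE] at hk
      have hkW : k ∈ W := hinv _ (piNum_piCoreOf π _)
        (hPE₀.trans (normalizer_le_normalizer_piCoreOf_centralizer π E₀)) hk
      refine hSR.trans ?_
      rw [hkR]
      rintro _ ⟨y, hy, rfl⟩
      exact W.mul_mem (W.mul_mem hkW (hQ₀W hy)) (W.inv_mem hkW)
    -- `T = P ∩ O_{p',p}(X)` contains `E₀`
    set T := P ⊓ (pPrimePCore p ↥X).map X.subtype with hT
    have hE₀X : E₀ ≤ X := hE₀P.trans hPX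
    have hE₀T : E₀ ≤ T := by
      refine le_inf hE₀P ?_
      rw [← map_subgroupOf_eq_of_le hE₀X]
      refine map_mono ?_
      refine S1457.result (odd_card_subgroup hG X) p SX (E₀.subgroupOf X) ?_ ?_ ?_
      · rw [hP'S]; exact fun x hx => hE₀P hx
      · exact ⟨⟨fun a b => Subtype.ext (Subtype.ext (congrArg (fun z : E₀ => (z : G))
          (hE₀c.is_comm.comm (⟨((a : X) : G), a.2⟩ : E₀) ⟨((b : X) : G), b.2⟩)))⟩⟩
      · intro x hx
        rw [hP'S] at hx
        rw [mem_normalizer_iff]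
        exact fun y => mem_normalizer_iff.mp (hPE₀ hx) (y : G)
    have hTn : ((T.subgroupOf X).map (QuotientGroup.mk' (pPrimeCore p ↥X))).Normal := by
      set f := QuotientGroup.mk' (pPrimeCore p ↥X) with hf
      suffices h : (T.subgroupOf X).map f = pCore p (↥X ⧸ pPrimeCore p ↥X) by
        rw [h]; exact Core.pCore_normal
      refine le_antisymm ?_ fun y hy => ?_
      · rintro _ ⟨x, hx, rfl⟩
        obtain ⟨z, hz, hzx⟩ := hx.2
        rw [show z = x from Subtype.ext hzx] at hz
        exact hz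
      · obtain ⟨x, hx, hxy⟩ : y ∈ (SX : Subgroup X).map f := by
          rw [← Sylow.coe_mapSurjective (QuotientGroup.mk'_surjective _) SX]
          exact Core.pCore_le_sylow _ hy
        refine ⟨x, ⟨hSX ▸ mem_map_of_mem X.subtype hx, x, ?_, rfl⟩, hxy⟩
        show f x ∈ pCore p _
        rw [hxy]
        exact hy
    refine (le_core_sup_normalizer (hP.to_le inf_le_left) (inf_le_left.trans hPX) hTn).trans
      (sup_le hOXM ?_)
    rintro n ⟨-, hn⟩
    refine hfix n (hall _ (hconjπ n) fun e he => Coprime.mem_normalizer_of_conj_smul_eq ?_) hW0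
    have he' : n⁻¹ * e * n ∈ T := by
      have := (mem_normalizer_iff.mp (inv_mem hn) e).mp (hE₀T he)
      rwa [inv_inv] at this
    rw [← Coprime.conj_mul_smul, show e * n = n * (n⁻¹ * e * n) by group, Coprime.conj_mul_smul,
      Coprime.conj_smul_eq_self_of_mem_normalizer (hMW (hPM he'.1))]

include hG in
/-- S1398 in the form with invariant `p'`-subgroups. -/
theorem inUniqueMaximal_of_localTo {M B : Subgroup G} (hM : IsCoatom M) (hBM : B ≤ M)
    (hBp : IsPGroup p B) (hB : B ≠ ⊥) (hloc : LocalTo p B M) : InUniqueMaximal B := by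
  refine ⟨M, ⟨hM, hBM⟩, fun L hL => ?_⟩
  suffices h : ∀ n : ℕ, ∀ R : Subgroup G, Nat.card G - Nat.card R = n → IsPGroup p R → B ≤ R →
      R ≤ M → ∀ L : Subgroup G, IsCoatom L → R ≤ L → L = M from
    h _ B rfl hBp le_rfl hBM L hL.1 hL.2
  clear hL L
  intro n
  induction n using Nat.strong_induction_on with
  | _ n ih =>
  intro R hn hR hBR hRM L hL hRL
  have hp2 : p ≠ 2 := prime_ne_two_of_pGroup hG hBp hB
  -- anything strictly bigger is done
  have hbig : ∀ R' : Subgroup G, R < R' → IsPGroup p R' → R' ≤ M →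
      ∀ L' : Subgroup G, IsCoatom L' → R' ≤ L' → L' = M := by
    intro R' hlt hR' hR'M
    refine ih _ ?_ R' rfl hR' (hBR.trans hlt.le) hR'M
    have h1 := Core.card_lt_of_lt hlt
    have h2 := Nat.le_of_dvd Nat.card_pos (Subgroup.card_subgroup_dvd_card R')
    omega
  by_contra hne
  have hLM : ¬ L ≤ M := fun h => hne ((hL.le_iff.mp h).resolve_left hM.1).symm
  have hRmax : ∀ T : Subgroup G, T ≤ L → T ≤ M → IsPGroup p T → R ≤ T → T = R := by
    intro T hTL hTM hT hle
    by_contra h
    exact hne (hbig T (lt_of_le_of_ne hle (Ne.symm h)) hT hTM L hL hTL)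
  obtain ⟨P, hRP, hPM, hP, hPmax⟩ := exists_max_pSubgroup hR hRM
  rcases hRP.eq_or_lt with hEq | hlt
  · subst hEq
    exact hLM (le_of_contains_sylow hG hM hB hloc hBR hPM hP hPmax hL.1 hRL)
  haveI := hP.isNilpotent
  set R₁ := normalizer (R : Set G) ⊓ P with hR₁
  have hlt₁ : R < R₁ := lt_normalizer_inf hlt
  have hover : ∀ X : Subgroup G, X ≠ ⊤ → R₁ ≤ X → X ≤ M := by
    intro X hX hle
    obtain ⟨L₁, hL₁, hXL₁⟩ := (eq_top_or_exists_le_coatom X).resolve_left hX
    exact hbig R₁ hlt₁ (hP.to_le inf_le_right) (inf_le_right.trans hPM) L₁ hL₁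
      (hle.trans hXL₁) ▸ hXL₁
  have hRne : R ≠ ⊥ := fun h => hB (le_bot_iff.mp (h ▸ hBR))
  have hRtop : R ≠ ⊤ := fun h => hM.1 (top_le_iff.mp (h ▸ hRM))
  have hNR : normalizer (R : Set G) ≤ M :=
    hover _ (ne_top_of_normal_ne_bot hG hRne hRtop) inf_le_left
  obtain ⟨S, hS⟩ := exists_sylow_eq hR hRL (by
    intro T hTL hT hle
    by_contra h
    haveI := hT.isNilpotent
    have hlt' := lt_normalizer_inf (lt_of_le_of_ne hle (Ne.symm h))
    exact hlt'.ne (hRmax _ (inf_le_right.trans hTL) (inf_le_left.trans hNR)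
      (hT.to_le inf_le_right) hlt'.le).symm)
  have hW := Fusion.GlaubermanThompson.isZSel_centerThompsonOf (p := p) hp2
  have hNZ : normalizer (centerThompsonOf p R : Set G) ≤ M :=
    hover _ (ne_top_of_normal_ne_bot hG (hW.ne_bot G R hR hRne)
      (fun h => hRtop (top_le_iff.mp (h ▸ hW.le G R))))
      (inf_le_left.trans (normalizer_le_normalizer_centerThompsonOf hp2 R))
  refine hLM ((le_core_sup_normalizer_zj hp2 (hG.2.2.2 L hL.1) (odd_card_subgroup hG L) S hS).trans
    (sup_le ?_ (inf_le_right.trans hNZ)))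
  exact hloc _ (piNum_piCoreOf _ L) ((hBR.trans hRL).trans (le_normalizer_piCoreOf _ L))

include hG in
/-- S1398. -/
theorem inUniqueMaximal_of_elementary {M B : Subgroup G} (hM : IsCoatom M) (hBM : B ≤ M)
    (hBe : IsElementaryAbelian p B) (hBnc : ¬ IsCyclic B)
    (h : (∀ b ∈ B, b ≠ 1 → centralizer ({b} : Set G) ≤ M) ∨ LocalTo p B M) :
    InUniqueMaximal B := by
  have hB : B ≠ ⊥ := fun h => hBnc (by rw [h]; infer_instance)
  refine inUniqueMaximal_of_localTo hG hM hBM (Coprime.ea_isPGroup hBe) hB (h.elim ?_ id)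
  intro hC Y hY hBY
  haveI := hBe.1
  rw [← Coprime.iSup_centralizer_eq hBnc hBY
    (Coprime.ea_coprime hBe (fun hd => (hY p hp.out hd).2 dvd_rfl))]
  exact iSup₂_le fun b hb => inf_le_right.trans (hC b hb.1 hb.2)

end MinSimple

/-! ### Rank -/

theorem exists_elementary_of_not_pRankLE {r k : ℕ} [Fact r.Prime] {K : Subgroup G}
    (h : ¬ PRankLE r k ↥K) :
    ∃ E : Subgroup G, E ≤ K ∧ IsElementaryAbelian r E ∧ r ^ (k + 1) ≤ Nat.card E := by
  simp only [PRankLE] at h
  push Not at h
  obtain ⟨E₁, hc, he, hcard⟩ := h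
  refine ⟨E₁.map K.subtype, map_subtype_le _, ⟨?_, ?_⟩, ?_⟩
  · haveI := hc
    exact Subgroup.map_isMulCommutative E₁ K.subtype
  · rintro _ ⟨a, ha, rfl⟩
    rw [← map_pow, he a ha, map_one]
  · rw [card_map_of_injective K.subtype_injective]
    have hp' : IsPGroup r E₁ := fun x => ⟨1, Subtype.ext (by simpa using he x x.2)⟩
    obtain ⟨m, hm⟩ := IsPGroup.iff_card.mp hp'
    rw [hm] at hcard ⊢
    exact Nat.pow_le_pow_right (Fact.out : r.Prime).pos
      ((Nat.pow_lt_pow_iff_right (Fact.out : r.Prime).one_lt).mp hcard)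

theorem exists_elementary_of_not_rankLE {k : ℕ} {K : Subgroup G} (h : ¬ RankLE k ↥K) :
    ∃ (r : ℕ) (E : Subgroup G), r.Prime ∧ E ≤ K ∧ IsElementaryAbelian r E ∧
      r ^ (k + 1) ≤ Nat.card E := by
  simp only [RankLE] at h
  push Not at h
  obtain ⟨r, hr, hr'⟩ := h
  haveI := Fact.mk hr
  obtain ⟨E, h1, h2, h3⟩ := exists_elementary_of_not_pRankLE hr'
  exact ⟨r, E, hr, h1, h2, h3⟩

theorem not_rankLE_of_elementary {r k : ℕ} [Fact r.Prime] {K E : Subgroup G} (hEK : E ≤ K)
    (hEe : IsElementaryAbelian r E) (hc : r ^ (k + 1) ≤ Nat.card E) : ¬ RankLE k ↥K := fun h => by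
  have h1 := h r Fact.out (E.subgroupOf K)
    ⟨⟨fun a b => Subtype.ext (Subtype.ext (Coprime.ea_comm hEe a.2 b.2))⟩⟩
    (fun a ha => Subtype.ext (by simpa using hEe.2 (a : G) ha))
  rw [Coprime.card_subgroupOf hEK] at h1
  have := (Nat.pow_le_pow_iff_right (Fact.out : r.Prime).one_lt).mp (hc.trans h1)
  omega

/-- A `p`-group normalising an elementary abelian group of order at most `p ^ 2` induces at most
`p` automorphisms. -/
theorem relIndex_centralizer_le_prime {B E : Subgroup G} (hB : IsPGroup p B)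
    (hEe : IsElementaryAbelian p E) (hE : Nat.card E = p ^ 2)
    (hBE : B ≤ normalizer (E : Set G)) : (centralizer (E : Set G)).relIndex B ≤ p := by
  set φ : B →* MulAut E := E.normalizerMonoidHom.comp (Subgroup.inclusion hBE) with hφ
  have hker : φ.ker = (centralizer (E : Set G)).subgroupOf B := by
    ext x
    rw [hφ, MonoidHom.mem_ker, MonoidHom.comp_apply, ← MonoidHom.mem_ker, normalizerMonoidHom_ker]
    rfl
  obtain ⟨j, hj⟩ := IsPGroup.iff_card.mp ((IsPGroup.to_subgroup hB (⊤ : Subgroup B)).map φ)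
  have h0 : (centralizer (E : Set G)).relIndex B = p ^ j := by
    rw [relIndex, ← hker, Subgroup.index_ker, MonoidHom.range_eq_map, hj]
  haveI := hEe.1
  have hfr : frattini E = ⊥ := by
    refine le_bot_iff.mp (Fusion.frattini_le_of_elementary (p := p) _ ?_ fun x => ?_)
    · rw [_root_.commutator_def, commutator_le]
      intro a _ c _
      rw [mem_bot, commutatorElement_eq_one_iff_mul_comm]
      exact IsMulCommutative.is_comm.comm a c
    · rw [mem_bot]
      exact Subtype.ext (by simpa using hEe.2 x x.2)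
  have hri : (frattini E).index = p ^ 2 := by rw [hfr, index_bot, hE]
  have h1 : p ^ j ∣ Nat.card (MulAut E) := hj ▸ Subgroup.card_subgroup_dvd_card _
  have h2 := h1.trans (FGS.card_mulAut_dvd hE hri)
  rw [Nat.sub_self, mul_zero, pow_zero, one_mul] at h2
  simp only [Finset.prod_range_succ, Finset.prod_range_zero, one_mul, pow_zero, pow_one] at h2
  rw [h0]
  have hp2 := hp.out.two_le
  rw [show (p ^ 2 - 1) * (p ^ 2 - p) = ((p + 1) * (p - 1) * (p - 1)) * p by
    rw [show p ^ 2 - p = p * (p - 1) by rw [Nat.mul_sub, mul_one, sq],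
      show p ^ 2 - 1 = (p + 1) * (p - 1) by rw [← Nat.sq_sub_sq, one_pow]]
    ring] at h2
  have c1 : p.Coprime (p + 1) := hp.out.coprime_iff_not_dvd.mpr fun h => by
    have := (Nat.dvd_add_right dvd_rfl).mp h
    exact hp.out.not_dvd_one this
  have c2 : p.Coprime (p - 1) := hp.out.coprime_iff_not_dvd.mpr fun h => by
    have := Nat.le_of_dvd (by omega) h
    omega
  exact Nat.le_of_dvd hp.out.pos ((((c1.mul_right c2).mul_right c2).pow_left j).dvd_of_dvd_mul_left h2)

section MinSimple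

variable (hG : IsMinSimpleOddOrder G)

include hG in
/-- S1399. -/
theorem inUniqueMaximal_of_centralizes {L K : Subgroup G} (hL : InUniqueMaximal L)
    (hK : K ≤ centralizer (L : Set G)) (hKr : ¬ RankLE 1 ↥K) : InUniqueMaximal K := by
  obtain ⟨r, E, hr, hEK, hEe, hEcard⟩ := exists_elementary_of_not_rankLE hKr
  haveI := Fact.mk hr
  obtain ⟨M, ⟨hM, hLM⟩, huniq⟩ := hL
  have hC : ∀ b ∈ K, b ≠ 1 → centralizer ({b} : Set G) ≤ M := by
    intro b hb hb1
    obtain ⟨L', hL', hle⟩ :=
      (eq_top_or_exists_le_coatom _).resolve_left (centralizer_ne_top hG hb1)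
    refine huniq L' ⟨hL', fun l hl => hle ?_⟩ ▸ hle
    exact mem_centralizer_singleton_iff.mpr (mem_centralizer_iff.mp (hK hb) l hl)
  have hEM : E ≤ M := by
    obtain ⟨e, he, he1⟩ := (E.bot_or_exists_ne_one).resolve_left (Coprime.ea_ne_bot two_ne_zero hEcard)
    exact (Coprime.ea_le_centralizer_singleton hEe he).trans (hC e (hEK he) he1)
  refine inUniqueMaximal_of_le (inUniqueMaximal_of_elementary hG hM hEM hEe
    (Coprime.ea_not_isCyclic hEe hEcard) (Or.inl fun b hb hb1 => hC b (hEK hb) hb1)) hEK ?_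
  intro h
  rw [h] at hK
  refine eq_top_of_inUniqueMaximal_bot hG (?_ : InUniqueMaximal (⊥ : Subgroup G))
  have hLbot : L = ⊥ := le_bot_iff.mp fun l hl => by
    rw [← center_eq_bot_of_minSimple hG]
    exact mem_center_iff.mpr fun g => (mem_centralizer_iff.mp (hK (mem_top g)) l hl).symm
  exact hLbot ▸ ⟨M, ⟨hM, hLM⟩, huniq⟩

theorem inUniqueMaximal_conj {X : Subgroup G} (hX : InUniqueMaximal X) (g : G) :
    InUniqueMaximal (MulAut.conj g • X) := by
  obtain ⟨M, ⟨hM, hXM⟩, huniq⟩ := hX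
  have hco : ∀ (g : G) {L : Subgroup G}, IsCoatom L → IsCoatom (MulAut.conj g • L) := by
    intro g L hL
    rw [Coprime.conj_smul_eq_map]
    exact ((MulAut.conj g).mapSubgroup.isCoatom_iff L).mpr hL
  refine ⟨MulAut.conj g • M,
    ⟨hco g hM, Subgroup.pointwise_smul_le_pointwise_smul_iff.mpr hXM⟩, fun L hL => ?_⟩
  have h1 := huniq (MulAut.conj g⁻¹ • L) ⟨hco _ hL.1, by
    have := (Subgroup.pointwise_smul_le_pointwise_smul_iff (a := MulAut.conj g⁻¹)).mpr hL.2
    rwa [← Coprime.conj_mul_smul, inv_mul_cancel, map_one, one_smul] at this⟩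
  rw [← h1, ← Coprime.conj_mul_smul, mul_inv_cancel, map_one, one_smul]

include hG in
/-- If one elementary abelian `p`-subgroup of rank three is a uniqueness subgroup then all are. -/
theorem inUniqueMaximal_of_rank_three {A V : Subgroup G} (hAe : IsElementaryAbelian p A)
    (hA3 : p ^ 3 ≤ Nat.card A) (hA : InUniqueMaximal A) (hVe : IsElementaryAbelian p V)
    (hV3 : p ^ 3 ≤ Nat.card V) : InUniqueMaximal V := by
  have hAp := Coprime.ea_isPGroup hAe
  have hVp := Coprime.ea_isPGroup hVe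
  have hp2 : p ≠ 2 := prime_ne_two_of_pGroup hG hAp (Coprime.ea_ne_bot three_ne_zero hA3)
  obtain ⟨S, hVS⟩ := hVp.exists_le_sylow
  obtain ⟨T, hAT⟩ := hAp.exists_le_sylow
  obtain ⟨g, hg⟩ := MulAction.exists_smul_eq G T S
  set A' := MulAut.conj g • A with hA'
  have hA'S : A' ≤ (S : Subgroup G) := by
    rw [← hg, Sylow.coe_subgroup_smul]
    exact Subgroup.pointwise_smul_le_pointwise_smul_iff.mpr hAT
  have hA'e : IsElementaryAbelian p A' := by
    rw [hA', Coprime.conj_smul_eq_map]
    haveI := hAe.1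
    refine ⟨Subgroup.map_isMulCommutative A _, ?_⟩
    rintro _ ⟨a, ha, rfl⟩
    rw [← map_pow, hAe.2 a ha, map_one]
  have hA'3 : p ^ 3 ≤ Nat.card A' := by rwa [hA', Coprime.card_conj_smul]
  have hnc : ¬ IsCyclic (S : Subgroup G) := fun h => by
    have h2 : p ^ 2 ≤ Nat.card A := (Nat.pow_le_pow_right hp.out.pos (by omega)).trans hA3
    haveI := h
    have h3 : IsCyclic A' := isCyclic_of_injective (Subgroup.inclusion hA'S) (inclusion_injective _)
    exact Coprime.ea_not_isCyclic hA'e ((Nat.pow_le_pow_right hp.out.pos (by omega)).trans hA'3) h3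
  obtain ⟨E₁, hE₁n, hE₁e, hE₁c⟩ := Fusion.exists_normal_elementary_card_sq hp2 S.2 hnc
  set E := E₁.map (S : Subgroup G).subtype with hE
  have hEc : Nat.card E = p ^ 2 := by
    rw [hE, card_map_of_injective (S : Subgroup G).subtype_injective, hE₁c]
  have hEe : IsElementaryAbelian p E := by
    haveI := hE₁e.1
    refine ⟨Subgroup.map_isMulCommutative E₁ _, ?_⟩
    rintro _ ⟨a, ha, rfl⟩
    rw [← map_pow, hE₁e.2 a ha, map_one]
  have hSE : (S : Subgroup G) ≤ normalizer (E : Set G) := by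
    intro x hx
    rw [mem_normalizer_iff_map_conj_eq]
    refine Subgroup.eq_of_le_of_card_ge ?_ (Subgroup.card_map_of_injective (MulAut.conj x).injective).ge
    rintro _ ⟨_, ⟨e, he, rfl⟩, rfl⟩
    exact ⟨⟨x, hx⟩ * e * ⟨x, hx⟩⁻¹, hE₁n.conj_mem e he _, rfl⟩
  -- each rank three `X` in `S` has a rank two piece centralising `E`
  have key : ∀ X : Subgroup G, X ≤ (S : Subgroup G) → IsElementaryAbelian p X → p ^ 3 ≤ Nat.card X →
      (InUniqueMaximal X ↔ InUniqueMaximal E) := by
    intro X hXS hXe hX3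
    have hXp := Coprime.ea_isPGroup hXe
    set Y := X ⊓ centralizer (E : Set G) with hY
    have hY2 : p ^ (1 + 1) ≤ Nat.card Y := by
      have h1 := relIndex_centralizer_le_prime hXp hEe hEc (hXS.trans hSE)
      have h2 : Nat.card Y * (centralizer (E : Set G)).relIndex X = Nat.card X := by
        rw [← Subgroup.inf_relIndex_left X (centralizer (E : Set G))]
        exact Coprime.card_mul_relIndex_of_le inf_le_left
      have h3 : p ^ 2 * p ≤ Nat.card Y * p := by
        calc p ^ 2 * p = p ^ 3 := by ring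
          _ ≤ Nat.card X := hX3
          _ ≤ _ := by rw [← h2]; exact Nat.mul_le_mul_left _ h1
      exact Nat.le_of_mul_le_mul_right h3 hp.out.pos
    have hYr : ¬ RankLE 1 ↥Y :=
      not_rankLE_of_elementary le_rfl (Coprime.ea_mono hXe inf_le_left) hY2
    have hEr : ¬ RankLE 1 ↥E := not_rankLE_of_elementary le_rfl hEe hEc.ge
    have hXtop : X ≠ ⊤ := ne_top_of_isPGroup_minSimple (q := p) hG hXp
    constructor
    · intro hX
      have hYU : InUniqueMaximal Y := inUniqueMaximal_of_centralizes hG hX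
        (inf_le_left.trans (Coprime.ea_le_centralizer hXe)) hYr
      exact inUniqueMaximal_of_centralizes hG hYU (le_centralizer_iff.mp inf_le_right) hEr
    · intro hEU
      exact inUniqueMaximal_of_le (inUniqueMaximal_of_centralizes hG hEU inf_le_right hYr)
        inf_le_left hXtop
  exact (key V hVS hVe hV3).mpr ((key A' hA'S hA'e hA'3).mp (inUniqueMaximal_conj hA g))

include hG in
/-- S1400. -/
theorem inUniqueMaximal_of_rank_three_centralizer {A B : Subgroup G}
    (hAc : IsMulCommutative A) (hA3 : ¬ PRankLE p 2 ↥A)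
    (hAU : InUniqueMaximal A) (hBp : IsPGroup p B) (hBnc : ¬ IsCyclic B)
    (hB3 : ¬ PRankLE p 2 ↥(centralizer (B : Set G))) : InUniqueMaximal B := by
  obtain ⟨A₀, hA₀A, hA₀e, hA₀3⟩ := exists_elementary_of_not_pRankLE hA3
  obtain ⟨V, hVB, hVe, hV3⟩ := exists_elementary_of_not_pRankLE hB3
  have h2 : ∀ {X : Subgroup G}, IsElementaryAbelian p X → p ^ (2 + 1) ≤ Nat.card X →
      ¬ RankLE 1 ↥X := fun hXe hX => not_rankLE_of_elementary le_rfl hXe
    ((Nat.pow_le_pow_right hp.out.pos (by omega)).trans hX)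
  have hA₀U : InUniqueMaximal A₀ := inUniqueMaximal_of_centralizes hG hAU
    (hA₀A.trans (le_centralizer_iff_isMulCommutative.mpr hAc)) (h2 hA₀e hA₀3)
  have hVU := inUniqueMaximal_of_rank_three hG hA₀e hA₀3 hA₀U hVe hV3
  have hBne : B ≠ ⊥ := fun h => hBnc (by rw [h]; infer_instance)
  have hp2 : p ≠ 2 := prime_ne_two_of_pGroup hG hBp hBne
  obtain ⟨E₁, -, hE₁e, hE₁c⟩ := Fusion.exists_normal_elementary_card_sq hp2 hBp hBnc
  refine inUniqueMaximal_of_centralizes hG hVU (le_centralizer_iff.mp hVB) fun h => ?_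
  have h1 := h p hp.out E₁ hE₁e.1 hE₁e.2
  rw [hE₁c, pow_one] at h1
  nlinarith [hp.out.two_le]

end MinSimple

end Cfsg.Agent.OddLocal
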