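import Cfsg.Agent.OddLocal.FittingUniqueness
import Cfsg.Agent.OddLocal.TransCriteria
import Cfsg.Agent.OddLocal.NormalElementary
import Cfsg.Agent.OddLocal.Uniqueness
import Cfsg.Agent.Signalizer.Transitivity
import Cfsg.Agent.S1457

/-!
Uniqueness subgroups coming from a maximal subgroup whose Fitting subgroup has rank at least three.
-/

set_option autoImplicit false
set_option linter.unusedSectionVars false
set_option linter.style.haveILetI false

namespace Cfsg.Agent.OddLocal

open Subgroup Cfsg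
open scoped Pointwise commutatorElement

universe u

variable {G : Type u} [Group G] [Finite G]

/-- Normal nilpotent subgroups of `M` lie in `F(M)`. -/
theorem le_fittingOf_of_normal {M N : Subgroup G} (hNM : N ≤ M)
    (hMN : M ≤ normalizer (N : Set G)) (hN : Group.IsNilpotent N) : N ≤ fittingOf M := by
  haveI : (N.subgroupOf M).Normal := (normal_subgroupOf_iff_le_normalizer hNM).mpr hMN
  rw [← map_subgroupOf_eq_of_le hNM]
  exact map_mono (Core.le_fittingSubgroup
    ((Group.isNilpotent_congr (subgroupOfEquivOfLe hNM)).mpr hN))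

/-- A number with only one prime divisor gives a `p`-group. -/
theorem isPGroup_of_forall_prime {p : ℕ} {X : Subgroup G}
    (h : ∀ r : ℕ, r.Prime → r ∣ Nat.card X → r = p) : IsPGroup p X :=
  IsPGroup.of_card (Nat.eq_prime_pow_of_unique_prime_dvd Nat.card_pos.ne' fun hd hdd => h _ hd hdd)

theorem not_pRankLE_of_elementary {r k : ℕ} [Fact r.Prime] {K E : Subgroup G} (hEK : E ≤ K)
    (hEe : IsElementaryAbelian r E) (hc : r ^ (k + 1) ≤ Nat.card E) : ¬ PRankLE r k ↥K := fun h => by
  have h1 := h (E.subgroupOf K)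
    ⟨⟨fun a b => Subtype.ext (Subtype.ext (Coprime.ea_comm hEe a.2 b.2))⟩⟩
    (fun a ha => Subtype.ext (by simpa using hEe.2 (a : G) ha))
  rw [Coprime.card_subgroupOf hEK] at h1
  have := (Nat.pow_le_pow_iff_right (Fact.out : r.Prime).one_lt).mp (hc.trans h1)
  omega

/-- `C_M(F(M)) ≤ F(M)` for solvable `M`. -/
theorem inf_centralizer_fittingOf_le {M : Subgroup G} (hM : Group.IsSolvable M) :
    M ⊓ centralizer (fittingOf M : Set G) ≤ fittingOf M :=
  le_fittingOf_of_solvable (Coprime.isSolvable_of_le inf_le_left hM) le_rfl Subgroup.le_normalizer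

/-- Subgroups of coprime order normalising one another commute. -/
theorem le_centralizer_of_coprime {X Y : Subgroup G} (hXY : X ≤ normalizer (Y : Set G))
    (hYX : Y ≤ normalizer (X : Set G)) (hcop : (Nat.card X).Coprime (Nat.card Y)) :
    X ≤ centralizer (Y : Set G) := by
  intro x hx
  rw [mem_centralizer_iff]
  intro y hy
  have h1 : ⁅y, x⁆ ∈ X ⊓ Y := by
    rw [commutatorElement_def]
    refine ⟨X.mul_mem ((mem_normalizer_iff.mp (hYX hy) x).mp hx) (X.inv_mem hx), ?_⟩
    have h2 := Y.mul_mem hy ((mem_normalizer_iff.mp (hXY hx) y⁻¹).mp (Y.inv_mem hy))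
    simpa [mul_assoc] using h2
  rw [Coprime.inf_eq_bot_of_coprime hcop, mem_bot] at h1
  exact commutatorElement_eq_one_iff_mul_comm.mp h1

/-- If `Q` is the greatest `B`-invariant `q`-subgroup, then the normaliser of every overgroup of `B`
normalising `Q` normalises `Q`. -/
theorem normalizer_le_of_greatest {q : ℕ} {B X Q : Subgroup G} (hq : IsPGroup q Q)
    (hg : ∀ R : Subgroup G, IsPGroup q R → B ≤ normalizer (R : Set G) → R ≤ Q) (hBX : B ≤ X)
    (hXQ : X ≤ normalizer (Q : Set G)) :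
    normalizer (X : Set G) ≤ normalizer (Q : Set G) := by
  intro n hn
  have hR : IsPGroup q (MulAut.conj n • Q : Subgroup G) := by
    rw [Coprime.conj_smul_eq_map]; exact hq.map _
  have hBR : B ≤ normalizer ((MulAut.conj n • Q : Subgroup G) : Set G) := by
    intro b hb
    apply Coprime.mem_normalizer_of_conj_smul_eq
    have hb' : n⁻¹ * b * n ∈ normalizer (Q : Set G) := hXQ (by
      have := (mem_normalizer_iff.mp (inv_mem hn) b).mp (hBX hb)
      rwa [inv_inv] at this)
    rw [← Coprime.conj_mul_smul, show b * n = n * (n⁻¹ * b * n) by group, Coprime.conj_mul_smul,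
      Coprime.conj_smul_eq_self_of_mem_normalizer hb']
  exact Coprime.mem_normalizer_of_conj_smul_eq
    (Subgroup.eq_of_le_of_card_ge (hg _ hR hBR) (Coprime.card_conj_smul _ _).ge)

/-- An invariant `π`-subgroup all whose invariant subgroups of prime power order lie in `L`
lies in `L`. -/
theorem le_of_invariant_pGroups {π : Set ℕ} {A Y L : Subgroup G} (hA : Group.IsSolvable A)
    (hAπ : ∀ r : ℕ, r.Prime → r ∣ Nat.card A → r ∉ π) (hY : PiNum π Y)
    (hAY : A ≤ normalizer (Y : Set G))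
    (h : ∀ r ∈ π, r.Prime → ∀ R : Subgroup G, R ≤ Y → IsPGroup r R →
      A ≤ normalizer (R : Set G) → R ≤ L) : Y ≤ L := by
  suffices hd : Nat.card Y ∣ Nat.card (Y ⊓ L : Subgroup G) by
    rw [← Subgroup.eq_of_le_of_card_ge (inf_le_left : Y ⊓ L ≤ Y)
      (Nat.le_of_dvd Nat.card_pos hd)]
    exact inf_le_right
  have h0 : Nat.card Y ≠ 0 := Nat.card_pos.ne'
  rw [← Nat.factorization_le_iff_dvd h0 Nat.card_pos.ne', Finsupp.le_def]
  intro r
  by_cases hrY : r.Prime ∧ r ∣ Nat.card Y
  · haveI := Fact.mk hrY.1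
    obtain ⟨S, hS⟩ := Coprime.exists_invariant_sylow hAY (coprime_card_of_piNum hAπ hY)
      (Or.inl hA) r
    have hle := h r (hY r hrY.1 hrY.2) hrY.1 _ (map_subtype_le _) (S.2.map Y.subtype) hS
    have h1 : Nat.card (S : Subgroup Y) ∣ Nat.card (Y ⊓ L : Subgroup G) := by
      rw [← card_map_of_injective Y.subtype_injective (K := (S : Subgroup Y))]
      exact card_dvd_of_le (le_inf (map_subtype_le _) hle)
    rw [S.card_eq_multiplicity] at h1
    exact (hrY.1.pow_dvd_iff_le_factorization Nat.card_pos.ne').mp h1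
  · rw [not_and'] at hrY
    by_cases hr : r.Prime
    · rw [Nat.factorization_eq_zero_of_not_dvd fun hd => hrY hd hr]; exact Nat.zero_le _
    · rw [Nat.factorization_eq_zero_of_not_prime _ hr]; exact Nat.zero_le _

section MinSimple

variable (hG : IsMinSimpleOddOrder G)

include hG in
theorem fittingOf_isPGroup_core {M : Subgroup G} (hM : IsCoatom M) {p : ℕ} [Fact p.Prime]
    (hFp : IsPGroup p (fittingOf M)) : piCoreOf (primesNotDvd p) M = ⊥ := by
  set X := piCoreOf (primesNotDvd p) M with hX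
  have hXM : X ≤ M := piCoreOf_le _ _
  have hcop : (Nat.card X).Coprime (Nat.card (fittingOf M)) := by
    obtain ⟨k, hk⟩ := IsPGroup.iff_card.mp hFp
    rw [hk]
    refine Nat.Coprime.pow_right k ((Fact.out : p.Prime).coprime_iff_not_dvd.mpr fun h => ?_).symm
    exact (piNum_piCoreOf _ M p Fact.out h).2 dvd_rfl
  have hXF : X ≤ fittingOf M := le_trans
    (le_inf hXM (le_centralizer_of_coprime (hXM.trans (le_normalizer_fittingOf M))
      ((fittingOf_le M).trans (le_normalizer_piCoreOf _ M)) hcop))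
    (inf_centralizer_fittingOf_le (hG.2.2.2 M hM.1))
  exact Subgroup.eq_bot_of_card_eq _ (hcop.eq_one_of_dvd (card_dvd_of_le hXF))

include hG in
/-- The greatest invariant `q`-subgroup of a large subgroup of `F(M)` is trivial. -/
theorem eq_bot_of_normalized {M Q : Subgroup G} (hM : IsCoatom M) {q : ℕ} [Fact q.Prime]
    (hQ : IsPGroup q Q) (hMQ : M ≤ normalizer (Q : Set G))
    (hq : ¬ q ∣ Nat.card (fittingOf M)) : Q = ⊥ := by
  by_contra hne
  have hN := normalizer_eq_of_coatom hG hM hne (ne_top_of_isPGroup_minSimple hG hQ) hMQ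
  have hQF := le_fittingOf_of_normal (hN ▸ Subgroup.le_normalizer) hMQ hQ.isNilpotent
  obtain ⟨k, hk⟩ := IsPGroup.iff_card.mp hQ
  have hk0 : k ≠ 0 := fun h => hne (Subgroup.card_eq_one.mp (by rw [hk, h, pow_zero]))
  exact hq ((dvd_pow_self q hk0).trans (hk ▸ card_dvd_of_le hQF))

include hG in
/-- Invariant `π(F(M))'`-subgroups of `F(M) ∩ C(A)` are trivial. -/
theorem eq_bot_of_invariant_centralizer {M : Subgroup G} (hM : IsCoatom M) {p : ℕ}
    [Fact p.Prime] {A : Subgroup G} (hA : A ≤ fittingOf M) (hAe : IsElementaryAbelian p A)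
    (hA3 : p ^ 3 ≤ Nat.card A) (hFp : ¬ IsPGroup p (fittingOf M)) {Y : Subgroup G}
    (hY : PiNum (primesNotDvd (Nat.card (fittingOf M))) Y)
    (hMY : fittingOf M ⊓ centralizer (A : Set G) ≤ normalizer (Y : Set G)) : Y = ⊥ := by
  set F := fittingOf M with hFdef
  set π := primesNotDvd (Nat.card F) with hπ
  set B := F ⊓ centralizer (A : Set G) with hB
  have hFn : Group.IsNilpotent F := isNilpotent_fittingOf M
  have hFM : F ≤ M := fittingOf_le M
  have hMF : M ≤ normalizer (F : Set G) := le_normalizer_fittingOf M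
  have hBF : B ≤ F := inf_le_left
  have hAc : A ≤ centralizer (A : Set G) := by
    rw [le_centralizer_iff_isMulCommutative]; exact hAe.1
  have hAB : A ≤ B := le_inf hA hAc
  have hCB : F ⊓ centralizer (B : Set G) ≤ B :=
    le_inf inf_le_left (inf_le_right.trans (centralizer_le hAB))
  have hBs : Group.IsSolvable B := by
    haveI : Group.IsNilpotent B := Core.isNilpotent_mono hFn hBF
    infer_instance
  have hAp := Coprime.ea_isPGroup hAe
  have hpF : p ∣ Nat.card F := by
    obtain ⟨k, hk⟩ := IsPGroup.iff_card.mp hAp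
    refine (dvd_pow_self p ?_).trans (hk ▸ card_dvd_of_le hA)
    rintro rfl
    have := Nat.one_lt_pow three_ne_zero (Fact.out : p.Prime).one_lt
    simp only [pow_zero] at hk
    omega
  have hF2 : 2 ≤ (Nat.card F).primeFactors.card := by
    by_contra hlt
    have hmem : p ∈ (Nat.card F).primeFactors :=
      Nat.mem_primeFactors.mpr ⟨Fact.out, hpF, Nat.card_pos.ne'⟩
    exact hFp (isPGroup_of_forall_prime fun r hr hd => Finset.card_le_one.mp (by omega) r
      (Nat.mem_primeFactors.mpr ⟨hr, hd, Nat.card_pos.ne'⟩) p hmem)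
  have hloc : ∀ s : ℕ, s.Prime → s ∣ Nat.card F → normalizer (rCenter s F : Set G) ≤ M :=
    fun s hs hd => normalizer_rCenter_le hG hM hs hd
  have hFcop : ∀ Z : Subgroup G, PiNum π Z → Z ≤ F → Z = ⊥ := fun Z hZ hle =>
    Subgroup.eq_bot_of_card_eq _ (by
      by_contra h
      obtain ⟨t, ht, htd⟩ := Nat.exists_prime_and_dvd h
      exact (hZ t ht htd).2 (htd.trans (card_dvd_of_le hle)))
  have hfree : ∀ Z : Subgroup G, PiNum π Z → B ≤ normalizer (Z : Set G) → ∀ s : ℕ, s.Prime →
      s ∣ Nat.card F → Z ≤ centralizer (rCenter s F : Set G) → Z = ⊥ := by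
    intro Z hZ hBZ s hs hd hZs
    haveI := Fact.mk hs
    exact hFcop Z hZ ((le_centralizer_of_rCenter hFM hMF hFn hloc hBF hCB hZ hBZ hd hZs).trans
      (inf_centralizer_fittingOf_le (hG.2.2.2 M hM.1)))
  have hBπ : ∀ r : ℕ, r.Prime → r ∣ Nat.card B → r ∉ π :=
    fun r _ hd h => h.2 (hd.trans (card_dvd_of_le hBF))
  refine le_bot_iff.mp (le_of_invariant_pGroups hBs hBπ hY hMY fun q hqπ hq R _ hR hBR => ?_)
  haveI := Fact.mk hq
  have hqp : q ≠ p := fun h => hqπ.2 (h ▸ hpF)
  have hK : ∀ Z : Subgroup G, Z ≤ centralizer (B : Set G) → PiNum π Z → Z ≤ ⊥ := by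
    intro Z hZB hZ
    refine (hfree Z hZ ?_ p Fact.out hpF (hZB.trans (centralizer_le ?_))).le
    · exact (le_centralizer_iff.mp hZB).trans (centralizer_le_normalizer _)
    · exact rCenter_le_of_selfCentral hFn hBF hCB p
  have hlink := linked_of_step (A := B) (K := ⊥) hqπ hBπ hK (fun _ => True) (fun _ _ _ h => h) (by
    intro Q₁ h₁ Q₂ h₂ _ hlt₁ hlt₂
    set D := Q₁ ⊓ Q₂ with hD
    have hpQ : ∀ Q ∈ maxInvSubgroups ⊤ B {q}, ¬ p ∣ Nat.card Q := fun Q hQ h => by
      obtain ⟨k, hk⟩ := IsPGroup.iff_card.mp (isPGroup_of_singleton hQ.1.2.1)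
      rw [hk] at h
      exact hqp ((Nat.prime_dvd_prime_iff_eq Fact.out hq).mp
        ((Fact.out : p.Prime).dvd_of_dvd_pow h)).symm
    have hBD : B ≤ normalizer (D : Set G) := Coprime.le_normalizer_inf h₁.1.2.2 h₂.1.2.2
    obtain ⟨a, ha, ha1, hn₁, hn₂⟩ := Signalizer.exists_common_fixed hAe hA3
      (isPGroup_of_singleton h₁.1.2.1) (isPGroup_of_singleton h₂.1.2.1) (hpQ Q₁ h₁) (hpQ Q₂ h₂)
      (hAB.trans h₁.1.2.2) (hAB.trans h₂.1.2.2) (hAB.trans hBD) hlt₁ hlt₂
    set R₀ := centralizer ({a} : Set G) with hR₀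
    have hR₀s : Group.IsSolvable R₀ := hG.2.2.2 R₀ (centralizer_ne_top hG ha1)
    have hBa : B ≤ R₀ := fun b hb =>
      mem_centralizer_singleton_iff.mpr (mem_centralizer_iff.mp hb.2 a ha).symm
    have hBR₀ : B ≤ normalizer (R₀ : Set G) := hBa.trans Subgroup.le_normalizer
    set X := piCoreOf π R₀ ⊓ normalizer (D : Set G) with hXdef
    have hBX : B ≤ normalizer (X : Set G) :=
      Coprime.le_normalizer_inf (hBa.trans (le_normalizer_piCoreOf π R₀))
        (hBD.trans Subgroup.le_normalizer)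
    have hEB : ∀ Q : Subgroup G, B ≤ normalizer (Q : Set G) →
        B ≤ normalizer ((normalizer (D : Set G) ⊓ Q ⊓ R₀ : Subgroup G) : Set G) := fun Q hQ =>
      Coprime.le_normalizer_inf
        (Coprime.le_normalizer_inf (hBD.trans Subgroup.le_normalizer) hQ) hBR₀
    have hE : ∀ Q ∈ maxInvSubgroups ⊤ B {q}, normalizer (D : Set G) ⊓ Q ⊓ R₀ ≤ X := fun Q hQ =>
      le_inf (le_piCoreOf_of_fixedFree hFM hMF hFn hloc hBF hCB hF2 hR₀s hBR₀
        (fun Z _ hZ hBZ => hfree Z hZ hBZ) inf_le_right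
        ((piNum_of_isPGroup hqπ (isPGroup_of_singleton hQ.1.2.1)).mono
          (inf_le_left.trans inf_le_right)) (hEB Q hQ.1.2.2)) (inf_le_left.trans inf_le_left)
    refine ⟨D ⊔ X, D ⊔ (normalizer (D : Set G) ⊓ Q₁ ⊓ R₀), D ⊔ (normalizer (D : Set G) ⊓ Q₂ ⊓ R₀),
      Coprime.le_normalizer_sup hBD hBX, ?_, Or.inl hBs, sup_le_sup_left (hE Q₁ h₁) D,
      sup_le_sup_left (hE Q₂ h₂) D, sup_le inf_le_left (inf_le_left.trans inf_le_right),
      sup_le inf_le_right (inf_le_left.trans inf_le_right),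
      Coprime.le_normalizer_sup hBD (hEB Q₁ h₁.1.2.2),
      Coprime.le_normalizer_sup hBD (hEB Q₂ h₂.1.2.2),
      left_lt_sup.mpr hn₁, left_lt_sup.mpr hn₂⟩
    intro r hr hrd
    have hXD : X ≤ normalizer (D : Set G) := inf_le_right
    rw [sup_comm] at hrd
    have hd : r ∣ Nat.card X * Nat.card D :=
      hrd.trans (Layer.card_sup_dvd_of_le_normalizer hXD)
    rcases hr.dvd_mul.mp hd with hd | hd
    · exact (piNum_piCoreOf π R₀).mono inf_le_left r hr hd
    · exact piNum_of_isPGroup hqπ ((isPGroup_of_singleton h₁.1.2.1).to_le inf_le_left) r hr hd)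
  obtain ⟨Q, hQ, hRQ⟩ := exists_max_ge (A := B) hR hBR
  have hQq := isPGroup_of_singleton hQ.1.2.1
  have hgreat : ∀ R' : Subgroup G, IsPGroup q R' → B ≤ normalizer (R' : Set G) → R' ≤ Q := by
    intro R' hR' hBR'
    obtain ⟨Q', hQ', hle⟩ := exists_max_ge (A := B) hR' hBR'
    obtain ⟨k, hk, hkQ⟩ := hlink Q' hQ' Q hQ trivial
    refine hle.trans ?_
    rw [hkQ, mem_bot.mp hk, ← Coprime.conj_smul_eq_map, map_one, one_smul]
  have hFQ : F ≤ normalizer (Q : Set G) := by
    haveI := hFn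
    by_contra hne
    have hlt : F ⊓ normalizer (Q : Set G) < F :=
      lt_of_le_of_ne inf_le_left fun h => hne (h ▸ inf_le_right)
    have h1 := normalizer_le_of_greatest hQq hgreat (le_inf hBF hQ.1.2.2) inf_le_right
    exact (lt_normalizer_inf hlt).not_ge (le_inf inf_le_right (inf_le_left.trans h1))
  have hMQ : M ≤ normalizer (Q : Set G) :=
    hMF.trans (normalizer_le_of_greatest hQq hgreat hBF hFQ)
  exact hRQ.trans (eq_bot_of_normalized hG hM hQq hMQ hqπ.2).le

include hG in
/-- S1397 (a). -/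
theorem inUniqueMaximal_fitting_centralizer {M : Subgroup G} (hM : IsCoatom M) {p : ℕ}
    [Fact p.Prime] {A : Subgroup G} (hA : A ≤ fittingOf M) (hAe : IsElementaryAbelian p A)
    (hA3 : p ^ 3 ≤ Nat.card A) (hFp : ¬ IsPGroup p (fittingOf M)) :
    InUniqueMaximal (fittingOf M ⊓ centralizer (A : Set G)) := by
  refine ⟨M, ⟨hM, inf_le_left.trans (fittingOf_le M)⟩, fun L hL => ?_⟩
  have hF2 : 2 ≤ (Nat.card (fittingOf M)).primeFactors.card := by
    by_contra hlt
    obtain ⟨k, hk⟩ := IsPGroup.iff_card.mp (Coprime.ea_isPGroup hAe)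
    have hk0 : k ≠ 0 := fun h => Coprime.ea_ne_bot three_ne_zero hA3
      (Subgroup.card_eq_one.mp (by rw [hk, h, pow_zero]))
    have hmem : p ∈ (Nat.card (fittingOf M)).primeFactors := Nat.mem_primeFactors.mpr
      ⟨Fact.out, (dvd_pow_self p hk0).trans (hk ▸ card_dvd_of_le hA), Nat.card_pos.ne'⟩
    exact hFp (isPGroup_of_forall_prime fun r hr hd => Finset.card_le_one.mp (by omega) r
      (Nat.mem_primeFactors.mpr ⟨hr, hd, Nat.card_pos.ne'⟩) p hmem)
  exact eq_of_fitting_large hG hM hL.1 hF2 inf_le_left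
    (inf_le_inf_left _ (centralizer_le hA))
    (fun Y hY => eq_bot_of_invariant_centralizer hG hM hA hAe hA3 hFp hY.2.1 hY.2.2) hL.2

include hG in
/-- S1397 (b), the index. -/
theorem sylow_of_fitting_pGroup {M : Subgroup G} (hM : IsCoatom M) {p : ℕ} [Fact p.Prime]
    (hne : fittingOf M ≠ ⊥) (hFp : IsPGroup p (fittingOf M)) (P : Sylow p M) :
    ∃ S : Sylow p G, (S : Subgroup G) = (P : Subgroup M).map M.subtype ∧
      fittingOf M ≤ (S : Subgroup G) := by
  set R := (P : Subgroup M).map M.subtype with hR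
  have hRp : IsPGroup p R := P.2.map _
  have hFR : fittingOf M ≤ R := map_mono ((Core.le_pCore
    (hFp.of_equiv ((fittingSubgroup ↥M).equivMapOfInjective M.subtype M.subtype_injective).symm)
    : fittingSubgroup ↥M ≤ pCore p ↥M).trans (Core.pCore_le_sylow P))
  have hRne : R ≠ ⊥ := fun h => hne (le_bot_iff.mp (h ▸ hFR))
  have hp2 : p ≠ 2 := prime_ne_two_of_pGroup hG hRp hRne
  have hW := Fusion.GlaubermanThompson.isZSel_centerThompsonOf (p := p) hp2
  have hZM : M ≤ normalizer (centerThompsonOf p R : Set G) := by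
    refine (le_core_sup_normalizer_zj hp2 (hG.2.2.2 M hM.1) (odd_card_subgroup hG M) P rfl).trans ?_
    rw [fittingOf_isPGroup_core hG hM hFp, bot_sup_eq]
    exact inf_le_right
  have hNR : normalizer (R : Set G) ≤ M :=
    (normalizer_le_normalizer_centerThompsonOf hp2 R).trans
      (normalizer_eq_of_coatom hG hM (hW.ne_bot G R hRp hRne)
        (ne_top_of_isPGroup_minSimple hG (hRp.to_le (hW.le G R))) hZM).le
  obtain ⟨S, hS⟩ := hRp.exists_le_sylow
  refine ⟨S, ?_, hFR.trans hS⟩
  by_contra h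
  haveI := S.2.isNilpotent
  have hlt : R < normalizer (R : Set G) ⊓ S := lt_normalizer_inf (lt_of_le_of_ne hS (Ne.symm h))
  set T := normalizer (R : Set G) ⊓ (S : Subgroup G) with hT
  have hTM : T ≤ M := inf_le_left.trans hNR
  have hTp : IsPGroup p (T.subgroupOf M) :=
    (S.2.to_le inf_le_right).comap_of_injective _ M.subtype_injective
  have heq := P.3 hTp fun x hx => hlt.le (mem_map_of_mem _ hx)
  exact hlt.ne (by rw [hR, ← heq, map_subgroupOf_eq_of_le hTM])

include hG in
/-- S1397 (b), the uniqueness. -/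
theorem inUniqueMaximal_scn_of_fitting_pGroup {M : Subgroup G} (hM : IsCoatom M) {p : ℕ}
    [Fact p.Prime] (hne : fittingOf M ≠ ⊥) (hFp : IsPGroup p (fittingOf M)) (P : Sylow p M)
    {A : Subgroup G} (hA : IsSCN ((P : Subgroup M).map M.subtype) A)
    (hA3 : ¬ PRankLE p 2 ↥A) : A ≤ fittingOf M ∧ InUniqueMaximal A := by
  obtain ⟨S, hSP, hFS⟩ := sylow_of_fitting_pGroup hG hM hne hFp P
  rw [← hSP] at hA
  have hAM : A ≤ M := hA.1.trans (hSP ▸ map_subtype_le _)
  have hAC : A ≤ centralizer (A : Set G) := fun a ha => (hA.2.2.ge ha).2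
  haveI hAc : IsMulCommutative A := le_centralizer_iff_isMulCommutative.mp hAC
  have hAp : IsPGroup p A := S.2.to_le hA.1
  haveI : Group.IsSolvable M := hG.2.2.2 M hM.1
  have hcore : pPrimeCore p ↥M = ⊥ := by
    have h := map_pPrimeCore_le_piCoreOf (p := p) M
    rw [fittingOf_isPGroup_core hG hM hFp, le_bot_iff,
      Subgroup.map_eq_bot_iff_of_injective _ M.subtype_injective] at h
    exact h
  -- `A ≤ F(M)`
  have hAF : A ≤ fittingOf M := by
    have h1 : A.subgroupOf M ≤ pPrimePCore p ↥M := by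
      refine S1457.result (odd_card_subgroup hG M) p P _ (fun a ha => ?_) ?_ fun x hx => ?_
      · obtain ⟨b, hb, hbe⟩ := hSP ▸ hA.1 ha
        rwa [show b = a from Subtype.ext hbe] at hb
      · exact ⟨⟨fun a b => Subtype.ext (Subtype.ext (mem_centralizer_iff.mp (hAC b.2) _ a.2))⟩⟩
      · rw [mem_normalizer_iff]
        exact fun y => mem_normalizer_iff.mp
          (hA.2.1 (hSP ▸ mem_map_of_mem M.subtype hx)) (y : G)
    have h2 : pPrimePCore p ↥M ≤ fittingSubgroup ↥M := by
      have hn : (pPrimePCore p ↥M).Normal := Normal.comap inferInstance _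
      have hpg : IsPGroup p (pPrimePCore p ↥M) := Core.pCore_isPGroup.comap_of_ker_isPGroup _
        (by rw [QuotientGroup.ker_mk', hcore]; exact IsPGroup.of_bot)
      exact Core.le_fittingSubgroup (hN := hn) hpg.isNilpotent
    rw [← map_subgroupOf_eq_of_le hAM]
    exact map_mono (h1.trans h2)
  refine ⟨hAF, ?_⟩
  obtain ⟨E, hEA, hEe, hE3⟩ := exists_elementary_of_not_pRankLE hA3
  have hAne : A ≠ ⊥ := fun h => Coprime.ea_ne_bot three_ne_zero hE3 (le_bot_iff.mp (h ▸ hEA))
  have hpA : p ∣ Nat.card A := by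
    obtain ⟨k, hk⟩ := IsPGroup.iff_card.mp hAp
    exact hk ▸ dvd_pow_self p fun h => hAne (Subgroup.card_eq_one.mp (by rw [hk, h, pow_zero]))
  have hTH : TransitivityHypothesis A :=
    transitivityHypothesis_of_omega hG (hpA.trans (Subgroup.card_subgroup_dvd_card A)) hAp
      fun x hx hxp => mem_of_scn hA hx (k := 1) (by rwa [pow_one])
  have hπA : primesNotDvd (Nat.card A) = primesNotDvd p := primesNotDvd_card_eq hAp hAne
  have hFn : Group.IsNilpotent (fittingOf M) := isNilpotent_fittingOf M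
  have hpF : p ∣ Nat.card (fittingOf M) := hpA.trans (card_dvd_of_le hAF)
  have hrA : rCenter p (fittingOf M) ≤ A := fun x hx => hA.2.2.le
    ⟨hFS (rPart_le (rCenter_le hx)), centralizer_le hAF (rCenter_le_centralizer hFn hx)⟩
  -- `O_{p'}(C(A)) = 1`
  set K := piCoreOf (primesNotDvd (Nat.card A)) (centralizer (A : Set G)) with hKdef
  have hKbot : K = ⊥ := by
    have hKA : K ≤ centralizer (A : Set G) := piCoreOf_le _ _
    have hKM : K ≤ M := hKA.trans ((centralizer_le hrA).trans
      ((centralizer_le_normalizer _).trans (normalizer_rCenter_le hG hM Fact.out hpF)))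
    have hcop : (Nat.card K).Coprime p := ((Fact.out : p.Prime).coprime_iff_not_dvd.mpr
      fun h => (piNum_piCoreOf _ _ p Fact.out h).2 hpA).symm
    have hKF : K ≤ fittingOf M := le_trans (le_inf hKM (Coprime.thompson_pxq hAp hcop hFp
      (le_centralizer_iff.mp hKA) (hAM.trans (le_normalizer_fittingOf M))
      (hKM.trans (le_normalizer_fittingOf M)) fun x hx =>
        le_centralizer_iff.mp hKA (hA.2.2.le ⟨hFS hx.1, hx.2⟩)))
      (inf_centralizer_fittingOf_le (hG.2.2.2 M hM.1))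
    obtain ⟨k, hk⟩ := IsPGroup.iff_card.mp hFp
    exact Subgroup.eq_bot_of_card_eq _
      ((hcop.pow_right k).eq_one_of_dvd (hk ▸ card_dvd_of_le hKF))
  have hloc : LocalTo p A M := by
    intro Y hY hAY
    haveI := hAp.isNilpotent
    refine le_of_invariant_pGroups (π := primesNotDvd p) (inferInstance : Group.IsSolvable A)
      (fun r hr hd h => ?_) hY hAY fun q hqπ hq R _ hR hAR => ?_
    · rw [← hπA] at h
      exact h.2 hd
    haveI := Fact.mk hq
    have hqA : ¬ q ∣ Nat.card A := (hπA ▸ hqπ : q ∈ primesNotDvd (Nat.card A)).2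
    have hqp : q ≠ p := fun h => hqπ.2 (h ▸ dvd_rfl)
    obtain ⟨Q, hQ, hRQ⟩ := exists_max_ge (A := A) hR hAR
    have hQq := isPGroup_of_singleton hQ.1.2.1
    have hgreat : ∀ R' : Subgroup G, IsPGroup q R' → A ≤ normalizer (R' : Set G) → R' ≤ Q := by
      intro R' hR' hAR'
      obtain ⟨Q', hQ', hle⟩ := exists_max_ge (A := A) hR' hAR'
      obtain ⟨k, hk, hkQ⟩ := linked_of_rank_three hG hTH hqA
        (not_rankLE_of_elementary (r := p) (le_inf hEA (hEA.trans hAC)) hEe hE3) hQ' hQ
      rw [← hKdef, hKbot, mem_bot] at hk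
      refine hle.trans ?_
      rw [hkQ, hk, ← Coprime.conj_smul_eq_map, map_one, one_smul]
    have hSQ : (S : Subgroup G) ≤ normalizer (Q : Set G) :=
      hA.2.1.trans (normalizer_le_of_greatest hQq hgreat le_rfl hQ.1.2.2)
    have hMQ : M ≤ normalizer (Q : Set G) :=
      (le_normalizer_fittingOf M).trans
        (normalizer_le_of_greatest hQq hgreat hAF (hFS.trans hSQ))
    refine hRQ.trans ((eq_bot_of_normalized hG hM hQq hMQ fun h => hqp ?_).le.trans bot_le)
    obtain ⟨k, hk⟩ := IsPGroup.iff_card.mp hFp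
    exact (Nat.prime_dvd_prime_iff_eq hq Fact.out).mp (hq.dvd_of_dvd_pow (hk ▸ h))
  exact inUniqueMaximal_of_localTo hG hM hAM hAp hAne hloc

include hG in
/-- Self-centralising normal abelian subgroups of rank three exist in rank three Sylow subgroups. -/
theorem exists_scn_three {p : ℕ} [Fact p.Prime] (S : Sylow p G)
    (hS : ¬ PRankLE p 2 ↥(S : Subgroup G)) :
    ∃ A : Subgroup G, IsSCN (S : Subgroup G) A ∧ ¬ PRankLE p 2 ↥A := by
  have hne : (S : Subgroup G) ≠ ⊥ := fun h => hS fun B _ _ => by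
    have := card_dvd_of_le (le_top : B ≤ ⊤)
    have h1 : Nat.card (S : Subgroup G) = 1 := by rw [h, card_bot]
    rw [card_top, h1, Nat.dvd_one] at this
    rw [this]
    exact Nat.one_le_pow _ _ (Fact.out : p.Prime).pos
  obtain ⟨E, hEn, hEe, hE3, -⟩ :=
    exists_normal_elementary_omega S.2 (prime_ne_two_of_pGroup hG S.2 hne) hS
  obtain ⟨A, hEA, hAn, hAc, hmax⟩ := Fusion.exists_maximal_normal_abelian E hEe.1
  have hC := Fusion.centralizer_eq_of_maximal_normal_abelian S.2 A hAc hmax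
  refine ⟨A.map (S : Subgroup G).subtype, ⟨map_subtype_le _, ?_, ?_⟩, fun h => ?_⟩
  · intro x hx
    rw [mem_normalizer_iff]
    intro y
    constructor
    · rintro ⟨a, ha, rfl⟩
      exact ⟨⟨x, hx⟩ * a * ⟨x, hx⟩⁻¹, hAn.conj_mem a ha _, rfl⟩
    · rintro ⟨a, ha, hae⟩
      refine ⟨⟨x, hx⟩⁻¹ * a * ⟨x, hx⟩, by simpa using hAn.conj_mem a ha (⟨x, hx⟩⁻¹), ?_⟩
      have hae' : (a : G) = x * y * x⁻¹ := hae
      simp [hae', mul_assoc]
  · ext x
    constructor
    · rintro ⟨hx, hxC⟩
      refine ⟨⟨x, hx⟩, hC.le (mem_centralizer_iff.mpr fun a ha => Subtype.ext ?_), rfl⟩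
      exact mem_centralizer_iff.mp hxC (a : G) (mem_map_of_mem _ ha)
    · rintro ⟨a, ha, rfl⟩
      refine ⟨a.2, mem_centralizer_iff.mpr ?_⟩
      rintro _ ⟨b, hb, rfl⟩
      exact congrArg Subtype.val (mem_centralizer_iff.mp (hC.ge ha) b hb)
  · refine not_pRankLE_of_elementary (map_mono hEA : E.map (S : Subgroup G).subtype ≤ _) ⟨?_, ?_⟩ ?_ h
    · haveI := hEe.1
      exact Subgroup.map_isMulCommutative E _
    · rintro _ ⟨e, he, rfl⟩
      rw [← map_pow, hEe.2 e he, map_one]
    · rwa [card_map_of_injective (S : Subgroup G).subtype_injective]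

include hG in
/-- S1401, for elementary subgroups. -/
theorem inUniqueMaximal_of_fitting_rank_three {M : Subgroup G} (hM : IsCoatom M) {p : ℕ}
    [Fact p.Prime] (hF : ¬ PRankLE p 2 ↥(fittingOf M)) {V : Subgroup G}
    (hVe : IsElementaryAbelian p V) (hV3 : p ^ 3 ≤ Nat.card V) : InUniqueMaximal V := by
  obtain ⟨E, hEF, hEe, hE3⟩ := exists_elementary_of_not_pRankLE hF
  by_cases hFp : IsPGroup p (fittingOf M)
  · have hne : fittingOf M ≠ ⊥ := fun h =>
      Coprime.ea_ne_bot three_ne_zero hE3 (le_bot_iff.mp (h ▸ hEF))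
    obtain ⟨P⟩ : Nonempty (Sylow p M) := inferInstance
    obtain ⟨S, hSP, hFS⟩ := sylow_of_fitting_pGroup hG hM hne hFp P
    have hS : ¬ PRankLE p 2 ↥(S : Subgroup G) := fun h =>
      hF (pRankLE_of_injective (inclusion hFS) (inclusion_injective hFS) h)
    obtain ⟨A, hA, hA3⟩ := exists_scn_three hG S hS
    obtain ⟨-, hAu⟩ := inUniqueMaximal_scn_of_fitting_pGroup hG hM hne hFp P (hSP ▸ hA) hA3
    obtain ⟨E', hE'A, hE'e, hE'3⟩ := exists_elementary_of_not_pRankLE hA3
    refine inUniqueMaximal_of_rank_three hG hE'e hE'3 ?_ hVe hV3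
    refine inUniqueMaximal_of_centralizes hG hAu (hE'A.trans fun a ha => (hA.2.2.ge ha).2) ?_
    exact not_rankLE_of_elementary (r := p) le_rfl hE'e
      ((Nat.pow_le_pow_right (Fact.out : p.Prime).pos (by norm_num)).trans hE'3)
  · refine inUniqueMaximal_of_rank_three hG hEe hE3 ?_ hVe hV3
    refine inUniqueMaximal_of_centralizes hG
      (inUniqueMaximal_fitting_centralizer hG hM hEF hEe hE3 hFp)
      (le_centralizer_iff.mp inf_le_right) ?_
    exact not_rankLE_of_elementary (r := p) le_rfl hEe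
      ((Nat.pow_le_pow_right (Fact.out : p.Prime).pos (by norm_num)).trans hE3)

end MinSimple

end Cfsg.Agent.OddLocal
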