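import Cfsg.Agent.OddLocal.NormalElementary
import Cfsg.Agent.OddLocal.UniquenessFitting
import Cfsg.Agent.Fusion.UniqueInvolution
import Cfsg.Agent.Fusion.RankTwo

/-!
Noncyclic elementary subgroups of a `q`-group with centraliser of rank at least three.
-/

set_option autoImplicit false
set_option linter.unusedSectionVars false
set_option linter.style.haveILetI false

namespace Cfsg.Agent.OddLocal

open Subgroup Cfsg
open scoped commutatorElement

universe u

variable {G : Type u} [Group G] [Finite G] {q : ℕ} [hq : Fact q.Prime]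

/-- `C_Q(X)` has rank at least three. -/
def Rich (q : ℕ) (Q X : Subgroup G) : Prop :=
  ∃ T : Subgroup G, T ≤ Q ∧ T ≤ centralizer (X : Set G) ∧ IsElementaryAbelian q T ∧
    q ^ 3 ≤ Nat.card T

/-- Elements `x` of `Q` with `x ^ q = 1` and `[x, Q]` central. -/
def omegaTwo (q : ℕ) (Q : Subgroup G) : Subgroup G :=
  closure {x : G | x ∈ Q ∧ x ^ q = 1 ∧ ∀ u ∈ Q, ∀ v ∈ Q, Commute ⁅x, u⁆ v}

/-- `Ω₁(Z(Q))`. -/
def omegaCenter (q : ℕ) (Q : Subgroup G) : Subgroup G :=
  closure {x : G | x ∈ Q ∧ x ^ q = 1 ∧ ∀ v ∈ Q, Commute x v}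

variable {Q : Subgroup G}

theorem mem_omegaCenter_iff {x : G} :
    x ∈ omegaCenter q Q ↔ x ∈ Q ∧ x ^ q = 1 ∧ ∀ v ∈ Q, Commute x v := by
  refine ⟨fun hx => ?_, fun h => subset_closure h⟩
  induction hx using Subgroup.closure_induction with
  | mem y hy => exact hy
  | one => exact ⟨one_mem _, one_pow _, fun v _ => Commute.one_left v⟩
  | mul a b _ _ ha hb =>
    exact ⟨Q.mul_mem ha.1 hb.1, by rw [(ha.2.2 b hb.1).mul_pow, ha.2.1, hb.2.1, one_mul],
      fun v hv => (ha.2.2 v hv).mul_left (hb.2.2 v hv)⟩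
  | inv a _ ha =>
    exact ⟨Q.inv_mem ha.1, by rw [inv_pow, ha.2.1, inv_one], fun v hv => (ha.2.2 v hv).inv_left⟩

theorem omegaCenter_le : omegaCenter q Q ≤ Q := fun _ hx => (mem_omegaCenter_iff.mp hx).1

theorem omegaCenter_elementary : IsElementaryAbelian q (omegaCenter q Q) :=
  ⟨⟨⟨fun a b => Subtype.ext ((mem_omegaCenter_iff.mp a.2).2.2 b (omegaCenter_le b.2)).eq⟩⟩,
    fun _ ha => (mem_omegaCenter_iff.mp ha).2.1⟩

theorem le_centralizer_omegaCenter : Q ≤ centralizer (omegaCenter q Q : Set G) :=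
  fun v hv => mem_centralizer_iff.mpr fun _ hx => ((mem_omegaCenter_iff.mp hx).2.2 v hv).eq

/-- The commutator of an element of `omegaTwo` with an element of `Q` lies in `Ω₁(Z(Q))`. -/
theorem commutator_mem_omegaCenter_of {x u : G} (hx : x ∈ Q) (hxq : x ^ q = 1)
    (hc : ∀ u ∈ Q, ∀ v ∈ Q, Commute ⁅x, u⁆ v) (hu : u ∈ Q) : ⁅x, u⁆ ∈ omegaCenter q Q := by
  have hcQ : ⁅x, u⁆ ∈ Q := Q.mul_mem (Q.mul_mem (Q.mul_mem hx hu) (Q.inv_mem hx)) (Q.inv_mem hu)
  refine mem_omegaCenter_iff.mpr ⟨hcQ, ?_, hc u hu⟩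
  have h1 : u * x⁻¹ * u⁻¹ = x⁻¹ * ⁅x, u⁆ := by rw [commutatorElement_def]; group
  have h2 : (x⁻¹ * ⁅x, u⁆) ^ q = 1 := by rw [← h1, conj_pow, inv_pow, hxq]; simp
  rwa [((hc u hu x hx).symm.inv_left).mul_pow, inv_pow, hxq, inv_one, one_mul] at h2

variable (hq2 : q ≠ 2)

include hq2 in
theorem mem_omegaTwo_iff {x : G} :
    x ∈ omegaTwo q Q ↔ x ∈ Q ∧ x ^ q = 1 ∧ ∀ u ∈ Q, ∀ v ∈ Q, Commute ⁅x, u⁆ v := by
  refine ⟨fun hx => ?_, fun h => subset_closure h⟩
  induction hx using Subgroup.closure_induction with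
  | mem y hy => exact hy
  | one => exact ⟨one_mem _, one_pow _, fun u _ v _ => by simp⟩
  | mul a b _ _ ha hb =>
    refine ⟨Q.mul_mem ha.1 hb.1, ?_, fun u hu v hv => ?_⟩
    · have hc := hb.2.2 a ha.1
      rw [Fusion.mul_pow_of_commute_commutator (hc a ha.1) (hc b hb.1), ha.2.1, hb.2.1, one_mul,
        one_mul]
      obtain ⟨k, hk⟩ := hq.out.dvd_choose_self two_ne_zero
        (lt_of_le_of_ne hq.out.two_le (Ne.symm hq2))
      rw [hk, pow_mul, (mem_omegaCenter_iff.mp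
        (commutator_mem_omegaCenter_of hb.1 hb.2.1 hb.2.2 ha.1)).2.1, one_pow]
    · have h1 : ⁅a * b, u⁆ = ⁅b, u⁆ * ⁅a, u⁆ := by
        calc ⁅a * b, u⁆ = a * ⁅b, u⁆ * a⁻¹ * ⁅a, u⁆ := by
              rw [commutatorElement_def, commutatorElement_def, commutatorElement_def]; group
          _ = ⁅b, u⁆ * ⁅a, u⁆ := by rw [← (hb.2.2 u hu a ha.1).eq, mul_inv_cancel_right]
      rw [h1]
      exact (hb.2.2 u hu v hv).mul_left (ha.2.2 u hu v hv)
  | inv a _ ha =>
    refine ⟨Q.inv_mem ha.1, by rw [inv_pow, ha.2.1, inv_one], fun u hu v hv => ?_⟩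
    have h1 : ⁅a⁻¹, u⁆ = ⁅a, u⁆⁻¹ := by
      calc ⁅a⁻¹, u⁆ = a⁻¹ * ⁅a, u⁆⁻¹ * a := by
            rw [commutatorElement_def, commutatorElement_def]; group
        _ = ⁅a, u⁆⁻¹ := by rw [mul_assoc, ((ha.2.2 u hu a ha.1).inv_left).eq, inv_mul_cancel_left]
    rw [h1]
    exact (ha.2.2 u hu v hv).inv_left

include hq2 in
theorem omegaTwo_le : omegaTwo q Q ≤ Q := fun _ hx => ((mem_omegaTwo_iff hq2).mp hx).1

include hq2 in
theorem commutator_mem_omegaCenter {x u : G} (hx : x ∈ omegaTwo q Q) (hu : u ∈ Q) :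
    ⁅x, u⁆ ∈ omegaCenter q Q :=
  commutator_mem_omegaCenter_of ((mem_omegaTwo_iff hq2).mp hx).1 ((mem_omegaTwo_iff hq2).mp hx).2.1
    ((mem_omegaTwo_iff hq2).mp hx).2.2 hu

include hq2 in
theorem normalizer_le_normalizer_omegaTwo :
    normalizer (Q : Set G) ≤ normalizer (omegaTwo q Q : Set G) := by
  have key : ∀ n ∈ normalizer (Q : Set G), ∀ x ∈ omegaTwo q Q, n * x * n⁻¹ ∈ omegaTwo q Q := by
    intro n hn x hx
    obtain ⟨hxQ, hxq, hxc⟩ := (mem_omegaTwo_iff hq2).mp hx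
    refine (mem_omegaTwo_iff hq2).mpr ⟨(mem_normalizer_iff.mp hn x).mp hxQ,
      by rw [conj_pow, hxq, mul_one, mul_inv_cancel], fun u hu v hv => ?_⟩
    have hu' : n⁻¹ * u * n ∈ Q := by
      have := (mem_normalizer_iff.mp (inv_mem hn) u).mp hu
      rwa [inv_inv] at this
    have hv' : n⁻¹ * v * n ∈ Q := by
      have := (mem_normalizer_iff.mp (inv_mem hn) v).mp hv
      rwa [inv_inv] at this
    have h1 := ((hxc _ hu' _ hv').map (MulAut.conj n).toMonoidHom)
    simp only [MulEquiv.toMonoidHom_eq_coe, MonoidHom.coe_coe, MulAut.conj_apply] at h1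
    have e1 : n * ⁅x, n⁻¹ * u * n⁆ * n⁻¹ = ⁅n * x * n⁻¹, u⁆ := by
      rw [commutatorElement_def, commutatorElement_def]; group
    have e2 : n * (n⁻¹ * v * n) * n⁻¹ = v := by group
    rwa [e1, e2] at h1
  intro n hn
  rw [mem_normalizer_iff]
  refine fun x => ⟨key n hn x, fun hx => ?_⟩
  have := key n⁻¹ (inv_mem hn) _ hx
  rwa [show n⁻¹ * (n * x * n⁻¹) * n⁻¹⁻¹ = x by group] at this

theorem omegaCenter_le_omegaTwo : omegaCenter q Q ≤ omegaTwo q Q :=
  (closure_le _).mpr fun x hx => subset_closure ⟨hx.1, hx.2.1, fun u hu v _ => by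
    rw [commutatorElement_eq_one_iff_mul_comm.mpr (hx.2.2 u hu).eq]
    exact Commute.one_left v⟩

theorem exists_mem_omegaCenter (hQ : IsPGroup q Q) (hne : Q ≠ ⊥) :
    ∃ z ∈ omegaCenter q Q, z ≠ 1 := by
  haveI : Nontrivial Q := (nontrivial_iff_ne_bot Q).mpr hne
  obtain ⟨Z, -, hZc, -, hZcard⟩ := Fusion.exists_central_card_prime hQ (⊤ : Subgroup Q) top_ne_bot
  obtain ⟨z, hz, hz1⟩ := (Z.bot_or_exists_ne_one).resolve_left fun h => hq.out.ne_one
    (hZcard.symm.trans (by rw [h, card_bot]))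
  refine ⟨z, subset_closure ⟨z.2, ?_, fun v hv =>
    (congrArg Subtype.val (mem_center_iff.mp (hZc hz) ⟨v, hv⟩)).symm⟩,
    fun h => hz1 (Subtype.ext h)⟩
  have := orderOf_dvd_natCard (⟨z, hz⟩ : Z)
  rw [hZcard, orderOf_dvd_iff_pow_eq_one] at this
  exact congrArg (fun w : Z => ((w : Q) : G)) this

/-! ### Elementary subgroups -/

omit hq in
theorem isElementaryAbelian_sup_zpowers {T : Subgroup G} (hT : IsElementaryAbelian q T) {x : G}
    (hx : x ^ q = 1) (hxT : x ∈ centralizer (T : Set G)) :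
    IsElementaryAbelian q (T ⊔ zpowers x : Subgroup G) := by
  have hn : zpowers x ≤ normalizer (T : Set G) :=
    (zpowers_le.mpr hxT).trans (centralizer_le_normalizer _)
  refine ⟨Fusion.isMulCommutative_sup_of_le_centralizer hT.1 inferInstance ?_, ?_⟩
  · rw [le_centralizer_iff, zpowers_le]
    exact hxT
  · intro w hw
    obtain ⟨e, he, v, hv, rfl⟩ := (Coprime.mem_sup_of_le_normalizer hn).mp hw
    obtain ⟨i, rfl⟩ := mem_zpowers_iff.mp hv
    rw [(((show Commute e x from mem_centralizer_iff.mp hxT e he)).zpow_right i).mul_pow, hT.2 e he,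
      one_mul, ← zpow_natCast, ← zpow_mul, mul_comm, zpow_mul, zpow_natCast, hx, one_zpow]

theorem card_sup_zpowers_of_not_mem {T : Subgroup G} {x : G} (hx : x ^ q = 1)
    (hxT : x ∈ centralizer (T : Set G)) (hne : x ∉ T) :
    Nat.card (T ⊔ zpowers x : Subgroup G) = Nat.card T * q := by
  have hx1 : x ≠ 1 := fun h => hne (h ▸ one_mem _)
  have ho : orderOf x = q := orderOf_eq_prime hx hx1
  have hinf : T ⊓ zpowers x = ⊥ := by
    rw [eq_bot_iff]
    rintro w ⟨hwT, hwx⟩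
    rw [mem_bot]
    by_contra hw
    refine hne ((zpowers_le.mpr hwT) ((?_ : zpowers w = zpowers x) ▸ mem_zpowers x))
    refine Subgroup.eq_of_le_of_card_ge (zpowers_le.mpr hwx) ?_
    rw [Nat.card_zpowers, Nat.card_zpowers, ho]
    have hd : orderOf w ∣ q := by
      obtain ⟨i, rfl⟩ := mem_zpowers_iff.mp hwx
      rw [← ho]
      exact orderOf_dvd_of_mem_zpowers (zpow_mem (mem_zpowers x) i)
    rcases (Nat.dvd_prime hq.out).mp hd with h | h
    · exact absurd (orderOf_eq_one_iff.mp h) hw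
    · exact h.ge
  rw [Coprime.card_sup_eq_mul ((zpowers_le.mpr hxT).trans (centralizer_le_normalizer _)) hinf,
    Nat.card_zpowers, ho]

theorem rich_zpowers_of {y : G} {T : Subgroup G} (hTQ : T ≤ Q) (hTe : IsElementaryAbelian q T)
    (hT2 : q ^ 2 ≤ Nat.card T) (hyQ : y ∈ Q) (hy : y ^ q = 1)
    (hyT : y ∈ centralizer (T : Set G)) (hne : y ∉ T) : Rich q Q (zpowers y) := by
  refine ⟨T ⊔ zpowers y, sup_le hTQ (zpowers_le.mpr hyQ), sup_le ?_
    ((le_centralizer_iff_isMulCommutative.mpr inferInstance)),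
    isElementaryAbelian_sup_zpowers hTe hy hyT, ?_⟩
  · rw [le_centralizer_iff, zpowers_le]
    exact hyT
  · rw [card_sup_zpowers_of_not_mem hy hyT hne, pow_succ]
    exact Nat.mul_le_mul_right q hT2

variable {E : Subgroup G} (hEQ : E ≤ Q) (hEe : IsElementaryAbelian q E) (hE3 : q ^ 3 ≤ Nat.card E)

include hq2 hEQ hEe hE3 in
/-- Elements of `omegaTwo` have centralisers of rank three in `Q`. -/
theorem rich_of_mem_omegaTwo {y : G} (hy : y ∈ omegaTwo q Q) : Rich q Q (zpowers y) := by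
  obtain ⟨hyQ, hyq, -⟩ := (mem_omegaTwo_iff hq2).mp hy
  by_cases hyE : E ≤ centralizer {y}
  · exact ⟨E, hEQ, by rwa [zpowers_eq_closure, centralizer_closure], hEe, hE3⟩
  by_cases hZ : q ^ 2 ≤ Nat.card (omegaCenter q Q)
  · refine rich_zpowers_of omegaCenter_le omegaCenter_elementary hZ hyQ hyq
      (le_centralizer_omegaCenter hyQ) fun hmem => hyE ?_
    exact fun e he => mem_centralizer_singleton_iff.mpr
      ((mem_omegaCenter_iff.mp hmem).2.2 e (hEQ he)).eq.symm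
  · let φ : E →* omegaCenter q Q :=
      { toFun := fun a => ⟨⁅y, (a : G)⁆, commutator_mem_omegaCenter hq2 hy (hEQ a.2)⟩
        map_one' := Subtype.ext (commutatorElement_one_right y)
        map_mul' := fun a b => Subtype.ext (by
          show ⁅y, (a : G) * b⁆ = ⁅y, (a : G)⁆ * ⁅y, (b : G)⁆
          have hcb := (mem_omegaCenter_iff.mp
            (commutator_mem_omegaCenter hq2 hy (hEQ b.2))).2.2 (a : G) (hEQ a.2)
          calc ⁅y, (a : G) * b⁆ = ⁅y, (a : G)⁆ * ((a : G) * ⁅y, (b : G)⁆ * (a : G)⁻¹) := by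
                rw [commutatorElement_def, commutatorElement_def, commutatorElement_def]; group
            _ = ⁅y, (a : G)⁆ * ⁅y, (b : G)⁆ := by rw [← hcb.eq, mul_inv_cancel_right]) }
    have hker : φ.ker.map E.subtype ≤ E ⊓ centralizer {y} := by
      rintro _ ⟨a, ha, rfl⟩
      exact ⟨a.2, mem_centralizer_singleton_iff.mpr (commutatorElement_eq_one_iff_mul_comm.mp
        (congrArg Subtype.val ha)).symm⟩
    have hEy : q ^ 2 ≤ Nat.card (E ⊓ centralizer {y} : Subgroup G) := by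
      refine le_trans ?_ (Nat.le_of_dvd Nat.card_pos (card_dvd_of_le hker))
      rw [card_map_of_injective E.subtype_injective]
      refine Nat.le_of_mul_le_mul_right (?_ : q ^ 2 * q ≤ Nat.card φ.ker * q) hq.out.pos
      rw [← pow_succ]
      refine hE3.trans ?_
      rw [← φ.ker.card_mul_index, Subgroup.index_ker]
      refine Nat.mul_le_mul_left _ ((Nat.le_of_dvd Nat.card_pos
        (Subgroup.card_subgroup_dvd_card φ.range)).trans ?_)
      obtain ⟨k, hk⟩ := Coprime.ea_card (omegaCenter_elementary (q := q) (Q := Q))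
      rw [hk] at hZ ⊢
      refine (Nat.pow_le_pow_right hq.out.pos (?_ : k ≤ 1)).trans (pow_one q).le
      by_contra hk2
      exact hZ (Nat.pow_le_pow_right hq.out.pos (by omega))
    exact rich_zpowers_of (inf_le_left.trans hEQ)
      (Coprime.ea_mono hEe inf_le_left) hEy hyQ hyq
      (mem_centralizer_iff.mpr fun e he => mem_centralizer_singleton_iff.mp he.2)
      fun hmem => hyE fun e he => mem_centralizer_singleton_iff.mpr
        (Coprime.ea_comm hEe he hmem.1)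

include hq2 hEQ hEe hE3 in
theorem sq_le_card_omegaTwo (hQ : IsPGroup q Q) : q ^ 2 ≤ Nat.card (omegaTwo q Q) := by
  have hr : ¬ PRankLE q 2 ↥Q := not_pRankLE_of_elementary hEQ hEe hE3
  obtain ⟨N, hNn, hNe, hN3, -⟩ := exists_normal_elementary_omega hQ hq2 hr
  have hNne : N ≠ ⊥ := fun h => Coprime.ea_ne_bot three_ne_zero hN3 h
  haveI := hNn
  obtain ⟨Z, hZN, hZc, hZn, hZcard⟩ := Fusion.exists_central_card_prime hQ N hNne
  haveI := hZn
  have hlt : Z < N := lt_of_le_of_ne hZN fun h => by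
    rw [← h, hZcard] at hN3
    have := (Nat.pow_le_pow_iff_right hq.out.one_lt).mp (hN3.trans (pow_one q).ge)
    omega
  obtain ⟨L, -, -, hLN, hLcard, hLZ⟩ := Fusion.exists_normal_card_succ hQ Z N hlt
  refine le_trans ?_ (Nat.le_of_dvd Nat.card_pos
    (card_dvd_of_le (?_ : L.map Q.subtype ≤ omegaTwo q Q)))
  · rw [card_map_of_injective Q.subtype_injective, hLcard, hZcard, sq]
  · rintro _ ⟨x, hx, rfl⟩
    refine subset_closure ⟨x.2, congrArg Subtype.val (hNe.2 x (hLN hx)), fun u hu v hv => ?_⟩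
    have h1 : ⁅x, (⟨u, hu⟩ : Q)⁆ ∈ center Q := hZc (hLZ (commutator_mem_commutator hx (mem_top _)))
    exact (congrArg Subtype.val (mem_center_iff.mp h1 ⟨v, hv⟩)).symm

include hq2 hEQ hEe hE3 in
/-- A noncyclic elementary subgroup of `omegaTwo` with centraliser of rank three. -/
theorem exists_rich_le_omegaTwo (hQ : IsPGroup q Q) :
    ∃ B : Subgroup G, B ≤ omegaTwo q Q ∧ IsElementaryAbelian q B ∧ q ^ 2 ≤ Nat.card B ∧
      Rich q Q B := by
  by_cases hZ : q ^ 2 ≤ Nat.card (omegaCenter q Q)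
  · exact ⟨_, omegaCenter_le_omegaTwo, omegaCenter_elementary, hZ, E, hEQ,
      hEQ.trans le_centralizer_omegaCenter, hEe, hE3⟩
  obtain ⟨z, hz, hz1⟩ := exists_mem_omegaCenter hQ fun h =>
    Coprime.ea_ne_bot three_ne_zero hE3 (le_bot_iff.mp (h ▸ hEQ))
  obtain ⟨y, hy, hyZ⟩ : ∃ y ∈ omegaTwo q Q, y ∉ omegaCenter q Q := by
    by_contra h
    push Not at h
    exact hZ ((sq_le_card_omegaTwo hq2 hEQ hEe hE3 hQ).trans
      (Nat.le_of_dvd Nat.card_pos (card_dvd_of_le h)))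
  obtain ⟨T, hTQ, hTy, hTe, hT3⟩ := rich_of_mem_omegaTwo hq2 hEQ hEe hE3 hy
  have hyC : y ∈ centralizer (omegaCenter q Q : Set G) :=
    le_centralizer_omegaCenter (omegaTwo_le hq2 hy)
  have hyq : y ^ q = 1 := ((mem_omegaTwo_iff hq2).mp hy).2.1
  refine ⟨omegaCenter q Q ⊔ zpowers y, sup_le omegaCenter_le_omegaTwo (zpowers_le.mpr hy),
    isElementaryAbelian_sup_zpowers omegaCenter_elementary hyq hyC, ?_, T, hTQ, ?_, hTe, hT3⟩
  · rw [card_sup_zpowers_of_not_mem hyq hyC hyZ, sq]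
    refine Nat.mul_le_mul_right q ?_
    have hd := card_dvd_of_le (zpowers_le.mpr hz : zpowers z ≤ omegaCenter q Q)
    rw [Nat.card_zpowers, orderOf_eq_prime (mem_omegaCenter_iff.mp hz).2.1 hz1] at hd
    exact Nat.le_of_dvd Nat.card_pos hd
  · rw [le_centralizer_iff]
    exact sup_le (le_centralizer_iff.mp (hTQ.trans le_centralizer_omegaCenter))
      (le_centralizer_iff.mp hTy)

include hq2 hEQ hEe hE3 in
/-- If `C_Q(c)` is noncyclic it contains a noncyclic elementary subgroup with centraliser of rank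
three in `Q`. -/
theorem exists_rich_fixed (hQ : IsPGroup q Q) {c : G} {p : ℕ} [hp : Fact p.Prime] (hqp : q ≠ p)
    (hcQ : c ∈ normalizer (Q : Set G)) (hc : c ^ p = 1)
    (hnc : ¬ IsCyclic (Q ⊓ centralizer {c} : Subgroup G)) :
    ∃ B : Subgroup G, B ≤ Q ⊓ centralizer {c} ∧ IsElementaryAbelian q B ∧ q ^ 2 ≤ Nat.card B ∧
      Rich q Q B := by
  set C := Q ⊓ centralizer ({c} : Set G) with hC
  -- an elementary subgroup of order `q ^ 2` in `C`
  obtain ⟨B₀, -, hB₀e, hB₀c⟩ :=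
    Fusion.exists_normal_elementary_card_sq hq2 (hQ.to_le inf_le_left : IsPGroup q C) hnc
  set B := B₀.map C.subtype with hBdef
  have hBC : B ≤ C := map_subtype_le _
  have hBe : IsElementaryAbelian q B := by
    refine ⟨?_, ?_⟩
    · haveI := hB₀e.1
      exact Subgroup.map_isMulCommutative B₀ _
    · rintro _ ⟨a, ha, rfl⟩
      rw [← map_pow, hB₀e.2 a ha, map_one]
  have hB2 : q ^ 2 ≤ Nat.card B := by
    rw [hBdef, card_map_of_injective C.subtype_injective, hB₀c]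
  by_cases hZC : omegaCenter q Q ≤ centralizer {c}
  swap
  · obtain ⟨z, hz, hzc⟩ := SetLike.not_le_iff_exists.mp hZC
    refine ⟨B, hBC, hBe, hB2, B ⊔ zpowers z, sup_le (hBC.trans inf_le_left)
      (zpowers_le.mpr (omegaCenter_le hz)), ?_, isElementaryAbelian_sup_zpowers hBe
        (mem_omegaCenter_iff.mp hz).2.1 ?_, ?_⟩
    · refine sup_le (Coprime.ea_le_centralizer hBe) (zpowers_le.mpr ?_)
      exact mem_centralizer_iff.mpr fun b hb =>
        ((mem_omegaCenter_iff.mp hz).2.2 b (hBC hb).1).eq.symm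
    · exact mem_centralizer_iff.mpr fun b hb =>
        ((mem_omegaCenter_iff.mp hz).2.2 b (hBC hb).1).eq.symm
    · rw [card_sup_zpowers_of_not_mem (mem_omegaCenter_iff.mp hz).2.1
        (mem_centralizer_iff.mpr fun b hb =>
          ((mem_omegaCenter_iff.mp hz).2.2 b (hBC hb).1).eq.symm) fun h => hzc (hBC h).2, pow_succ]
      exact Nat.mul_le_mul_right q hB2
  by_cases hZ : q ^ 2 ≤ Nat.card (omegaCenter q Q)
  · exact ⟨_, le_inf omegaCenter_le hZC, omegaCenter_elementary, hZ, E, hEQ,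
      hEQ.trans le_centralizer_omegaCenter, hEe, hE3⟩
  by_cases hDC : omegaTwo q Q ≤ centralizer {c}
  · obtain ⟨B', hB'D, h1, h2, h3⟩ := exists_rich_le_omegaTwo hq2 hEQ hEe hE3 hQ
    exact ⟨B', le_inf (hB'D.trans (omegaTwo_le hq2)) (hB'D.trans hDC), h1, h2, h3⟩
  obtain ⟨d, hd, hdc⟩ := SetLike.not_le_iff_exists.mp hDC
  -- `B` contains some `u` outside the centre
  obtain ⟨u, hu, huZ⟩ : ∃ u ∈ B, u ∉ omegaCenter q Q := by
    by_contra h
    push Not at h
    exact hZ (hB2.trans (Nat.le_of_dvd Nat.card_pos (card_dvd_of_le h)))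
  have huQ : u ∈ Q := (hBC hu).1
  have huc : Commute u c := mem_centralizer_singleton_iff.mp (hBC hu).2
  set w := d⁻¹ * (c * d * c⁻¹) with hw
  have hd' : c * d * c⁻¹ ∈ omegaTwo q Q :=
    (mem_normalizer_iff.mp (normalizer_le_normalizer_omegaTwo hq2 hcQ) d).mp hd
  have hwD : w ∈ omegaTwo q Q := mul_mem (inv_mem hd) hd'
  obtain ⟨hwQ, hwq, -⟩ := (mem_omegaTwo_iff hq2).mp hwD
  -- `w` commutes with `u`
  have hwu : Commute w u := by
    have ht := commutator_mem_omegaCenter hq2 hd huQ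
    have htc : Commute ⁅d, u⁆ c := mem_centralizer_singleton_iff.mp (hZC ht)
    have h1 : ⁅c * d * c⁻¹, u⁆ = ⁅d, u⁆ := by
      calc ⁅c * d * c⁻¹, u⁆ = ⁅c * d * c⁻¹, c * u * c⁻¹⁆ := by
            rw [← huc.eq, mul_inv_cancel_right]
        _ = c * ⁅d, u⁆ * c⁻¹ := by rw [commutatorElement_def, commutatorElement_def]; group
        _ = ⁅d, u⁆ := by rw [← htc.eq, mul_inv_cancel_right]
    have h2 : d * u * d⁻¹ = (c * d * c⁻¹) * u * (c * d * c⁻¹)⁻¹ := by
      have := congrArg (· * u) h1.symm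
      simpa [commutatorElement_def] using this
    show w * u = u * w
    calc w * u = d⁻¹ * ((c * d * c⁻¹) * u * (c * d * c⁻¹)⁻¹) * (c * d * c⁻¹) := by rw [hw]; group
      _ = d⁻¹ * (d * u * d⁻¹) * (c * d * c⁻¹) := by rw [h2]
      _ = u * w := by rw [hw]; group
  -- `w` is not fixed by `c`
  have hwC : ¬ Commute c w := by
    intro hcw
    have h1 : ∀ k : ℕ, c ^ k * d * (c ^ k)⁻¹ = d * w ^ k := by
      intro k
      induction k with
      | zero => simp
      | succ k ih =>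
        rw [pow_succ' c k, mul_inv_rev,
          show c * c ^ k * d * ((c ^ k)⁻¹ * c⁻¹) = c * (c ^ k * d * (c ^ k)⁻¹) * c⁻¹ by group, ih,
          show c * (d * w ^ k) * c⁻¹ = (c * d * c⁻¹) * (c * w ^ k * c⁻¹) by group,
          (hcw.pow_right k).eq, mul_inv_cancel_right, pow_succ' w k, ← mul_assoc, hw,
          mul_inv_cancel_left]
    have h2 := h1 p
    rw [hc, one_mul, inv_one, mul_one, left_eq_mul] at h2
    have hw1 : w = 1 := by
      refine orderOf_eq_one_iff.mp (Nat.dvd_one.mp ?_)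
      rw [← ((Nat.coprime_primes hq.out hp.out).mpr hqp).gcd_eq_one]
      exact Nat.dvd_gcd (orderOf_dvd_of_pow_eq_one hwq) (orderOf_dvd_of_pow_eq_one h2)
    apply hdc
    rw [mem_centralizer_singleton_iff]
    have h3 : c * d * c⁻¹ = d := by
      rw [hw, inv_mul_eq_one] at hw1
      exact hw1.symm
    exact (mul_inv_eq_iff_eq_mul.mp h3).symm
  have huq : u ^ q = 1 := hBe.2 u hu
  have huZC : u ∈ centralizer (omegaCenter q Q : Set G) := le_centralizer_omegaCenter huQ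
  set B₁ := omegaCenter q Q ⊔ zpowers u with hB₁
  have hB₁C : B₁ ≤ C := sup_le (le_inf omegaCenter_le hZC) (zpowers_le.mpr (hBC hu))
  have hB₁e : IsElementaryAbelian q B₁ :=
    isElementaryAbelian_sup_zpowers omegaCenter_elementary huq huZC
  have hwB₁ : w ∈ centralizer (B₁ : Set G) := by
    rw [← zpowers_le, le_centralizer_iff]
    refine sup_le ?_ ?_
    · exact le_centralizer_iff.mp ((zpowers_le.mpr (le_centralizer_omegaCenter hwQ)))
    · rw [zpowers_le, zpowers_eq_closure, centralizer_closure, mem_centralizer_singleton_iff]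
      exact hwu.eq.symm
  have hB₁2 : q ^ 2 ≤ Nat.card B₁ := by
    obtain ⟨z, hz, hz1⟩ := exists_mem_omegaCenter hQ fun h =>
      Coprime.ea_ne_bot three_ne_zero hE3 (le_bot_iff.mp (h ▸ hEQ))
    rw [hB₁, card_sup_zpowers_of_not_mem huq huZC huZ, sq]
    refine Nat.mul_le_mul_right q ?_
    have hd := card_dvd_of_le (zpowers_le.mpr hz : zpowers z ≤ omegaCenter q Q)
    rw [Nat.card_zpowers, orderOf_eq_prime (mem_omegaCenter_iff.mp hz).2.1 hz1] at hd
    exact Nat.le_of_dvd Nat.card_pos hd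
  refine ⟨B₁, hB₁C, hB₁e, hB₁2, B₁ ⊔ zpowers w, sup_le (hB₁C.trans inf_le_left)
    (zpowers_le.mpr hwQ), sup_le (Coprime.ea_le_centralizer hB₁e) (zpowers_le.mpr hwB₁),
    isElementaryAbelian_sup_zpowers hB₁e hwq hwB₁, ?_⟩
  rw [card_sup_zpowers_of_not_mem hwq hwB₁ fun h => hwC
    (mem_centralizer_singleton_iff.mp (hB₁C h).2).symm, pow_succ]
  exact Nat.mul_le_mul_right q hB₁2

end Cfsg.Agent.OddLocal
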