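import Cfsg.Agent.OddLocal.StabFactors
import Cfsg.Agent.OddLocal.NormalElementary
import Cfsg.Agent.OddLocal.RichSubgroups
import Cfsg.Prelude.Def_OddOrderLocal

/-!
Narrow `p`-groups of rank at least three, `p` odd (BG §5).
-/

set_option autoImplicit false
set_option linter.unusedSectionVars false
set_option linter.style.haveILetI false

namespace Cfsg.Agent.OddLocal

open Subgroup Cfsg
open scoped commutatorElement

universe u

variable {R : Type u} [Group R] [Finite R] {p : ℕ} [hp : Fact p.Prime]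

/-- The join of two commuting elementary abelian subgroups. -/
theorem isElementaryAbelian_sup {A B : Subgroup R} (hA : IsElementaryAbelian p A)
    (hB : IsElementaryAbelian p B) (hAB : A ≤ centralizer (B : Set R)) :
    IsElementaryAbelian p (A ⊔ B : Subgroup R) := by
  refine ⟨Fusion.isMulCommutative_sup_of_le_centralizer hA.1 hB.1 hAB, fun w hw => ?_⟩
  obtain ⟨a, ha, b, hb, rfl⟩ := (Coprime.mem_sup_of_le_normalizer (N := A) (A := B)
    ((le_centralizer_iff.mp hAB).trans (centralizer_le_normalizer _))).mp hw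
  rw [(show Commute a b from (mem_centralizer_iff.mp (hAB ha) b hb).symm).mul_pow, hA.2 a ha,
    hB.2 b hb, one_mul]

/-- A normal elementary subgroup of order `p ^ 2` is a central line extended by one element. -/
theorem exists_center_line (hR : IsPGroup p R) {E : Subgroup R} [E.Normal]
    (hE : IsElementaryAbelian p E) (hE2 : Nat.card E = p ^ 2) :
    ∃ Z : Subgroup R, Z ≤ E ∧ Z ≤ center R ∧ Nat.card Z = p ∧ ∃ e ∈ E, E = Z ⊔ zpowers e ∧
      ∀ g : R, ⁅g, e⁆ ∈ Z := by
  obtain ⟨Z, hZE, hZc, hZn, hZp⟩ := Fusion.exists_central_card_prime hR E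
    (fun h => by rw [h, card_bot] at hE2; exact (one_lt_pow₀ hp.out.one_lt two_ne_zero).ne hE2)
  obtain ⟨e, he, heZ⟩ : ∃ e ∈ E, e ∉ Z := SetLike.not_le_iff_exists.mp fun h => by
    have h1 := Nat.le_of_dvd Nat.card_pos (card_dvd_of_le h)
    rw [hE2, hZp] at h1
    nlinarith [hp.out.two_le]
  have hrel : Z.relIndex E = p := by
    have h3 := relIndex_mul_relIndex ⊥ Z E bot_le hZE
    rw [relIndex_bot_left, relIndex_bot_left, hZp, hE2, pow_two] at h3
    exact Nat.eq_of_mul_eq_mul_left hp.out.pos h3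
  refine ⟨Z, hZE, hZc, hZp, e, he, ?_, fun g => ?_⟩
  · refine (eq_of_le_of_card_ge (sup_le hZE (zpowers_le.mpr he)) ?_).symm
    rw [card_sup_zpowers_of_not_mem (hE.2 e he)
      (mem_centralizer_iff.mpr fun z hz => (mem_center_iff.mp (hZc hz) e).symm) heZ, hZp, hE2, pow_two]
  · obtain ⟨k, hk⟩ := hR g
    exact commutator_mem_of_pow_eq_one hrel.dvd hk he

/-- A normal elementary subgroup of order `p ^ 2` lies in a normal elementary subgroup of order at
least `p ^ 3` when the rank is at least three. -/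
theorem exists_normal_elementary_ge (hR : IsPGroup p R) (hp2 : p ≠ 2) (hr : ¬ PRankLE p 2 R)
    {E : Subgroup R} [E.Normal] (hE : IsElementaryAbelian p E) (hE2 : Nat.card E = p ^ 2) :
    ∃ F : Subgroup R, F.Normal ∧ E ≤ F ∧ IsElementaryAbelian p F ∧ p ^ 3 ≤ Nat.card F := by
  obtain ⟨B, hBn, hBe, hB3, -⟩ := exists_normal_elementary_omega hR hp2 hr
  obtain ⟨Z, hZE, hZc, hZp, e, he, hEeq, hcomm⟩ := exists_center_line hR hE hE2
  set B' := B ⊓ centralizer (E : Set R) with hB'
  have hle : B ⊓ centralizer {e} ≤ B' := fun x hx => by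
    refine ⟨hx.1, ?_⟩
    have h1 : E ≤ centralizer {x} := by
      rw [hEeq]
      refine sup_le (fun z hz => mem_centralizer_singleton_iff.mpr
        (mem_center_iff.mp (hZc hz) x).symm) (zpowers_le.mpr ?_)
      exact mem_centralizer_singleton_iff.mpr (mem_centralizer_singleton_iff.mp hx.2).symm
    exact mem_centralizer_iff.mpr fun f hf => mem_centralizer_singleton_iff.mp (h1 hf)
  have h2 : p ^ 2 ≤ Nat.card B' := by
    have h3 := card_le_of_commutator_mem (L := B) (N := Z) (s := e) fun k _ => hcomm k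
    rw [hZp] at h3
    have h4 := Nat.le_of_dvd Nat.card_pos (card_dvd_of_le hle)
    refine Nat.le_of_mul_le_mul_right ?_ hp.out.pos
    calc p ^ 2 * p = p ^ 3 := by ring
      _ ≤ _ := hB3.trans (h3.trans (Nat.mul_le_mul h4 le_rfl))
  have hB'e : IsElementaryAbelian p B' := Coprime.ea_mono hBe inf_le_left
  have hFe := isElementaryAbelian_sup hB'e hE inf_le_right
  refine ⟨B' ⊔ E, inferInstance, le_sup_right, hFe, ?_⟩
  by_cases hEB : E ≤ B
  · refine hB3.trans (Nat.le_of_dvd Nat.card_pos (card_dvd_of_le ?_))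
    refine le_trans (le_inf le_rfl ?_) le_sup_left
    exact (Coprime.ea_le_centralizer hBe).trans (centralizer_le hEB)
  · have hlt : B' < B' ⊔ E :=
      lt_of_le_of_ne le_sup_left fun h => hEB ((le_sup_right.trans h.ge).trans inf_le_left)
    obtain ⟨j, hj⟩ := IsPGroup.iff_card.mp (hR.to_subgroup (B' ⊔ E))
    have h5 := h2.trans_lt (Core.card_lt_of_lt hlt)
    rw [hj] at h5 ⊢
    exact Nat.pow_le_pow_right hp.out.pos ((Nat.pow_lt_pow_iff_right hp.out.one_lt).mp h5)

/-- `Ω₁(Z(R))`. -/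
def centerOmega (p : ℕ) (R : Type u) [Group R] : Subgroup R :=
  closure {x : R | x ∈ center R ∧ x ^ p = 1}

/-- `Ω₁(Z₂(R))`. -/
def secondOmega (p : ℕ) (R : Type u) [Group R] : Subgroup R :=
  closure {x : R | x ∈ Subgroup.upperCentralSeries R 2 ∧ x ^ p = 1}

theorem mem_centerOmega_iff {x : R} : x ∈ centerOmega p R ↔ x ∈ center R ∧ x ^ p = 1 := by
  refine ⟨fun h => ?_, fun h => subset_closure h⟩
  induction h using closure_induction with
  | mem x hx => exact hx
  | one => exact ⟨one_mem _, one_pow p⟩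
  | mul x y _ _ hx hy =>
    refine ⟨mul_mem hx.1 hy.1, ?_⟩
    rw [(show Commute x y from mem_center_iff.mp hy.1 x).mul_pow, hx.2, hy.2, one_mul]
  | inv x _ hx => exact ⟨inv_mem hx.1, by rw [inv_pow, hx.2, inv_one]⟩

theorem commutator_mem_center_of_mem_two {x : R} (hx : x ∈ Subgroup.upperCentralSeries R 2)
    (y : R) : ⁅x, y⁆ ∈ center R := by
  rw [← Subgroup.upperCentralSeries_one R]
  exact (Subgroup.mem_upperCentralSeries_succ_iff.mp hx) y

theorem mem_secondOmega_iff (hp2 : p ≠ 2) {x : R} :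
    x ∈ secondOmega p R ↔ x ∈ Subgroup.upperCentralSeries R 2 ∧ x ^ p = 1 := by
  refine ⟨fun h => ?_, fun h => subset_closure h⟩
  induction h using closure_induction with
  | mem x hx => exact hx
  | one => exact ⟨one_mem _, one_pow p⟩
  | mul x y _ _ hx hy =>
    refine ⟨mul_mem hx.1 hy.1, ?_⟩
    have hc := commutator_mem_center_of_mem_two hy.1 x
    have hcy : Commute ⁅y, x⁆ y := (mem_center_iff.mp hc y).symm
    rw [Fusion.mul_pow_of_commute_commutator ((mem_center_iff.mp hc x).symm) hcy p, hx.2, hy.2,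
      one_mul, one_mul]
    obtain ⟨k, hk⟩ := hp.out.dvd_choose_self two_ne_zero
      (lt_of_le_of_ne hp.out.two_le (Ne.symm hp2))
    have h1 : ⁅y, x⁆ ^ p = 1 := by
      have h2 : (⁅y, x⁆ * (x * y * x⁻¹)) ^ p = y ^ p := by
        rw [commutatorElement_def]; congr 1; group
      have h3 : Commute ⁅y, x⁆ (x * y * x⁻¹) := (mem_center_iff.mp hc _).symm
      rw [h3.mul_pow, conj_pow, hy.2, mul_one, mul_inv_cancel, mul_one] at h2
      exact h2
    rw [hk, pow_mul, h1, one_pow]
  | inv x _ hx => exact ⟨inv_mem hx.1, by rw [inv_pow, hx.2, inv_one]⟩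

/-- Commutators with an element of `Ω₁(Z₂)` lie in `Ω₁(Z)`. -/
theorem commutator_mem_centerOmega {w : R} (hw : w ∈ Subgroup.upperCentralSeries R 2)
    (hwp : w ^ p = 1) (g : R) : ⁅w, g⁆ ∈ centerOmega p R := by
  have hc := commutator_mem_center_of_mem_two hw g
  refine mem_centerOmega_iff.mpr ⟨hc, ?_⟩
  have h2 : (⁅w, g⁆ * (g * w * g⁻¹)) ^ p = w ^ p := by
    rw [commutatorElement_def]; congr 1; group
  have h3 : Commute ⁅w, g⁆ (g * w * g⁻¹) := (mem_center_iff.mp hc _).symm
  rw [h3.mul_pow, conj_pow, hwp, mul_one, mul_inv_cancel, mul_one] at h2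
  exact h2

/-- The group-theoretic content of BG Lemma 5.2. -/
theorem maximal_elementary_two (hR : IsPGroup p R) (hp2 : p ≠ 2) (hr : ¬ PRankLE p 2 R)
    {E : Subgroup R} (hE : IsElementaryAbelian p E) (hE2 : Nat.card E = p ^ 2)
    (hEmax : ∀ B : Subgroup R, IsElementaryAbelian p B → E ≤ B → B = E) :
    ¬ E ≤ centralizer (secondOmega p R : Set R) ∧ Nat.card (centerOmega p R) = p ∧
      (IsElementaryAbelian p (secondOmega p R) ∧ Nat.card (secondOmega p R) = p ^ 2) ∧
      (centralizer (secondOmega p R : Set R)).Characteristic ∧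
      (centralizer (secondOmega p R : Set R)).index = p := by
  set Z := centerOmega p R with hZdef
  set W := secondOmega p R with hWdef
  have hmem : ∀ x : R, x ^ p = 1 → x ∈ centralizer (E : Set R) → x ∈ E := fun x hx hxc => by
    have := hEmax _ (isElementaryAbelian_sup_zpowers hE hx hxc) le_sup_left
    exact this ▸ mem_sup_right (mem_zpowers x)
  have hZE : Z ≤ E := fun x hx => hmem x (mem_centerOmega_iff.mp hx).2
    (mem_centralizer_iff.mpr fun e _ => mem_center_iff.mp (mem_centerOmega_iff.mp hx).1 e)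
  have hZneE : Z ≠ E := by
    intro h
    simp only [PRankLE] at hr
    push Not at hr
    obtain ⟨B, hBc, hBp, hBcard⟩ := hr
    refine hBcard.not_ge (le_of_le_of_eq (Nat.le_of_dvd Nat.card_pos (card_dvd_of_le ?_)) hE2)
    exact fun b hb => hmem b (hBp b hb) (mem_centralizer_iff.mpr fun e he =>
      (mem_center_iff.mp (mem_centerOmega_iff.mp (h.ge he)).1 b).symm)
  have hRne : Nontrivial R := by
    by_contra h
    rw [not_nontrivial_iff_subsingleton] at h
    rw [Nat.card_unique] at hE2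
    exact (one_lt_pow₀ hp.out.one_lt two_ne_zero).ne hE2
  have hZne : Z ≠ ⊥ := by
    obtain ⟨Y, -, hYc, -, hYp⟩ := Fusion.exists_central_card_prime hR ⊤ top_ne_bot
    intro h
    have hY : Y ≤ Z := fun y hy => mem_centerOmega_iff.mpr ⟨hYc hy, by
      have := pow_card_eq_one' (x := (⟨y, hy⟩ : Y))
      rw [hYp] at this
      exact congrArg Subtype.val this⟩
    rw [h, le_bot_iff] at hY
    rw [hY, card_bot] at hYp
    exact hp.out.ne_one hYp.symm
  have hZp : Nat.card Z = p := by
    obtain ⟨j, hj2, hj⟩ := (Nat.dvd_prime_pow hp.out).mp (hE2 ▸ card_dvd_of_le hZE)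
    interval_cases j
    · exact absurd (Subgroup.card_eq_one.mp (hj.trans (pow_zero p))) hZne
    · exact hj.trans (pow_one p)
    · exact absurd (eq_of_le_of_card_ge hZE (le_of_eq (hE2.trans hj.symm))) hZneE
  obtain ⟨e, he, heZ⟩ : ∃ e ∈ E, e ∉ Z :=
    SetLike.not_le_iff_exists.mp fun h => hZneE (le_antisymm hZE h)
  have hEeq : Z ⊔ zpowers e = E := by
    refine eq_of_le_of_card_ge (sup_le hZE (zpowers_le.mpr he)) ?_
    rw [card_sup_zpowers_of_not_mem (hE.2 e he)
      (mem_centralizer_iff.mpr fun z hz => (mem_center_iff.mp (mem_centerOmega_iff.mp hz).1 e).symm)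
      heZ, hZp, hE2, pow_two]
  have hZW : Z ≤ W := fun x hx => subset_closure
    ⟨Subgroup.upperCentralSeries_mono R (show 1 ≤ 2 by decide)
      (by rw [Subgroup.upperCentralSeries_one]; exact (mem_centerOmega_iff.mp hx).1),
      (mem_centerOmega_iff.mp hx).2⟩
  -- `E` is not normal, so not in `W`
  have hEW : ¬ E ≤ W := by
    intro h
    haveI hEn : E.Normal := ⟨fun x hx g => by
      obtain ⟨hx2, hxp⟩ := (mem_secondOmega_iff hp2).mp (h hx)
      rw [show g * x * g⁻¹ = ⁅x, g⁆⁻¹ * x by rw [commutatorElement_def]; group]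
      exact mul_mem (inv_mem (hZE (commutator_mem_centerOmega hx2 hxp g))) hx⟩
    obtain ⟨F, -, hEF, hFe, hF3⟩ := exists_normal_elementary_ge hR hp2 hr hE hE2
    rw [hEmax F hFe hEF, hE2] at hF3
    exact absurd ((Nat.pow_le_pow_iff_right hp.out.one_lt).mp hF3) (by norm_num)
  -- order of `W`
  have hWle : Nat.card W ≤ p ^ 2 := by
    have h1 := card_le_of_commutator_mem (L := W) (N := Z) (s := e) fun k hk =>
      commutator_mem_centerOmega ((mem_secondOmega_iff hp2).mp hk).1
        ((mem_secondOmega_iff hp2).mp hk).2 e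
    rw [hZp] at h1
    have h2 : W ⊓ centralizer {e} ≤ W ⊓ E := fun x hx => by
      refine ⟨hx.1, hmem x ((mem_secondOmega_iff hp2).mp hx.1).2 ?_⟩
      have h3 : E ≤ centralizer {x} := by
        rw [← hEeq]
        refine sup_le (fun z hz => mem_centralizer_singleton_iff.mpr
          (mem_center_iff.mp (mem_centerOmega_iff.mp hz).1 x).symm) (zpowers_le.mpr ?_)
        exact mem_centralizer_singleton_iff.mpr (mem_centralizer_singleton_iff.mp hx.2).symm
      exact mem_centralizer_iff.mpr fun f hf => mem_centralizer_singleton_iff.mp (h3 hf)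
    have h4 : Nat.card (W ⊓ E : Subgroup R) ≤ p := by
      have hlt : W ⊓ E < E := lt_of_le_of_ne inf_le_right fun h => hEW (h.ge.trans inf_le_left)
      obtain ⟨j, -, hj⟩ := (Nat.dvd_prime_pow hp.out).mp
        (hE2 ▸ card_dvd_of_le (inf_le_right : W ⊓ E ≤ E))
      have h5 := Core.card_lt_of_lt hlt
      rw [hE2, hj] at h5
      rw [hj]
      have h6 := (Nat.pow_lt_pow_iff_right hp.out.one_lt).mp h5
      exact (Nat.pow_le_pow_right hp.out.pos (by omega : j ≤ 1)).trans_eq (pow_one p)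
    refine h1.trans ?_
    rw [pow_two]
    exact Nat.mul_le_mul ((Nat.le_of_dvd Nat.card_pos (card_dvd_of_le h2)).trans h4) le_rfl
  obtain ⟨B, hBn, hBe, hB3, -⟩ := exists_normal_elementary_omega hR hp2 hr
  haveI hZn : Z.Normal := ⟨fun x hx g => by
    rwa [mem_center_iff.mp (mem_centerOmega_iff.mp hx).1 g, mul_inv_cancel_right]⟩
  have hZB : Z < B := by
    obtain ⟨Y, hYB, hYc, -, hYp⟩ := Fusion.exists_central_card_prime hR B
      (Coprime.ea_ne_bot three_ne_zero hB3)
    have hYZ : Y = Z := eq_of_le_of_card_ge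
      (fun y hy => mem_centerOmega_iff.mpr ⟨hYc hy, hBe.2 y (hYB hy)⟩) (by rw [hYp, hZp])
    refine lt_of_le_of_ne (hYZ ▸ hYB) fun h => ?_
    rw [← h, hZp] at hB3
    exact absurd hB3 (not_le.mpr (lt_self_pow₀ hp.out.one_lt (by norm_num)))
  obtain ⟨L, -, hZL, hLB, hLc, hLZ⟩ := Fusion.exists_normal_card_succ hR Z B hZB
  have hLW : L ≤ W := fun x hx => subset_closure
    ⟨Subgroup.mem_upperCentralSeries_succ_iff.mpr fun y => by
      rw [Subgroup.upperCentralSeries_one]
      exact (mem_centerOmega_iff.mp (hLZ (commutator_mem_commutator hx (mem_top y)))).1,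
      hBe.2 x (hLB hx)⟩
  have hLW' : L = W := eq_of_le_of_card_ge hLW (by rw [hLc, hZp, ← pow_two]; exact hWle)
  have hW2 : Nat.card W = p ^ 2 := by rw [← hLW', hLc, hZp, pow_two]
  have hWe : IsElementaryAbelian p W := hLW' ▸ Coprime.ea_mono hBe hLB
  haveI hWchar : W.Characteristic := by
    rw [characteristic_iff_map_le]
    intro φ
    rw [hWdef, secondOmega, MonoidHom.map_closure]
    refine closure_mono ?_
    rintro _ ⟨x, hx, rfl⟩
    refine ⟨?_, by rw [← map_pow, hx.2, map_one]⟩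
    haveI : (Subgroup.upperCentralSeries R 2).Characteristic := inferInstance
    exact characteristic_iff_map_le.mp this φ (mem_map_of_mem _ hx.1)
  have hnotT : ¬ E ≤ centralizer (W : Set R) := by
    intro h
    have hWE : W ≤ E := fun w hw => hmem w (hWe.2 w hw) ((le_centralizer_iff.mp h) hw)
    exact hEW (eq_of_le_of_card_ge hWE (by rw [hW2, hE2])).ge
  refine ⟨hnotT, hZp, ⟨hWe, hW2⟩, inferInstance, ?_⟩
  -- the index
  obtain ⟨w, hw, hwZ⟩ : ∃ w ∈ W, w ∉ Z := SetLike.not_le_iff_exists.mp fun h => by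
    have h1 := Nat.le_of_dvd Nat.card_pos (card_dvd_of_le h)
    rw [hW2, hZp] at h1
    nlinarith [hp.out.two_le]
  have hWeq : Z ⊔ zpowers w = W := by
    refine eq_of_le_of_card_ge (sup_le hZW (zpowers_le.mpr hw)) ?_
    rw [card_sup_zpowers_of_not_mem (hWe.2 w hw)
      (mem_centralizer_iff.mpr fun z hz => (mem_center_iff.mp (mem_centerOmega_iff.mp hz).1 w).symm)
      hwZ, hZp, hW2, pow_two]
  have hCw : centralizer (W : Set R) = centralizer {w} := by
    refine le_antisymm (centralizer_le (Set.singleton_subset_iff.mpr hw)) fun x hx => ?_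
    have h3 : W ≤ centralizer {x} := by
      rw [← hWeq]
      refine sup_le (fun z hz => mem_centralizer_singleton_iff.mpr
        (mem_center_iff.mp (mem_centerOmega_iff.mp hz).1 x).symm) (zpowers_le.mpr ?_)
      exact mem_centralizer_singleton_iff.mpr (mem_centralizer_singleton_iff.mp hx).symm
    exact mem_centralizer_iff.mpr fun f hf => mem_centralizer_singleton_iff.mp (h3 hf)
  obtain ⟨j, hj⟩ : ∃ j, (centralizer (W : Set R)).index = p ^ j := IsPGroup.index hR _
  have h1 := card_le_of_commutator_mem (L := ⊤) (N := Z) (s := w) fun k _ => by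
    obtain ⟨hw2, hwp⟩ := (mem_secondOmega_iff hp2).mp hw
    rw [← commutatorElement_inv]
    exact inv_mem (commutator_mem_centerOmega hw2 hwp k)
  rw [card_top, top_inf_eq, hZp, ← hCw, ← (centralizer (W : Set R)).card_mul_index, hj] at h1
  have h2 : p ^ j ≤ p ^ 1 := by
    rw [pow_one]
    exact Nat.le_of_mul_le_mul_left h1 Nat.card_pos
  have hj1 := (Nat.pow_le_pow_iff_right hp.out.one_lt).mp h2
  rcases Nat.le_one_iff_eq_zero_or_eq_one.mp hj1 with h | h
  · rw [h, pow_zero, index_eq_one] at hj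
    exact absurd (hj ▸ le_top) hnotT
  · rw [hj, h, pow_one]

/-- A narrow group of rank at least three has a maximal elementary subgroup of order `p ^ 2`. -/
theorem exists_maximal_elementary_of_narrow (hR : IsPGroup p R) (hr : ¬ PRankLE p 2 R)
    (hn : IsNarrow p R) :
    ∃ E : Subgroup R, IsElementaryAbelian p E ∧ Nat.card E = p ^ 2 ∧
      ∀ B : Subgroup R, IsElementaryAbelian p B → E ≤ B → B = E := by
  obtain ⟨R₀, R₁, h0, hcyc, hinf, hcomm, hsup⟩ := hn.resolve_left hr
  have h0e : IsElementaryAbelian p R₀ := by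
    haveI : IsCyclic R₀ := isCyclic_of_prime_card h0
    refine ⟨inferInstance, fun x hx => ?_⟩
    have := pow_card_eq_one' (x := (⟨x, hx⟩ : R₀))
    rw [h0] at this
    exact congrArg Subtype.val this
  have h1 : R₁ ≠ ⊥ := by
    intro h
    rw [h, sup_bot_eq] at hsup
    have hne : R₀ ≠ ⊥ := fun hb => hp.out.ne_one (by rw [← h0, hb, card_bot])
    haveI : Nontrivial R₀ := (nontrivial_iff_ne_bot R₀).mpr hne
    haveI : Nontrivial R := Subtype.val_injective.nontrivial (α := R₀)
    obtain ⟨Y, -, hYc, -, hYp⟩ := Fusion.exists_central_card_prime hR ⊤ top_ne_bot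
    have hY : Y = R₀ := eq_of_le_of_card_ge (fun y hy => hsup.ge (mem_centralizer_iff.mpr
      fun a _ => mem_center_iff.mp (hYc hy) a)) (by rw [hYp, h0])
    have htop : centralizer (R₀ : Set R) = ⊤ := by
      rw [centralizer_eq_top_iff_subset]
      exact hY ▸ hYc
    apply hr
    intro B hBc hBp
    refine le_trans ?_ (Nat.pow_le_pow_right hp.out.pos (show 1 ≤ 2 by decide))
    rw [pow_one, ← h0]
    exact Nat.le_of_dvd Nat.card_pos (card_dvd_of_le (le_top.trans_eq (htop.symm.trans hsup.symm)))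
  obtain ⟨r, hr1, hrp⟩ : ∃ r ∈ R₁, orderOf r = p := by
    have hdvd : p ∣ Nat.card R₁ :=
      ((hR.to_subgroup R₁).card_eq_or_dvd).resolve_left fun h => h1 (card_eq_one.mp h)
    obtain ⟨x, hx⟩ := exists_prime_orderOf_dvd_card' p hdvd
    exact ⟨x, x.2, by rw [Subgroup.orderOf_coe, hx]⟩
  have hrp' : r ^ p = 1 := hrp ▸ pow_orderOf_eq_one r
  have hrc : r ∈ centralizer (R₀ : Set R) := hsup.le (mem_sup_right hr1)
  have hrn : r ∉ R₀ := fun h => by
    have h2 : r ∈ R₀ ⊓ R₁ := ⟨h, hr1⟩
    rw [hinf, mem_bot] at h2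
    rw [h2, orderOf_one] at hrp
    exact hp.out.ne_one hrp.symm
  refine ⟨R₀ ⊔ zpowers r, isElementaryAbelian_sup_zpowers h0e hrp' hrc, ?_, fun B hB hle => ?_⟩
  · rw [card_sup_zpowers_of_not_mem hrp' hrc hrn, h0, pow_two]
  refine le_antisymm (fun b hb => ?_) hle
  have hbc : b ∈ R₀ ⊔ R₁ := hsup.ge (mem_centralizer_iff.mpr fun a ha =>
    Coprime.ea_comm hB (hle (mem_sup_left ha)) hb)
  have hn01 : R₁ ≤ normalizer (R₀ : Set R) :=
    ((le_sup_right : R₁ ≤ R₀ ⊔ R₁).trans hsup.le).trans (centralizer_le_normalizer _)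
  obtain ⟨a, ha, c, hc, rfl⟩ := (Coprime.mem_sup_of_le_normalizer hn01).mp hbc
  have hcp : c ^ p = 1 := by
    have h2 := hB.2 _ hb
    rwa [(show Commute a c from hcomm a ha c hc).mul_pow, h0e.2 a ha, one_mul] at h2
  refine mul_mem (mem_sup_left ha) (mem_sup_right ?_)
  classical
  haveI := Fintype.ofFinite R₁
  haveI := hcyc
  have hle2 : ((Finset.univ : Finset (zpowers (⟨r, hr1⟩ : R₁))).image Subtype.val) ⊆
      Finset.univ.filter (fun a : R₁ => a ^ p = 1) := by
    intro a ha
    obtain ⟨z, -, rfl⟩ := Finset.mem_image.mp ha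
    obtain ⟨i, hi⟩ := mem_zpowers_iff.mp z.2
    refine Finset.mem_filter.mpr ⟨Finset.mem_univ _, ?_⟩
    rw [← hi, ← zpow_natCast, ← zpow_mul, mul_comm, zpow_mul, zpow_natCast]
    exact (by rw [show (⟨r, hr1⟩ : R₁) ^ p = 1 from Subtype.ext (by simpa using hrp'), one_zpow])
  have heq := Finset.eq_of_subset_of_card_le hle2 (by
    rw [Finset.card_image_of_injective _ Subtype.val_injective, Finset.card_univ,
      ← Nat.card_eq_fintype_card, Nat.card_zpowers, ← Subgroup.orderOf_coe, hrp]
    exact IsCyclic.card_pow_eq_one_le hp.out.pos)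
  have hcm : (⟨c, hc⟩ : R₁) ∈ Finset.univ.filter (fun a : R₁ => a ^ p = 1) :=
    Finset.mem_filter.mpr ⟨Finset.mem_univ _, Subtype.ext (by simpa using hcp)⟩
  rw [← heq] at hcm
  obtain ⟨z, -, hz⟩ := Finset.mem_image.mp hcm
  obtain ⟨i, hi⟩ := mem_zpowers_iff.mp z.2
  rw [hz] at hi
  exact ⟨i, by simpa using congrArg Subtype.val hi⟩

/-- For a maximal elementary `E` of order `p ^ 2`, normal subgroups of exponent `p` inside
`C(Ω₁(Z₂))` have upper central factors of order dividing `p`. -/
theorem narrow_factor_dvd (hR : IsPGroup p R) (hp2 : p ≠ 2) (hr : ¬ PRankLE p 2 R)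
    {E : Subgroup R} (hE : IsElementaryAbelian p E) (hE2 : Nat.card E = p ^ 2)
    (hEmax : ∀ B : Subgroup R, IsElementaryAbelian p B → E ≤ B → B = E)
    {D : Subgroup R} [D.Normal] (hDp : ∀ x ∈ D, x ^ p = 1)
    (hDT : D ≤ centralizer (secondOmega p R : Set R)) (i : ℕ) :
    (D ⊓ Subgroup.upperCentralSeries R i).relIndex (D ⊓ Subgroup.upperCentralSeries R (i + 1)) ∣ p := by
  obtain ⟨hnotT, hZp, -, -, -⟩ := maximal_elementary_two hR hp2 hr hE hE2 hEmax
  obtain ⟨e, he, heT⟩ := SetLike.not_le_iff_exists.mp hnotT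
  set Z := centerOmega p R with hZdef
  have hZE : Z ≤ E := fun x hx => by
    have h := hEmax _ (isElementaryAbelian_sup_zpowers hE (mem_centerOmega_iff.mp hx).2
      (mem_centralizer_iff.mpr fun e _ => mem_center_iff.mp (mem_centerOmega_iff.mp hx).1 e))
      le_sup_left
    exact h ▸ mem_sup_right (mem_zpowers x)
  have hZT : Z ≤ centralizer (secondOmega p R : Set R) := fun x hx =>
    mem_centralizer_iff.mpr fun w _ => mem_center_iff.mp (mem_centerOmega_iff.mp hx).1 w
  have heZ : e ∉ Z := fun h => heT (hZT h)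
  have hEeq : Z ⊔ zpowers e = E := by
    refine eq_of_le_of_card_ge (sup_le hZE (zpowers_le.mpr he)) ?_
    rw [card_sup_zpowers_of_not_mem (hE.2 e he)
      (mem_centralizer_iff.mpr fun z hz => (mem_center_iff.mp (mem_centerOmega_iff.mp hz).1 e).symm)
      heZ, hZp, hE2, pow_two]
  refine relIndex_dvd_of_commutator_mem hR
    (inf_le_inf_left _ (Subgroup.upperCentralSeries_mono R (Nat.le_succ i))) (s := e) ?_ ?_
  · have h2 : (D ⊓ Subgroup.upperCentralSeries R (i + 1)) ⊓ centralizer {e} ≤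
        E ⊓ centralizer (secondOmega p R : Set R) := fun x hx => by
      refine ⟨?_, hDT hx.1.1⟩
      have h3 : E ≤ centralizer {x} := by
        rw [← hEeq]
        refine sup_le (fun z hz => mem_centralizer_singleton_iff.mpr
          (mem_center_iff.mp (mem_centerOmega_iff.mp hz).1 x).symm) (zpowers_le.mpr ?_)
        exact mem_centralizer_singleton_iff.mpr (mem_centralizer_singleton_iff.mp hx.2).symm
      have h := hEmax _ (isElementaryAbelian_sup_zpowers hE (hDp x hx.1.1)
        (mem_centralizer_iff.mpr fun f hf => mem_centralizer_singleton_iff.mp (h3 hf))) le_sup_left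
      exact h ▸ mem_sup_right (mem_zpowers x)
    refine (Nat.le_of_dvd Nat.card_pos (card_dvd_of_le h2)).trans ?_
    have hlt : E ⊓ centralizer (secondOmega p R : Set R) < E :=
      lt_of_le_of_ne inf_le_left fun h => hnotT (h.ge.trans inf_le_right)
    obtain ⟨j, -, hj⟩ := (Nat.dvd_prime_pow hp.out).mp
      (hE2 ▸ card_dvd_of_le (inf_le_left : E ⊓ centralizer (secondOmega p R : Set R) ≤ E))
    have h5 := Core.card_lt_of_lt hlt
    rw [hE2, hj] at h5
    rw [hj]
    have h6 := (Nat.pow_lt_pow_iff_right hp.out.one_lt).mp h5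
    exact (Nat.pow_le_pow_right hp.out.pos (by omega : j ≤ 1)).trans_eq (pow_one p)
  · intro k hk
    refine ⟨?_, (Subgroup.mem_upperCentralSeries_succ_iff.mp hk.2) e⟩
    rw [commutatorElement_def, mul_assoc, mul_assoc]
    refine mul_mem hk.1 ?_
    rw [← mul_assoc]
    exact (inferInstance : D.Normal).conj_mem _ (inv_mem hk.1) e

end Cfsg.Agent.OddLocal
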