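import Cfsg.Agent.OddLocal.PLengthProper
import Cfsg.Agent.OddLocal.NarrowGroup
import Cfsg.Agent.RankTwo.Structure
import Cfsg.Agent.Fusion.Residual
import Cfsg.Agent.Core.Basics

/-!
BG 10.8: the ideal primes of `α(M)`.
-/

set_option autoImplicit false
set_option linter.unusedSectionVars false
set_option linter.style.haveILetI false

namespace Cfsg.Agent.OddLocal

open Subgroup Cfsg
open scoped commutatorElement

universe u

variable {p : ℕ} [hp : Fact p.Prime]

/-- A maximal elementary subgroup of order `p ^ 2` makes a `p`-group narrow. -/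
theorem isNarrow_of_maximal_elementary {R : Type u} [Group R] [Finite R] (hR : IsPGroup p R)
    (hp2 : p ≠ 2) {E : Subgroup R} (hE : IsElementaryAbelian p E) (hE2 : Nat.card E = p ^ 2)
    (hEmax : ∀ B : Subgroup R, IsElementaryAbelian p B → E ≤ B → B = E) : IsNarrow p R := by
  by_cases hr : PRankLE p 2 R
  · exact Or.inl hr
  right
  obtain ⟨hnotT, hZp, -, hTc, hTi⟩ := maximal_elementary_two hR hp2 hr hE hE2 hEmax
  set T := centralizer (secondOmega p R : Set R) with hT
  haveI := hTc
  obtain ⟨e, he, heT⟩ := SetLike.not_le_iff_exists.mp hnotT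
  have he1 : e ≠ 1 := fun h => heT (h ▸ one_mem _)
  have hep : e ^ p = 1 := hE.2 e he
  have hmem : ∀ x : R, x ^ p = 1 → x ∈ centralizer (E : Set R) → x ∈ E := fun x hx hxc => by
    have := hEmax _ (isElementaryAbelian_sup_zpowers hE hx hxc) le_sup_left
    exact this ▸ mem_sup_right (mem_zpowers x)
  set Z := centerOmega p R with hZ
  have hZE : Z ≤ E := fun x hx => hmem x (mem_centerOmega_iff.mp hx).2
    (mem_centralizer_iff.mpr fun e _ => mem_center_iff.mp (mem_centerOmega_iff.mp hx).1 e)
  have hZT : Z ≤ T := fun x hx =>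
    mem_centralizer_iff.mpr fun w _ => mem_center_iff.mp (mem_centerOmega_iff.mp hx).1 w
  have heZ : e ∉ Z := fun h => heT (hZT h)
  have hgen : E ≤ Z ⊔ zpowers e := by
    refine (eq_of_le_of_card_ge (sup_le hZE (zpowers_le.mpr he)) ?_).ge
    rw [hE2, pow_two]
    exact hZp ▸ RankTwo.card_mul_le_of_lt hR (lt_of_le_of_ne le_sup_left
      fun h => heZ (h.ge (mem_sup_right (mem_zpowers e))))
  set R₁ := T ⊓ centralizer ({e} : Set R) with hR₁
  have hCe : ∀ x : R, x ∈ centralizer ({e} : Set R) → x ∈ centralizer (E : Set R) := fun x hx => by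
    refine mem_centralizer_iff.mpr fun w hw => ?_
    have hle : Z ⊔ zpowers e ≤ centralizer {x} := sup_le
      (fun z hz => mem_centralizer_singleton_iff.mpr
        (mem_center_iff.mp (mem_centerOmega_iff.mp hz).1 x).symm)
      (zpowers_le.mpr (mem_centralizer_singleton_iff.mpr (mem_centralizer_singleton_iff.mp hx).symm))
    exact mem_centralizer_singleton_iff.mp (hle (hgen hw))
  have hω : ∀ x ∈ R₁, x ^ p = 1 → x ∈ Z := by
    intro x hx hxp
    have hxE := hmem x hxp (hCe x hx.2)
    obtain ⟨z, hz, w, hw, rfl⟩ := (Coprime.mem_sup_of_le_normalizer (N := Z) (A := zpowers e)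
      ((zpowers_le.mpr he).trans ((show E ≤ centralizer (Z : Set R) from fun w _ =>
        mem_centralizer_iff.mpr fun z hz =>
          (mem_center_iff.mp (mem_centerOmega_iff.mp hz).1 w).symm).trans
        (centralizer_le_normalizer _)))).mp (hgen hxE)
    obtain ⟨i, rfl⟩ := mem_zpowers_iff.mp hw
    have hiT : e ^ i ∈ T := by
      have := mul_mem (inv_mem (hZT hz)) hx.1
      rwa [inv_mul_cancel_left] at this
    by_cases hd : (p : ℤ) ∣ i
    · obtain ⟨t, rfl⟩ := hd
      rw [zpow_mul, zpow_natCast, hep, one_zpow, mul_one]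
      exact hz
    · refine absurd ?_ heT
      obtain ⟨a, b, hab⟩ := ((Nat.prime_iff_prime_int.mp hp.out).coprime_iff_not_dvd.mpr hd)
      have : e = (e ^ i) ^ b := by
        rw [← zpow_mul, show i * b = 1 - (p : ℤ) * a by linarith, zpow_sub, zpow_one, zpow_mul,
          zpow_natCast, hep, one_zpow, inv_one, mul_one]
      rw [this]
      exact zpow_mem hiT b
  refine ⟨zpowers e, R₁, by rw [Nat.card_zpowers, orderOf_eq_prime hep he1],
    RankTwo.isCyclic_of_omega_small hp2 (hR.to_subgroup R₁) hZp.le hω, ?_, ?_, ?_⟩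
  · rw [eq_bot_iff]
    intro x hx
    obtain ⟨i, rfl⟩ := mem_zpowers_iff.mp hx.1
    have hxp : (e ^ i) ^ p = 1 := by
      rw [← zpow_natCast, ← zpow_mul, Int.mul_comm, zpow_mul, zpow_natCast, hep, one_zpow]
    by_contra hne
    refine heZ ?_
    have heq : zpowers (e ^ i) = zpowers e := eq_of_le_of_card_ge
      (zpowers_le.mpr (zpow_mem (mem_zpowers e) i)) (by
        rw [Nat.card_zpowers, Nat.card_zpowers, orderOf_eq_prime hep he1,
          orderOf_eq_prime hxp (by simpa using hne)])
    exact zpowers_le.mpr (hω _ hx.2 hxp) (heq.ge (mem_zpowers e))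
  · intro a ha b hb
    obtain ⟨i, rfl⟩ := mem_zpowers_iff.mp ha
    exact ((show Commute b e from mem_centralizer_singleton_iff.mp hb.2).zpow_right i).eq.symm
  · rw [zpowers_eq_closure, centralizer_closure]
    refine le_antisymm (sup_le (closure_le _ |>.mpr (Set.singleton_subset_iff.mpr
      (mem_centralizer_singleton_iff.mpr rfl))) inf_le_right) fun x hx => ?_
    have htop : T ⊔ zpowers e = ⊤ := RankTwo.sup_eq_top_of_index_le hR hTi.le heT
    obtain ⟨t, ht, w, hw, rfl⟩ :=
      (Coprime.mem_sup_of_le_normalizer (N := T) (A := zpowers e) le_normalizer_of_normal).mp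
        (htop.ge (mem_top x))
    obtain ⟨i, rfl⟩ := mem_zpowers_iff.mp hw
    have hei : e ^ i ∈ closure ({e} : Set R) := Subgroup.zpow_mem _ (subset_closure (Set.mem_singleton e)) i
    refine mul_mem (mem_sup_right ⟨ht, ?_⟩) (mem_sup_left hei)
    have := mul_mem hx (inv_mem (zpow_mem (mem_centralizer_singleton_iff.mpr rfl :
      e ∈ centralizer ({e} : Set R)) i))
    rwa [mul_inv_cancel_right] at this

variable {G : Type u} [Group G] [Finite G] {M : Subgroup G}

theorem sylow_narrow_of_not_beta (hG : IsMinSimpleOddOrder G) (hM : IsCoatom M)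
    (hpM : p ∣ Nat.card M) (hb : p ∉ beta M) (P : Sylow p M) : IsNarrow p (P : Subgroup M) := by
  have hp2 : p ≠ 2 := fun h => hG.1.not_two_dvd_nat (h ▸ hpM.trans (Subgroup.card_subgroup_dvd_card M))
  by_cases hα : p ∈ alpha M
  swap
  · refine Or.inl (pRankLE_of_injective (P : Subgroup M).subtype (Subgroup.subtype_injective _) ?_)
    by_contra h
    exact hα ⟨hp.out, h⟩
  have hrG : ¬ PRankLE p 2 G := fun h =>
    hα.2 (pRankLE_of_injective M.subtype M.subtype_injective h)
  have hnot : ¬ ∀ (S : Sylow p G) (A : Subgroup G), A ≤ (S : Subgroup G) → IsElementaryAbelian p A →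
      Nat.card A = p ^ 2 → ∃ B : Subgroup G, B ≤ (S : Subgroup G) ∧ IsElementaryAbelian p B ∧ A < B :=
    fun h => hb ⟨hα, hp.out, hrG, h⟩
  push Not at hnot
  obtain ⟨S, A, hAS, hAe, hA2, hAmax⟩ := hnot
  have hn : IsNarrow p (S : Subgroup G) := by
    refine isNarrow_of_maximal_elementary S.2 hp2 (E := A.subgroupOf S)
      ⟨⟨⟨fun a b => Subtype.ext (Subtype.ext (Coprime.ea_comm hAe a.2 b.2))⟩⟩,
        fun a ha => Subtype.ext (by simpa using hAe.2 _ ha)⟩
      ((Coprime.card_subgroupOf hAS).trans hA2) fun B hB hle => ?_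
    have hBe : IsElementaryAbelian p (B.map (S : Subgroup G).subtype) := by
      refine ⟨⟨⟨?_⟩⟩, ?_⟩
      · rintro ⟨_, a, ha, rfl⟩ ⟨_, b, hb, rfl⟩
        exact Subtype.ext (congrArg (S : Subgroup G).subtype (Coprime.ea_comm hB ha hb) :)
      · rintro _ ⟨a, ha, rfl⟩
        rw [← map_pow, hB.2 a ha, map_one]
    have hAB : A ≤ B.map (S : Subgroup G).subtype := fun a ha => ⟨⟨a, hAS ha⟩, hle ha, rfl⟩
    have hnlt := hAmax _ (map_subtype_le _) hBe
    have heq : B.map (S : Subgroup G).subtype = A :=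
      (hAB.eq_or_lt.resolve_right hnlt).symm
    exact le_antisymm (fun b hb => heq.le (mem_map_of_mem _ hb)) hle
  obtain ⟨T, hT⟩ := sigma_sylow (alpha_subset_sigma hG hM hα) P
  obtain ⟨g, hg⟩ := MulAction.exists_smul_eq G S T
  have e1 : (S : Subgroup G) ≃* (T : Subgroup G) := by
    rw [← hg]
    exact S.equivSMul g
  have e2 : (T : Subgroup G) ≃* (P : Subgroup M) :=
    (MulEquiv.subgroupCongr hT).trans
      ((P : Subgroup M).equivMapOfInjective M.subtype M.subtype_injective).symm
  exact isNarrow_congr (e1.trans e2) hn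

theorem sigma_le_commutator (hG : IsMinSimpleOddOrder G) (hM : IsCoatom M) :
    piCore (sigma M) M ≤ commutator M := by
  refine Core.le_of_coprime_index ?_
  refine Nat.coprime_of_dvd fun r hr h1 h2 => ?_
  haveI := Fact.mk hr
  have hrσ := piNum_piCore (sigma M) r hr h1
  obtain ⟨P⟩ : Nonempty (Sylow r M) := inferInstance
  exact P.not_dvd_index (h2.trans (index_dvd_of_le (sylow_le_commutator_self hG hM hrσ P)))

end Cfsg.Agent.OddLocal
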