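import Cfsg.Agent.OddLocal.NonabelianUnique
import Cfsg.Agent.OddLocal.BetaCore

/-!
BG 12.10 (b): centralisers of `σ`-elements of order `p` and Sylow subgroups of `M_σ`.
-/

set_option autoImplicit false
set_option linter.unusedSectionVars false
set_option linter.style.haveILetI false

namespace Cfsg.Agent.OddLocal

open Subgroup Cfsg
open scoped commutatorElement

universe u

variable {G : Type u} [Group G] [Finite G] {p : ℕ} [hp : Fact p.Prime] {M X : Subgroup G}

omit hp in
/-- A subgroup containing a uniqueness subgroup of `M` lies in `M` and in no other maximal subgroup. -/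
theorem unique_of_inUniqueMaximal {T K : Subgroup G} (hT : InUniqueMaximal T) (hM : IsCoatom M)
    (hTM : T ≤ M) (hTK : T ≤ K) (hK : K ≠ ⊤) :
    K ≤ M ∧ ∀ L : Subgroup G, IsCoatom L → K ≤ L → L = M := by
  obtain ⟨L, hL, hKL⟩ := (eq_top_or_exists_le_coatom K).resolve_left hK
  refine ⟨(hT.unique ⟨hM, hTM⟩ ⟨hL, hTK.trans hKL⟩) ▸ hKL, fun L' hL' hK' => ?_⟩
  exact hT.unique ⟨hL', hTK.trans hK'⟩ ⟨hM, hTM⟩

omit [Finite G] in
theorem isMulCommutative_of_card_dvd_sq {K : Type u} [Group K] [Finite K]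
    (h : Nat.card K ∣ p ^ 2) : IsMulCommutative K := by
  obtain ⟨i, hi, hc⟩ := (Nat.dvd_prime_pow hp.out).mp h
  interval_cases i
  · haveI : Subsingleton K := (Nat.card_eq_one_iff_unique.mp (by simpa using hc)).1
    exact ⟨⟨fun a b => Subsingleton.elim _ _⟩⟩
  · haveI : IsCyclic K := isCyclic_of_prime_card (p := p) (by simpa using hc)
    infer_instance
  · exact IsPGroup.isMulCommutative_of_card_eq_prime_sq hc

omit [Finite G] in
/-- A group of order `p ^ 3` has central commutators. -/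
theorem commutator_mem_center_of_card {K : Type u} [Group K] [Finite K]
    (h : Nat.card K = p ^ 3) (a b : K) : ⁅a, b⁆ ∈ center K := by
  have hK : IsPGroup p K := IsPGroup.of_card h
  haveI : Nontrivial K := Finite.one_lt_card_iff_nontrivial.mp
    (by rw [h]; exact Nat.one_lt_pow (by norm_num) hp.out.one_lt)
  obtain ⟨j, hj⟩ := IsPGroup.iff_card.mp (hK.to_subgroup (center K))
  have hj1 : j ≠ 0 := by
    intro e
    have := hK.center_nontrivial
    have h1 : 1 < Nat.card (center K) := Finite.one_lt_card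
    rw [hj, e, pow_zero] at h1
    exact lt_irrefl 1 h1
  have hd : Nat.card (K ⧸ center K) ∣ p ^ 2 := by
    have h1 := card_eq_card_quotient_mul_card_subgroup (center K)
    rw [h, hj, show p ^ 3 = p ^ 2 * p by rw [← pow_succ]] at h1
    have h2 : Nat.card (K ⧸ center K) * p ∣ p ^ 2 * p := by
      rw [h1]
      exact Nat.mul_dvd_mul_left _ (dvd_pow_self p hj1)
    exact Nat.dvd_of_mul_dvd_mul_right hp.out.pos h2
  haveI := isMulCommutative_of_card_dvd_sq hd
  rw [← QuotientGroup.eq_one_iff]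
  change QuotientGroup.mk' (center K) ⁅a, b⁆ = 1
  rw [map_commutatorElement, commutatorElement_eq_one_iff_mul_comm]
  exact mul_comm' _ _

variable (hG : IsMinSimpleOddOrder G)
include hG

/-- Elements of order `p` of `S'` centralise a uniqueness subgroup of `S`, unless `p` is ideal. -/
theorem exists_witness_of_derived (hM : IsCoatom M) (hpβ : p ∉ beta M) (S : Sylow p G)
    (hSM : (S : Subgroup G) ≤ M) {x : G} (hx1 : x ≠ 1)
    (hx : x ∈ ⁅(S : Subgroup G), (S : Subgroup G)⁆) (hxp : x ^ p = 1) :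
    ∃ T : Subgroup G, T ≤ (S : Subgroup G) ∧ T ≤ centralizer {x} ∧ InUniqueMaximal T := by
  have hxS : x ∈ (S : Subgroup G) := commutator_le_self _ hx
  have hna : ¬ IsMulCommutative (S : Subgroup G) := by
    intro h
    have h1 : ⁅(S : Subgroup G), (S : Subgroup G)⁆ = ⊥ :=
      commutator_eq_bot_iff_le_centralizer.mpr (le_centralizer_iff_isMulCommutative.mpr h)
    rw [h1, mem_bot] at hx
    exact hx1 hx
  by_cases hr2 : PRankLE p 2 (S : Subgroup G)
  · refine ⟨(S : Subgroup G), le_rfl, ?_, inUniqueMaximal_of_nonabelian hG S.2 hna⟩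
    rcases Cfsg.Agent.S1412.result hG p S hr2 with h | ⟨P₁, P₂, hsup, hcomm, -, h13, -, h2c, -⟩
    · exact absurd h hna
    set Z := P₁ ⊓ centralizer (P₁ : Set G) with hZ
    have h2n : P₂ ≤ normalizer (P₁ : Set G) := le_trans
      (fun b hb => mem_centralizer_iff.mpr fun a ha => hcomm a ha b hb) (centralizer_le_normalizer _)
    have hder : ⁅(S : Subgroup G), (S : Subgroup G)⁆ ≤ Z := by
      rw [commutator_le]
      intro s hs t ht
      rw [← hsup] at hs ht
      obtain ⟨a, ha, b, hb, rfl⟩ := (Coprime.mem_sup_of_le_normalizer h2n).mp hs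
      obtain ⟨c, hc, d, hd, rfl⟩ := (Coprime.mem_sup_of_le_normalizer h2n).mp ht
      have hbd : Commute b d := congrArg (fun z : P₂ => (z : G))
        (mul_comm' (⟨b, hb⟩ : P₂) ⟨d, hd⟩)
      have hcb : Commute c b := hcomm c hc b hb
      have had : Commute a d := hcomm a ha d hd
      have hcd : Commute c d := hcomm c hc d hd
      have hab : Commute a b := hcomm a ha b hb
      have heq : ⁅a * b, c * d⁆ = ⁅a, c⁆ := by
        have h1 : a * b * (c * d) = a * c * (b * d) := by
          rw [mul_assoc, ← mul_assoc b, ← hcb.eq, mul_assoc c, ← mul_assoc]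
        have h2 : c * d * (a * b) = c * a * (b * d) := by
          rw [mul_assoc, ← mul_assoc d, ← had.eq, mul_assoc a, ← hbd.eq, ← mul_assoc]
        calc ⁅a * b, c * d⁆ = (a * b * (c * d)) * (c * d * (a * b))⁻¹ := by
              rw [commutatorElement_def]; group
          _ = ⁅a, c⁆ := by rw [h1, h2, commutatorElement_def]; group
      rw [heq]
      haveI : Finite P₁ := inferInstance
      have h := commutator_mem_center_of_card h13 (⟨a, ha⟩ : P₁) ⟨c, hc⟩
      refine ⟨commutator_le_self P₁ (commutator_mem_commutator ha hc),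
        mem_centralizer_iff.mpr fun u hu => ?_⟩
      simpa [commutatorElement_def, mul_assoc] using
        congrArg Subtype.val (mem_center_iff.mp h ⟨u, hu⟩)
    obtain ⟨hx1', hxc⟩ := hder hx
    rw [← hsup, sup_le_iff]
    exact ⟨fun a ha => mem_centralizer_singleton_iff.mpr (mem_centralizer_iff.mp hxc a ha),
      fun b hb => mem_centralizer_singleton_iff.mpr (hcomm x hx1' b hb).symm⟩
  set PM := S.subtype hSM with hPM
  have hPmap : (PM : Subgroup M).map M.subtype = (S : Subgroup G) := by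
    rw [hPM, Sylow.coe_subtype, map_subgroupOf_eq_of_le hSM]
  have hpM : p ∣ Nat.card M := by
    have h1 : (⟨x, hxS⟩ : (S : Subgroup G)) ≠ 1 := fun e => hx1 (congrArg Subtype.val e)
    have h2 : orderOf x = p := orderOf_eq_prime hxp hx1
    exact h2 ▸ Subgroup.orderOf_dvd_natCard M (hSM hxS)
  have hp2 : p ≠ 2 := by
    intro e
    exact absurd (hG.1.of_dvd_nat (hpM.trans (card_subgroup_dvd_card M))) (by rw [e]; decide)
  have hn := sylow_narrow_of_not_beta hG hM hpM hpβ PM
  set ι := M.subtype.comp (PM : Subgroup M).subtype with hι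
  have hιinj : Function.Injective ι :=
    M.subtype_injective.comp (Subgroup.subtype_injective _)
  have hιtop : (⊤ : Subgroup (PM : Subgroup M)).map ι = (S : Subgroup G) := by
    rw [hι, ← Subgroup.map_map, ← MonoidHom.range_eq_map, range_subtype, hPmap]
  have hrR : ¬ PRankLE p 2 (PM : Subgroup M) := fun h => hr2 (pRankLE_of_injective
    (((MulEquiv.subgroupCongr hPmap).symm.trans
      ((PM : Subgroup M).equivMapOfInjective M.subtype M.subtype_injective).symm).toMonoidHom)
    (MulEquiv.injective _) h)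
  obtain ⟨E, hE, hE2, hEmax⟩ := exists_maximal_elementary_of_narrow PM.2 hrR hn
  obtain ⟨-, -, ⟨hWe, hW2⟩, hTc, hTi⟩ := maximal_elementary_two PM.2 hp2 hrR hE hE2 hEmax
  set W := secondOmega p (PM : Subgroup M) with hW
  set T := centralizer (W : Set (PM : Subgroup M)) with hT
  haveI := hTc
  haveI : W.Normal := by
    haveI : (centralizer (W : Set (PM : Subgroup M))).Normal := inferInstance
    refine ⟨fun w hw g => ?_⟩
    rw [hW, mem_secondOmega_iff hp2] at hw ⊢
    exact ⟨Subgroup.Normal.conj_mem inferInstance w hw.1 g,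
      by rw [conj_pow, hw.2, mul_one, mul_inv_cancel]⟩
  obtain ⟨F, -, hWF, hFe, hF3⟩ := exists_normal_elementary_ge PM.2 hp2 hrR hWe hW2
  obtain ⟨x', -, hx'x⟩ : x ∈ (⊤ : Subgroup (PM : Subgroup M)).map ι := by rw [hιtop]; exact hxS
  have hxT : x' ∈ T := by
    haveI : IsCyclic ((PM : Subgroup M) ⧸ T) := isCyclic_of_prime_card (p := p) hTi
    haveI : IsMulCommutative ((PM : Subgroup M) ⧸ T) := inferInstance
    have h2 : commutator (PM : Subgroup M) ≤ T := by
      rw [_root_.commutator_def, commutator_le]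
      intro a _ b _
      rw [← QuotientGroup.eq_one_iff]
      change QuotientGroup.mk' T ⁅a, b⁆ = 1
      rw [map_commutatorElement, commutatorElement_eq_one_iff_mul_comm]
      exact mul_comm' _ _
    refine h2 ?_
    have h3 : x ∈ (commutator (PM : Subgroup M)).map ι := by
      rw [_root_.commutator_def, map_commutator, hιtop]
      exact hx
    obtain ⟨y, hy, hyx⟩ := h3
    rwa [hιinj (hyx.trans hx'x.symm)] at hy
  have hxp' : x' ^ p = 1 := hιinj (by rw [map_pow, hx'x, hxp, map_one])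
  obtain ⟨V, hVe, hV3, hVc⟩ : ∃ V : Subgroup (PM : Subgroup M), IsElementaryAbelian p V ∧
      p ^ 3 ≤ Nat.card V ∧ x' ∈ centralizer (V : Set (PM : Subgroup M)) := by
    by_cases hxW : x' ∈ W
    · exact ⟨F, hFe, hF3, mem_centralizer_iff.mpr fun f hf => Coprime.ea_comm hFe hf (hWF hxW)⟩
    · refine ⟨W ⊔ zpowers x', isElementaryAbelian_sup_zpowers hWe hxp' hxT, ?_, ?_⟩
      · rw [card_sup_zpowers_of_not_mem hxp' hxT hxW, hW2]
        exact le_of_eq (pow_succ p 2)
      · refine mem_centralizer_iff.mpr fun f hf => ?_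
        exact Coprime.ea_comm (isElementaryAbelian_sup_zpowers hWe hxp' hxT) hf
          (mem_sup_right (mem_zpowers x'))
  refine ⟨V.map ι, hιtop ▸ map_mono le_top, ?_, inUniqueMaximal_of_elementary_three hG
    (Thompson.ea_map hVe ι) (by rw [card_map_of_injective hιinj]; exact hV3)⟩
  rintro _ ⟨v, hv, rfl⟩
  rw [mem_centralizer_singleton_iff, ← hx'x, ← map_mul, ← map_mul, mem_centralizer_iff.mp hVc v hv]

/-- The commutator trick: `M_σ' ∩ S ≤ S'` for a normal `p`-complement. -/
theorem mem_derived_of_sylow (hM : IsCoatom M) (hpM : p ∣ Nat.card M) (hpβ : p ∉ beta M)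
    (S : Sylow p G) (hSσ : (S : Subgroup G) ≤ sigmaCore M) {x : G} (hxS : x ∈ (S : Subgroup G))
    (hx : x ∈ ⁅sigmaCore M, sigmaCore M⁆) : x ∈ ⁅(S : Subgroup G), (S : Subgroup G)⁆ := by
  obtain ⟨-, ⟨P₀, N, hN, hc⟩, -⟩ :=
    (Cfsg.Agent.S1414.result hG M hM).2.2.2.2 p hp.out hpM hpβ
  set S' := S.subtype hSσ with hS'
  obtain ⟨g, hg⟩ := MulAction.exists_smul_eq (↥(sigmaCore M)) P₀ S'
  have htop : N ⊔ (S' : Subgroup (sigmaCore M)) = ⊤ := by
    have h1 := congrArg (Subgroup.map (MulAut.conj g).toMonoidHom) hc.sup_eq_top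
    rw [Subgroup.map_sup, map_conj_eq_self_of_mem (by rw [normalizer_eq_top_iff.mpr hN]; exact mem_top g),
      show (P₀ : Subgroup (sigmaCore M)).map (MulAut.conj g).toMonoidHom = S' by rw [← hg]; rfl] at h1
    rw [h1]
    exact Subgroup.map_top_of_surjective _ (MulAut.conj g).surjective
  have hSmap : (S' : Subgroup (sigmaCore M)).map (sigmaCore M).subtype = (S : Subgroup G) := by
    rw [hS', Sylow.coe_subtype, map_subgroupOf_eq_of_le hSσ]
  set K := N.map (sigmaCore M).subtype with hK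
  have hsup : sigmaCore M = K ⊔ (S : Subgroup G) := by
    rw [hK, ← hSmap, ← Subgroup.map_sup, htop, ← MonoidHom.range_eq_map, range_subtype]
  have hKn : sigmaCore M ≤ normalizer (K : Set G) := by
    intro m hm
    refine mem_normalizer_of_map_conj ?_
    have h1 := map_conj_eq_self_of_mem
      (show (⟨m, hm⟩ : sigmaCore M) ∈ normalizer (N : Set (sigmaCore M)) by
        rw [normalizer_eq_top_iff.mpr hN]; exact mem_top _)
    conv_rhs => rw [hK, ← h1]
    rw [hK, Subgroup.map_map, Subgroup.map_map]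
    rfl
  obtain ⟨k, hk, s, hs, rfl⟩ := (Coprime.mem_sup_of_le_normalizer (N := K)
    (A := ⁅(S : Subgroup G), (S : Subgroup G)⁆) (((commutator_le_self _).trans hSσ).trans hKn)).mp
      (commutator_le_sup_of_eq hKn hsup hx)
  have hkS : k ∈ K ⊓ (S : Subgroup G) := ⟨hk, by
    have := mul_mem hxS (inv_mem (commutator_le_self _ hs))
    rwa [mul_inv_cancel_right] at this⟩
  have hcop : (Nat.card K).Coprime (Nat.card (S : Subgroup G)) := by
    obtain ⟨j, hj⟩ := IsPGroup.iff_card.mp S.2
    rw [hj, hK, card_map_of_injective (sigmaCore M).subtype_injective]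
    refine (Nat.Coprime.pow_left j (hp.out.coprime_iff_not_dvd.mpr fun hd => ?_)).symm
    exact P₀.not_dvd_index ((IsComplement'.index_eq_card hc) ▸ hd)
  rw [Coprime.inf_eq_bot_of_coprime hcop, mem_bot] at hkS
  rwa [hkS, one_mul]

/-- For an ideal prime, every element of order `p` lies in an elementary subgroup of order `p ^ 3`. -/
theorem exists_three_of_ideal (hid : IsIdealPrime p G) {x : G} (hx1 : x ≠ 1) (hxp : x ^ p = 1)
    (S : Sylow p G) (hxS : x ∈ (S : Subgroup G)) :
    ∃ V : Subgroup G, V ≤ (S : Subgroup G) ∧ IsElementaryAbelian p V ∧ p ^ 3 ≤ Nat.card V ∧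
      x ∈ V := by
  have hp2 : p ≠ 2 := by
    intro e
    have h1 : orderOf x = p := orderOf_eq_prime hxp hx1
    exact absurd (hG.1.of_dvd_nat (h1 ▸ orderOf_dvd_natCard x)) (by rw [e]; decide)
  have hnc : ¬ IsCyclic (S : Subgroup G) := by
    intro hc
    refine hid.2.1 (pRankLE_of_sylow S ?_)
    by_contra h
    obtain ⟨V, hVS, hVe, hV3⟩ := exists_elementary_of_not_pRankLE h
    haveI := hc
    haveI : IsCyclic V := isCyclic_of_le hc hVS
    obtain ⟨⟨v, hv⟩, hgen⟩ := IsCyclic.exists_generator (α := V)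
    have h1 : Nat.card V ≤ p := by
      have h2 : V ≤ zpowers v := fun w hw => by
        obtain ⟨i, hi⟩ := hgen ⟨w, hw⟩
        exact ⟨i, congrArg Subtype.val hi⟩
      refine (card_le_of_le h2).trans ?_
      rw [Nat.card_zpowers]
      exact Nat.le_of_dvd hp.out.pos (orderOf_dvd_of_pow_eq_one (hVe.2 v hv))
    exact absurd (hV3.trans h1) (not_le.mpr (lt_self_pow₀ hp.out.one_lt (by norm_num)))
  obtain ⟨A, hAS, hAe, hA2, hxA⟩ : ∃ A : Subgroup G, A ≤ (S : Subgroup G) ∧
      IsElementaryAbelian p A ∧ Nat.card A = p ^ 2 ∧ x ∈ A := by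
    obtain ⟨B, hBn, hBe, hB2⟩ := Fusion.exists_normal_elementary_card_sq hp2 S.2 hnc
    set x' : (S : Subgroup G) := ⟨x, hxS⟩
    have hx'p : x' ^ p = 1 := Subtype.ext hxp
    by_cases hxB : x' ∈ B
    · refine ⟨B.map (S : Subgroup G).subtype, map_subtype_le _, Thompson.ea_map hBe _, ?_,
        ⟨x', hxB, rfl⟩⟩
      rw [card_map_of_injective (S : Subgroup G).subtype_injective, hB2]
    · obtain ⟨Z, hZB, hZc, hZp, -⟩ := exists_center_line S.2 hBe hB2
      have hZe : IsElementaryAbelian p Z := Thompson.ea_mono hBe hZB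
      have hxZ : x' ∈ centralizer (Z : Set (S : Subgroup G)) :=
        mem_centralizer_iff.mpr fun z hz => (mem_center_iff.mp (hZc hz) x').symm
      refine ⟨(Z ⊔ zpowers x').map (S : Subgroup G).subtype, map_subtype_le _,
        Thompson.ea_map (isElementaryAbelian_sup_zpowers hZe hx'p hxZ) _, ?_,
        ⟨x', mem_sup_right (mem_zpowers x'), rfl⟩⟩
      rw [card_map_of_injective (S : Subgroup G).subtype_injective,
        card_sup_zpowers_of_not_mem hx'p hxZ (fun h => hxB (hZB h)), hZp, ← sq]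
  obtain ⟨V, hVS, hVe, hAV⟩ := hid.2.2 S A hAS hAe hA2
  refine ⟨V, hVS, hVe, ?_, hAV.le hxA⟩
  obtain ⟨i, hi⟩ := IsPGroup.iff_card.mp (Coprime.ea_isPGroup hVe)
  have h1 : p ^ 2 < p ^ i := by
    rw [← hA2, ← hi]
    exact lt_of_le_of_ne (card_le_of_le hAV.le) fun e => hAV.ne (eq_of_le_of_card_ge hAV.le e.ge)
  rw [hi]
  exact Nat.pow_le_pow_right hp.out.pos ((Nat.pow_lt_pow_iff_right hp.out.one_lt).mp h1)

/-- BG 12.10 (b). -/
theorem unique_centralizer_line (hM : IsCoatom M) (hσ : p ∈ sigma M) {x : G} (hxM : x ∈ M)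
    (hx1 : x ≠ 1) (hxp : x ^ p = 1)
    (h : p ∈ beta M ∨ x ∈ ⁅sigmaCore M, sigmaCore M⁆) :
    centralizer ({x} : Set G) ≤ M ∧
      ∀ L : Subgroup G, IsCoatom L → centralizer ({x} : Set G) ≤ L → L = M := by
  have hxo : orderOf x = p := orderOf_eq_prime hxp hx1
  have hxg : IsPGroup p (zpowers x) := IsPGroup.of_card (n := 1)
    (by rw [Nat.card_zpowers, hxo, pow_one])
  have hxσ : zpowers x ≤ sigmaCore M :=
    le_sigmaCore_of_isPGroup hG hM (zpowers_le.mpr hxM) hxg hσ
  obtain ⟨P, hP⟩ := exists_sylow_ge hxg hxσ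
  obtain ⟨S, hS⟩ := sylow_of_sigmaCore hG hM hσ P
  rw [← hS] at hP
  have hSσ : (S : Subgroup G) ≤ sigmaCore M := hS ▸ map_subtype_le _
  have hSM : (S : Subgroup G) ≤ M := hSσ.trans (sigmaCore_le M)
  have htop : centralizer ({x} : Set G) ≠ ⊤ := fun e => ne_top_of_normal_ne_bot hG
    (by rwa [Ne, zpowers_eq_bot]) (ne_top_of_not_dvd hM (zpowers_le.mpr hxM))
    (top_le_iff.mp (e ▸ centralizer_le_normalizer_zpowers x))
  by_cases hb : p ∈ beta M
  · obtain ⟨V, hVS, hVe, hV3, hxV⟩ :=
      exists_three_of_ideal hG hb.2 hx1 hxp S (hP (mem_zpowers x))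
    exact unique_of_inUniqueMaximal (inUniqueMaximal_of_elementary_three hG hVe hV3) hM
      (hVS.trans hSM)
      (fun v hv => mem_centralizer_singleton_iff.mpr (Coprime.ea_comm hVe hv hxV)) htop
  · obtain ⟨T, hTS, hTC, hT⟩ := exists_witness_of_derived hG hM hb S hSM hx1
      (mem_derived_of_sylow hG hM hσ.2.1 hb S hSσ (hP (mem_zpowers x)) (h.resolve_left hb)) hxp
    exact unique_of_inUniqueMaximal hT hM (hTS.trans hSM) hTC htop

/-- BG 12.10 (b): a Sylow `p`-subgroup of `M_σ` is a uniqueness subgroup. -/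
theorem inUniqueMaximal_sylow (hM : IsCoatom M) (hσ : p ∈ sigma M) (S : Sylow p G)
    (hSσ : (S : Subgroup G) ≤ sigmaCore M) {x : G} (hxM : x ∈ M) (hx1 : x ≠ 1) (hxp : x ^ p = 1)
    (h : p ∈ beta M ∨ x ∈ ⁅sigmaCore M, sigmaCore M⁆) : InUniqueMaximal (S : Subgroup G) := by
  have hSM : (S : Subgroup G) ≤ M := hSσ.trans (sigmaCore_le M)
  by_cases hna : IsMulCommutative (S : Subgroup G)
  swap
  · exact inUniqueMaximal_of_nonabelian hG S.2 hna
  have hb : p ∈ beta M := by
    by_contra hb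
    have hx : x ∈ ⁅sigmaCore M, sigmaCore M⁆ := h.resolve_left hb
    have hxσ : x ∈ sigmaCore M := commutator_le_self _ hx
    have hxo : orderOf x = p := orderOf_eq_prime hxp hx1
    obtain ⟨P, hP⟩ := exists_sylow_ge (M := sigmaCore M) (IsPGroup.of_card (n := 1)
      (by rw [Nat.card_zpowers, hxo, pow_one]) : IsPGroup p (zpowers x)) (zpowers_le.mpr hxσ)
    obtain ⟨S₁, hS₁⟩ := sylow_of_sigmaCore hG hM hσ P
    rw [← hS₁] at hP
    have h1 := mem_derived_of_sylow hG hM hσ.2.1 hb S₁ (hS₁ ▸ map_subtype_le _)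
      (hP (mem_zpowers x)) hx
    obtain ⟨g, hg⟩ := MulAction.exists_smul_eq G S S₁
    have hc : IsMulCommutative (S₁ : Subgroup G) := by
      rw [← hg, Sylow.coe_subgroup_smul]
      exact @Subgroup.map_isMulCommutative _ _ _ _ (S : Subgroup G) _ hna
    rw [commutator_eq_bot_iff_le_centralizer.mpr (le_centralizer_iff_isMulCommutative.mpr hc),
      mem_bot] at h1
    exact hx1 h1
  have hr : ¬ PRankLE p 2 (S : Subgroup G) := fun h => hb.2.2.1 (pRankLE_of_sylow S h)
  obtain ⟨V, hVS, hVe, hV3⟩ := exists_elementary_of_not_pRankLE hr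
  exact inUniqueMaximal_of_le (inUniqueMaximal_of_elementary_three hG hVe hV3) hVS
    (ne_top_of_not_dvd hM hSM)

end Cfsg.Agent.OddLocal
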