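import Cfsg.Agent.OddLocal.KappaDecomp
import Cfsg.Agent.OddLocal.SupportSigma
import Cfsg.Agent.S1423

/-!
BG 14.2 (c), (d), (e) and 14.3: the fixed subgroup `K* = C(K) ∩ M_σ`.
-/

set_option autoImplicit false
set_option linter.unusedSectionVars false
set_option linter.style.haveILetI false

namespace Cfsg.Agent.OddLocal

open Subgroup Cfsg
open scoped commutatorElement

universe u

variable {G : Type u} [Group G] [Finite G] {M K E X : Subgroup G} {x : G}

variable (hG : IsMinSimpleOddOrder G) (hM : IsCoatom M)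
include hG hM

/-- A Hall `κ(M)`-subgroup of `M` inside a complement of `M_σ`. -/
theorem exists_kappa_hall (hE : IsComplIn E (sigmaCore M) M) (hXE : X ≤ E)
    (hX : PiNum (kappa M) X) : ∃ K : Subgroup G, IsPiHallOf (kappa M) K M ∧ X ≤ K ∧ K ≤ E := by
  obtain ⟨K, hK, hXK⟩ := exists_hall_ge (π := kappa M)
    (Coprime.isSolvable_of_le hE.1 (isSolvable_coatom hG hM)) hXE hX
  refine ⟨K, ⟨hK.1.trans hE.1, hK.2.1, fun s hs hsκ hd => ?_⟩, hXK, hK.1⟩
  rw [← relIndex_mul_relIndex K E M hK.1 hE.1] at hd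
  rcases hs.dvd_mul.mp hd with h | h
  · exact hK.2.2 s hs hsκ h
  · exact (compl_isPiHallOf hG hM hE).2.2 s hs hsκ.2.2.1 h

/-- `κ(M) ∩ τ₁(M)` meets `π(K)`. -/
theorem exists_tau1_dvd_kappa (hK : IsPiHallOf (kappa M) K M) (hK1 : K ≠ ⊥) :
    ∃ t : ℕ, t.Prime ∧ t ∣ Nat.card K ∧ t ∈ tau1 M := by
  obtain ⟨E, hE, hKE⟩ := exists_compl_ge_of_not_sigma hG hM hK.1
    (fun s hs hd => (hK.2.1 s hs hd).2.2.1)
  by_contra hcon
  push Not at hcon
  obtain ⟨t, ht, htK⟩ := exists_prime_dvd_of_ne_bot hK1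
  haveI := Fact.mk ht
  have htκ := hK.2.1 t ht htK
  have ht3 : t ∈ tau3 M := (kappa_tau13 hG hM htκ).resolve_left (hcon t ht htK)
  obtain ⟨⟨a, ha⟩, hao⟩ := exists_prime_orderOf_dvd_card' t htK
  rw [← orderOf_coe] at hao
  change orderOf a = t at hao
  have hac : Nat.card (zpowers a) = t := by rw [Nat.card_zpowers, hao]
  obtain ⟨htau2, -, hCE⟩ := all_fix_of_tau3 hG hM hE ht3 hac (zpowers_le.mpr (hKE ha))
    (fixed_ne_bot_of_kappa hG hM htκ hac (zpowers_le.mpr (hK.1 ha)))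
  have hne := fixed_ne_bot_of_kappa hG hM htκ hac (zpowers_le.mpr (hK.1 ha))
  rw [← hCE] at hne
  have hEs : Group.IsSolvable E := Coprime.isSolvable_of_le hE.1 (isSolvable_coatom hG hM)
  haveI := hEs
  haveI : Nontrivial E := (Subgroup.nontrivial_iff_ne_bot E).mpr fun e => hK1 (le_bot_iff.mp (e ▸ hKE))
  obtain ⟨s, hs, hsd⟩ := Nat.exists_prime_and_dvd (show (commutator E).index ≠ 1 from fun e =>
    (Group.IsSolvable.commutator_lt_top_of_nontrivial E).ne (index_eq_one.mp e))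
  haveI := Fact.mk hs
  have hsE : s ∣ Nat.card E := hsd.trans (index_dvd_card _)
  rcases tau_cases hG hM hE hsE with h1 | h2 | h3
  · obtain ⟨⟨z, hz⟩, hzo⟩ := exists_prime_orderOf_dvd_card' s hsE
    rw [← orderOf_coe] at hzo
    change orderOf z = s at hzo
    have hzc : Nat.card (zpowers z) = s := by rw [Nat.card_zpowers, hzo]
    have hsκ : s ∈ kappa M := kappa_of_fixed hG hM (Or.inl h1) hzc
      (zpowers_le.mpr (hE.1 hz)) fun e => hne (le_bot_iff.mp (e ▸ inf_le_inf_left _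
        (centralizer_le (SetLike.coe_subset_coe.mpr (zpowers_le.mpr hz)))))
    refine hcon s hs ?_ h1
    have h4 := Coprime.card_mul_relIndex_of_le hK.1
    exact (hs.dvd_mul.mp (h4 ▸ hsE.trans (card_dvd_of_le hE.1))).resolve_right
      (hK.2.2 s hs hsκ)
  · exact htau2 s h2
  · obtain ⟨T⟩ : Nonempty (Sylow s E) := inferInstance
    exact T.not_dvd_index (hsd.trans (index_dvd_of_le (tau3_sylow_le hG hM hE h3 T)))

/-- Elements of prime order of `K*`. -/
theorem kappa_fixed_prime (hK : IsPiHallOf (kappa M) K M) (hK1 : K ≠ ⊥) {p : ℕ} [Fact p.Prime]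
    {y : G} (hy : y ∈ sigmaCore M ⊓ centralizer (K : Set G)) (hy1 : y ≠ 1) (hyp : y ^ p = 1) :
    (centralizer ({y} : Set G) ≤ M ∧
      ∀ L : Subgroup G, IsCoatom L → centralizer ({y} : Set G) ≤ L → L = M) ∧
      (p ∈ beta M ∨ zpowers y ≤ ⁅sigmaCore M, sigmaCore M⁆) := by
  obtain ⟨t, ht, htK, ht1⟩ := exists_tau1_dvd_kappa hG hM hK hK1
  haveI := Fact.mk ht
  obtain ⟨⟨a, ha⟩, hao⟩ := exists_prime_orderOf_dvd_card' t htK
  rw [← orderOf_coe] at hao
  change orderOf a = t at hao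
  have hac : Nat.card (zpowers a) = t := by rw [Nat.card_zpowers, hao]
  have hy' : y ∈ sigmaCore M ⊓ centralizer (zpowers a : Set G) :=
    ⟨hy.1, centralizer_le (SetLike.coe_subset_coe.mpr (zpowers_le.mpr ha)) hy.2⟩
  refine ⟨unique_of_tau1_fixed hG hM ht1 hac (zpowers_le.mpr (hK.1 ha)) hy' hy1 hyp, ?_⟩
  by_cases hb : p ∈ beta M
  · exact Or.inl hb
  · exact Or.inr (le_derived_of_tau1_fixed hG hM hb ht1 hac (zpowers_le.mpr (hK.1 ha))
      (by rw [Nat.card_zpowers, orderOf_eq_prime hyp hy1]) (zpowers_le.mpr hy'))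

/-- `C(x) ≤ M` for `1 ≠ x ∈ K*`, and `M` is the only maximal subgroup over `C(x)` of an element of
prime order. -/
theorem centralizer_kappa_fixed_le (hK : IsPiHallOf (kappa M) K M) (hK1 : K ≠ ⊥)
    (hx : x ∈ sigmaCore M ⊓ centralizer (K : Set G)) (hx1 : x ≠ 1) :
    centralizer ({x} : Set G) ≤ M := by
  obtain ⟨p, hp, hpd⟩ := Nat.exists_prime_and_dvd (mt orderOf_eq_one_iff.mp hx1)
  haveI := Fact.mk hp
  set y := x ^ (orderOf x / p) with hy
  have hyo : orderOf y = p := orderOf_pow_orderOf_div (orderOf_pos x).ne' hpd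
  refine le_trans ?_ (kappa_fixed_prime hG hM hK hK1 (p := p) (y := y) (pow_mem hx _)
    (fun e => hp.ne_one (by rw [← hyo, e, orderOf_one]))
    (orderOf_dvd_iff_pow_eq_one.mp (dvd_of_eq hyo))).1.1
  exact fun c hc => mem_centralizer_of_commute
    ((show Commute c x from mem_centralizer_singleton_iff.mp hc).pow_right _)

/-- `K*` meets no other conjugate of `M`. -/
theorem kappa_fixed_inf_conj (hK : IsPiHallOf (kappa M) K M) (hK1 : K ≠ ⊥) {g : G} (hg : g ∉ M) :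
    (sigmaCore M ⊓ centralizer (K : Set G)) ⊓ M.map (MulAut.conj g).toMonoidHom = ⊥ := by
  by_contra hne
  obtain ⟨p, hp, hpd⟩ := exists_prime_dvd_of_ne_bot hne
  haveI := Fact.mk hp
  obtain ⟨⟨y, hy, hyg⟩, hyo⟩ := exists_prime_orderOf_dvd_card' p hpd
  rw [← orderOf_coe] at hyo
  change orderOf y = p at hyo
  have hy1 : y ≠ 1 := fun e => hp.ne_one (by rw [← hyo, e, orderOf_one])
  have hpσ : p ∈ sigma M :=
    piNum_sigmaCore M p hp (hyo ▸ Subgroup.orderOf_dvd_natCard _ hy.1)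
  obtain ⟨m, hm, c, hc, hmc⟩ := fusion_of_sigma hG hM hpσ
    (isPGroup_of_card_prime (P := zpowers y) (by rw [Nat.card_zpowers, hyo]))
    (by rwa [Ne, zpowers_eq_bot]) (zpowers_le.mpr (sigmaCore_le M hy.1)) (g := g⁻¹) (by
      rw [MonoidHom.map_zpowers, zpowers_le]
      show g⁻¹ * y * g⁻¹⁻¹ ∈ M
      rw [inv_inv]
      exact mem_map_conj_iff.mp hyg)
  rw [centralizer_zpowers] at hc
  have hle := (kappa_fixed_prime hG hM hK hK1 (p := p) hy hy1
    (orderOf_dvd_iff_pow_eq_one.mp (dvd_of_eq hyo))).1.1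
  exact hg (inv_inv g ▸ inv_mem (hmc ▸ mul_mem hm (hle hc)))

/-- The Sylow subgroups of `M_σ` at the primes of `K*`. -/
theorem kappa_fixed_sylow (hK : IsPiHallOf (kappa M) K M) (hK1 : K ≠ ⊥) {p : ℕ} [Fact p.Prime]
    (hpd : p ∣ Nat.card ↥(sigmaCore M ⊓ centralizer (K : Set G))) (S : Sylow p ↥(sigmaCore M)) :
    InUniqueMaximal ((S : Subgroup ↥(sigmaCore M)).map (sigmaCore M).subtype) ∧
      ¬ (S : Subgroup ↥(sigmaCore M)).map (sigmaCore M).subtype ≤
        sigmaCore M ⊓ centralizer (K : Set G) := by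
  obtain ⟨⟨y, hy⟩, hyo⟩ := exists_prime_orderOf_dvd_card' p hpd
  rw [← orderOf_coe] at hyo
  change orderOf y = p at hyo
  have hy1 : y ≠ 1 := fun e => (Fact.out : p.Prime).ne_one (by rw [← hyo, e, orderOf_one])
  have hpσ : p ∈ sigma M :=
    piNum_sigmaCore M p Fact.out (hpd.trans (card_dvd_of_le inf_le_left))
  obtain ⟨-, hor⟩ := kappa_fixed_prime hG hM hK hK1 (p := p) hy hy1
    (orderOf_dvd_iff_pow_eq_one.mp (dvd_of_eq hyo))
  obtain ⟨-, hU, hSM⟩ := Cfsg.Agent.S1423.result hG M hM p hpσ (zpowers y)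
    (zpowers_le.mpr (sigmaCore_le M hy.1)) (by rw [Nat.card_zpowers, hyo]) S hor
  refine ⟨hU, fun hle => ?_⟩
  obtain ⟨t, ht, htK⟩ := exists_prime_dvd_of_ne_bot hK1
  haveI := Fact.mk ht
  obtain ⟨⟨a, ha⟩, hao⟩ := exists_prime_orderOf_dvd_card' t htK
  rw [← orderOf_coe] at hao
  change orderOf a = t at hao
  have haM : zpowers a ≤ M := zpowers_le.mpr (hK.1 ha)
  obtain ⟨L, hL, hNL⟩ := exists_coatom_ge_normalizer hG hM haM
    (by rw [Ne, zpowers_eq_bot]; exact fun e => ht.ne_one (by rw [← hao, e, orderOf_one]))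
  have hac : Nat.card (zpowers a) = t := by rw [Nat.card_zpowers, hao]
  have htκ := hK.2.1 t ht htK
  have htL := sigma_of_line_overgroup hG hM (kappa_tau13 hG hM htκ) hac haM
    (fixed_ne_bot_of_kappa hG hM htκ hac haM) hL hNL
  have hLM : L = M := by
    obtain ⟨M₀, -, huniq⟩ := hU
    exact (huniq L ⟨hL, ((hle.trans inf_le_right).trans (centralizer_le
      (SetLike.coe_subset_coe.mpr (zpowers_le.mpr ha)))).trans
      ((centralizer_le_normalizer _).trans hNL)⟩).trans (huniq M ⟨hM, hSM⟩).symm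
  exact htκ.2.2.1 (hLM ▸ htL)

/-- Two primes of `τ₂(M)` lie in a common `σ(L)`. -/
theorem tau2_pair_sigma {p q : ℕ} [Fact p.Prime] [Fact q.Prime] (hp2 : p ∈ tau2 M) (hq2 : q ∈ tau2 M)
    {L : Subgroup G} (hL : IsCoatom L) (hpL : p ∈ sigma L) : q ∈ sigma L := by
  by_cases hqp : q = p
  · exact hqp ▸ hpL
  obtain ⟨E, hE, -⟩ := exists_compl_ge_of_not_sigma hG hM (bot_le : (⊥ : Subgroup G) ≤ M)
    (fun s hs hd => absurd (card_bot (G := G) ▸ hd) hs.not_dvd_one)
  obtain ⟨A, hAE, hA⟩ := exists_plane_in_compl hG hM hE hp2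
  obtain ⟨B, hBE, hB⟩ := exists_plane_in_compl hG hM hE hq2
  have hBA := le_centralizer_of_pair hG hM hqp hE hA hB hAE hBE
  obtain ⟨S, hSL⟩ := exists_sylow_of_sigma hpL
  obtain ⟨T, hAT⟩ := (Coprime.ea_isPGroup hA.elem).exists_le_sylow
  obtain ⟨g, hg⟩ := MulAction.exists_smul_eq G S T
  set L' := L.map (MulAut.conj g).toMonoidHom with hL'
  have hL'c : IsCoatom L' := isCoatom_map_conj hL g
  have hAL : A ≤ L' := hAT.trans (by
    rw [← hg, Sylow.coe_subgroup_smul]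
    exact map_mono hSL)
  have hpL' : p ∈ sigma L' := by rwa [hL', sigma_map_conj]
  have hBL : B ≤ L' := (hBA.trans (centralizer_le_normalizer _)).trans
    (normalizer_le_of_not_isCyclic hG hL'c hpL' (Coprime.ea_isPGroup hA.elem) hAL
      (hA.isExceptional hG hM).toIsTauPair.not_isCyclic)
  rw [← sigma_map_conj L g, ← hL']
  by_contra hq
  have h := IsTauPair.inf_other_eq_bot hG hL'c (M := L') (A := B) ⟨hBL, hB.elem, hB.card, hq⟩ hM
    (fun e => hp2.2.1 (e ▸ hpL')) hB.le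
  obtain ⟨a, ha, ha1⟩ := exists_mem_ne_one A fun e => by
    have := hA.card
    rw [e, card_bot] at this
    exact (one_lt_pow₀ (Fact.out : p.Prime).one_lt two_ne_zero).ne this
  exact ha1 (mem_bot.mp (h ▸ (⟨le_sigmaCore_of_isPGroup hG hL'c hAL (Coprime.ea_isPGroup hA.elem)
    hpL' ha, hA.le ha⟩ : a ∈ sigmaCore L' ⊓ M)))

end Cfsg.Agent.OddLocal
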