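import Cfsg.Agent.OddLocal.PrimeAction

/-!
BG 13.9: `σ(M)` and `σ(L)` are disjoint for nonconjugate maximal subgroups.
-/

set_option autoImplicit false
set_option linter.unusedSectionVars false
set_option linter.style.haveILetI false

namespace Cfsg.Agent.OddLocal

open Subgroup Cfsg
open scoped commutatorElement

universe u

variable {G : Type u} [Group G] [Finite G] {q : ℕ} [hq : Fact q.Prime] {M L : Subgroup G}
  {S : Sylow q G}

/-- A common prime of `σ(M)` and `σ(L)` for nonconjugate `M`, `L`. -/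
structure CommonSigma (q : ℕ) (M L : Subgroup G) (S : Sylow q G) : Prop where
  coatom : IsCoatom M
  coatom' : IsCoatom L
  nonconj : ∀ g : G, L ≠ M.map (MulAut.conj g).toMonoidHom
  mem : q ∈ sigma M
  mem' : q ∈ sigma L
  le : (S : Subgroup G) ≤ M
  le' : (S : Subgroup G) ≤ L

theorem CommonSigma.symm (h : CommonSigma q M L S) : CommonSigma q L M S :=
  ⟨h.coatom', h.coatom, nonconj_symm h.nonconj, h.mem', h.mem, h.le', h.le⟩

variable (hG : IsMinSimpleOddOrder G)
include hG

namespace CommonSigma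

variable (h : CommonSigma q M L S)
include h

theorem ne : M ≠ L := fun e => h.nonconj 1 (by rw [map_conj_eq_self_of_mem (one_mem _), e])

theorem comm : IsMulCommutative (S : Subgroup G) :=
  sylow_comm_of_sigma_sigma hG h.coatom h.coatom' h.nonconj h.mem h.mem' S

theorem normalizer_le : normalizer ((S : Subgroup G) : Set G) ≤ M ⊓ L :=
  le_inf (normalizer_sylow_le hG h.coatom h.le h.mem) (normalizer_sylow_le hG h.coatom' h.le' h.mem')

theorem not_beta : q ∉ beta M := fun hb =>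
  not_alpha_of_sigma hG h.coatom' h.mem' h.coatom (nonconj_symm h.nonconj) hb.1

theorem not_nilpotent : ¬ Group.IsNilpotent (sigmaCore M) := fun hn =>
  not_sigma_of_nilpotent hG h.coatom' h.mem' h.coatom hn (nonconj_symm h.nonconj) h.mem

theorem tau2_empty (r : ℕ) [Fact r.Prime] : r ∉ tau2 M := fun h2 => by
  obtain ⟨T⟩ : Nonempty (Sylow r M) := inferInstance
  obtain ⟨-, A, -, hA⟩ := sylow_comm_of_tau2 hG h.coatom h2 T
  exact h.not_nilpotent hG ((hA.isExceptional hG h.coatom).sigmaCore_nilpotent hG h.coatom)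

theorem le_sup : M ≤ piCoreOf (beta M) M ⊔ normalizer ((S : Subgroup G) : Set G) :=
  (le_betaCore_sup_normalizer hG h.coatom h.mem (h.not_beta hG) S h.le).trans
    (sup_le_sup_left inf_le_right _)

theorem piNum_betaCore : PiNum (sigma M) (piCoreOf (beta M) M) := fun s hs hd =>
  alpha_subset_sigma hG h.coatom (piNum_piCoreOf (beta M) M s hs hd).1

/-- A complement of `M_σ` inside `N(S)`. -/
theorem exists_compl {X : Subgroup G} (hXN : X ≤ normalizer ((S : Subgroup G) : Set G))
    (hX : ∀ s : ℕ, s.Prime → s ∣ Nat.card X → s ∉ sigma M) :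
    ∃ E : Subgroup G, IsComplIn E (sigmaCore M) M ∧ X ≤ E ∧
      E ≤ normalizer ((S : Subgroup G) : Set G) ∧
      IsPiHallOf {s | s ∉ sigma M} E (normalizer ((S : Subgroup G) : Set G)) :=
  exists_compl_le hG h.coatom (((h.normalizer_le hG).trans inf_le_left).trans
    (le_normalizer_piCoreOf _ _)) (h.piNum_betaCore hG) ((h.normalizer_le hG).trans inf_le_left)
    (h.le_sup hG) hXN hX

/-- Only primes of `τ₁(M) ∩ τ₁(L)` act nontrivially on `S`. -/
theorem le_centralizer_sylow {r : ℕ} [Fact r.Prime] (hr : ¬ (r ∈ tau1 M ∧ r ∈ tau1 L))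
    {R : Subgroup G} (hR : IsPGroup r R) (hRN : R ≤ normalizer ((S : Subgroup G) : Set G)) :
    R ≤ centralizer ((S : Subgroup G) : Set G) := by
  have hRM : R ≤ M := hRN.trans ((h.normalizer_le hG).trans inf_le_left)
  have hRL : R ≤ L := hRN.trans ((h.normalizer_le hG).trans inf_le_right)
  by_cases hrq : r = q
  · subst hrq
    have hsup : IsPGroup r ↥((S : Subgroup G) ⊔ R) := S.2.to_sup_of_normal_left' hR hRN
    have hRS : R ≤ (S : Subgroup G) := le_sup_right.trans (S.3 hsup le_sup_left).le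
    exact le_centralizer_of_isMulCommutative hRS le_rfl (h.comm hG)
  have h1 : (S : Subgroup G) ≤ sigmaCore M ⊓ L :=
    le_inf (sylow_le_sigmaCore hG h.coatom h.le h.mem) h.le'
  have h2 : (S : Subgroup G) ≤ sigmaCore L ⊓ M :=
    le_inf (sylow_le_sigmaCore hG h.coatom' h.le' h.mem') h.le
  by_cases hrM : r ∈ sigma M
  · by_cases hrL : r ∈ sigma L
    · exact le_centralizer_of_sigma hG h.coatom hrM h.mem (h.not_beta hG) (Ne.symm hrq) hR hRM S.2
        h.le hRN
    · exact (le_centralizer_inf_sigmaCore hG h.coatom' h.coatom (nonconj_symm h.nonconj) hrL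
        (fun h1 => h1.2.1 hrM) hR hRL hRM).trans (centralizer_le h2)
  · by_cases hr1 : r ∈ tau1 L
    · exact (le_centralizer_inf_sigmaCore hG h.coatom' h.coatom (nonconj_symm h.nonconj) hr1.2.1
        (fun h1 => hr ⟨h1, hr1⟩) hR hRL hRM).trans (centralizer_le h2)
    · exact (le_centralizer_inf_sigmaCore hG h.coatom h.coatom' h.nonconj hrM hr1 hR hRM hRL).trans
        (centralizer_le h1)

theorem sylow_le_commutator_normalizer : (S : Subgroup G) ≤
    ⁅(S : Subgroup G), normalizer ((S : Subgroup G) : Set G)⁆ := by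
  refine le_trans ?_ (Fusion.focalSubgroup_le_commutator_right_of_controls S _ ?_)
  · rw [← commutator_inf_eq_focalSubgroup S, commutator_eq_top_of_minSimple hG, top_inf_eq]
  intro x hx g hg
  obtain ⟨y, hy, hxy⟩ := exists_normalizer_eq_conj hG S _ (zpowers x) g rfl (zpowers_le.mpr hx) (by
    rw [MonoidHom.map_zpowers, zpowers_le]
    exact hg)
  exact ⟨y, hy, (hxy x (mem_zpowers x)).symm⟩

/-- A line of `τ₁(M) ∩ τ₁(L)` acting nontrivially on `S`. -/
theorem exists_line : ∃ (p : ℕ) (_ : Fact p.Prime) (P : Subgroup G), Nat.card P = p ∧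
    p ∈ tau1 M ∧ p ∈ tau1 L ∧ P ≤ normalizer ((S : Subgroup G) : Set G) ∧
    ¬ P ≤ centralizer ((S : Subgroup G) : Set G) := by
  set N := normalizer ((S : Subgroup G) : Set G) with hN
  obtain ⟨r, hr, R, hRN, hRp, hRc⟩ : ∃ (r : ℕ) (_ : Fact r.Prime) (R : Subgroup G), R ≤ N ∧
      IsPGroup r R ∧ ¬ R ≤ centralizer ((S : Subgroup G) : Set G) := by
    by_contra hcon
    push Not at hcon
    have hle : N ≤ centralizer ((S : Subgroup G) : Set G) :=
      Coprime.le_of_forall_sylow_le fun r hr => by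
        haveI := Fact.mk hr
        obtain ⟨P⟩ : Nonempty (Sylow r N) := inferInstance
        exact ⟨P, hcon r ⟨hr⟩ _ (map_subtype_le _) (P.2.map _)⟩
    refine sylow_ne_bot_of_sigma hG h.coatom S h.mem (le_bot_iff.mp ?_)
    exact (h.sylow_le_commutator_normalizer hG).trans
      (le_of_eq (commutator_eq_bot_iff_le_centralizer.mpr (le_centralizer_iff.mp hle)))
  have hr1 : r ∈ tau1 M ∧ r ∈ tau1 L := by_contra fun hc =>
    hRc (h.le_centralizer_sylow hG hc hRp hRN)
  have hR1 : R ≠ ⊥ := fun e => hRc (e ▸ bot_le)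
  obtain ⟨E, hE, hRE, -, -⟩ := h.exists_compl hG hRN fun s hs hd => by
    obtain ⟨j, hj⟩ := IsPGroup.iff_card.mp hRp
    rw [(Nat.prime_dvd_prime_iff_eq hs hr.out).mp (hs.dvd_of_dvd_pow (hj ▸ hd))]
    exact hr1.1.2.1
  obtain ⟨T, hT⟩ := exists_sylow_ge hRp hRE
  have hT1 : (T : Subgroup E) ≠ ⊥ := fun e => hR1 (le_bot_iff.mp (by rwa [e, Subgroup.map_bot] at hT))
  obtain ⟨z, hz, -, hz1, hzc⟩ := exists_zpowers_card hRp hR1
  refine ⟨r, hr, zpowers z, hzc, hr1.1, hr1.2, zpowers_le.mpr (hRN hz), fun hc => hRc ?_⟩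
  have h2 := Cfsg.Agent.S1427.result hG M h.coatom E hE r T hT1
    (compl_isCyclic_sylow hG h.coatom hE hr1.1.2.2.2.2 T) z (hT hz) hz1
  rw [le_centralizer_iff]
  intro s hs
  have h3 : s ∈ sigmaCore M ⊓ centralizer ({z} : Set G) :=
    ⟨sylow_le_sigmaCore hG h.coatom h.le h.mem hs, mem_centralizer_singleton_iff.mpr
      (mem_centralizer_iff.mp (hc (mem_zpowers z)) s hs)⟩
  rw [h2] at h3
  exact centralizer_le hT h3.2

variable {p : ℕ} [hp : Fact p.Prime] {P : Subgroup G} (hP : Nat.card P = p) (hpM : p ∈ tau1 M)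
  (hpL : p ∈ tau1 L) (hPN : P ≤ normalizer ((S : Subgroup G) : Set G))
  (hPc : ¬ P ≤ centralizer ((S : Subgroup G) : Set G))
include hP hpM hPN hPc

omit hpL in
theorem fixed_eq_bot : (S : Subgroup G) ⊓ centralizer (P : Set G) = ⊥ := by
  set N := normalizer ((S : Subgroup G) : Set G) with hN
  set C := (S : Subgroup G) ⊓ centralizer (P : Set G) with hC
  have hCS : C ≤ (S : Subgroup G) := inf_le_left
  have hcN : N ≤ centralizer (C : Set G) := by
    refine Coprime.le_of_forall_sylow_le fun r hr => ?_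
    haveI := Fact.mk hr
    by_cases hr1 : r ∈ tau1 M ∧ r ∈ tau1 L
    · obtain ⟨E, hE, hPE, hEN, hEH⟩ := h.exists_compl hG hPN fun s hs hd => by
        rw [hP] at hd
        rw [(Nat.prime_dvd_prime_iff_eq hs hp.out).mp hd]
        exact hpM.2.1
      obtain ⟨E₁, hE₁, hPE₁⟩ := exists_hall_ge (π := tau1 M)
        (Coprime.isSolvable_of_le hE.1 (isSolvable_coatom hG h.coatom)) hPE
        (piNum_of_isPGroup hpM (IsPGroup.of_card (n := 1) (by rw [hP, pow_one])))
      obtain ⟨R₁⟩ : Nonempty (Sylow r E₁) := inferInstance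
      obtain ⟨R₂, hR₂⟩ := exists_sylow_of_relIndex hE₁.1 (hE₁.2.2 r hr hr1.1) R₁
      obtain ⟨R₃, hR₃⟩ := exists_sylow_of_relIndex hEN (hEH.2.2 r hr hr1.1.2.1) R₂
      refine ⟨R₃, ?_⟩
      rw [hR₃, hR₂, le_centralizer_iff]
      refine le_trans (inf_le_inf_right _ (sylow_le_sigmaCore hG h.coatom h.le h.mem))
        (fixed_le_of_tau1 hG h.coatom hE hpM hPE hP hr1.1 ((map_subtype_le _).trans hE₁.1)
          (R₁.2.map _) ?_)
      haveI := tau1_hall_cyclic hG h.coatom hE hE₁
      exact le_centralizer_of_isMulCommutative (map_subtype_le _) hPE₁ inferInstance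
    · obtain ⟨R⟩ : Nonempty (Sylow r N) := inferInstance
      exact ⟨R, (h.le_centralizer_sylow hG hr1 (R.2.map _) (map_subtype_le _)).trans
        (centralizer_le hCS)⟩
  haveI : ((S : Subgroup G).subgroupOf N).Normal := normal_subgroupOf_of_le_normalizer le_rfl
  obtain ⟨V₀, hV₀⟩ := exists_right_complement'_of_coprime (N := (S : Subgroup G).subgroupOf N) (by
    obtain ⟨j, hj⟩ := IsPGroup.iff_card.mp S.2
    rw [Coprime.card_subgroupOf Subgroup.le_normalizer, hj]
    exact (hq.out.coprime_iff_not_dvd.mpr fun hd =>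
      Sylow.not_dvd_index (S.subtype Subgroup.le_normalizer) (by
        rw [Sylow.coe_subtype]; exact hd)).pow_left j)
  set V := V₀.map N.subtype with hV
  have hVN : V ≤ N := map_subtype_le _
  have hcop : (Nat.card V).Coprime (Nat.card (S : Subgroup G)) := by
    obtain ⟨j, hj⟩ := IsPGroup.iff_card.mp S.2
    rw [hV, card_map_of_injective N.subtype_injective, hj, ← hV₀.symm.index_eq_card]
    exact ((hq.out.coprime_iff_not_dvd.mpr fun hd =>
      Sylow.not_dvd_index (S.subtype Subgroup.le_normalizer) (by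
        rw [Sylow.coe_subtype]; exact hd)).pow_left j).symm
  haveI := h.comm hG
  have hSV : (S : Subgroup G) ≤ ⁅(S : Subgroup G), V⁆ := by
    refine (h.sylow_le_commutator_normalizer hG).trans (commutator_le.mpr fun x hx n hn => ?_)
    obtain ⟨⟨a, v⟩, hav⟩ := hV₀.2 ⟨n, hn⟩
    have hn' : n = ((a : N) : G) * ((v : N) : G) := (congrArg Subtype.val hav).symm
    have haS : ((a : N) : G) ∈ (S : Subgroup G) := mem_subgroupOf.mp a.2
    have hvV : ((v : N) : G) ∈ V := mem_map_of_mem _ v.2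
    rw [hn', show ⁅x, ((a : N) : G) * ((v : N) : G)⁆ = ⁅x, ((a : N) : G)⁆ *
      (((a : N) : G) * ⁅x, ((v : N) : G)⁆ * ((a : N) : G)⁻¹) by
        simp only [commutatorElement_def]; group,
      commutatorElement_eq_one_iff_mul_comm.mpr (setLike_mul_comm hx haS), one_mul]
    exact (mem_normalizer_iff.mp (normalizer_commutator_ge_left (S : Subgroup G) V haS) _).mp
      (commutator_mem_commutator hx hvV)
  rw [eq_bot_iff, ← (Coprime.abelian_decomposition hVN hcop).1]
  exact fun c hc => ⟨⟨hCS hc, le_centralizer_iff.mp (hVN.trans hcN) hc⟩, hSV (hCS hc)⟩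

/-- An element of `C(P)` of prime order in `β(M)` moved by `S`. -/
theorem exists_moved : ∃ (u : ℕ) (_ : Fact u.Prime) (x : G), u ∈ beta M ∧ x ∈ sigmaCore M ∧
    x ^ u = 1 ∧ orderOf x = u ∧ x ∈ centralizer (P : Set G) ∧
    x ∉ centralizer ((S : Subgroup G) : Set G) := by
  set B := piCoreOf (beta M) M with hB
  have hM := h.coatom
  have hHall := (Cfsg.Agent.S1414.result hG M hM).1
  have hBn : M ≤ normalizer (B : Set G) := le_normalizer_piCoreOf _ _
  have hBσ : B ≤ sigmaCore M := le_sigmaCore hG hM (piCoreOf_le _ _) (h.piNum_betaCore hG)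
  have hNle := h.normalizer_le hG
  by_cases hB1 : B = ⊥
  · have h1 := h.le_sup hG
    rw [← hB, hB1, bot_sup_eq] at h1
    exact absurd ((eq_or_lt_of_le (h1.trans (hNle.trans inf_le_right))).resolve_right
      fun hl => h.coatom'.1 (hM.2 L hl)) (h.ne hG)
  obtain ⟨u, hu, hud⟩ := exists_prime_dvd_of_ne_bot hB1
  haveI := Fact.mk hu
  have huβ := hHall.2.1 u hu hud
  have huσ := alpha_subset_sigma hG hM huβ.1
  haveI : Group.IsSolvable B := Coprime.isSolvable_of_le (piCoreOf_le _ _) (isSolvable_coatom hG hM)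
  obtain ⟨j, hj⟩ := IsPGroup.iff_card.mp S.2
  have hup : u ≠ p := fun e => hpM.2.1 (e ▸ huσ)
  have hPM : P ≤ M := hPN.trans (hNle.trans inf_le_left)
  have hcop : (Nat.card ↥((S : Subgroup G) ⊔ P)).Coprime (Nat.card B) :=
    Nat.coprime_of_dvd fun s hs h1 h' => by
      rcases hs.dvd_mul.mp (h1.trans (card_sup_dvd_mul hPN)) with h2 | h2
      · exact h.not_beta hG ((Nat.prime_dvd_prime_iff_eq hs hq.out).mp
          (hs.dvd_of_dvd_pow (hj ▸ h2)) ▸ hHall.2.1 s hs h')
      · rw [hP] at h2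
        exact hpM.2.1 ((Nat.prime_dvd_prime_iff_eq hs hp.out).mp h2 ▸
          alpha_subset_sigma hG hM (hHall.2.1 s hs h').1)
  obtain ⟨U₀, hU⟩ := Coprime.exists_invariant_sylow ((sup_le h.le hPM).trans hBn) hcop
    (Or.inr inferInstance) u
  set U := (U₀ : Subgroup B).map B.subtype with hU'
  have hUB : U ≤ B := map_subtype_le _
  by_contra hcon
  push Not at hcon
  obtain ⟨c, hcP, -, hc1, hcc⟩ := exists_zpowers_card (R := P) (r := p)
    (IsPGroup.of_card (n := 1) (by rw [hP, pow_one]))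
    (fun e => by rw [e, card_bot] at hP; exact hp.out.ne_one hP.symm)
  have hcgen : zpowers c = P := eq_of_le_of_card_ge (zpowers_le.mpr hcP) (by rw [hcc, hP])
  have hc : c ^ p = 1 := by
    have h2 := pow_card_eq_one' (x := (⟨c, hcP⟩ : P))
    rw [hP] at h2
    exact congrArg Subtype.val h2
  have hcent : centralizer ({c} : Set G) = centralizer (P : Set G) := by
    rw [← hcgen, zpowers_eq_closure, centralizer_closure]
  have hSU : (S : Subgroup G) ≤ centralizer (U : Set G) := by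
    refine le_centralizer_of_fixed_omega (prime_ne_two hG hud) (U₀.2.map _) hp.out (Ne.symm hup) hc
      ?_ (le_sup_left.trans hU) (hU (mem_sup_right hcP)) (hPN hcP)
      (by rw [hcent]; exact h.fixed_eq_bot hG hP hpM hPN hPc) ?_
    · intro hd
      exact h.not_beta hG ((Nat.prime_dvd_prime_iff_eq hu hq.out).mp
        (hu.dvd_of_dvd_pow (hj ▸ hd)) ▸ huβ)
    intro v hv hvu hcv
    by_cases hv1 : v = 1
    · rw [hv1]; exact one_mem _
    exact hcon u ⟨hu⟩ v huβ (hBσ (hUB hv)) hvu (orderOf_eq_prime hvu hv1)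
      (hcent ▸ mem_centralizer_singleton_iff.mpr hcv.eq.symm)
  obtain ⟨V, hVM, hVe, hV3⟩ := exists_elementary_of_not_pRankLE huβ.1.2
  obtain ⟨Q, hQ⟩ := exists_sylow_ge (Coprime.ea_isPGroup hVe)
    (mem_of_isPiHallOf_normal hHall hBn hVM (piNum_of_isPGroup huβ (Coprime.ea_isPGroup hVe)))
  obtain ⟨b, hb⟩ := MulAction.exists_smul_eq B Q U₀
  have hVU : V.map (MulAut.conj (b : G)).toMonoidHom ≤ U := by
    rw [hU', ← hb, map_subtype_sylow_smul]
    exact map_mono hQ
  exact h.ne hG (eq_of_unique (inUniqueMaximal_of_elementary_three hG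
    (isElementaryAbelian_map hVe (b : G)) (by rw [card_map_conj]; exact hV3)) h.coatom'
    (hVU.trans (((le_centralizer_iff.mp hSU).trans (centralizer_le_normalizer _)).trans
      (hNle.trans inf_le_right))) hM (hVU.trans (hUB.trans (piCoreOf_le _ _))))

include hpL in
/-- Moved elements of `C(P)` for the two subgroups do not normalise one another. -/
theorem false_of_normalizes {u v : ℕ} [hu : Fact u.Prime] [hv : Fact v.Prime] {x y d : G}
    (huβ : u ∈ beta M) (hvβ : v ∈ beta L) (hxo : orderOf x = u) (hyo : orderOf y = v)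
    (hyL : y ∈ sigmaCore L) (hxP : x ∈ centralizer (P : Set G))
    (hyP : y ∈ centralizer (P : Set G)) (hd : d ∈ centralizer (P : Set G))
    (hyS : y ∉ centralizer ((S : Subgroup G) : Set G))
    (hxy : x ∈ normalizer (zpowers (d * y * d⁻¹) : Set G)) : False := by
  have hM := h.coatom
  have hL := h.coatom'
  have hNle := h.normalizer_le hG
  have huσ := alpha_subset_sigma hG hM huβ.1
  have hvσ := alpha_subset_sigma hG hL hvβ.1
  have hy1 : y ≠ 1 := fun e => by rw [e, orderOf_one] at hyo; exact hv.out.ne_one hyo.symm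
  have hyv : y ^ v = 1 := by rw [← hyo]; exact pow_orderOf_eq_one y
  have hyM : y ∈ L := sigmaCore_le L hyL
  -- `z := x^d ∈ L`
  set z := d⁻¹ * x * d with hz
  have hzo : orderOf z = u := by
    rw [← hxo, show z = MulAut.conj d⁻¹ x by simp [hz]]
    exact MulEquiv.orderOf_eq _ _
  have hzP : z ∈ centralizer (P : Set G) :=
    mul_mem (mul_mem (inv_mem hd) hxP) hd
  have hzL : z ∈ L := by
    have hzn : z ∈ normalizer (zpowers y : Set G) := by
      refine mem_normalizer_of_map_conj ?_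
      have h1 := map_conj_eq_self_of_mem hxy
      have h2 : zpowers (d * y * d⁻¹) = (zpowers y).map (MulAut.conj d).toMonoidHom := by
        rw [MonoidHom.map_zpowers]; rfl
      rw [h2, map_conj_map_conj] at h1
      rw [hz, mul_assoc, ← map_conj_map_conj, h1, map_conj_inv_cancel]
    obtain ⟨L', hL', hle⟩ := exists_coatom_ge_normalizer hG hL (zpowers_le.mpr hyM)
      (by rwa [Ne, zpowers_eq_bot])
    have hC := unique_centralizer_line hG hL hvσ hyM hy1 hyv (Or.inl hvβ)
    exact (hC.2 L' hL' ((centralizer_le_normalizer_zpowers y).trans hle)) ▸ hle hzn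
  have hz1 : z ≠ 1 := fun e => by rw [e, orderOf_one] at hzo; exact hu.out.ne_one hzo.symm
  have huL : u ∣ Nat.card L := hzo ▸ Subgroup.orderOf_dvd_natCard _ hzL
  have huσL : u ∉ sigma L := fun hc =>
    not_alpha_of_sigma hG hL hc hM (nonconj_symm h.nonconj) huβ.1
  have hPc' : P ≤ centralizer (zpowers z : Set G) := by
    rw [le_centralizer_iff, zpowers_le]
    exact hzP
  have hPL : P ≤ L := hPN.trans (hNle.trans inf_le_right)
  obtain ⟨E, hE, hPE, hEN, -⟩ := h.symm.exists_compl hG hPN fun s hs hd' => by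
    rw [hP] at hd'
    rw [(Nat.prime_dvd_prime_iff_eq hs hp.out).mp hd']
    exact hpL.2.1
  have huE : u ∣ Nat.card E := (dvd_compl_iff hG hL hE).mpr ⟨huL, huσL⟩
  -- `u ∈ τ₃(L)`
  have hu3 : u ∈ tau3 L := by
    have hu2 := h.symm.tau2_empty hG u
    refine ((tau_of_not_sigma hG hL huσL huL).resolve_right hu2).resolve_left fun hu1 => ?_
    obtain ⟨E₁, hE₁, hPE₁⟩ := exists_hall_ge (π := tau1 L)
      (Coprime.isSolvable_of_le hE.1 (isSolvable_coatom hG hL)) hPE
      (piNum_of_isPGroup hpL (IsPGroup.of_card (n := 1) (by rw [hP, pow_one])))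
    have huE₁ : u ∣ Nat.card E₁ := by
      rcases hu.out.dvd_mul.mp ((Coprime.card_mul_relIndex_of_le hE₁.1).symm ▸ huE) with h1 | h1
      · exact h1
      · exact absurd h1 (hE₁.2.2 u hu.out hu1)
    obtain ⟨w, hw⟩ := exists_prime_orderOf_dvd_card' u huE₁
    have hwc : Nat.card (zpowers (w : G)) = u := by rw [Nat.card_zpowers, orderOf_coe, hw]
    haveI := tau1_hall_cyclic hG hL hE hE₁
    have hwp : IsPGroup u (zpowers (w : G)) := IsPGroup.of_card (n := 1) (by rw [hwc, pow_one])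
    have hwS : zpowers (w : G) ≤ centralizer ((S : Subgroup G) : Set G) :=
      h.le_centralizer_sylow hG (fun hc => hc.1.2.1 huσ) hwp
        ((zpowers_le.mpr w.2).trans (hE₁.1.trans hEN))
    refine hPc ?_
    rw [le_centralizer_iff]
    refine le_trans (le_inf (sylow_le_sigmaCore hG hL h.le' h.mem') (le_centralizer_iff.mp hwS))
      (fixed_le_of_tau1 hG hL hE hu1 ((zpowers_le.mpr w.2).trans hE₁.1) hwc hpL hPE
        (IsPGroup.of_card (n := 1) (by rw [hP, pow_one])) ?_)
    exact le_centralizer_of_isMulCommutative hPE₁ (zpowers_le.mpr w.2) inferInstance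
  -- the line `Z₀` of `E`, normal and centralised by `P`
  obtain ⟨E₃, hE₃⟩ := Coprime.exists_isPiHallOf
    (Coprime.isSolvable_of_le hE.1 (isSolvable_coatom hG hL)) (tau3 L) (K := E)
  have hE₃c := tau3_hall_cyclic hG hL hE hE₃
  have hE₃n := tau3_hall_normal hG hL hE hE₃
  have huE₃ : u ∣ Nat.card E₃ := by
    rcases hu.out.dvd_mul.mp ((Coprime.card_mul_relIndex_of_le hE₃.1).symm ▸ huE) with h1 | h1
    · exact h1
    · exact absurd h1 (hE₃.2.2 u hu.out hu3)
  obtain ⟨z₀, hz₀⟩ := exists_prime_orderOf_dvd_card' u huE₃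
  set Z₀ := zpowers (z₀ : G) with hZ₀
  have hZ₀c : Nat.card Z₀ = u := by rw [hZ₀, Nat.card_zpowers, orderOf_coe, hz₀]
  have hZ₀E : Z₀ ≤ E := (zpowers_le.mpr z₀.2).trans hE₃.1
  have hEZ₀ : E ≤ normalizer (Z₀ : Set G) :=
    hE₃n.trans (normalizer_le_normalizer_of_isCyclic hE₃c (zpowers_le.mpr z₀.2))
  have hPZ₀ : P ≤ centralizer (Z₀ : Set G) := by
    obtain ⟨E', hE', hPzE⟩ := exists_compl_ge_of_not_sigma hG hL
      (sup_le hPL (zpowers_le.mpr hzL)) (X := P ⊔ zpowers z) (fun s hs hd' => by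
        rcases hs.dvd_mul.mp (hd'.trans (card_sup_dvd_mul
          ((le_centralizer_iff.mp hPc').trans (centralizer_le_normalizer _)))) with h2 | h2
        · rw [hP] at h2
          rw [(Nat.prime_dvd_prime_iff_eq hs hp.out).mp h2]
          exact hpL.2.1
        · rw [Nat.card_zpowers, hzo] at h2
          rw [(Nat.prime_dvd_prime_iff_eq hs hu.out).mp h2]
          exact huσL)
    obtain ⟨l, hl, hlE⟩ := Coprime.exists_conj_isPiHallOf (isSolvable_coatom hG hL)
      (compl_isPiHallOf hG hL hE') (compl_isPiHallOf hG hL hE)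
    have hmem : ∀ a ∈ E', l * a * l⁻¹ ∈ E := fun a ha => by
      rw [← hlE]
      exact ⟨a, ha, rfl⟩
    have hz' : zpowers (l * z * l⁻¹) = Z₀ := by
      refine eq_of_card_eq_of_isCyclic hE₃c (mem_of_isPiHallOf_normal hE₃ hE₃n
        (zpowers_le.mpr (hmem z (hPzE (mem_sup_right (mem_zpowers z))))) fun s hs hd' => ?_)
        (zpowers_le.mpr z₀.2) ?_
      · rw [Nat.card_zpowers, show l * z * l⁻¹ = MulAut.conj l z from rfl, MulEquiv.orderOf_eq, hzo]
          at hd'
        rw [(Nat.prime_dvd_prime_iff_eq hs hu.out).mp hd']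
        exact hu3
      · rw [hZ₀c, Nat.card_zpowers, show l * z * l⁻¹ = MulAut.conj l z from rfl,
          MulEquiv.orderOf_eq, hzo]
    set P' := P.map (MulAut.conj l).toMonoidHom with hP'
    have hP'E : P' ≤ E := by
      rintro _ ⟨a, ha, rfl⟩
      exact hmem a (hPzE (mem_sup_left ha))
    have hP'Z : P' ≤ centralizer (Z₀ : Set G) := by
      rw [← hz', le_centralizer_iff, zpowers_le, mem_centralizer_iff]
      rintro _ ⟨a, ha, rfl⟩
      change l * a * l⁻¹ * (l * z * l⁻¹) = l * z * l⁻¹ * (l * a * l⁻¹)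
      calc l * a * l⁻¹ * (l * z * l⁻¹) = l * (a * z) * l⁻¹ := by group
        _ = l * (z * a) * l⁻¹ := by rw [mem_centralizer_iff.mp hzP a ha]
        _ = l * z * l⁻¹ * (l * a * l⁻¹) := by group
    have hPp : IsPGroup p P := IsPGroup.of_card (n := 1) (by rw [hP, pow_one])
    obtain ⟨T₁, hT₁⟩ := exists_sylow_ge hPp hPE
    obtain ⟨T₂, hT₂⟩ := exists_sylow_ge (isPGroup_map_conj hPp l) hP'E
    obtain ⟨e, he⟩ := MulAction.exists_smul_eq E T₂ T₁
    have hc1 : IsCyclic ((T₁ : Subgroup E).map E.subtype : Subgroup G) :=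
      (Subgroup.equivMapOfInjective _ _ E.subtype_injective).isCyclic.mp
        (compl_isCyclic_sylow hG hL hE hpL.2.2.2.2 T₁)
    have hPe : P'.map (MulAut.conj (e : G)).toMonoidHom = P := by
      refine eq_of_card_eq_of_isCyclic hc1 ?_ hT₁ (by rw [card_map_conj, hP', card_map_conj])
      rw [← he, map_subtype_sylow_smul]
      exact map_mono hT₂
    rw [← hPe]
    refine (map_mono hP'Z).trans (le_of_eq ?_)
    have hen := map_conj_eq_self_of_mem (Coprime.le_normalizer_centralizer le_rfl (hEZ₀ e.2))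
    exact hen
  -- so `y ∈ M`, and then `y` centralises `S`
  have hz₀M : (z₀ : G) ∈ M := (hNle (hEN (hZ₀E (mem_zpowers _)))).1
  have hz₀1 : (z₀ : G) ≠ 1 := fun e => by
    have h1 : orderOf (z₀ : G) = u := by rw [orderOf_coe, hz₀]
    rw [e, orderOf_one] at h1
    exact hu.out.ne_one h1.symm
  have hC₀ := unique_centralizer_line hG hM huσ hz₀M hz₀1
    (by rw [← orderOf_coe] at hz₀; rw [← hz₀]; exact pow_orderOf_eq_one _) (Or.inl huβ)
  have h4 := Cfsg.Agent.S1428.result hG L hL E hE p hpL P hPE hP Z₀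
    (le_inf hZ₀E (le_centralizer_iff.mp hPZ₀)) (hZ₀c ▸ hu.out)
  have hyM' : y ∈ M := hC₀.1 (by
    rw [← centralizer_closure, ← zpowers_eq_closure]
    exact (h4 ⟨hyL, hyP⟩).2)
  have hyp : IsPGroup v (zpowers y) := IsPGroup.of_card (n := 1) (by rw [Nat.card_zpowers, hyo, pow_one])
  have h5 := le_centralizer_inf_sigmaCore hG hM hL h.nonconj
    (fun hc => not_alpha_of_sigma hG hM hc hL h.nonconj hvβ.1) (fun hc => hc.2.1 hvσ) hyp
    (zpowers_le.mpr hyM') (zpowers_le.mpr hyM)
  exact hyS (centralizer_le (le_inf (sylow_le_sigmaCore hG hM h.le h.mem) h.le')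
    (h5 (mem_zpowers y)))

end CommonSigma

/-- BG 13.9. -/
theorem not_commonSigma : ¬ CommonSigma q M L S := fun h => by
  obtain ⟨p, hp, P, hP, hpM, hpL, hPN, hPc⟩ := h.exists_line hG
  obtain ⟨u, hu, x, huβ, hxM, hxu, hxo, hxP, hxS⟩ := h.exists_moved hG hP hpM hPN hPc
  obtain ⟨v, hv, y, hvβ, hyL, hyv, hyo, hyP, hyS⟩ := h.symm.exists_moved hG hP hpL hPN hPc
  have hP1 : P ≠ ⊥ := fun e => by rw [e, card_bot] at hP; exact hp.out.ne_one hP.symm
  have hPM : P ≤ M := hPN.trans ((h.normalizer_le hG).trans inf_le_left)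
  obtain ⟨H, hH, hNH⟩ := exists_coatom_ge_normalizer hG h.coatom hPM hP1
  obtain ⟨-, -, hncM⟩ := line_overgroup hG h.coatom (Or.inl hpM) hH hP hNH
  obtain ⟨-, -, hncL⟩ := line_overgroup hG h.coatom' (Or.inl hpL) hH hP hNH
  set D := centralizer (P : Set G) with hD
  have hDH : D ≤ H := (centralizer_le_normalizer _).trans hNH
  have hDs : Group.IsSolvable D := Coprime.isSolvable_of_le hDH (isSolvable_coatom hG hH)
  have huH : u ∉ sigma H := fun hc => not_alpha_of_sigma hG hH hc h.coatom (nonconj_symm hncM) huβ.1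
  have hvH : v ∉ sigma H := fun hc => not_alpha_of_sigma hG hH hc h.coatom' (nonconj_symm hncL) hvβ.1
  set π : Set ℕ := {s | s = u ∨ s = v} with hπ
  have hxπ : PiNum π (zpowers x) := fun s hs hd => by
    rw [Nat.card_zpowers, hxo] at hd
    exact Or.inl ((Nat.prime_dvd_prime_iff_eq hs hu.out).mp hd)
  have hyπ : PiNum π (zpowers y) := fun s hs hd => by
    rw [Nat.card_zpowers, hyo] at hd
    exact Or.inr ((Nat.prime_dvd_prime_iff_eq hs hv.out).mp hd)
  obtain ⟨W, hW, hxW⟩ := exists_hall_ge hDs (zpowers_le.mpr hxP) hxπ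
  obtain ⟨W', hW', hyW⟩ := exists_hall_ge hDs (zpowers_le.mpr hyP) hyπ
  obtain ⟨d, hd, hdW⟩ := Coprime.exists_conj_isPiHallOf hDs hW' hW
  rw [zpowers_le] at hxW hyW
  set y' := d * y * d⁻¹ with hy'
  have hyW' : y' ∈ W := hdW ▸ ⟨y, hyW, rfl⟩
  have hWσ : ∀ s : ℕ, s.Prime → s ∣ Nat.card W → s ∉ sigma H := fun s hs hsd => by
    rcases hW.2.1 s hs hsd with e | e <;> rw [e]
    exacts [huH, hvH]
  obtain ⟨E, hE, hWE⟩ := exists_compl_ge_of_not_sigma hG hH (hW.1.trans hDH) hWσ
  have hτ : ∀ {s : ℕ} [Fact s.Prime] {K : Subgroup G} {a : G}, IsCoatom K → s ∈ beta K →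
      a ∈ W → orderOf a = s → s ∉ sigma H → s ∈ tau1 H ∪ tau3 H := by
    intro s _ K a hK hsβ haW hao hsσ
    have hsd : s ∣ Nat.card H := hao ▸ Subgroup.orderOf_dvd_natCard _ (hDH (hW.1 haW))
    exact (tau_of_not_sigma hG hH hsσ hsd).resolve_right fun h2 =>
      not_isIdealPrime_of_not_sigma hG hH hsσ h2.2.2.1 h2.2.2.2 hsβ.2
  have hy'o : orderOf y' = v := by
    rw [hy', show d * y * d⁻¹ = MulAut.conj d y from rfl, MulEquiv.orderOf_eq, hyo]
  have hu13 := hτ h.coatom huβ hxW hxo huH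
  have hv13 := hτ h.coatom' hvβ hyW' hy'o hvH
  have hcase : x ∈ normalizer (zpowers y' : Set G) ∨ y' ∈ normalizer (zpowers x : Set G) := by
    have key3 : ∀ {s : ℕ} {a b : G}, s.Prime → s ∈ tau3 H → a ∈ W → orderOf a = s → b ∈ W →
        b ∈ normalizer (zpowers a : Set G) := by
      intro s a b hs hs3 ha hao hb
      obtain ⟨E₃, hE₃⟩ := Coprime.exists_isPiHallOf
        (Coprime.isSolvable_of_le hE.1 (isSolvable_coatom hG hH)) (tau3 H) (K := E)
      have hn := tau3_hall_normal hG hH hE hE₃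
      refine normalizer_le_normalizer_of_isCyclic (tau3_hall_cyclic hG hH hE hE₃) ?_ (hn (hWE hb))
      refine mem_of_isPiHallOf_normal hE₃ hn (zpowers_le.mpr (hWE ha)) fun t ht htd => ?_
      rw [Nat.card_zpowers, hao] at htd
      rw [(Nat.prime_dvd_prime_iff_eq ht hs).mp htd]
      exact hs3
    rcases hu13 with hu1 | hu3
    · rcases hv13 with hv1 | hv3
      · left
        have hW1 : PiNum (tau1 H) W := fun s hs hsd => by
          rcases hW.2.1 s hs hsd with e | e <;> rw [e]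
          exacts [hu1, hv1]
        obtain ⟨E₁, hE₁, hWE₁⟩ := exists_hall_ge
          (Coprime.isSolvable_of_le hE.1 (isSolvable_coatom hG hH)) hWE hW1
        haveI := tau1_hall_cyclic hG hH hE hE₁
        exact (le_centralizer_of_isMulCommutative (hWE₁.trans le_rfl)
          (zpowers_le.mpr (hWE₁ hyW')) inferInstance).trans (centralizer_le_normalizer _) hxW
      · exact Or.inl (key3 hv.out hv3 hyW' hy'o hxW)
    · exact Or.inr (key3 hu.out hu3 hxW hxo hyW')
  rcases hcase with h1 | h1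
  · exact h.false_of_normalizes hG hP hpM hpL hPN hPc huβ hvβ hxo hyo hyL hxP hyP hd hyS h1
  · refine h.symm.false_of_normalizes hG hP hpL hpM hPN hPc hvβ huβ hyo hxo hxM hyP hxP
      (inv_mem hd) hxS ?_
    have h2 := map_conj_eq_self_of_mem h1
    refine mem_normalizer_of_map_conj ?_
    rw [inv_inv, show zpowers (d⁻¹ * x * d) = (zpowers x).map (MulAut.conj d⁻¹).toMonoidHom by
      rw [MonoidHom.map_zpowers]; simp, map_conj_map_conj,
      show y * d⁻¹ = d⁻¹ * y' by rw [hy']; group, ← map_conj_map_conj, h2]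

/-- BG 13.9, conjugacy form. -/
theorem exists_conj_of_sigma_inter {p : ℕ} [Fact p.Prime] (hM : IsCoatom M) (hL : IsCoatom L)
    (hpM : p ∈ sigma M) (hpL : p ∈ sigma L) :
    ∃ g : G, L = M.map (MulAut.conj g).toMonoidHom := by
  by_contra hnc
  push Not at hnc
  obtain ⟨S, hS⟩ := exists_sylow_of_sigma hpM
  obtain ⟨T, hT⟩ := exists_sylow_of_sigma hpL
  obtain ⟨g, hg⟩ := MulAction.exists_smul_eq G T S
  refine not_commonSigma hG (q := p) (M := M) (L := L.map (MulAut.conj g).toMonoidHom) (S := S)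
    ⟨hM, isCoatom_map_conj hL g, fun a ha => hnc (g⁻¹ * a) ?_, hpM, ?_, hS, ?_⟩
  · rw [← map_conj_map_conj, ← ha, map_conj_inv_cancel]
  · rw [sigma_map_conj]; exact hpL
  · rw [← hg]
    exact map_mono hT

end Cfsg.Agent.OddLocal
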