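import Cfsg.Agent.OddLocal.TypeCore
import Cfsg.Agent.S1358
import Cfsg.Agent.S1361
import Cfsg.Agent.S1362

/-!
# A complement of `M_F` for types I and II as the `U` of a factorisation; `A(M) \ A₁(M)` (BG 16.2)
-/

namespace Cfsg.Agent.OddLocal

open Subgroup
open scoped commutatorElement

universe u

variable {G : Type u} [Group G] [Finite G] {M K U : Subgroup G}

omit [Finite G] in
theorem isComplIn_symm {A B N : Subgroup G} (h : IsComplIn A B N) : IsComplIn B A N := by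
  refine ⟨h.2.1, h.1, by rw [inf_comm]; exact h.2.2.1, fun m hm => ?_⟩
  obtain ⟨a, ha, b, hb, e⟩ := h.2.2.2 m⁻¹ (inv_mem hm)
  exact ⟨b⁻¹, inv_mem hb, a⁻¹, inv_mem ha, by rw [← mul_inv_rev, ← e, inv_inv]⟩

theorem isSigmaDecomposition_map_conj (h : IsSigmaDecomposition M K U) {c : G} (hc : c ∈ M) :
    IsSigmaDecomposition M (K.map (MulAut.conj c).toMonoidHom)
      (U.map (MulAut.conj c).toMonoidHom) := by
  have hMs := map_conj_eq_self_of_mem (le_normalizer_sigmaCore M hc)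
  have hMc := map_conj_eq_self_of_mem (Subgroup.le_normalizer (H := M) hc)
  refine ⟨?_, Coprime.isPiHallOf_conj h.hall (Subgroup.le_normalizer hc), ⟨?_, ?_, ?_, ?_⟩, ?_⟩
  · exact (MulEquiv.isCyclic (equivMapOfInjective K _ (MulAut.conj c).injective)).1 h.cyclic
  · exact map_conj_le_of_mem h.compl.1 hc
  · rw [← hMs, ← Subgroup.map_sup]
    exact map_conj_le_of_mem h.compl.2.1 hc
  · rw [← hMs, ← Subgroup.map_sup, ← map_inf_eq _ _ _ (MulAut.conj c).injective, h.compl.2.2.1,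
      Subgroup.map_bot]
  · intro m hm
    obtain ⟨a, ha, b, hb, e⟩ := h.compl.2.2.2 (c⁻¹ * m * c) (mul_mem (mul_mem (inv_mem hc) hm) hc)
    refine ⟨_, mem_map_of_mem (MulAut.conj c).toMonoidHom ha, (MulAut.conj c).toMonoidHom b, ?_, ?_⟩
    · rw [← hMs, ← Subgroup.map_sup]
      exact mem_map_of_mem (MulAut.conj c).toMonoidHom hb
    · rw [← map_mul, ← e, MulEquiv.coe_toMonoidHom, MulAut.conj_apply]; group
  · exact (map_mono h.normal).trans (le_normalizer_map _)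

variable (hG : IsMinSimpleOddOrder G) (hM : IsCoatom M)
include hG hM

theorem eq_bot_of_typeI (h : IsSigmaDecomposition M K U) (hI : IsOfTypeI M) : K = ⊥ :=
  eq_bot_of_typeF hG hM h hI.1

/-- A complement of `M_F` as in types I and II is the `U` of a standard factorisation. -/
theorem decomposition_of_typeI_or_II
    (hU : (IsOfTypeI M ∧ IsComplIn (fittingHallOf M) U M) ∨
      (IsOfTypeII M ∧ IsComplIn (fittingHallOf M) U ⁅M, M⁆)) :
    fittingHallOf M = sigmaCore M ∧ ∃ K : Subgroup G, IsSigmaDecomposition M K U ∧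
      ((IsOfTypeI M ∧ K = ⊥ ∧ U ⊔ sigmaCore M = M) ∨
        (¬ IsOfTypeI M ∧ K ≠ ⊥ ∧ U ⊔ sigmaCore M = ⁅M, M⁆)) := by
  obtain ⟨K, U₀, h⟩ := exists_decomposition hG hM
  rcases hU with ⟨hI, hc⟩ | ⟨hII, hc⟩
  · have hK := eq_bot_of_typeI hG hM h hI
    subst hK
    have he : fittingHallOf M = sigmaCore M := by_contra fun hne =>
      (coreData_of_ne hG hM h hne).2.ne_bot rfl
    rw [he] at hc
    refine ⟨he, ⊥, ⟨h.cyclic, h.hall, ?_, bot_le⟩, Or.inl ⟨hI, rfl, ?_⟩⟩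
    · rw [bot_sup_eq]; exact isComplIn_symm hc
    · exact (le_sup_of_isComplIn (isComplIn_symm hc)).symm
  · obtain ⟨hK1, hU1⟩ := (typeII_iff hG hM h).1 hII
    have he := fittingHallOf_eq_of_nilpotent hG hM (sigmaCore_nilpotent_of_U hG hM h hU1)
    obtain ⟨V, -, -, hV, hVU, -⟩ := exists_typeP_compl hG hM h hK1
    obtain rfl := hVU he
    have hD : ⁅M, M⁆ ≤ M := commutator_le_self M
    obtain ⟨c, hc', hcV⟩ := Coprime.exists_conj_isPiHallOf
      (Coprime.isSolvable_of_le hD (isSolvable_coatom hG hM))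
      (isPiHallOf_typeP_compl hD hV) (isPiHallOf_typeP_compl hD hc)
    have hd := isSigmaDecomposition_map_conj h (hD hc')
    rw [show V.map (MulAut.conj c).toMonoidHom = U from hcV] at hd
    have hK'1 : K.map (MulAut.conj c).toMonoidHom ≠ ⊥ := by
      rw [Ne, map_eq_bot_iff_of_injective _ (MulAut.conj c).injective]; exact hK1
    exact ⟨he, _, hd, Or.inr ⟨fun hI => hK1 (eq_bot_of_typeI hG hM h hI), hK'1,
      (derived_eq hG hM hd hK'1).symm⟩⟩

theorem typeA_diff_eq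
    (hU : (IsOfTypeI M ∧ IsComplIn (fittingHallOf M) U M) ∨
      (IsOfTypeII M ∧ IsComplIn (fittingHallOf M) U ⁅M, M⁆)) :
    typeA M \ typeA1 M = sigmaA M U \ (sigmaCore M : Set G) := by
  obtain ⟨he, K, h, hcase⟩ := decomposition_of_typeI_or_II hG hM hU
  ext a
  simp only [Set.mem_sdiff, typeA1, typeCore_eq hG hM, sigmaA, sigmaHat, Set.mem_inter_iff,
    Set.mem_setOf_eq, Set.mem_singleton_iff, SetLike.mem_coe, not_and, not_not]
  constructor
  · rintro ⟨ha, ha'⟩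
    rcases hcase with ⟨hI, -, hsup⟩ | ⟨hI, -, hsup⟩
    · rw [typeA, if_pos hI, he] at ha
      obtain ⟨haM, ha1, hx⟩ := ha
      exact ⟨⟨⟨haM, hx⟩, hsup.ge haM⟩, fun h' => ha1 (ha' h')⟩
    · rw [typeA, if_neg hI, typeCore_eq hG hM] at ha
      obtain ⟨haM, ha1, hx⟩ := ha
      exact ⟨⟨⟨commutator_le_self M haM, hx⟩, hsup.ge haM⟩, fun h' => ha1 (ha' h')⟩
  · rintro ⟨⟨⟨haM, hx⟩, haD⟩, hnot⟩
    have ha1 : a ≠ 1 := fun e => hnot (e ▸ one_mem _)
    refine ⟨?_, fun h' => absurd h' hnot⟩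
    rcases hcase with ⟨hI, -, -⟩ | ⟨hI, -, hsup⟩
    · rw [typeA, if_pos hI, he]
      exact ⟨haM, ha1, hx⟩
    · rw [typeA, if_neg hI, typeCore_eq hG hM]
      exact ⟨hsup.le haD, ha1, hx⟩

end Cfsg.Agent.OddLocal
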