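import Cfsg.Agent.OddLocal.TypeClass

/-!
# `M_s = M_σ` (BG 16.1, last part)
-/

namespace Cfsg.Agent.OddLocal

open Subgroup
open scoped commutatorElement

universe u

variable {G : Type u} [Group G] [Finite G] {M : Subgroup G}

variable (hG : IsMinSimpleOddOrder G) (hM : IsCoatom M)
include hG hM

theorem fittingHallOf_eq_or_typeIII_IV :
    fittingHallOf M = sigmaCore M ∨ ((IsOfTypeIII M ∨ IsOfTypeIV M) ∧ ⁅M, M⁆ = sigmaCore M) := by
  obtain ⟨K, U, h⟩ := exists_decomposition hG hM
  by_cases he : fittingHallOf M = sigmaCore M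
  · exact Or.inl he
  · obtain ⟨hU, hc⟩ := coreData_of_ne hG hM h he
    exact Or.inr ⟨(typeIII_or_IV_iff hG hM h).2 ⟨hc.ne_bot, hU, he⟩, hc.derived⟩

/-- `M_s = M_σ`. -/
theorem typeCore_eq : typeCore M = sigmaCore M := by
  obtain ⟨K, U, h⟩ := exists_decomposition hG hM
  by_cases ht : IsOfTypeIII M ∨ IsOfTypeIV M
  · obtain ⟨hK1, hU, -⟩ := (typeIII_or_IV_iff hG hM h).1 ht
    rw [typeCore, if_pos ht, derived_eq hG hM h hK1, hU, bot_sup_eq]
  · rw [typeCore, if_neg ht]
    exact (fittingHallOf_eq_or_typeIII_IV hG hM).resolve_right fun h1 => ht h1.1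

theorem coprime_index_fittingHallOf :
    (Nat.card (fittingHallOf M)).Coprime (fittingHallOf M).index := by
  refine Nat.coprime_of_dvd fun r hr h1 h2 => ?_
  have hrσ : r ∈ sigma M :=
    piNum_sigmaCore M r hr (h1.trans (card_dvd_of_le (fittingHallOf_le_sigmaCore hG hM)))
  rw [← relIndex_mul_index (fittingHallOf_le M)] at h2
  rcases hr.dvd_mul.1 h2 with h3 | h3
  · rw [fittingHallOf, relIndex, subgroupOf,
      comap_map_eq_self_of_injective M.subtype_injective] at h3
    exact Nat.not_coprime_of_dvd_of_dvd hr.one_lt (card_fittingHallOf M ▸ h1) h3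
      (coprime_fittingHall M)
  · exact (isPiHall_of_sigma hG hM (fun _ h => h) (isPiHallOf_sigmaCore hG hM)).2 r hr hrσ
      (h3.trans (index_dvd_of_le (sigmaCore_le M)))

theorem coprime_index_sigmaCore : (Nat.card (sigmaCore M)).Coprime (sigmaCore M).index :=
  Nat.coprime_of_dvd fun r hr h1 h2 =>
    (isPiHall_of_sigma hG hM (fun _ h => h) (isPiHallOf_sigmaCore hG hM)).2 r hr
      (piNum_sigmaCore M r hr h1) h2

end Cfsg.Agent.OddLocal
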