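import Cfsg.Agent.OddLocal.PLengthOne

/-!
Working with `p`-length one through normal series.
-/

set_option autoImplicit false
set_option linter.unusedSectionVars false

namespace Cfsg.Agent.OddLocal

open Subgroup Cfsg

universe u v w

variable {G : Type u} [Group G] [Finite G] {p : ℕ} [hp : Fact p.Prime]

/-- A normal series `1 ≤ O_{p'} ≤ O_{p',p}` with `p'`-factor on top gives `p`-length at most one. -/
theorem pLengthLE_one_of_index
    (h : ¬ p ∣ (pCore p (G ⧸ pPrimeCore p G)).index) : PLengthLE p 1 G := by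
  have e1 : (upperPSeries p G 1).1 = pPrimeCore p G := by
    have e : (upperPSeries p G 1).1 =
        (pPrimeCore p (G ⧸ (upperPSeries p G 0).1)).comap (QuotientGroup.mk' _) := by simp [upperPSeries]
    refine le_antisymm (Core.le_pPrimeCore ?_) ?_
    · rw [e]
      refine Core.coprime_card_pPrimeCore.coprime_dvd_left
        (Subgroup.card_comap_dvd_of_injective _ _ ((injective_iff_map_eq_one _).mpr fun x hx => ?_))
      rw [QuotientGroup.mk'_apply, QuotientGroup.eq_one_iff] at hx
      exact Subgroup.mem_bot.mp hx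
    · rw [e]
      exact Subgroup.map_le_iff_le_comap.mp (Core.map_pPrimeCore_le_of_surjective (QuotientGroup.mk'_surjective _))
  have e2 : (upperPSeries p G 2).1 = (pCore p (G ⧸ (upperPSeries p G 1).1)).comap (QuotientGroup.mk' _) := by
    simp [upperPSeries]
  have hidx : ¬ p ∣ (upperPSeries p G 2).1.index := by
    rw [e2, index_comap_of_surjective _ (QuotientGroup.mk'_surjective _),
      ← Core.map_pCore (QuotientGroup.quotientMulEquivOfEq e1.symm),
      Subgroup.index_map_of_bijective (QuotientGroup.quotientMulEquivOfEq e1.symm).bijective]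
    exact h
  have htop : pPrimeCore p (G ⧸ (upperPSeries p G 2).1) = ⊤ := by
    refine Core.pPrimeCore_eq_top ?_
    rw [← Subgroup.index_eq_card]
    exact (hp.out.coprime_iff_not_dvd.mpr hidx).symm
  show (upperPSeries p G 3).1 = ⊤
  have e3 : (upperPSeries p G 3).1 = (pPrimeCore p (G ⧸ (upperPSeries p G 2).1)).comap (QuotientGroup.mk' _) := by
    simp [upperPSeries]
  rw [e3, htop, comap_top]

/-- A normal series with `p'`, `p` and `p'` factors. -/
theorem pLengthLE_one_of_series {A B : Subgroup G} [A.Normal] [B.Normal]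
    (hA : (Nat.card A).Coprime p) (hB : ∀ x ∈ B, ∃ n : ℕ, x ^ p ^ n ∈ A) (hi : ¬ p ∣ B.index) :
    PLengthLE p 1 G := by
  refine pLengthLE_one_of_index fun hd => hi ?_
  set f := QuotientGroup.mk' (pPrimeCore p G) with hf
  have hfs : Function.Surjective f := QuotientGroup.mk'_surjective _
  haveI : (B.map f).Normal := Normal.map inferInstance f hfs
  have hle : B.map f ≤ pCore p (G ⧸ pPrimeCore p G) := by
    refine Core.le_pCore ?_
    rintro ⟨_, x, hx, rfl⟩
    obtain ⟨n, hn⟩ := hB x hx
    refine ⟨n, Subtype.ext ?_⟩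
    show (f x) ^ p ^ n = 1
    rw [← map_pow]
    exact (QuotientGroup.eq_one_iff _).mpr (Core.le_pPrimeCore hA hn)
  exact (hd.trans (index_dvd_of_le hle)).trans (index_map_dvd B hfs)

theorem exists_series_of_pLengthLE_one (h : PLengthLE p 1 G) :
    ∃ B : Subgroup G, B.Normal ∧ (∀ x ∈ B, ∃ n : ℕ, x ^ p ^ n ∈ pPrimeCore p G) ∧ ¬ p ∣ B.index := by
  obtain ⟨S⟩ : Nonempty (Sylow p G) := inferInstance
  refine ⟨_, normal_pPrimeCore_sup h S, fun x hx => ?_, fun hd =>
    S.not_dvd_index (hd.trans (index_dvd_of_le le_sup_right))⟩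
  set f := QuotientGroup.mk' (pPrimeCore p G) with hf
  have hx' : f x ∈ (S : Subgroup G).map f := by
    have h1 := mem_map_of_mem f hx
    rwa [Subgroup.map_sup, (Subgroup.map_eq_bot_iff (f := f) _).mpr (QuotientGroup.ker_mk' _).ge,
      bot_sup_eq] at h1
  obtain ⟨n, hn⟩ := (S.2.map f) ⟨f x, hx'⟩
  refine ⟨n, (QuotientGroup.eq_one_iff _).mp ?_⟩
  show f (x ^ p ^ n) = 1
  rw [map_pow]
  exact congrArg Subtype.val hn

theorem pLengthLE_one_of_injective {H : Type v} [Group H] [Finite H] (f : H →* G)
    (hf : Function.Injective f) (h : PLengthLE p 1 G) : PLengthLE p 1 H := by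
  obtain ⟨B, hBn, hB, hi⟩ := exists_series_of_pLengthLE_one h
  haveI := hBn
  refine pLengthLE_one_of_series (A := (pPrimeCore p G).comap f) (B := B.comap f)
    (Core.coprime_card_pPrimeCore.coprime_dvd_left (card_comap_dvd_of_injective _ _ hf))
    (fun x hx => ?_) fun hd => hi (hd.trans ?_)
  · obtain ⟨n, hn⟩ := hB _ hx
    exact ⟨n, show f (x ^ p ^ n) ∈ _ by rwa [map_pow]⟩
  · rw [index_comap]
    exact relIndex_dvd_index_of_normal B f.range

end Cfsg.Agent.OddLocal
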