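import Cfsg.Agent.Coprime.Generation
import Cfsg.Agent.Core.PCore
import Cfsg.Agent.Signalizer.Transitivity

/-!
Transitivity of `O_π(C(A))` on the maximal `A`-invariant `q`-subgroups: the general induction on the
intersection, and the application to the transitivity hypothesis in minimal simple groups.
-/

set_option autoImplicit false
set_option linter.style.haveILetI false
set_option linter.unusedSectionVars false

namespace Cfsg.Agent.OddLocal

open Subgroup Cfsg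
open scoped Pointwise

universe u

variable {G : Type u} [Group G] [Finite G]

/-! ### `π`-cores of subgroups -/

/-- All prime divisors of the order of `Y` lie in `π`. -/
def PiNum (π : Set ℕ) (Y : Subgroup G) : Prop :=
  ∀ r : ℕ, r.Prime → r ∣ Nat.card Y → r ∈ π

theorem PiNum.mono {π : Set ℕ} {Y Z : Subgroup G} (h : PiNum π Z) (hle : Y ≤ Z) : PiNum π Y :=
  fun r hr hd => h r hr (hd.trans (card_dvd_of_le hle))

theorem piNum_of_card_eq {π : Set ℕ} {Y Z : Subgroup G} (h : PiNum π Z)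
    (hc : Nat.card Y = Nat.card Z) : PiNum π Y := fun r hr hd => h r hr (hc ▸ hd)

theorem piNum_piCore (π : Set ℕ) : PiNum π (piCore π G) :=
  (Core.normal_and_sSup_induction (P := fun H : Subgroup G => PiNum π H) (Set.toFinite _)
    (fun r hr hd => absurd hd (by rw [card_bot]; exact hr.not_dvd_one))
    (fun H K _ hK h1 h2 r hr hd => by
      have := hK
      rcases hr.dvd_mul.mp (hd.trans (Core.card_sup_dvd_mul H K)) with h | h
      exacts [h1 r hr h, h2 r hr h])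
    fun _ h => h).2

theorem piCoreOf_le (π : Set ℕ) (X : Subgroup G) : piCoreOf π X ≤ X := map_subtype_le _

theorem piNum_piCoreOf (π : Set ℕ) (X : Subgroup G) : PiNum π (piCoreOf π X) := fun r hr hd =>
  piNum_piCore (G := X) π r hr (by
    rwa [piCoreOf, card_map_of_injective X.subtype_injective] at hd)

theorem le_normalizer_piCoreOf (π : Set ℕ) (X : Subgroup G) :
    X ≤ normalizer (piCoreOf π X : Set G) := by
  have key : ∀ x ∈ X, ∀ y ∈ piCoreOf π X, x * y * x⁻¹ ∈ piCoreOf π X := by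
    rintro x hx _ ⟨y, hy, rfl⟩
    exact ⟨⟨x, hx⟩ * y * ⟨x, hx⟩⁻¹, (piCore_normal π X).conj_mem y hy _, rfl⟩
  intro x hx
  rw [mem_normalizer_iff]
  intro y
  refine ⟨key x hx y, fun h => ?_⟩
  have := key x⁻¹ (inv_mem hx) _ h
  simpa [mul_assoc] using this

theorem le_piCoreOf {π : Set ℕ} {X Y : Subgroup G} (hYX : Y ≤ X)
    (hn : X ≤ normalizer (Y : Set G)) (hY : PiNum π Y) : Y ≤ piCoreOf π X := by
  haveI := normal_subgroupOf_of_le_normalizer hn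
  have hle : Y.subgroupOf X ≤ piCore π X := le_sSup ⟨inferInstance, fun r hr hd => hY r hr (by
    rwa [Coprime.card_subgroupOf hYX] at hd)⟩
  intro y hy
  exact ⟨⟨y, hYX hy⟩, hle hy, rfl⟩

theorem piCoreOf_inf_le {π : Set ℕ} {C X : Subgroup G} (hCX : C ≤ X) :
    piCoreOf π X ⊓ C ≤ piCoreOf π C :=
  le_piCoreOf inf_le_right
    (Coprime.le_normalizer_inf (hCX.trans (le_normalizer_piCoreOf π X)) Subgroup.le_normalizer)
    ((piNum_piCoreOf π X).mono inf_le_left)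

theorem coprime_card_of_piNum {π : Set ℕ} {A W : Subgroup G}
    (hA : ∀ r : ℕ, r.Prime → r ∣ Nat.card A → r ∉ π) (hW : PiNum π W) :
    (Nat.card A).Coprime (Nat.card W) :=
  Nat.coprime_of_dvd fun r hr h1 h2 => hA r hr h1 (hW r hr h2)

/-! ### Invariant `q`-subgroups -/

theorem isPGroup_of_singleton {q : ℕ} [Fact q.Prime] {Q : Subgroup G}
    (h : ∀ r : ℕ, r.Prime → r ∣ Nat.card Q → r ∈ ({q} : Set ℕ)) : IsPGroup q Q :=
  IsPGroup.iff_card.mpr ⟨(Nat.card Q).primeFactorsList.length,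
    Nat.eq_prime_pow_of_unique_prime_dvd Nat.card_pos.ne' fun {d} hd hdd => h d hd hdd⟩

theorem mem_singleton_of_isPGroup {q : ℕ} [Fact q.Prime] {Q : Subgroup G} (h : IsPGroup q Q) :
    ∀ r : ℕ, r.Prime → r ∣ Nat.card Q → r ∈ ({q} : Set ℕ) := by
  intro r hr hd
  obtain ⟨n, hn⟩ := IsPGroup.iff_card.mp h
  rw [hn] at hd
  exact (Nat.prime_dvd_prime_iff_eq hr Fact.out).mp (hr.dvd_of_dvd_pow hd)

theorem piNum_of_isPGroup {π : Set ℕ} {q : ℕ} [Fact q.Prime] (hq : q ∈ π) {Q : Subgroup G}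
    (h : IsPGroup q Q) : PiNum π Q := fun r hr hd => by
  rw [show r = q from mem_singleton_of_isPGroup h r hr hd]; exact hq

variable {A : Subgroup G} {q : ℕ} [Fact q.Prime]

theorem exists_max_ge {U : Subgroup G} (hUq : IsPGroup q U) (hUA : A ≤ normalizer (U : Set G)) :
    ∃ R ∈ maxInvSubgroups ⊤ A {q}, U ≤ R := by
  obtain ⟨R, ⟨hR, hUR⟩, hmax⟩ := wellFounded_gt.has_min
    {R : Subgroup G | R ∈ invSubgroups ⊤ A {q} ∧ U ≤ R}
    ⟨U, ⟨le_top, mem_singleton_of_isPGroup hUq, hUA⟩, le_rfl⟩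
  exact ⟨R, ⟨hR, fun S hS hle =>
    (eq_of_le_of_not_lt hle fun hlt => hmax S ⟨hS, hUR.trans hle⟩ hlt).symm⟩, hUR⟩

/-- Conjugacy under `K`. -/
def Linked (K Q R : Subgroup G) : Prop :=
  ∃ k ∈ K, R = Q.map (MulAut.conj k).toMonoidHom

omit [Finite G] in
theorem Linked.refl (K Q : Subgroup G) : Linked K Q Q :=
  ⟨1, one_mem K, by rw [← Coprime.conj_smul_eq_map, map_one, one_smul]⟩

omit [Finite G] in
theorem Linked.trans {K Q R S : Subgroup G} (h1 : Linked K Q R) (h2 : Linked K R S) :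
    Linked K Q S := by
  obtain ⟨k, hk, rfl⟩ := h1
  obtain ⟨l, hl, rfl⟩ := h2
  exact ⟨l * k, mul_mem hl hk, by
    rw [← Coprime.conj_smul_eq_map, ← Coprime.conj_smul_eq_map, ← Coprime.conj_smul_eq_map,
      Coprime.conj_mul_smul]⟩

omit [Finite G] in
theorem Linked.symm {K Q R : Subgroup G} (h : Linked K Q R) : Linked K R Q := by
  obtain ⟨k, hk, rfl⟩ := h
  exact ⟨k⁻¹, inv_mem hk, by
    rw [← Coprime.conj_smul_eq_map, ← Coprime.conj_smul_eq_map, ← Coprime.conj_mul_smul,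
      inv_mul_cancel, map_one, one_smul]⟩

theorem conj_mem_maxInv {Q : Subgroup G} (hQ : Q ∈ maxInvSubgroups ⊤ A {q}) {c : G}
    (hc : c ∈ centralizer (A : Set G)) : MulAut.conj c • Q ∈ maxInvSubgroups ⊤ A {q} := by
  have key : ∀ (R : Subgroup G) (d : G), d ∈ centralizer (A : Set G) →
      R ∈ invSubgroups ⊤ A {q} → MulAut.conj d • R ∈ invSubgroups ⊤ A {q} := by
    intro R d hd hR
    refine ⟨le_top, fun r hr hrd => hR.2.1 r hr (by rwa [Coprime.card_conj_smul] at hrd), ?_⟩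
    intro a ha
    apply Coprime.mem_normalizer_of_conj_smul_eq
    rw [← Coprime.conj_mul_smul, mem_centralizer_iff.mp hd a ha, Coprime.conj_mul_smul,
      Coprime.conj_smul_eq_self_of_mem_normalizer (hR.2.2 ha)]
  refine ⟨key Q c hc hQ.1, fun R hR hle => ?_⟩
  have h := hQ.2 _ (key R c⁻¹ (inv_mem hc) hR) (by
    intro x hx
    rw [Coprime.mem_conj_smul, inv_inv]
    exact hle (Coprime.conj_mem_conj_smul hx))
  rw [← h, ← Coprime.conj_mul_smul, mul_inv_cancel, map_one, one_smul]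

variable {π : Set ℕ} {K : Subgroup G}

/-- Two invariant `q`-subgroups of an invariant `π`-subgroup lie in linked maximal ones. -/
theorem meet_step (hqπ : q ∈ π) (hA : ∀ r : ℕ, r.Prime → r ∣ Nat.card A → r ∉ π)
    (hK : ∀ Y : Subgroup G, Y ≤ centralizer (A : Set G) → PiNum π Y → Y ≤ K)
    {W : Subgroup G} (hAW : A ≤ normalizer (W : Set G)) (hWπ : PiNum π W)
    (hsolv : Group.IsSolvable A ∨ Group.IsSolvable W) {U₁ U₂ : Subgroup G} (h₁W : U₁ ≤ W)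
    (h₂W : U₂ ≤ W) (h₁q : IsPGroup q U₁) (h₂q : IsPGroup q U₂)
    (h₁A : A ≤ normalizer (U₁ : Set G)) (h₂A : A ≤ normalizer (U₂ : Set G)) :
    ∃ R₁ ∈ maxInvSubgroups ⊤ A {q}, ∃ R₂ ∈ maxInvSubgroups ⊤ A {q},
      U₁ ≤ R₁ ∧ U₂ ≤ R₂ ∧ Linked K R₁ R₂ := by
  have _ := hqπ
  have hcop := coprime_card_of_piNum hA hWπ
  obtain ⟨S₁, hU₁, hS₁⟩ := Coprime.exists_le_invariant_sylow hAW hcop hsolv h₁W h₁q h₁A
  obtain ⟨S₂, hU₂, hS₂⟩ := Coprime.exists_le_invariant_sylow hAW hcop hsolv h₂W h₂q h₂A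
  obtain ⟨c, hc, hcS⟩ := Coprime.exists_centralizer_conj_sylow hAW hcop hsolv S₁ S₂ hS₁ hS₂
  obtain ⟨R₁, hR₁, hSR⟩ := exists_max_ge (S₁.2.map W.subtype) hS₁
  have hcK : (c : G) ∈ K :=
    hK (W ⊓ centralizer (A : Set G)) inf_le_right (hWπ.mono inf_le_left) ⟨c.2, hc⟩
  refine ⟨R₁, hR₁, _, conj_mem_maxInv hR₁ hc, hU₁.trans hSR, hU₂.trans ?_,
    ⟨c, hcK, Coprime.conj_smul_eq_map _ _⟩⟩
  rw [← hcS, Sylow.pointwise_smul_def]
  refine (Coprime.conj_smul_map_subtype c (S₁ : Subgroup W)).le.trans ?_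
  exact Subgroup.pointwise_smul_le_pointwise_smul_iff.mpr hSR

/-- The downward induction on the intersection. -/
theorem linked_of_step (hqπ : q ∈ π) (hA : ∀ r : ℕ, r.Prime → r ∣ Nat.card A → r ∉ π)
    (hK : ∀ Y : Subgroup G, Y ≤ centralizer (A : Set G) → PiNum π Y → Y ≤ K)
    (P : Subgroup G → Prop) (hP : ∀ D E : Subgroup G, D ≤ E → P D → P E)
    (hstep : ∀ Q₁ ∈ maxInvSubgroups ⊤ A {q}, ∀ Q₂ ∈ maxInvSubgroups ⊤ A {q},
      P (Q₁ ⊓ Q₂) → Q₁ ⊓ Q₂ < Q₁ → Q₁ ⊓ Q₂ < Q₂ →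
      ∃ W U₁ U₂ : Subgroup G, A ≤ normalizer (W : Set G) ∧ PiNum π W ∧
        (Group.IsSolvable A ∨ Group.IsSolvable W) ∧ U₁ ≤ W ∧ U₂ ≤ W ∧ U₁ ≤ Q₁ ∧ U₂ ≤ Q₂ ∧
        A ≤ normalizer (U₁ : Set G) ∧ A ≤ normalizer (U₂ : Set G) ∧
        Q₁ ⊓ Q₂ < U₁ ∧ Q₁ ⊓ Q₂ < U₂) :
    ∀ Q₁ ∈ maxInvSubgroups ⊤ A {q}, ∀ Q₂ ∈ maxInvSubgroups ⊤ A {q}, P (Q₁ ⊓ Q₂) →
      Linked K Q₁ Q₂ := by
  suffices h : ∀ n : ℕ, ∀ Q₁ ∈ maxInvSubgroups ⊤ A {q}, ∀ Q₂ ∈ maxInvSubgroups ⊤ A {q},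
      P (Q₁ ⊓ Q₂) → Nat.card G - Nat.card (Q₁ ⊓ Q₂ : Subgroup G) = n → Linked K Q₁ Q₂ from
    fun Q₁ h₁ Q₂ h₂ hP' => h _ Q₁ h₁ Q₂ h₂ hP' rfl
  intro n
  induction n using Nat.strong_induction_on with
  | _ n ih =>
  intro Q₁ h₁ Q₂ h₂ hPD hn
  by_cases hD₁ : Q₁ ⊓ Q₂ = Q₁
  · have := h₁.2 Q₂ h₂.1 (inf_eq_left.mp hD₁)
    rw [this]
    exact Linked.refl K Q₁
  by_cases hD₂ : Q₁ ⊓ Q₂ = Q₂
  · have := h₂.2 Q₁ h₁.1 (inf_eq_right.mp hD₂)
    rw [this]
    exact Linked.refl K Q₂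
  obtain ⟨W, U₁, U₂, hAW, hWπ, hsolv, h₁W, h₂W, hU₁, hU₂, hA₁, hA₂, hlt₁, hlt₂⟩ :=
    hstep Q₁ h₁ Q₂ h₂ hPD (lt_of_le_of_ne inf_le_left hD₁) (lt_of_le_of_ne inf_le_right hD₂)
  obtain ⟨R₁, hR₁, R₂, hR₂, hUR₁, hUR₂, hR⟩ := meet_step hqπ hA hK hAW hWπ hsolv h₁W h₂W
    ((isPGroup_of_singleton h₁.1.2.1).to_le hU₁) ((isPGroup_of_singleton h₂.1.2.1).to_le hU₂)
    hA₁ hA₂
  have hmeasure : ∀ Q R U : Subgroup G, Q₁ ⊓ Q₂ < U → U ≤ Q → U ≤ R →
      Nat.card G - Nat.card (Q ⊓ R : Subgroup G) < n := by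
    intro Q R U hlt hUQ hUR
    have h1 := Core.card_lt_of_lt (lt_of_lt_of_le hlt (le_inf hUQ hUR))
    have h2 := Nat.le_of_dvd Nat.card_pos (Subgroup.card_subgroup_dvd_card (Q ⊓ R))
    omega
  have e1 : Linked K Q₁ R₁ := ih _ (hmeasure Q₁ R₁ U₁ hlt₁ hU₁ hUR₁) Q₁ h₁ R₁ hR₁
    (hP _ _ (hlt₁.le.trans (le_inf hU₁ hUR₁)) hPD) rfl
  have e2 : Linked K Q₂ R₂ := ih _ (hmeasure Q₂ R₂ U₂ hlt₂ hU₂ hUR₂) Q₂ h₂ R₂ hR₂
    (hP _ _ (hlt₂.le.trans (le_inf hU₂ hUR₂)) hPD) rfl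
  exact (e1.trans hR).trans e2.symm

omit [Finite G] [Fact q.Prime] in
/-- Normalisers grow in nilpotent groups. -/
theorem lt_normalizer_inf {Q D : Subgroup G} [Group.IsNilpotent Q] (hD : D < Q) :
    D < normalizer (D : Set G) ⊓ Q := by
  refine lt_of_le_of_ne (le_inf Subgroup.le_normalizer hD.le) fun heq => ?_
  have hlt : D.subgroupOf Q < ⊤ :=
    lt_top_iff_ne_top.mpr fun h => hD.not_ge (subgroupOf_eq_top.mp h)
  obtain ⟨x, hx, hxD⟩ := SetLike.exists_of_lt (Group.normalizerCondition_of_isNilpotent _ hlt)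
  refine hxD (?_ : (x : G) ∈ D)
  rw [heq]
  refine ⟨?_, x.2⟩
  change (x : G) ∈ normalizer (D : Set G)
  rw [mem_normalizer_iff]
  intro v
  constructor
  · intro hv
    exact (mem_normalizer_iff.mp hx ⟨v, hD.le hv⟩).mp hv
  · intro hv
    have hvQ : v ∈ Q := by
      have := Q.mul_mem (Q.mul_mem (Q.inv_mem x.2) (hD.le hv)) x.2
      simpa [mul_assoc] using this
    exact (mem_normalizer_iff.mp hx ⟨v, hvQ⟩).mpr hv

/-! ### The transitivity hypothesis in a minimal simple group -/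

section MinSimple

variable (hG : IsMinSimpleOddOrder G) (hTH : TransitivityHypothesis A)

omit [Finite G] [Fact q.Prime] in
include hG in
theorem ne_top_of_normal_ne_bot {D : Subgroup G} (hD : D ≠ ⊥) (hD' : D ≠ ⊤) :
    normalizer (D : Set G) ≠ ⊤ := by
  intro h
  have hn : D.Normal := normalizer_eq_top_iff.mp h
  haveI := hG.2.1
  rcases hn.eq_bot_or_eq_top with h | h
  exacts [hD h, hD' h]

omit [Fact q.Prime] in
include hG in
theorem center_eq_bot_of_minSimple : center G = ⊥ := by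
  haveI := hG.2.1
  rcases (inferInstance : (center G).Normal).eq_bot_or_eq_top with h | h
  · exact h
  · exact absurd ⟨⟨fun a b => mem_center_iff.mp (h ▸ mem_top b) a⟩⟩ hG.2.2.1

omit [Finite G] [Fact q.Prime] in
include hG in
theorem centralizer_ne_top {a : G} [Finite G] (ha : a ≠ 1) : centralizer {a} ≠ ⊤ := fun h => ha <| by
  rw [← mem_bot, ← center_eq_bot_of_minSimple hG]
  exact mem_center_iff.mpr fun x => mem_centralizer_singleton_iff.mp (h ▸ mem_top x)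

omit [Fact q.Prime] in
include hTH in
/-- Invariant `π(A)'`-subgroups of a proper overgroup of `A` lie in its core. -/
theorem le_piCoreOf_of_hypothesis {X Y : Subgroup G} (hX : X ≠ ⊤) (hAX : A ≤ X) (hYX : Y ≤ X)
    (hYπ : PiNum (primesNotDvd (Nat.card A)) Y) (hAY : A ≤ normalizer (Y : Set G)) :
    Y ≤ piCoreOf (primesNotDvd (Nat.card A)) X :=
  hTH.2.2 X hX hAX ▸ le_sSup ⟨hYX, hYπ, hAY⟩

omit [Fact q.Prime] in
include hG hTH in
theorem hK_of_hypothesis (Y : Subgroup G) (hY : Y ≤ centralizer (A : Set G))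
    (hYπ : PiNum (primesNotDvd (Nat.card A)) Y) :
    Y ≤ piCoreOf (primesNotDvd (Nat.card A)) (centralizer (A : Set G)) := by
  have h1 := le_piCoreOf_of_hypothesis hTH (ne_top_of_normal_ne_bot hG hTH.1 hTH.2.1)
    Subgroup.le_normalizer (hY.trans (centralizer_le_normalizer _)) hYπ
    ((le_centralizer_iff.mp hY).trans (centralizer_le_normalizer _))
  exact (le_inf h1 hY).trans (piCoreOf_inf_le (centralizer_le_normalizer _))

include hG hTH in
/-- Maximal invariant `q`-subgroups meeting a common proper overgroup of `A` are conjugate. -/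
theorem linked_of_common_overgroup (hqA : ¬ q ∣ Nat.card A) {Q₁ Q₂ : Subgroup G}
    (h₁ : Q₁ ∈ maxInvSubgroups ⊤ A {q}) (h₂ : Q₂ ∈ maxInvSubgroups ⊤ A {q}) {H : Subgroup G}
    (hH : H ≠ ⊤) (hAH : A ≤ H) (hH₁ : H ⊓ Q₁ ≠ ⊥) (hH₂ : H ⊓ Q₂ ≠ ⊥) :
    Linked (piCoreOf (primesNotDvd (Nat.card A)) (centralizer (A : Set G))) Q₁ Q₂ := by
  set π := primesNotDvd (Nat.card A) with hπ
  have hqπ : q ∈ π := ⟨Fact.out, hqA⟩
  have hA : ∀ r : ℕ, r.Prime → r ∣ Nat.card A → r ∉ π := fun r _ hr h => h.2 hr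
  have hK := hK_of_hypothesis hG hTH
  have hsol : ∀ X : Subgroup G, X ≠ ⊤ → Group.IsSolvable (piCoreOf π X) := fun X hX =>
    Coprime.isSolvable_of_le (piCoreOf_le π X) (hG.2.2.2 X hX)
  have hAW : ∀ X : Subgroup G, A ≤ X → A ≤ normalizer (piCoreOf π X : Set G) := fun X hX =>
    hX.trans (le_normalizer_piCoreOf π X)
  have hin : ∀ (X : Subgroup G) (Q : Subgroup G), X ≠ ⊤ → A ≤ X →
      Q ∈ maxInvSubgroups ⊤ A {q} →
      X ⊓ Q ≤ piCoreOf π X ∧ A ≤ normalizer ((X ⊓ Q : Subgroup G) : Set G) := by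
    intro X Q hX hAX hQ
    have hn := Coprime.le_normalizer_inf (hAX.trans Subgroup.le_normalizer) hQ.1.2.2
    exact ⟨le_piCoreOf_of_hypothesis hTH hX hAX inf_le_left
      ((piNum_of_isPGroup hqπ (isPGroup_of_singleton hQ.1.2.1)).mono inf_le_right) hn, hn⟩
  have htr := linked_of_step (K := piCoreOf π (centralizer (A : Set G))) hqπ hA hK
    (fun D => D ≠ ⊥) (fun D E hle hD hE => hD (le_bot_iff.mp (hE ▸ hle))) ?_
  · obtain ⟨R₁, hR₁, R₂, hR₂, hUR₁, hUR₂, hR⟩ := meet_step hqπ hA hK (hAW H hAH)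
      (piNum_piCoreOf π H) (Or.inr (hsol H hH)) (hin H Q₁ hH hAH h₁).1 (hin H Q₂ hH hAH h₂).1
      ((isPGroup_of_singleton h₁.1.2.1).to_le inf_le_right)
      ((isPGroup_of_singleton h₂.1.2.1).to_le inf_le_right)
      (hin H Q₁ hH hAH h₁).2 (hin H Q₂ hH hAH h₂).2
    have e1 := htr Q₁ h₁ R₁ hR₁ fun h => hH₁ (le_bot_iff.mp (h ▸ le_inf inf_le_right hUR₁))
    have e2 := htr Q₂ h₂ R₂ hR₂ fun h => hH₂ (le_bot_iff.mp (h ▸ le_inf inf_le_right hUR₂))
    exact (e1.trans hR).trans e2.symm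
  intro P₁ hP₁ P₂ hP₂ hD hlt₁ hlt₂
  set D := P₁ ⊓ P₂ with hDdef
  set X := normalizer (D : Set G) with hX
  haveI := (isPGroup_of_singleton hP₁.1.2.1).isNilpotent
  haveI := (isPGroup_of_singleton hP₂.1.2.1).isNilpotent
  have hDtop : D ≠ ⊤ := fun h => hlt₁.not_ge (h ▸ le_top)
  have hXtop : X ≠ ⊤ := ne_top_of_normal_ne_bot hG hD hDtop
  have hAX : A ≤ X :=
    (Coprime.le_normalizer_inf hP₁.1.2.2 hP₂.1.2.2)
  exact ⟨piCoreOf π X, X ⊓ P₁, X ⊓ P₂, hAW X hAX, piNum_piCoreOf π X, Or.inr (hsol X hXtop),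
    (hin X P₁ hXtop hAX hP₁).1, (hin X P₂ hXtop hAX hP₂).1, inf_le_right, inf_le_right,
    (hin X P₁ hXtop hAX hP₁).2, (hin X P₂ hXtop hAX hP₂).2,
    lt_normalizer_inf hlt₁, lt_normalizer_inf hlt₂⟩

include hG hTH in
/-- Transitivity when the centre of `A` has rank at least three. -/
theorem linked_of_rank_three (hqA : ¬ q ∣ Nat.card A)
    (hZ : ¬ RankLE 2 ↥(A ⊓ centralizer (A : Set G))) {Q₁ Q₂ : Subgroup G}
    (h₁ : Q₁ ∈ maxInvSubgroups ⊤ A {q}) (h₂ : Q₂ ∈ maxInvSubgroups ⊤ A {q}) :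
    Linked (piCoreOf (primesNotDvd (Nat.card A)) (centralizer (A : Set G))) Q₁ Q₂ := by
  by_cases hb₁ : Q₁ = ⊥
  · rw [h₁.2 Q₂ h₂.1 (hb₁ ▸ bot_le)]; exact Linked.refl _ _
  by_cases hb₂ : Q₂ = ⊥
  · rw [h₂.2 Q₁ h₁.1 (hb₂ ▸ bot_le)]; exact Linked.refl _ _
  set Z := A ⊓ centralizer (A : Set G) with hZdef
  simp only [RankLE, PRankLE] at hZ
  push Not at hZ
  obtain ⟨r, hr, E, hEc, hEp, hEcard⟩ := hZ
  have := Fact.mk hr
  set E₀ := E.map Z.subtype with hE₀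
  have hE₀Z : E₀ ≤ Z := map_subtype_le _
  have hE₀e : IsElementaryAbelian r E₀ := by
    refine ⟨⟨⟨?_⟩⟩, ?_⟩
    · rintro ⟨_, a, ha, rfl⟩ ⟨_, b, hb, rfl⟩
      exact Subtype.ext (congrArg (fun z : E => ((z : Z) : G))
        (hEc.is_comm.comm (⟨a, ha⟩ : E) ⟨b, hb⟩))
    · rintro _ ⟨a, ha, rfl⟩
      exact congrArg Subtype.val (hEp a ha)
  have hcard : r ^ 3 ≤ Nat.card E₀ := by
    rw [hE₀, card_map_of_injective Z.subtype_injective]
    obtain ⟨k, hk⟩ := IsPGroup.iff_card.mp (fun x : E => ⟨1, Subtype.ext (by simpa using hEp x x.2)⟩ :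
      IsPGroup r E)
    rw [hk] at hEcard ⊢
    exact Nat.pow_le_pow_right hr.pos ((Nat.pow_lt_pow_iff_right hr.one_lt).mp hEcard)
  have hE₀A : E₀ ≤ A := hE₀Z.trans inf_le_left
  have hrA : r ∣ Nat.card A :=
    dvd_trans (by
      obtain ⟨k, hk⟩ := IsPGroup.iff_card.mp (Coprime.ea_isPGroup hE₀e)
      rw [hk] at hcard ⊢
      exact dvd_pow_self r (by
        rintro rfl
        have := Nat.pow_le_pow_right hr.pos (show 1 ≤ 3 by norm_num)
        have := hr.two_le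
        simp only [pow_zero, pow_one] at *
        omega)) (card_dvd_of_le hE₀A)
  have hQr : ∀ Q : Subgroup G, Q ∈ maxInvSubgroups ⊤ A {q} → ¬ r ∣ Nat.card Q := fun Q hQ h => by
    have := hQ.1.2.1 r hr h
    rw [Set.mem_singleton_iff] at this
    exact hqA (this ▸ hrA)
  obtain ⟨a, ha, ha1, hn₁, hn₂⟩ := Signalizer.exists_common_fixed hE₀e hcard
    (isPGroup_of_singleton h₁.1.2.1) (isPGroup_of_singleton h₂.1.2.1) (hQr Q₁ h₁) (hQr Q₂ h₂)
    (hE₀A.trans h₁.1.2.2) (hE₀A.trans h₂.1.2.2) le_normalizer_of_normal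
    (bot_lt_iff_ne_bot.mpr hb₁) (bot_lt_iff_ne_bot.mpr hb₂)
  refine linked_of_common_overgroup hG hTH hqA h₁ h₂ (H := centralizer {a})
    (centralizer_ne_top hG ha1) (fun b hb => mem_centralizer_singleton_iff.mpr
      (mem_centralizer_iff.mp (hE₀Z ha).2 b hb)) (fun h => hn₁ ?_) (fun h => hn₂ ?_)
  · rw [← h]; exact le_inf inf_le_right (inf_le_left.trans inf_le_right)
  · rw [← h]; exact le_inf inf_le_right (inf_le_left.trans inf_le_right)

include hG hTH in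
/-- Transitivity when the centre of `A` has rank at least two and `q` divides `|C(A)|`. -/
theorem linked_of_rank_two (hqA : ¬ q ∣ Nat.card A)
    (hZ : ¬ RankLE 1 ↥(A ⊓ centralizer (A : Set G)))
    (hqC : q ∣ Nat.card (centralizer (A : Set G))) {Q₁ Q₂ : Subgroup G}
    (h₁ : Q₁ ∈ maxInvSubgroups ⊤ A {q}) (h₂ : Q₂ ∈ maxInvSubgroups ⊤ A {q}) :
    Linked (piCoreOf (primesNotDvd (Nat.card A)) (centralizer (A : Set G))) Q₁ Q₂ := by
  obtain ⟨x, hx⟩ := exists_prime_orderOf_dvd_card' q hqC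
  set U := zpowers (x : G) with hU
  have hxo : orderOf (x : G) = q := (orderOf_coe x).trans hx
  have hx1 : (x : G) ≠ 1 := fun h =>
    (Fact.out : q.Prime).one_lt.ne' (by rw [← hxo, h, orderOf_one])
  have hUC : U ≤ centralizer (A : Set G) := zpowers_le.mpr x.2
  have hUA : A ≤ normalizer (U : Set G) :=
    (le_centralizer_iff.mp hUC).trans (centralizer_le_normalizer _)
  obtain ⟨R, hR, hUR⟩ := exists_max_ge
    (IsPGroup.of_card (n := 1) (by rw [pow_one, Nat.card_zpowers, hxo])) hUA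
  suffices key : ∀ Q ∈ maxInvSubgroups ⊤ A {q},
      Linked (piCoreOf (primesNotDvd (Nat.card A)) (centralizer (A : Set G))) Q R from
    (key Q₁ h₁).trans (key Q₂ h₂).symm
  intro Q hQ
  by_cases hb : Q = ⊥
  · rw [hQ.2 R hR.1 (hb ▸ bot_le)]; exact Linked.refl _ _
  set Z := A ⊓ centralizer (A : Set G) with hZdef
  simp only [RankLE, PRankLE] at hZ
  push Not at hZ
  obtain ⟨r, hr, E, hEc, hEp, hEcard⟩ := hZ
  have := Fact.mk hr
  set E₀ := E.map Z.subtype with hE₀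
  have hE₀Z : E₀ ≤ Z := map_subtype_le _
  haveI : IsMulCommutative E₀ := ⟨⟨by
    rintro ⟨_, a, ha, rfl⟩ ⟨_, b, hb, rfl⟩
    exact Subtype.ext (congrArg (fun z : E => ((z : Z) : G))
      (hEc.is_comm.comm (⟨a, ha⟩ : E) ⟨b, hb⟩))⟩⟩
  have hnc : ¬ IsCyclic E₀ := by
    intro h
    obtain ⟨g, hg⟩ := h.exists_generator
    have h1 : Nat.card E₀ ∣ r := by
      rw [← orderOf_eq_card_of_forall_mem_zpowers hg]
      refine orderOf_dvd_of_pow_eq_one ?_
      obtain ⟨a, ha, hag⟩ := g.2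
      refine Subtype.ext ?_
      rw [SubmonoidClass.coe_pow, ← hag]
      exact congrArg Subtype.val (hEp a ha)
    have h2 := Nat.le_of_dvd hr.pos h1
    rw [hE₀, card_map_of_injective Z.subtype_injective] at h2
    rw [pow_one] at hEcard
    omega
  have hcop : (Nat.card E₀).Coprime (Nat.card Q) :=
    (coprime_card_of_piNum (π := {q}) (fun s _ hs h => hqA ((Set.mem_singleton_iff.mp h) ▸ hs))
      hQ.1.2.1).coprime_dvd_left (card_dvd_of_le (hE₀Z.trans inf_le_left))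
  obtain ⟨a, ha, ha1, haQ⟩ : ∃ a ∈ E₀, a ≠ 1 ∧ Q ⊓ centralizer {a} ≠ ⊥ := by
    by_contra hno
    push Not at hno
    refine hb (le_bot_iff.mp ?_)
    rw [← Coprime.iSup_centralizer_eq hnc ((hE₀Z.trans inf_le_left).trans hQ.1.2.2) hcop]
    exact iSup₂_le fun a ha => (hno a ha.1 ha.2).le
  have hAH : A ≤ centralizer {a} := fun b hb => mem_centralizer_singleton_iff.mpr
    (mem_centralizer_iff.mp (hE₀Z ha).2 b hb)
  refine linked_of_common_overgroup hG hTH hqA hQ hR (centralizer_ne_top hG ha1) hAH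
    (by rwa [inf_comm]) fun h => hx1 ?_
  rw [← mem_bot, ← h]
  exact ⟨mem_centralizer_singleton_iff.mpr
    (mem_centralizer_iff.mp (x.2) a ((hE₀Z.trans inf_le_left) ha)).symm, hUR (mem_zpowers _)⟩

end MinSimple

end Cfsg.Agent.OddLocal
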