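import Cfsg.Agent.OddLocal.CNSimple
import Cfsg.Agent.Core.Frattini
import Cfsg.Agent.Core.Solvable

/-!
Groups of odd order with nilpotent centralisers are solvable.
-/

set_option autoImplicit false

namespace Cfsg.Agent.OddLocal.CN

open Subgroup
open Coherence.FrobFamily

universe u

variable {G : Type u} [Group G] [Finite G]

theorem Anchor.exists_sylow_le (hG : Setting G) {H : Subgroup G} (h : Anchor H) {p : ℕ}
    [hp : Fact p.Prime] (hd : p ∣ Nat.card H) : ∃ P : Sylow p G, (P : Subgroup G) ≤ H := by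
  obtain ⟨x, hx⟩ := exists_prime_orderOf_dvd_card' p hd
  have hx1 : (x : G) ≠ 1 := fun e => hp.out.one_lt.ne (by
    rw [← hx, ← Subgroup.orderOf_coe, e, orderOf_one])
  have hxp : IsPGroup p (zpowers (x : G)) :=
    IsPGroup.of_card (n := 1) (by rw [Nat.card_zpowers, Subgroup.orderOf_coe, hx, pow_one])
  obtain ⟨P, hP⟩ := hxp.exists_le_sylow
  have hP1 : (P : Subgroup G) ≠ ⊥ := fun e => hx1 (Subgroup.mem_bot.mp (e ▸ hP (mem_zpowers _)))
  obtain ⟨K, hK, hPK⟩ := exists_anchor hG P hP1
  exact ⟨P, (h.eq_of_common hK x.2 (hPK (hP (mem_zpowers _))) hx1).symm ▸ hPK⟩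

theorem Anchor.good (hG : Setting G) {H : Subgroup G} (h : Anchor H) : Good H where
  ne_bot := h.ne_bot
  lt := by
    refine le_normalizer.lt_of_ne fun e => ?_
    have := hG.simple
    have hmal : ∀ g : G, g ∉ H → ∀ a ∈ H, g * a * g⁻¹ ∈ H → a = 1 := by
      intro g hg a ha hga
      by_contra ha1
      refine hg (e.symm.le (Coprime.mem_normalizer_of_conj_smul_eq ?_))
      rw [Coprime.conj_smul_eq_map]
      exact ((h.map_conj g).eq_of_common h ⟨a, ha, rfl⟩ (by simpa using hga)
        (by simpa using ha1))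
    obtain ⟨N, hN, hc, -⟩ := Char.frobenius_kernel H hmal
    rcases hN.eq_bot_or_eq_top with rfl | rfl
    · have htop : H = ⊤ := by simpa using hc.sup_eq_top
      exact hG.not_isNilpotent ((Group.isNilpotent_congr topEquiv).mp (htop ▸ h.nilpotent))
    · exact h.ne_bot (by simpa using hc.disjoint.eq_bot)
  frob := fun x hx hx1 => inf_le_right.trans (h.cent x hx hx1)
  TI := by
    intro g hg x hx hgx
    by_contra hx1
    refine hg (Coprime.mem_normalizer_of_conj_smul_eq ?_)
    rw [Coprime.conj_smul_eq_map]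
    exact (h.map_conj g).eq_of_common h ⟨x, hx, rfl⟩ (by simpa using hgx) (by simpa using hx1)

/-- Anchors whose orders share a prime are conjugate. -/
theorem Anchor.conj_of_dvd (hG : Setting G) {H K : Subgroup G} (hH : Anchor H) (hK : Anchor K)
    {p : ℕ} [hp : Fact p.Prime] (h1 : p ∣ Nat.card H) (h2 : p ∣ Nat.card K) :
    ∃ g : G, K = H.map (MulAut.conj g).toMonoidHom := by
  obtain ⟨P, hP⟩ := hH.exists_sylow_le hG h1
  obtain ⟨Q, hQ⟩ := hK.exists_sylow_le hG h2
  obtain ⟨g, hg⟩ := MulAction.exists_smul_eq G P Q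
  obtain ⟨x, hx, hx1⟩ := (bot_or_exists_ne_one (P : Subgroup G)).resolve_left fun e => by
    have := P.dvd_card_of_dvd_card (h1.trans (card_subgroup_dvd_card H))
    rw [e, card_bot] at this
    exact hp.out.one_lt.ne' (Nat.dvd_one.mp this)
  refine ⟨g, hK.eq_of_common (hH.map_conj g) (h := g * x * g⁻¹) (hQ ?_)
    ⟨x, hP hx, rfl⟩ (by simpa using hx1)⟩
  rw [← hg]
  exact smul_mem_pointwise_smul _ (MulAut.conj g) P.toSubgroup hx

/-- No simple CN-group of odd order has all proper subgroups solvable. -/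
theorem false_of_setting (hG : Setting G) : False := by
  classical
  have := Fintype.ofFinite G
  let A : Set (Finset (Subgroup G)) := {S | (∀ H ∈ S, Anchor H) ∧
    ∀ H ∈ S, ∀ K ∈ S, H ≠ K → (Nat.card H).Coprime (Nat.card K)}
  obtain ⟨S, hS, hmax⟩ := Set.exists_max_image A Finset.card (Set.toFinite _)
    ⟨∅, by simp [A]⟩
  have hcover : ∀ g : G, g ≠ 1 → ∃ i : S, ∃ x : G, x * g * x⁻¹ ∈ (i : Subgroup G) := by
    intro g hg
    obtain ⟨p, hp, hd⟩ := Nat.exists_prime_and_dvd (show orderOf g ≠ 1 from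
      fun e => hg (orderOf_eq_one_iff.mp e))
    have := Fact.mk hp
    obtain ⟨y', hy⟩ := exists_prime_orderOf_dvd_card' (G := zpowers g) p (by rwa [Nat.card_zpowers])
    set y : G := (y' : G) with hydef
    have hyo : orderOf y = p := by rw [hydef, Subgroup.orderOf_coe, hy]
    have hy1 : y ≠ 1 := fun e => hp.one_lt.ne (by rw [← hyo, e, orderOf_one])
    have hyp : IsPGroup p (zpowers y) :=
      IsPGroup.of_card (n := 1) (by rw [Nat.card_zpowers, hyo, pow_one])
    obtain ⟨P, hP⟩ := hyp.exists_le_sylow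
    obtain ⟨K, hK, hPK⟩ :=
      exists_anchor hG P (fun e => hy1 (Subgroup.mem_bot.mp (e ▸ hP (mem_zpowers _))))
    have hyK : y ∈ K := hPK (hP (mem_zpowers _))
    obtain ⟨H, hHS, q, hq, hqH, hqK⟩ :
        ∃ H ∈ S, ∃ q, q.Prime ∧ q ∣ Nat.card H ∧ q ∣ Nat.card K := by
      by_contra! hno
      have hcp : ∀ H ∈ S, (Nat.card H).Coprime (Nat.card K) := fun H hH =>
        Nat.coprime_of_dvd fun q hq h1 h2 => hno H hH q hq h1 h2
      have hpK : p ∣ Nat.card K := hyo ▸ orderOf_dvd_natCard _ hyK
      have hnot : K ∉ S := fun h => hno K h p hp hpK hpK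
      have := hmax (insert K S) ⟨fun H hH => (Finset.mem_insert.mp hH).elim (fun e => e ▸ hK) (hS.1 H),
        fun H hH L hL hne => by
          rcases Finset.mem_insert.mp hH with rfl | hH'
          · rcases Finset.mem_insert.mp hL with rfl | hL'
            · exact absurd rfl hne
            · exact (hcp L hL').symm
          · rcases Finset.mem_insert.mp hL with rfl | hL'
            · exact hcp H hH'
            · exact hS.2 H hH' L hL' hne⟩
      rw [Finset.card_insert_of_notMem hnot] at this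
      omega
    have := Fact.mk hq
    obtain ⟨a, ha⟩ := hK.conj_of_dvd hG (hS.1 H hHS) hqK hqH
    refine ⟨⟨H, hHS⟩, a, ?_⟩
    show a * g * a⁻¹ ∈ H
    rw [ha]
    refine ⟨g, hK.cent y hyK hy1 (mem_centralizer_singleton_iff.mpr ?_), by simp⟩
    obtain ⟨i, hi⟩ := mem_zpowers_iff.mp y'.2
    rw [hydef, ← hi]
    exact (Commute.zpow_right (Commute.refl g) i).eq
  have hgood : ∀ i : S, Good (i : Subgroup G) := fun i => (hS.1 i i.2).good hG
  have hnt : ∃ g : G, g ≠ 1 := by
    have := hG.simple
    exact exists_ne 1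
  rcases le_or_gt 2 S.card with h2 | h2
  · exact Coherence.FeitFinal.false_of_families (ι := S) (H := fun i => (i : Subgroup G)) hG.odd
      (by rwa [Fintype.card_coe]) hgood
      (fun i j hij => hS.2 i i.2 j j.2 fun e => hij (Subtype.ext e)) hcover
  obtain ⟨g, hg⟩ := hnt
  obtain ⟨i, -⟩ := hcover g hg
  have hsub : Finset.univ.erase (1 : G) ⊆ Bof (i : Subgroup G) := fun y hy => by
    obtain ⟨k, x, hx⟩ := hcover y (Finset.ne_of_mem_erase hy)
    have : k = i := Subtype.ext (Finset.card_le_one.mp (by omega) _ k.2 _ i.2)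
    exact mem_Bof.mpr ⟨x, this ▸ hx, Finset.ne_of_mem_erase hy⟩
  have hc := Finset.card_le_card hsub
  rw [Finset.card_erase_of_mem (Finset.mem_univ _), Finset.card_univ] at hc
  have hB := card_Bof_lt (hgood i)
  obtain ⟨he, -⟩ := index_ge_three (hgood i) hG.odd
  have hG2 : 2 ≤ Fintype.card G := Fintype.one_lt_card_iff.mpr ⟨g, 1, hg⟩
  have hgt : (3 : ℝ) * (((Bof (i : Subgroup G)).card : ℝ)) < Nat.card G := by
    have he' : (3 : ℝ) ≤ (Nof (i : Subgroup G)).index := by exact_mod_cast he
    rw [lt_div_iff₀ (by linarith)] at hB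
    nlinarith [(Nat.cast_nonneg _ : (0 : ℝ) ≤ ((Bof (i : Subgroup G)).card : ℝ))]
  have : 3 * (Bof (i : Subgroup G)).card < Fintype.card G := by
    rw [← Nat.card_eq_fintype_card]; exact_mod_cast hgt
  omega

/-- **Feit, Hall, Thompson**: CN-groups of odd order are solvable. -/
theorem isSolvable_of_isCNGroup : ∀ (n_card : ℕ) (G : Type u) [Group G] [Finite G], Nat.card G = n_card →
    Odd (Nat.card G) → Cfsg.IsCNGroup G → Group.IsSolvable G := by
  intro n_card
  induction n_card using Nat.strong_induction_on with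
  | _ n_card IH =>
  intro G _ _ hn hodd hCN
  by_contra hns
  have hsub : ∀ H : Subgroup G, H ≠ ⊤ → Group.IsSolvable H := by
    intro H hH
    refine IH (Nat.card H) ?_ H rfl (hodd.of_dvd_nat (card_subgroup_dvd_card H)) ?_
    · rw [← hn]
      exact lt_of_le_of_ne (card_le_card_group H) fun e => hH (eq_top_of_card_eq H e)
    · intro h hh
      have hle : (centralizer ({h} : Set H)).map H.subtype ≤ centralizer ({(h : G)} : Set G) := by
        rintro _ ⟨c, hc, rfl⟩
        exact mem_centralizer_singleton_iff.mpr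
          (congrArg Subtype.val (mem_centralizer_singleton_iff.mp hc))
      have := Core.isNilpotent_mono (hCN (h : G) fun e => hh (Subtype.ext e)) hle
      exact (Group.isNilpotent_congr
        ((centralizer ({h} : Set H)).equivMapOfInjective H.subtype H.subtype_injective)).mpr this
  have hnont : Nontrivial G := by
    rw [← not_subsingleton_iff_nontrivial]
    intro h
    exact hns (Group.isSolvable_of_comm fun a b => Subsingleton.elim _ _)
  by_cases hsimp : IsSimpleGroup G
  · refine false_of_setting ⟨hodd, hsimp, fun hc => hns ?_, hsub, hCN⟩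
    exact Group.isSolvable_of_comm hc.is_comm.comm
  -- a maximal proper normal subgroup
  obtain ⟨N₀, hN₀n, hN₀1, hN₀top⟩ : ∃ N : Subgroup G, N.Normal ∧ N ≠ ⊥ ∧ N ≠ ⊤ := by
    by_contra! h
    exact hsimp { exists_pair_ne := hnont.exists_pair_ne
                  eq_bot_or_eq_top_of_normal := fun H hH => or_iff_not_imp_left.mpr (h H hH) }
  obtain ⟨N, ⟨hNn, hNtop, hN₀N⟩, hNmax⟩ := Set.Finite.exists_maximal
    (Set.toFinite {N : Subgroup G | N.Normal ∧ N ≠ ⊤ ∧ N₀ ≤ N}) ⟨N₀, hN₀n, hN₀top, le_rfl⟩
  have hN1 : N ≠ ⊥ := fun e => hN₀1 (le_bot_iff.mp (e ▸ hN₀N))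
  have hNs := hsub N hNtop
  have key : ∀ H : Subgroup G, N ⊔ H = ⊤ → H = ⊤ := by
    intro H hH
    by_contra hne
    have hHs := hsub H hne
    let f := (QuotientGroup.mk' N).comp H.subtype
    have hf : Function.Surjective f := by
      rw [← MonoidHom.range_eq_top, MonoidHom.range_comp, range_subtype, eq_top_iff,
        ← map_top_of_surjective (QuotientGroup.mk' N) (QuotientGroup.mk'_surjective N), ← hH,
        Subgroup.map_sup, (map_eq_bot_iff N).mpr (QuotientGroup.ker_mk' N).ge, bot_sup_eq]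
    have : Group.IsSolvable (G ⧸ N) := Group.isSolvable_of_surjective hf
    exact hns (Group.isSolvable_of_ker_le_range N.subtype (QuotientGroup.mk' N)
      (by rw [QuotientGroup.ker_mk', range_subtype]))
  have hNnil : Group.IsNilpotent N := by
    refine (((Group.isNilpotent_of_finite_tfae (G := N)).out 0 3 (a := Group.IsNilpotent N)
      (b := ∀ (q : ℕ) (_ : Fact q.Prime) (S : Sylow q N), (S : Subgroup N).Normal))).mpr ?_
    intro q _ S
    have htop := key _ ((sup_comm _ _).trans (Sylow.normalizer_sup_eq_top S))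
    have : ((S : Subgroup N).map N.subtype).Normal := normalizer_eq_top_iff.mp htop
    rw [← comap_map_eq_self_of_injective N.subtype_injective (S : Subgroup N)]
    infer_instance
  -- the centre of `N`
  set A := N ⊓ centralizer (N : Set G) with hAdef
  have hAn : A.Normal := inferInstance
  have hAC : N ≤ centralizer (A : Set G) := fun x hx => mem_centralizer_iff.mpr fun a ha =>
    (mem_centralizer_iff.mp ha.2 x hx).symm
  have hcentral : ∀ (q : ℕ) [Fact q.Prime], q ∣ Nat.card N →
      ∃ B : Subgroup G, B ≤ A ∧ IsPGroup q B ∧ B.Normal ∧ B ≠ ⊥ ∧ centralizer (B : Set G) = N := by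
    intro q hq hqd
    let QN : Sylow q N := default
    have hQn : (QN : Subgroup N).Normal :=
      ((Group.isNilpotent_of_finite_tfae (G := N)).out 0 3 (a := Group.IsNilpotent N)
        (b := ∀ (q : ℕ) (_ : Fact q.Prime) (S : Sylow q N), (S : Subgroup N).Normal)).mp hNnil q hq QN
    have hQc : (QN : Subgroup N).Characteristic := QN.characteristic_of_normal hQn
    set Q := (QN : Subgroup N).map N.subtype with hQdef
    have hQN1 : (QN : Subgroup N) ≠ ⊥ := fun e => by
      have := QN.dvd_card_of_dvd_card hqd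
      rw [e, card_bot] at this
      exact hq.out.one_lt.ne' (Nat.dvd_one.mp this)
    have := hNnil
    obtain ⟨z, hz, hz1⟩ :=
      (bot_or_exists_ne_one _).resolve_left (Core.inf_center_ne_bot (N := (QN : Subgroup N)) hQN1)
    have hzA : (z : G) ∈ A := ⟨z.2, mem_centralizer_iff.mpr fun w hw =>
      congrArg Subtype.val (mem_center_iff.mp hz.2 ⟨w, hw⟩)⟩
    set B := Q ⊓ A with hBdef
    have hBq : IsPGroup q B := (QN.2.map N.subtype).to_inf_left
    have hB1 : B ≠ ⊥ := fun e => hz1 (Subtype.ext (Subgroup.mem_bot.mp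
      (e ▸ (⟨⟨z, hz.1, rfl⟩, hzA⟩ : (z : G) ∈ B))))
    have hBC : N ≤ centralizer (B : Set G) := hAC.trans (centralizer_le inf_le_right)
    have : Q.Normal := inferInstance
    refine ⟨B, inf_le_right, hBq, inferInstance, hB1,
      le_antisymm (hNmax ⟨inferInstance, fun htop => ?_, hN₀N.trans hBC⟩ hBC) hBC⟩
    obtain ⟨a, ha, ha1⟩ := (bot_or_exists_ne_one B).resolve_left hB1
    have hCa : centralizer ({a} : Set G) = ⊤ := eq_top_iff.mpr fun g hg =>
      mem_centralizer_singleton_iff.mpr (mem_centralizer_iff.mp (htop.symm.le hg) a ha).symm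
    have hn' := hCN a ha1
    rw [hCa] at hn'
    have : Group.IsNilpotent G := (Group.isNilpotent_congr topEquiv).mp hn'
    exact hns inferInstance
  obtain ⟨p, hp, hpd⟩ := Nat.exists_prime_and_dvd (show Nat.card N ≠ 1 from
    fun e => hN1 (card_eq_one.mp e))
  have := Fact.mk hp
  obtain ⟨Ap, hApA, hApp, hApn, hAp1, hCAp⟩ := hcentral p hpd
  -- fixed points of `p`-elements
  have hfix : ∀ x : G, IsPGroup p (zpowers x) → ∃ a ∈ Ap, a ≠ 1 ∧ Commute x a := by
    intro x hx
    by_contra! hno
    have := card_modEq_fixed_one (r := p) hx hApn fun v hv hfix => by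
      by_contra hv1
      exact hno v hv hv1 (hfix x (mem_zpowers x))
    obtain ⟨n, hn⟩ := IsPGroup.iff_card.mp hApp
    have hn0 : n ≠ 0 := fun e => hAp1 (card_eq_one.mp (by rw [hn, e, pow_zero]))
    rw [hn] at this
    have h0 : (p ^ n) % p = 0 := Nat.mod_eq_zero_of_dvd (dvd_pow_self p hn0)
    rw [Nat.ModEq, h0, Nat.mod_eq_of_lt hp.one_lt] at this
    exact zero_ne_one this
  have hNa : ∀ a ∈ Ap, N ≤ centralizer ({a} : Set G) := fun a ha x hx =>
    mem_centralizer_singleton_iff.mpr (mem_centralizer_iff.mp (hAC hx) a (hApA ha)).symm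
  have hNp : IsPGroup p N := by
    by_contra hnp
    obtain ⟨q, hq, hqd, hqp⟩ : ∃ q, q.Prime ∧ q ∣ Nat.card N ∧ q ≠ p := by
      by_contra! hall
      exact hnp (IsPGroup.of_card
        (Nat.eq_prime_pow_of_unique_prime_dvd Nat.card_pos.ne' fun hd hdd => hall _ hd hdd))
    have := Fact.mk hq
    obtain ⟨B, hBA, hBq, -, -, hCB⟩ := hcentral q hqd
    have hall : ∀ x : G, IsPGroup p (zpowers x) → x ∈ N := by
      intro x hx
      obtain ⟨a, ha, ha1, hxa⟩ := hfix x hx
      rw [← hCB, mem_centralizer_iff]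
      intro b hb
      obtain ⟨m, hm⟩ := IsPGroup.iff_card.mp hx
      refine (commute_of_mem (hCN a ha1) (mem_centralizer_singleton_iff.mpr hxa)
        (hNa a ha (hBA hb).1) ?_).symm
      rw [← Nat.card_zpowers x, hm]
      exact (((coprime_of_isPGroup_ne hq hqp hBq).symm.pow_left m)).coprime_dvd_right
        (orderOf_dvd_natCard _ hb)
    let PG : Sylow p G := default
    have hPGN : (PG : Subgroup G) ≤ N := fun x hx => hall x (isPGroup_zpowers PG.2 hx)
    have hPGn : (PG : Subgroup G).Normal := by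
      have hn : ((PG.subtype hPGN : Sylow p N) : Subgroup N).Normal :=
        ((Group.isNilpotent_of_finite_tfae (G := N)).out 0 3 (a := Group.IsNilpotent N)
          (b := ∀ (q : ℕ) (_ : Fact q.Prime) (S : Sylow q N), (S : Subgroup N).Normal)).mp hNnil
          p ‹Fact p.Prime› (PG.subtype hPGN)
      have := (PG.subtype hPGN).characteristic_of_normal hn
      have h : (((PG.subtype hPGN : Sylow p N) : Subgroup N).map N.subtype).Normal := inferInstance
      rwa [Sylow.coe_subtype, subgroupOf_map_subtype, inf_of_le_left hPGN] at h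
    obtain ⟨K, hK⟩ := exists_right_complement'_of_coprime (PG.card_coprime_index)
    have hKtop : K = ⊤ := key K (top_le_iff.mp (hK.sup_eq_top.ge.trans (sup_le_sup_right hPGN _)))
    have hbot : (PG : Subgroup G) = ⊥ := by simpa [hKtop] using hK.disjoint.eq_bot
    have := PG.dvd_card_of_dvd_card (hpd.trans (card_subgroup_dvd_card N))
    rw [hbot, card_bot] at this
    exact hp.one_lt.ne' (Nat.dvd_one.mp this)
  -- the quotient by `N` is again a CN-group
  obtain ⟨n, hn'⟩ := IsPGroup.iff_card.mp hNp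
  let f := QuotientGroup.mk' N
  have lift : ∀ y : G ⧸ N, (orderOf y).Coprime p →
      ∃ y' : G, (orderOf y').Coprime p ∧ f y' = y := by
    intro y hy
    obtain ⟨y₀, rfl⟩ := QuotientGroup.mk'_surjective N y
    obtain ⟨j, hj⟩ := exists_pow_eq_self_of_coprime (x := f y₀) (n := p ^ n)
      ((hy.pow_right n).symm)
    refine ⟨(y₀ ^ j) ^ p ^ n, hy.coprime_dvd_left (orderOf_dvd_of_pow_eq_one ?_), ?_⟩
    · rw [show ((y₀ ^ j) ^ p ^ n) ^ orderOf ((QuotientGroup.mk' N) y₀) =
        ((y₀ ^ j) ^ orderOf ((QuotientGroup.mk' N) y₀)) ^ p ^ n by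
          rw [← pow_mul _ (p ^ n), mul_comm, pow_mul]]
      have hmem : (y₀ ^ j) ^ orderOf (f y₀) ∈ N := (QuotientGroup.eq_one_iff _).mp
        (show f ((y₀ ^ j) ^ orderOf (f y₀)) = 1 by
          rw [map_pow, map_pow, ← pow_mul, mul_comm, pow_mul, pow_orderOf_eq_one, one_pow])
      exact orderOf_dvd_iff_pow_eq_one.mp (hn' ▸ orderOf_dvd_natCard _ hmem)
    · rw [map_pow, map_pow, ← pow_mul, mul_comm, pow_mul, hj]
  have image : ∀ y : G, (orderOf y).Coprime p →
      (centralizer ({y} : Set G)).map f = centralizer ({f y} : Set (G ⧸ N)) := by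
    intro y hy
    have h := Coprime.map_inf_centralizer f (A := zpowers y) (K := ⊤)
      (by rw [normalizer_eq_top]; exact le_top) le_top
      (by rw [QuotientGroup.ker_mk', Nat.card_zpowers, hn']; exact hy.pow_right n)
      (Or.inl (Group.isSolvable_of_comm fun a b => mul_comm' a b))
    rw [top_inf_eq, map_top_of_surjective f (QuotientGroup.mk'_surjective N), top_inf_eq,
      MonoidHom.map_zpowers] at h
    rwa [zpowers_eq_closure, zpowers_eq_closure, centralizer_closure, centralizer_closure] at h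
  have isol : ∀ s : G ⧸ N, s ≠ 1 → IsPGroup p (zpowers s) → ∀ y ∈ centralizer ({s} : Set (G ⧸ N)),
      (orderOf y).Coprime p → y = 1 := by
    intro s hs hsp y hy hyp
    obtain ⟨y', hy', rfl⟩ := lift y hyp
    obtain ⟨s₀, rfl⟩ := QuotientGroup.mk'_surjective N s
    have hmem : f s₀ ∈ (centralizer ({y'} : Set G)).map f := by
      rw [image y' hy']
      exact mem_centralizer_singleton_iff.mpr (mem_centralizer_singleton_iff.mp hy).symm
    obtain ⟨u, hu, hus⟩ := hmem
    have huN : u ∉ N := fun h => hs (hus.symm.trans ((QuotientGroup.eq_one_iff u).mpr h))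
    have hu1 : u ≠ 1 := fun e => huN (e ▸ N.one_mem)
    have hup : IsPGroup p (zpowers u) := by
      have hord : orderOf u ∣ orderOf (f s₀) * p ^ n := by
        refine orderOf_dvd_of_pow_eq_one ?_
        rw [pow_mul]
        have hmem : u ^ orderOf (f s₀) ∈ N := (QuotientGroup.eq_one_iff _).mp
          (show f (u ^ orderOf (f s₀)) = 1 by rw [map_pow, hus, pow_orderOf_eq_one])
        exact orderOf_dvd_iff_pow_eq_one.mp (hn' ▸ orderOf_dvd_natCard _ hmem)
      obtain ⟨m, hm⟩ := IsPGroup.iff_card.mp hsp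
      rw [Nat.card_zpowers] at hm
      rw [hm, ← pow_add] at hord
      obtain ⟨i, -, hi⟩ := (Nat.dvd_prime_pow hp).mp hord
      exact IsPGroup.of_card (n := i) (by rw [Nat.card_zpowers, hi])
    obtain ⟨a, ha, ha1, hua⟩ := hfix u hup
    have hya : Commute y' a := commute_of_mem (hCN u hu1)
      (mem_centralizer_singleton_iff.mpr (mem_centralizer_singleton_iff.mp hu).symm)
      (mem_centralizer_singleton_iff.mpr hua.symm)
      (by
        obtain ⟨k, hk⟩ := IsPGroup.iff_card.mp (isPGroup_zpowers hApp ha)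
        rw [← Nat.card_zpowers a, hk]
        exact hy'.pow_right k)
    have hyN : y' ∈ N := by
      rw [← hCAp, mem_centralizer_iff]
      intro b hb
      obtain ⟨k, hk⟩ := IsPGroup.iff_card.mp (isPGroup_zpowers hApp hb)
      refine (commute_of_mem (hCN a ha1) (mem_centralizer_singleton_iff.mpr hya)
        (hNa a ha (hApA hb).1) ?_).symm
      rw [← Nat.card_zpowers b, hk]
      exact hy'.pow_right k
    exact (QuotientGroup.eq_one_iff y').mpr hyN
  have hquot : Cfsg.IsCNGroup (G ⧸ N) := by
    intro x hx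
    by_cases hpx : p ∣ orderOf x
    · obtain ⟨s', hs⟩ := exists_prime_orderOf_dvd_card' (G := zpowers x) p
        (by rwa [Nat.card_zpowers])
      obtain ⟨i, hi⟩ := mem_zpowers_iff.mp s'.2
      set s : G ⧸ N := (s' : G ⧸ N) with hsdef
      have hso : orderOf s = p := by rw [hsdef, Subgroup.orderOf_coe, hs]
      have hs1 : s ≠ 1 := fun e => hp.one_lt.ne (by rw [← hso, e, orderOf_one])
      have hle : centralizer ({x} : Set (G ⧸ N)) ≤ centralizer ({s} : Set (G ⧸ N)) := fun w hw =>
        mem_centralizer_singleton_iff.mpr (hi ▸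
          (show Commute w x from mem_centralizer_singleton_iff.mp hw).zpow_right i)
      have hsp : IsPGroup p (centralizer ({s} : Set (G ⧸ N))) := by
        refine IsPGroup.of_card (n := _) (Nat.eq_prime_pow_of_unique_prime_dvd Nat.card_pos.ne'
          fun {d} hd hdd => by_contra fun hne => ?_)
        have := Fact.mk hd
        obtain ⟨y, hy⟩ := exists_prime_orderOf_dvd_card' d hdd
        have h1 := isol s hs1
          (IsPGroup.of_card (n := 1) (by rw [Nat.card_zpowers, hso, pow_one])) y y.2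
          (by rw [Subgroup.orderOf_coe, hy]; exact (Nat.coprime_primes hd hp).mpr hne)
        exact hd.one_lt.ne (by rw [← hy, ← Subgroup.orderOf_coe, h1, orderOf_one])
      exact (hsp.to_le hle).isNilpotent
    · obtain ⟨y, hy, rfl⟩ := lift x ((hp.coprime_iff_not_dvd.mpr hpx).symm)
      rw [← image y hy]
      exact Core.isNilpotent_map (hCN y fun e => hx (by rw [e, map_one])) f
  have hlt : Nat.card (G ⧸ N) < n_card := by
    rw [← Subgroup.index_eq_card, ← hn, ← N.card_mul_index]
    exact lt_mul_of_one_lt_left (Nat.pos_of_ne_zero N.index_ne_zero_of_finite)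
      (N.one_lt_card_iff_ne_bot.mpr hN1)
  have hoddq : Odd (Nat.card (G ⧸ N)) := hodd.of_dvd_nat (card_quotient_dvd_card N)
  have := IH _ hlt (G ⧸ N) rfl hoddq hquot
  exact hns (Group.isSolvable_of_ker_le_range N.subtype f
    (by rw [QuotientGroup.ker_mk', range_subtype]))

end Cfsg.Agent.OddLocal.CN
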