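import Cfsg.Agent.OddLocal.AlphaSigma
import Cfsg.Agent.Fusion.RankTwo
import Cfsg.Agent.HSub.Supersolvable

/-!
Primes outside `σ(M)` (BG 10.4, 10.5).
-/

set_option autoImplicit false
set_option linter.unusedSectionVars false
set_option linter.style.haveILetI false

namespace Cfsg.Agent.OddLocal

open Subgroup Cfsg

universe u

variable {G : Type u} [Group G] [Finite G] {p : ℕ} [hp : Fact p.Prime]

/-- For odd `p` a `p`-group of rank at most one is cyclic. -/
theorem isCyclic_of_pRankLE_one {K : Type u} [Group K] [Finite K] (hp2 : p ≠ 2) (hK : IsPGroup p K)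
    (hr : PRankLE p 1 K) : IsCyclic K := by
  by_contra h
  obtain ⟨A, -, hAe, hAc⟩ := Fusion.exists_normal_elementary_card_sq hp2 hK h
  have h1 := hr A hAe.1 hAe.2
  rw [hAc] at h1
  exact absurd h1 (not_le.mpr (Nat.pow_lt_pow_right hp.out.one_lt (by norm_num)))

/-- Groups of odd order and rank at most one are Z-groups. -/
theorem isZGroup_of_rankLE_one {K : Type u} [Group K] [Finite K] (hodd : Odd (Nat.card K))
    (hr : RankLE 1 K) : IsZGroup K := by
  refine ⟨fun q hq P => ?_⟩
  haveI := Fact.mk hq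
  by_cases hq2 : q = 2
  · subst hq2
    obtain ⟨n, hn⟩ := IsPGroup.iff_card.mp P.2
    rcases n with _ | n
    · haveI : Subsingleton (P : Subgroup K) := Finite.card_le_one_iff_subsingleton.mp (le_of_eq (by simpa using hn))
      infer_instance
    · exact absurd (((dvd_pow_self 2 n.succ_ne_zero).trans hn.symm.dvd).trans
        (Subgroup.card_subgroup_dvd_card _)) hodd.not_two_dvd_nat
  · exact isCyclic_of_pRankLE_one hq2 P.2
      (pRankLE_of_injective _ (P : Subgroup K).subtype_injective (hr q hq))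

theorem isElementaryAbelian_of_card_prime {X : Subgroup G} (hX : Nat.card X = p) :
    IsElementaryAbelian p X := by
  haveI := isCyclic_of_prime_card hX
  exact ⟨(inferInstance : IsMulCommutative X), fun a ha => by
    have h : (⟨a, ha⟩ : X) ^ Nat.card X = 1 := pow_card_eq_one'
    rw [hX] at h
    exact congrArg Subtype.val h⟩

variable (hG : IsMinSimpleOddOrder G) {M : Subgroup G} (hM : IsCoatom M)
include hG hM

theorem normalizer_eq_self_of_coatom (hM1 : M ≠ ⊥) : normalizer (M : Set G) = M :=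
  normalizer_eq_of_coatom hG hM hM1 hM.1 Subgroup.le_normalizer

theorem exists_not_mem_normalizer (hpM : p ∣ Nat.card M) (hσ : p ∉ sigma M) (P : Sylow p M) :
    ∃ n ∈ normalizer (((P : Subgroup M).map M.subtype : Subgroup G) : Set G), n ∉ M := by
  by_contra h
  push Not at h
  exact hσ ⟨hp.out, hpM, P, h⟩

omit hG in
theorem ne_top_of_not_dvd {X : Subgroup G} (hX : X ≤ M) : X ≠ ⊤ := fun h => hM.1 (top_le_iff.mp (h ▸ hX))

/-- BG 10.4. -/
theorem exists_not_unique_centralizer (hMα : alphaCore M ≠ ⊥) (hpM : p ∣ Nat.card M)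
    (hσ : p ∉ sigma M) (P : Sylow p M) :
    ∃ x : G, x ∈ omegaCenter p ((P : Subgroup M).map M.subtype) ∧ orderOf x = p ∧
      IsZGroup ↥(alphaCore M ⊓ centralizer ({x} : Set G)) ∧
      ¬ (centralizer ({x} : Set G) ≤ M ∧ ∀ L : Subgroup G, IsCoatom L →
        centralizer ({x} : Set G) ≤ L → L = M) := by
  set R := (P : Subgroup M).map M.subtype with hR
  have hRp : IsPGroup p R := P.2.map _
  have hRM : R ≤ M := map_subtype_le _
  have hM1 : M ≠ ⊥ := fun h => by rw [h, card_bot] at hpM; exact hp.out.ne_one (Nat.dvd_one.mp hpM)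
  haveI : Nontrivial R := by
    rw [nontrivial_iff_ne_bot, hR, ne_eq, map_eq_bot_iff_of_injective _ M.subtype_injective]
    exact P.ne_bot_of_dvd_card hpM
  obtain ⟨x₀, hx₀Z, hx₀⟩ : ∃ x : G, x ∈ omegaCenter p R ∧ orderOf x = p := by
    haveI := hRp.center_nontrivial
    obtain ⟨n, hn⟩ := IsPGroup.iff_card.mp (hRp.to_subgroup (center R))
    rcases n with _ | n
    · exact absurd (Subgroup.card_eq_one.mp (by simpa using hn)) ((nontrivial_iff_ne_bot _).mp inferInstance)
    obtain ⟨z, hz⟩ := exists_prime_orderOf_dvd_card' p (hn.symm ▸ dvd_pow_self p n.succ_ne_zero :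
      p ∣ Nat.card (center R))
    rw [← Subgroup.orderOf_coe, ← Subgroup.orderOf_coe] at hz
    exact ⟨_, mem_omegaCenter_iff.mpr ⟨(z : R).2, by rw [← hz, pow_orderOf_eq_one], fun v hv =>
      (congrArg Subtype.val (mem_center_iff.mp z.2 ⟨v, hv⟩)).symm⟩, hz⟩
  obtain ⟨x, hxZ, hx, hnu⟩ : ∃ x : G, x ∈ omegaCenter p R ∧ orderOf x = p ∧
      ¬ (centralizer ({x} : Set G) ≤ M ∧ ∀ L : Subgroup G, IsCoatom L →
        centralizer ({x} : Set G) ≤ L → L = M) := by
    by_contra hall
    push Not at hall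
    obtain ⟨n, hn, hnM⟩ := exists_not_mem_normalizer hG hM hpM hσ P
    set y := MulAut.conj n x₀ with hy
    have hyZ : y ∈ omegaCenter p R :=
      (mem_normalizer_iff.mp (normalizer_le_normalizer_omegaCenter hn) x₀).mp hx₀Z
    obtain ⟨h1, -⟩ := hall y hyZ (by rw [hy, MulEquiv.orderOf_eq, hx₀])
    obtain ⟨h0, hu⟩ := hall x₀ hx₀Z hx₀
    refine hnM ?_
    rw [← normalizer_eq_self_of_coatom hG hM hM1]
    have h2 : IsCoatom (M.map (MulAut.conj n⁻¹).toMonoidHom) :=
      (OrderIso.isCoatom_iff (MulEquiv.mapSubgroup (MulAut.conj n⁻¹)) M).mpr hM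
    have h3 := hu _ h2 fun c hc => by
      rw [mem_map_conj_iff, inv_inv]
      refine h1 (mem_centralizer_singleton_iff.mpr ?_)
      have hc' := mem_centralizer_singleton_iff.mp hc
      rw [hy, MulAut.conj_apply]
      calc n * c * n⁻¹ * (n * x₀ * n⁻¹) = n * (c * x₀) * n⁻¹ := by group
        _ = n * (x₀ * c) * n⁻¹ := by rw [hc']
        _ = n * x₀ * n⁻¹ * (n * c * n⁻¹) := by group
    simpa using inv_mem (mem_normalizer_of_map_conj h3)
  refine ⟨x, hxZ, hx, ?_, hnu⟩
  by_contra hz
  have hxR := omegaCenter_le hxZ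
  have hX : Nat.card (zpowers x) = p := by rw [Nat.card_zpowers, hx]
  have hU := inUniqueMaximal_of_alphaCore_centralizer hG hM (zpowers_le.mpr (hRM hxR))
    (fun q hq hd hqα => by
      rw [hX, Nat.prime_dvd_prime_iff_eq hq hp.out] at hd
      exact hσ (hd ▸ alpha_subset_sigma hG hM hqα))
    (fun h => hz (by
      rw [zpowers_eq_closure, centralizer_closure] at h
      exact isZGroup_of_rankLE_one (odd_card_subgroup hG _) h))
  rw [zpowers_eq_closure, centralizer_closure] at hU
  have hCtop : centralizer ({x} : Set G) ≠ ⊤ := fun h => by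
    have h1 : x ∈ center G := mem_center_iff.mpr fun g =>
      mem_centralizer_singleton_iff.mp (h.symm ▸ mem_top g)
    rw [center_eq_bot_of_minSimple hG, mem_bot] at h1
    rw [h1, orderOf_one] at hx
    exact hp.out.ne_one hx.symm
  exact hnu ⟨le_of_unique hU hM inf_le_left inf_le_right hCtop,
    fun L hL h => eq_of_unique hU hM inf_le_left hL (inf_le_right.trans h)⟩

/-- BG 10.5(a): for `p` outside `σ(M)`, elementary subgroups of order `p²` of `M` are maximal. -/
theorem elementary_maximal_of_not_sigma (hσ : p ∉ sigma M) {A B : Subgroup G} (hAM : A ≤ M)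
    (hA : IsElementaryAbelian p A) (hA2 : Nat.card A = p ^ 2) (hB : IsElementaryAbelian p B)
    (hAB : A ≤ B) : B = A := by
  by_contra hne
  obtain ⟨P, hAP⟩ :=
    ((Coprime.ea_isPGroup hA).comap_of_injective M.subtype M.subtype_injective).exists_le_sylow
  have hAne : A ≠ ⊥ := Coprime.ea_ne_bot two_ne_zero hA2.ge
  have hpM : p ∣ Nat.card M := ((dvd_pow_self p two_ne_zero).trans hA2.symm.dvd).trans (card_dvd_of_le hAM)
  obtain ⟨n, hn, hnM⟩ := exists_not_mem_normalizer hG hM hpM hσ P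
  set R := (P : Subgroup M).map M.subtype with hR
  have hAR : A ≤ R := by
    rw [← map_subgroupOf_eq_of_le hAM]
    exact map_mono hAP
  have hB3 : p ^ 3 ≤ Nat.card B := by
    obtain ⟨j, hj⟩ := IsPGroup.iff_card.mp (Coprime.ea_isPGroup hB)
    have h1 := Core.card_lt_of_lt (lt_of_le_of_ne hAB (Ne.symm hne))
    rw [hj, hA2] at h1
    rw [hj]
    exact Nat.pow_le_pow_right hp.out.pos ((Nat.pow_lt_pow_iff_right hp.out.one_lt).mp h1)
  have hU : InUniqueMaximal A := inUniqueMaximal_of_not_rankLE hG (ne_top_of_not_dvd hM hAM)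
    (fun h => not_rankLE_of_elementary (k := 1) le_rfl hA hA2.ge h)
    (Or.inr (not_rankLE_of_elementary ((Coprime.ea_le_centralizer hB).trans
      (centralizer_le (SetLike.coe_subset_coe.mpr hAB))) hB hB3))
  exact hnM (le_of_unique hU hM hAM (hAR.trans Subgroup.le_normalizer)
    (ne_top_of_normal_ne_bot hG (ne_bot_of_le_ne_bot hAne hAR)
      (ne_top_of_not_dvd hM (map_subtype_le _))) hn)

theorem exists_elementary_sq (hr2 : PRankLE p 2 M) (hr1 : ¬ PRankLE p 1 M) :
    ∃ A : Subgroup G, A ≤ M ∧ IsElementaryAbelian p A ∧ Nat.card A = p ^ 2 := by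
  obtain ⟨A, hAM, hAe, hA⟩ := exists_elementary_of_not_pRankLE hr1
  refine ⟨A, hAM, hAe, le_antisymm ?_ hA⟩
  by_contra h
  obtain ⟨j, hj⟩ := IsPGroup.iff_card.mp (Coprime.ea_isPGroup hAe)
  rw [hj, not_le, Nat.pow_lt_pow_iff_right hp.out.one_lt] at h
  exact not_pRankLE_of_elementary (k := 2) hAM hAe
    (hj ▸ Nat.pow_le_pow_right hp.out.pos h) hr2

/-- BG 10.5(b). -/
theorem not_isIdealPrime_of_not_sigma (hσ : p ∉ sigma M) (hr2 : PRankLE p 2 M)
    (hr1 : ¬ PRankLE p 1 M) : ¬ IsIdealPrime p G := by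
  rintro ⟨-, -, hid⟩
  obtain ⟨A, hAM, hAe, hA⟩ := exists_elementary_sq hG hM hr2 hr1
  obtain ⟨S, hS⟩ := (Coprime.ea_isPGroup hAe).exists_le_sylow
  obtain ⟨B, -, hBe, hlt⟩ := hid S A hS hAe hA
  exact hlt.ne' (elementary_maximal_of_not_sigma hG hM hσ hAM hAe hA hBe hlt.le)

/-- BG 10.5(c). -/
theorem rank_two_of_normalizer_le (hσ : p ∉ sigma M) {X : Subgroup G} (hX : Nat.card X = p)
    (hNX : normalizer (X : Set G) ≤ M) :
    (PRankLE p 2 M ∧ ¬ PRankLE p 1 M) ∧ ∃ A : Subgroup G,
      IsElementaryAbelian p A ∧ Nat.card A = p ^ 2 ∧ X ≤ A := by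
  have hXM : X ≤ M := Subgroup.le_normalizer.trans hNX
  have hr2 : PRankLE p 2 M := by
    by_contra h
    exact hσ (alpha_subset_sigma hG hM ⟨hp.out, h⟩)
  have hXe := isElementaryAbelian_of_card_prime hX
  have hXg := Coprime.ea_isPGroup hXe
  obtain ⟨P, hXP⟩ := (hXg.comap_of_injective M.subtype M.subtype_injective).exists_le_sylow
  have hpM : p ∣ Nat.card M := hX.symm.dvd.trans (card_dvd_of_le hXM)
  obtain ⟨n, hn, hnM⟩ := exists_not_mem_normalizer hG hM hpM hσ P
  set R := (P : Subgroup M).map M.subtype with hR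
  have hXR : X ≤ R := by
    rw [← map_subgroupOf_eq_of_le hXM]
    exact map_mono hXP
  have hRp : IsPGroup p R := P.2.map _
  have hp2 : p ≠ 2 := prime_ne_two_of_pGroup hG hXg fun h => by
    rw [h, card_bot] at hX; exact hp.out.ne_one hX.symm
  have hr1 : ¬ PRankLE p 1 M := fun h1 => by
    have hc : IsCyclic R := isCyclic_of_pRankLE_one hp2 hRp
      (pRankLE_of_injective (inclusion (map_subtype_le _)) (inclusion_injective _) h1)
    refine hnM (hNX (mem_normalizer_of_map_conj ?_))
    exact HSub.subgroup_eq_of_card_eq hc ((map_mono hXR).trans (map_conj_eq_self_of_mem hn).le) hXR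
      (card_map_conj X n)
  refine ⟨⟨hr2, hr1⟩, ?_⟩
  have hbound : ∀ A : Subgroup G, A ≤ M → IsElementaryAbelian p A → p < Nat.card A →
      Nat.card A = p ^ 2 := by
    intro A hAM hAe hA
    obtain ⟨j, hj⟩ := IsPGroup.iff_card.mp (Coprime.ea_isPGroup hAe)
    rw [hj] at hA ⊢
    rcases j with _ | _ | _ | j
    · exact absurd hA (by simp only [pow_zero, not_lt]; exact hp.out.one_le)
    · exact absurd hA (by simp)
    · rfl
    · exact absurd hr2 (not_pRankLE_of_elementary (k := 2) hAM hAe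
        (hj ▸ Nat.pow_le_pow_right hp.out.pos (by omega)))
  by_cases hle : omegaCenter p R ≤ X
  · exfalso
    have hne : omegaCenter p R ≠ ⊥ := by
      haveI : Nontrivial R := (nontrivial_iff_ne_bot R).mpr (ne_bot_of_le_ne_bot
        (fun h => by rw [h, card_bot] at hX; exact hp.out.ne_one hX.symm) hXR)
      haveI := hRp.center_nontrivial
      obtain ⟨k, hk⟩ := IsPGroup.iff_card.mp (hRp.to_subgroup (center R))
      rcases k with _ | k
      · exact absurd (Subgroup.card_eq_one.mp (by simpa using hk)) ((nontrivial_iff_ne_bot _).mp inferInstance)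
      obtain ⟨z, hz⟩ := exists_prime_orderOf_dvd_card' p (hk.symm ▸ dvd_pow_self p k.succ_ne_zero :
        p ∣ Nat.card (center R))
      rw [← Subgroup.orderOf_coe, ← Subgroup.orderOf_coe] at hz
      refine fun h => ?_
      have h1 : ((z : R) : G) ∈ omegaCenter p R := mem_omegaCenter_iff.mpr ⟨(z : R).2,
        by rw [← hz, pow_orderOf_eq_one], fun v hv =>
        (congrArg Subtype.val (mem_center_iff.mp z.2 ⟨v, hv⟩)).symm⟩
      rw [h, mem_bot] at h1
      rw [h1, orderOf_one] at hz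
      exact hp.out.ne_one hz.symm
    have he : omegaCenter p R = X := by
      obtain ⟨j, hj⟩ := IsPGroup.iff_card.mp (hXg.to_le hle)
      refine eq_of_le_of_card_ge hle ?_
      rw [hX, hj]
      exact Nat.le_self_pow (fun h0 => hne (Subgroup.card_eq_one.mp (by rw [hj, h0, pow_zero]))) p
    exact hnM (hNX (he ▸ normalizer_le_normalizer_omegaCenter hn))
  obtain ⟨z, hz, hzX⟩ := SetLike.not_le_iff_exists.mp hle
  obtain ⟨hzR, hzp, hzc⟩ := mem_omegaCenter_iff.mp hz
  have hA := isElementaryAbelian_sup_zpowers hXe hzp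
    (mem_centralizer_iff.mpr fun v hv => (hzc v (hXR hv)).symm)
  have hAM : X ⊔ zpowers z ≤ M := sup_le hXM (zpowers_le.mpr (map_subtype_le _ hzR))
  refine ⟨_, hA, hbound _ hAM hA ?_, le_sup_left⟩
  rw [← hX]
  exact Core.card_lt_of_lt (lt_of_le_of_ne le_sup_left fun h =>
    hzX (h.ge (mem_sup_right (mem_zpowers z))))

end Cfsg.Agent.OddLocal
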