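import Cfsg.Agent.Fusion.PGroup
import Cfsg.Agent.Core.Solvable
import Mathlib.GroupTheory.SpecificGroups.Cyclic

/-!
Actions on normal series whose factors have order dividing a prime.
-/

set_option autoImplicit false
set_option linter.unusedSectionVars false
set_option linter.style.haveILetI false

namespace Cfsg.Agent.OddLocal

open Subgroup
open scoped commutatorElement

universe u

variable {G : Type u} [Group G] [Finite G] {p : ℕ} [hp : Fact p.Prime]

/-- For a normal factor `L / N` of order dividing `p`, the derived subgroup and the `(p - 1)`-th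
powers act trivially on `L / N`. -/
theorem stab_of_relIndex_dvd {L N : Subgroup G} [hNn : N.Normal] [hLn : L.Normal]
    (hrel : N.relIndex L ∣ p) :
    ∃ K : Subgroup G, (∀ g : G, g ^ (p - 1) ∈ K) ∧ commutator G ≤ K ∧
      ∀ g ∈ K, ∀ l ∈ L, ⁅g, l⁆ ∈ N := by
  set π := QuotientGroup.mk' N with hπ
  haveI : (L.map π).Normal := hLn.map π (QuotientGroup.mk'_surjective _)
  set φ : G →* MulAut (L.map π) := (MulAut.conjNormal).comp π with hφ
  have hcard : Nat.card (L.map π) ∣ p := by
    rwa [← relIndex_ker, QuotientGroup.ker_mk']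
  haveI : IsCyclic (L.map π) := by
    rcases (Nat.dvd_prime hp.out).mp hcard with h | h
    · haveI := (Nat.card_eq_one_iff_unique.mp h).1
      exact ⟨⟨1, fun x => ⟨0, Subsingleton.elim _ _⟩⟩⟩
    · exact isCyclic_of_prime_card h
  set e := IsCyclic.mulAutMulEquiv (L.map π) with he
  refine ⟨φ.ker, fun g => ?_, ?_, fun g hg l hl => ?_⟩
  · rw [MonoidHom.mem_ker, map_pow]
    apply e.injective
    rw [map_pow, map_one]
    refine orderOf_dvd_iff_pow_eq_one.mp ((_root_.orderOf_dvd_natCard _).trans ?_)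
    rw [Nat.card_eq_fintype_card, ZMod.card_units_eq_totient]
    rcases (Nat.dvd_prime hp.out).mp hcard with h | h
    · rw [h, Nat.totient_one]
      exact one_dvd _
    · rw [h, Nat.totient_prime hp.out]
  · rw [_root_.commutator_def, commutator_le]
    intro a _ b _
    rw [MonoidHom.mem_ker, map_commutatorElement, commutatorElement_eq_one_iff_mul_comm]
    apply e.injective
    rw [map_mul, map_mul, mul_comm]
  · have h1 := congrArg Subtype.val
      (DFunLike.congr_fun (MonoidHom.mem_ker.mp hg) (⟨π l, mem_map_of_mem π hl⟩ : L.map π))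
    have h2 : π g * π l * (π g)⁻¹ = π l := by
      rw [hφ, MonoidHom.comp_apply, MulAut.conjNormal_apply] at h1
      exact h1
    refine (QuotientGroup.eq_one_iff _).mp ?_
    show π ⁅g, l⁆ = 1
    rw [map_commutatorElement, commutatorElement_def, h2, mul_inv_cancel]

/-- Elements of `p`-power order act trivially on normal factors of order dividing `p`. -/
theorem commutator_mem_of_pow_eq_one {L N : Subgroup G} [N.Normal] [L.Normal]
    (hrel : N.relIndex L ∣ p) {g : G} {k : ℕ} (hg : g ^ p ^ k = 1) {l : G} (hl : l ∈ L) :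
    ⁅g, l⁆ ∈ N := by
  obtain ⟨K, hK, -, hKs⟩ := stab_of_relIndex_dvd (L := L) (N := N) (p := p) hrel
  refine hKs g ?_ l hl
  have hcop : (orderOf g).Coprime (p - 1) := by
    refine (Nat.Coprime.pow_left k ?_).coprime_dvd_left (orderOf_dvd_of_pow_eq_one hg)
    refine (Nat.Prime.coprime_iff_not_dvd hp.out).mpr fun h => ?_
    have h2 := hp.out.two_le
    exact absurd (Nat.le_of_dvd (by omega) h) (by omega)
  obtain ⟨m, hm⟩ := exists_pow_eq_self_of_coprime hcop.symm
  rw [← hm]
  exact pow_mem (hK g) m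

/-- An element of `p'`-order centralising `N` and acting trivially on the `p`-group factor `L / N`
centralises `L`. -/
theorem mem_centralizer_of_stab {L N : Subgroup G} (hN : IsPGroup p N) {y : G}
    (hcop : (orderOf y).Coprime p) (hyN : y ∈ centralizer (N : Set G))
    (hst : ∀ l ∈ L, ⁅y, l⁆ ∈ N) : y ∈ centralizer (L : Set G) := by
  rw [mem_centralizer_iff]
  intro l hl
  set n := ⁅y, l⁆ with hn
  have hcn : Commute n y := mem_centralizer_iff.mp hyN n (hst l hl)
  have hstep : ∀ m : ℕ, y ^ m * l * (y ^ m)⁻¹ = n ^ m * l := by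
    intro m
    induction m with
    | zero => simp
    | succ m ih =>
      calc y ^ (m + 1) * l * (y ^ (m + 1))⁻¹ = y * (y ^ m * l * (y ^ m)⁻¹) * y⁻¹ := by
            rw [pow_succ', mul_inv_rev]; group
        _ = (y * n ^ m) * l * y⁻¹ := by rw [ih]; group
        _ = n ^ m * (y * l * y⁻¹) := by rw [← (hcn.pow_left m).eq]; group
        _ = n ^ m * (n * l) := by rw [hn, commutatorElement_def]; group
        _ = n ^ (m + 1) * l := by rw [pow_succ, mul_assoc]
  have h1 : n ^ orderOf y = 1 := by
    have := hstep (orderOf y)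
    rw [pow_orderOf_eq_one, one_mul, inv_one, mul_one] at this
    exact mul_eq_right.mp this.symm
  obtain ⟨k, hk⟩ := hN ⟨n, hst l hl⟩
  have hk' : n ^ p ^ k = 1 := congrArg Subtype.val hk
  have h2 : orderOf n = 1 := Nat.eq_one_of_dvd_coprimes (hcop.pow_right k)
    (orderOf_dvd_of_pow_eq_one h1) (orderOf_dvd_of_pow_eq_one hk')
  have h3 : y * l = l * y := commutatorElement_eq_one_iff_mul_comm.mp (orderOf_eq_one_iff.mp h2)
  exact h3.symm

/-- Counting commutators with a fixed element: if `[L, s] ⊆ N` then `|L| ≤ |C_L(s)| |N|`. -/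
theorem card_le_of_commutator_mem {L N : Subgroup G} {s : G} (hN : ∀ k ∈ L, ⁅k, s⁆ ∈ N) :
    Nat.card L ≤ Nat.card (L ⊓ centralizer {s} : Subgroup G) * Nat.card N := by
  set Cs := (centralizer ({s} : Set G)).subgroupOf L with hCs
  have hkey : ∀ a b : L, (QuotientGroup.mk a : L ⧸ Cs) = QuotientGroup.mk b ↔
      ⁅(a : G), s⁆ = ⁅(b : G), s⁆ := by
    intro a b
    rw [QuotientGroup.eq, hCs, mem_subgroupOf, mem_centralizer_singleton_iff, commutatorElement_def,
      commutatorElement_def, mul_left_inj, Subgroup.coe_mul, Subgroup.coe_inv]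
    constructor
    · intro h
      calc (a : G) * s * (a : G)⁻¹ = (a : G) * (s * ((a : G)⁻¹ * b)) * (b : G)⁻¹ := by group
        _ = (a : G) * (((a : G)⁻¹ * b) * s) * (b : G)⁻¹ := by rw [h]
        _ = (b : G) * s * (b : G)⁻¹ := by group
    · intro h
      calc (a : G)⁻¹ * b * s = (a : G)⁻¹ * ((b : G) * s * (b : G)⁻¹) * b := by group
        _ = (a : G)⁻¹ * ((a : G) * s * (a : G)⁻¹) * b := by rw [h]
        _ = s * ((a : G)⁻¹ * b) := by group
  let f : L ⧸ Cs → N := Quotient.lift (fun a => ⟨⁅(a : G), s⁆, hN a a.2⟩)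
    (fun a b h => Subtype.ext ((hkey a b).mp (Quotient.sound h)))
  have hf : Function.Injective f := by
    intro a b h
    obtain ⟨a, rfl⟩ := QuotientGroup.mk_surjective a
    obtain ⟨b, rfl⟩ := QuotientGroup.mk_surjective b
    exact (hkey a b).mpr (congrArg Subtype.val h)
  have h1 := Nat.card_le_card_of_injective f hf
  rw [← Subgroup.index_eq_card] at h1
  have h2 : Nat.card Cs = Nat.card (L ⊓ centralizer {s} : Subgroup G) := by
    rw [hCs, ← inf_subgroupOf_left]
    exact Nat.card_congr (subgroupOfEquivOfLe inf_le_left).toEquiv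
  rw [← Cs.card_mul_index, h2]
  exact Nat.mul_le_mul le_rfl h1

/-- The relative index form of the count, for a `p`-group. -/
theorem relIndex_dvd_of_commutator_mem (hG : IsPGroup p G) {L N : Subgroup G} (hNL : N ≤ L) {s : G}
    (hs : Nat.card (L ⊓ centralizer {s} : Subgroup G) ≤ p) (hN : ∀ k ∈ L, ⁅k, s⁆ ∈ N) :
    N.relIndex L ∣ p := by
  obtain ⟨j, hj⟩ : ∃ j, N.relIndex L = p ^ j := IsPGroup.index (hG.to_subgroup L) (N.subgroupOf L)
  have h1 := card_le_of_commutator_mem hN
  have h2 : Nat.card N * N.relIndex L = Nat.card L := by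
    have h3 := relIndex_mul_relIndex ⊥ N L bot_le hNL
    rwa [relIndex_bot_left, relIndex_bot_left] at h3
  have h4 : N.relIndex L ≤ p := by
    refine Nat.le_of_mul_le_mul_left ?_ (Nat.card_pos (α := N))
    rw [h2, mul_comm (Nat.card N) p]
    exact h1.trans (Nat.mul_le_mul hs le_rfl)
  rw [hj] at h4 ⊢
  have h5 : j ≤ 1 := (Nat.pow_le_pow_iff_right hp.out.one_lt).mp (by rwa [pow_one])
  exact (pow_dvd_pow p h5).trans (pow_one p).dvd

end Cfsg.Agent.OddLocal
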