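import Mathlib
import Cfsg.Agent.OddLocal.SmallAction

/-!
An automorphism of order prime to `p` of an elementary abelian group of order `p ^ 2`: either its
`(p - 1)`st power is trivial or its `(p + 1)`st power is a scalar.
-/

set_option autoImplicit false
set_option linter.style.haveILetI false

namespace Cfsg.Agent.OddLocal

universe u

variable {p : ℕ} [hp : Fact p.Prime]

local notation "M₂" => Matrix (Fin 2) (Fin 2) (ZMod p)

theorem mat_two_sq (A : M₂) :
    A * A = (A 0 0 + A 1 1) • A - (A 0 0 * A 1 1 - A 0 1 * A 1 0) • (1 : M₂) := by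
  ext i j
  fin_cases i <;> fin_cases j <;>
    simp [Matrix.mul_apply, Fin.sum_univ_two] <;> ring

theorem mat_two_pow (A : M₂) (n : ℕ) :
    ∃ a b : ZMod p, A ^ n = a • (1 : M₂) + b • A := by
  induction n with
  | zero => exact ⟨1, 0, by simp⟩
  | succ n ih =>
    obtain ⟨a, b, h⟩ := ih
    refine ⟨-(b * (A 0 0 * A 1 1 - A 0 1 * A 1 0)), a + b * (A 0 0 + A 1 1), ?_⟩
    rw [pow_succ, h, add_mul, smul_mul_assoc, one_mul, smul_mul_assoc, mat_two_sq, smul_sub,
      smul_smul, smul_smul, add_smul, neg_smul]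
    abel

theorem mat_two_pow_char (A : M₂) :
    A ^ p * A ^ p = (A 0 0 + A 1 1) • A ^ p - (A 0 0 * A 1 1 - A 0 1 * A 1 0) • (1 : M₂) := by
  haveI : CharP M₂ p := inferInstance
  rw [← (Commute.refl A).mul_pow, mat_two_sq,
    sub_pow_char_of_commute _ (((Commute.one_right A).smul_right _).smul_left _),
    smul_pow, smul_pow, one_pow, ZMod.pow_card, ZMod.pow_card]

theorem mat_two_order (A : M₂) {n : ℕ} (hn : n.Coprime p) (hA : A ^ n = 1) (hn0 : n ≠ 0) :
    A ^ (p - 1) = 1 ∨ ∃ d : ZMod p, A ^ (p + 1) = d • (1 : M₂) := by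
  set τ := A 0 0 + A 1 1 with hτ
  set d := A 0 0 * A 1 1 - A 0 1 * A 1 0 with hd
  have h1 : A * A = τ • A - d • (1 : M₂) := mat_two_sq A
  have h2 : A ^ p * A ^ p = τ • A ^ p - d • (1 : M₂) := mat_two_pow_char A
  have hp1 : p - 1 + 1 = p := Nat.succ_pred_eq_of_pos hp.out.pos
  have hunit : A * A ^ (n - 1) = 1 ∧ A ^ (n - 1) * A = 1 := by
    rw [← pow_succ', ← pow_succ, Nat.sub_add_cancel (Nat.one_le_iff_ne_zero.mpr hn0)]
    exact ⟨hA, hA⟩
  have hfix : A ^ p = A → A ^ (p - 1) = 1 := fun h => by
    calc A ^ (p - 1) = A ^ (p - 1) * (A * A ^ (n - 1)) := by rw [hunit.1, mul_one]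
      _ = A ^ p * A ^ (n - 1) := by rw [← mul_assoc, ← pow_succ, hp1]
      _ = 1 := by rw [h, hunit.1]
  by_cases hroot : ∃ c : ZMod p, c * c - τ * c + d = 0
  · left
    obtain ⟨c, hc⟩ := hroot
    set N := A - c • (1 : M₂) with hN
    have hNN : N * N = (τ - 2 * c) • N := by
      rw [hN, mul_sub, sub_mul, sub_mul, h1]
      simp only [smul_mul_assoc, mul_smul_comm, one_mul, mul_one, smul_smul, smul_sub]
      rw [show d = τ * c - c * c by linear_combination hc]
      module
    have hpow : ∀ k : ℕ, N ^ (k + 1) = (τ - 2 * c) ^ k • N := by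
      intro k
      induction k with
      | zero => simp
      | succ k ih => rw [pow_succ, ih, smul_mul_assoc, hNN, smul_smul, ← pow_succ]
    have hNp : N ^ p = A ^ p - c • (1 : M₂) := by
      rw [hN, sub_pow_char_of_commute _ ((Commute.one_right A).smul_right _), smul_pow, one_pow,
        ZMod.pow_card]
    have hkey : A ^ p - c • (1 : M₂) = (τ - 2 * c) ^ (p - 1) • N := by
      rw [← hNp, ← hpow, hp1]
    by_cases he : τ - 2 * c = 0
    · rw [he, zero_pow (Nat.sub_ne_zero_of_lt hp.out.one_lt), zero_smul, sub_eq_zero] at hkey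
      -- `A ^ p = c`
      have hc0 : c ≠ 0 := by
        intro h
        rw [h, zero_smul] at hkey
        have h3 : (A * A ^ (n - 1)) ^ p = (0 : M₂) := by
          rw [(Commute.pow_right (Commute.refl A) _).mul_pow, hkey, zero_mul]
        rw [hunit.1, one_pow] at h3
        exact one_ne_zero h3
      have h4 : (A ^ (p - 1)) ^ p = 1 := by
        rw [← pow_mul, mul_comm, pow_mul, hkey, smul_pow, one_pow, ZMod.pow_card_sub_one_eq_one hc0,
          one_smul]
      have h5 : (A ^ (p - 1)) ^ n = 1 := by rw [← pow_mul, mul_comm, pow_mul, hA, one_pow]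
      have := pow_gcd_eq_one.mpr ⟨h5, h4⟩
      rwa [hn, pow_one] at this
    · rw [ZMod.pow_card_sub_one_eq_one he, one_smul, hN, sub_left_inj] at hkey
      exact hfix hkey
  · obtain ⟨a, b, hab⟩ := mat_two_pow A p
    have hzero : (A ^ p - A) * (A ^ p + A - τ • (1 : M₂)) = 0 := by
      have hc : A ^ p * A = A * A ^ p := (Commute.pow_self A p).eq
      rw [sub_mul, mul_sub, mul_sub, mul_add, mul_add, h2, h1, mul_smul_comm, mul_smul_comm,
        mul_one, mul_one, hc]
      abel
    by_cases hab0 : a = 0 ∧ b = 1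
    · left
      refine hfix ?_
      rw [hab, hab0.1, hab0.2, zero_smul, one_smul, zero_add]
    · right
      refine ⟨d, ?_⟩
      set b' := b - 1 with hb'
      have hX : A ^ p - A = a • (1 : M₂) + b' • A := by
        rw [hab, hb', sub_smul, one_smul]
        abel
      set N₀ := a * a + a * b' * τ + b' * b' * d with hN₀
      have hinv : ((a + b' * τ) • (1 : M₂) - b' • A) * (a • (1 : M₂) + b' • A) = N₀ • (1 : M₂) := by
        simp only [sub_mul, mul_add, smul_mul_assoc, mul_smul_comm, one_mul, mul_one, smul_smul]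
        rw [h1, hN₀]
        simp only [smul_sub, smul_smul]
        module
      have hN1 : N₀ ≠ 0 := by
        intro h
        by_cases hb : b' = 0
        · rw [hN₀, hb] at h
          simp only [mul_zero, zero_mul, add_zero] at h
          exact hab0 ⟨mul_self_eq_zero.mp h, sub_eq_zero.mp hb⟩
        · refine hroot ⟨-(a / b'), ?_⟩
          have h' : (a * a + a * b' * τ + b' * b' * d) / (b' * b') = 0 := by
            rw [← hN₀, h, zero_div]
          rw [← h']
          field_simp
          ring
      have h3 : A ^ p + A - τ • (1 : M₂) = 0 := by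
        have h4 := congrArg (fun Y => ((a + b' * τ) • (1 : M₂) - b' • A) * Y) hzero
        simp only [mul_zero, ← mul_assoc] at h4
        rw [hX, hinv, smul_mul_assoc, one_mul] at h4
        exact (smul_eq_zero.mp h4).resolve_left hN1
      have h6 : A ^ p = τ • (1 : M₂) - A := by
        rw [← sub_eq_zero, ← h3]
        abel
      rw [pow_succ, h6, sub_mul, smul_mul_assoc, one_mul, h1]
      abel

theorem linAut_two_order {W : Type u} [CommGroup W] [Finite W] [Module (ZMod p) (Additive W)]
    (hW : Nat.card W = p ^ 2) (φ : MulAut W) (hcop : (orderOf φ).Coprime p) :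
    φ ^ (p - 1) = 1 ∨ ∃ i : ℕ, ∀ w : W, (φ ^ (p + 1)) w = w ^ i := by
  haveI : Finite (Additive W) := ‹Finite W›
  haveI : Module.Finite (ZMod p) (Additive W) := Module.Finite.of_finite
  have hdim : Module.finrank (ZMod p) (Additive W) = 2 := by
    have h : Nat.card (Additive W) = Nat.card (ZMod p) ^ Module.finrank (ZMod p) (Additive W) :=
      Module.natCard_eq_pow_finrank
    rw [Nat.card_zmod, show Nat.card (Additive W) = p ^ 2 from hW] at h
    exact (Nat.pow_right_injective hp.out.two_le h).symm
  let b : Module.Basis (Fin 2) (ZMod p) (Additive W) := Module.finBasisOfFinrankEq _ _ hdim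
  let lin : MulAut W →* Module.End (ZMod p) (Additive W) := FittingPQ.linAut
  let g : MulAut W →* M₂ :=
    ((LinearMap.toMatrixAlgEquiv b).toRingEquiv.toMonoidHom).comp lin
  have hg : Function.Injective g := fun x y h => by
    have h1 : lin x = lin y := (LinearMap.toMatrixAlgEquiv b).injective h
    exact MulEquiv.ext fun w => congrArg Additive.toMul (LinearMap.congr_fun h1 (Additive.ofMul w))
  have hn : g φ ^ orderOf φ = 1 := by rw [← map_pow, pow_orderOf_eq_one, map_one]
  rcases mat_two_order (g φ) hcop hn (orderOf_pos φ).ne' with h | ⟨d, h⟩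
  · exact Or.inl (hg (by rw [map_pow, h, map_one]))
  · refine Or.inr ⟨d.val, fun w => ?_⟩
    have h1 : lin (φ ^ (p + 1)) = d • (1 : Module.End (ZMod p) (Additive W)) := by
      refine (LinearMap.toMatrixAlgEquiv b).injective ?_
      rw [map_smul, map_one]
      rw [← map_pow] at h
      exact h
    have h2 := congrArg Additive.toMul (LinearMap.congr_fun h1 (Additive.ofMul w))
    rw [LinearMap.smul_apply] at h2
    have h3 : d • Additive.ofMul w = d.val • Additive.ofMul w := by
      conv_lhs => rw [← ZMod.natCast_zmod_val d]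
      rw [Nat.cast_smul_eq_nsmul]
    exact h2.trans (congrArg Additive.toMul h3)

/-- An automorphism of order prime to `p` of an elementary abelian group of order `p ^ 2`. -/
theorem mulAut_two_order {W : Type u} [CommGroup W] [Finite W] (hexp : ∀ x : W, x ^ p = 1)
    (hW : Nat.card W = p ^ 2) (φ : MulAut W) (hcop : (orderOf φ).Coprime p) :
    φ ^ (p - 1) = 1 ∨ ∃ i : ℕ, ∀ w : W, (φ ^ (p + 1)) w = w ^ i :=
  @linAut_two_order p hp W _ _ (AddCommGroup.zmodModule fun x => hexp (Additive.toMul x)) hW φ hcop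

end Cfsg.Agent.OddLocal
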