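import Cfsg.Agent.OddLocal.RankTwoFitting
import Cfsg.Agent.Coprime.Action

/-!
S1456: a normal `p`-subgroup in which some elementary abelian subgroup has centraliser of rank at
most two.
-/

set_option autoImplicit false
set_option linter.unusedSectionVars false
set_option linter.style.haveILetI false

namespace Cfsg.Agent.OddLocal

open Subgroup Cfsg
open scoped commutatorElement

universe u

variable {G : Type u} [Group G] [Finite G] {p : ℕ} [hp : Fact p.Prime]

/-- `[N, R] < N` for a nontrivial subgroup of a nilpotent group normalised by it. -/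
theorem commutator_lt_of_isNilpotent {N R : Subgroup G} [Group.IsNilpotent R] (hNR : N ≤ R)
    (hN : N ≠ ⊥) (hle : ⁅N, R⁆ ≤ N) : ⁅N, R⁆ < N := by
  refine lt_of_le_of_ne hle fun heq => hN ?_
  have h : ∀ k : ℕ, N ≤ R.lowerCentralSeries k := by
    intro k
    induction k with
    | zero => exact hNR
    | succ k ih =>
      rw [← heq, Subgroup.lowerCentralSeries_succ]
      exact commutator_mono ih le_rfl
  obtain ⟨k, hk⟩ := (Subgroup.isNilpotent_iff_lowerCentralSeries R).mp inferInstance
  exact le_bot_iff.mp (hk ▸ h k)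

/-- `y ∈ G'` of order prime to `p` centralises a normal exponent `p` subgroup of `R` on which some
`u ∈ R` has at most `p ^ 2` fixed points. -/
theorem mem_centralizer_of_small_fixed [Group.IsSolvable G] (hodd : Odd (Nat.card G)) (hp2 : p ≠ 2)
    {R : Subgroup G} [R.Normal] (hR : IsPGroup p R) {u : G} (hu : u ∈ R) {y : G}
    (hy : y ∈ commutator G) (hcop : (orderOf y).Coprime p) {N : Subgroup G} [hNn : N.Normal]
    (hNR : N ≤ R) (hexp : ∀ x ∈ N, x ^ p = 1)
    (hfix : Nat.card (N ⊓ centralizer {u} : Subgroup G) ≤ p ^ 2) :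
    y ∈ centralizer (N : Set G) := by
  suffices h : ∀ m : ℕ, ∀ (N : Subgroup G), N.Normal → Nat.card N = m → N ≤ R →
      (∀ x ∈ N, x ^ p = 1) → Nat.card (N ⊓ centralizer {u} : Subgroup G) ≤ p ^ 2 →
      y ∈ centralizer (N : Set G) from h _ N hNn rfl hNR hexp hfix
  clear hNn hNR hexp hfix N
  intro m
  induction m using Nat.strong_induction_on with
  | _ m ih =>
  intro N hNn hm hNR hexp hfix
  haveI := hR.isNilpotent
  by_cases hb : N = ⊥
  · rw [mem_centralizer_iff]
    intro x hx
    rw [hb, SetLike.mem_coe, mem_bot] at hx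
    rw [hx, one_mul, mul_one]
  set N' := ⁅N, R⁆ with hN'
  have hN'n : N'.Normal := commutator_normal N R
  have hlt : N' < N := commutator_lt_of_isNilpotent hNR hb (commutator_le_left N R)
  have hN'N := hlt.le
  have hyN' : y ∈ centralizer (N' : Set G) :=
    ih _ (hm ▸ Core.card_lt_of_lt hlt) N' hN'n rfl (hN'N.trans hNR)
      (fun x hx => hexp x (hN'N hx))
      ((Nat.le_of_dvd Nat.card_pos (card_dvd_of_le (inf_le_inf_right _ hN'N))).trans hfix)
  -- `|N| ≤ p ^ 2 |N'|`
  have hcard : Nat.card N ≤ p ^ 2 * Nat.card N' := by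
    set Cu := (centralizer ({u} : Set G)).subgroupOf N with hCu
    have hkey : ∀ a b : N, (QuotientGroup.mk a : N ⧸ Cu) = QuotientGroup.mk b ↔
        (a : G) * u * (a : G)⁻¹ * u⁻¹ = (b : G) * u * (b : G)⁻¹ * u⁻¹ := by
      intro a b
      rw [QuotientGroup.eq, hCu, mem_subgroupOf, mem_centralizer_singleton_iff, mul_left_inj,
        Subgroup.coe_mul, Subgroup.coe_inv]
      constructor
      · intro h
        calc (a : G) * u * (a : G)⁻¹ = (a : G) * (u * ((a : G)⁻¹ * b)) * (b : G)⁻¹ := by group
          _ = (a : G) * (((a : G)⁻¹ * b) * u) * (b : G)⁻¹ := by rw [h]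
          _ = (b : G) * u * (b : G)⁻¹ := by group
      · intro h
        calc (a : G)⁻¹ * b * u = (a : G)⁻¹ * ((b : G) * u * (b : G)⁻¹) * b := by group
          _ = (a : G)⁻¹ * ((a : G) * u * (a : G)⁻¹) * b := by rw [h]
          _ = u * ((a : G)⁻¹ * b) := by group
    let f : N ⧸ Cu → N' := Quotient.lift
      (fun a => ⟨(a : G) * u * (a : G)⁻¹ * u⁻¹, by
        rw [← commutatorElement_def]; exact commutator_mem_commutator a.2 hu⟩)
      (fun a b h => Subtype.ext ((hkey a b).mp (Quotient.sound h)))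
    have hf : Function.Injective f := by
      intro a b h
      obtain ⟨a, rfl⟩ := QuotientGroup.mk_surjective a
      obtain ⟨b, rfl⟩ := QuotientGroup.mk_surjective b
      exact (hkey a b).mpr (congrArg Subtype.val h)
    have h1 := Nat.card_le_card_of_injective f hf
    rw [← Subgroup.index_eq_card] at h1
    rw [← Cu.card_mul_index]
    refine Nat.mul_le_mul ?_ h1
    rw [hCu, ← inf_subgroupOf_right, inf_comm, Coprime.card_subgroupOf inf_le_left]
    exact hfix
  -- the quotient is small
  set π := QuotientGroup.mk' N'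
  haveI : (N.map π).Normal := hNn.map π (QuotientGroup.mk'_surjective _)
  haveI : Group.IsSolvable (G ⧸ N') := inferInstance
  obtain ⟨n, hn⟩ := IsPGroup.iff_card.mp ((hR.to_le hNR).map π)
  have hn2 : n ≤ 2 := by
    have h1 : Nat.card (N.map π) * Nat.card N' = Nat.card N := by
      have h2 := relIndex_mul_relIndex ⊥ N' N bot_le hN'N
      rw [relIndex_bot_left, relIndex_bot_left] at h2
      rw [← h2, mul_comm, ← relIndex_ker, QuotientGroup.ker_mk']
    rw [← h1, hn] at hcard
    exact (Nat.pow_le_pow_iff_right hp.out.one_lt).mp (Nat.le_of_mul_le_mul_right hcard Nat.card_pos)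
  have hfr : frattini (N.map π) = ⊥ := by
    refine le_bot_iff.mp (Fusion.frattini_le_of_elementary (p := p) _ ?_ fun x => ?_)
    · rw [_root_.commutator_def, commutator_le]
      rintro ⟨_, a, ha, rfl⟩ _ ⟨_, b, hb, rfl⟩ _
      rw [mem_bot]
      refine Subtype.ext ?_
      show ⁅π a, π b⁆ = 1
      rw [← map_commutatorElement]
      exact (QuotientGroup.eq_one_iff _).mpr (commutator_mem_commutator ha (hNR hb))
    · rw [mem_bot]
      obtain ⟨_, a, ha, rfl⟩ := x
      refine Subtype.ext ?_
      show π a ^ p = 1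
      rw [← map_pow, hexp a ha, map_one]
  have hyq : π y ∈ centralizer ((N.map π : Subgroup (G ⧸ N')) : Set (G ⧸ N')) := by
    refine mem_centralizer_of_mem_commutator (hodd.of_dvd_nat (Subgroup.card_quotient_dvd_card N'))
      hp2 hn (s := n) (by rw [hfr, index_bot, hn]) hn2 ?_ ?_
    · have h1 : (commutator G).map π ≤ commutator (G ⧸ N') := by
        rw [_root_.commutator_def, map_commutator, _root_.commutator_def]
        exact commutator_mono le_top le_top
      exact h1 (mem_map_of_mem _ hy)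
    · exact hcop.coprime_dvd_left (orderOf_map_dvd π y)
  -- coprime action
  have hcy : (Nat.card (zpowers y)).Coprime (Nat.card N') := by
    obtain ⟨k, hk⟩ := IsPGroup.iff_card.mp (hR.to_le (hN'N.trans hNR))
    rw [Nat.card_zpowers, hk]
    exact hcop.pow_right k
  haveI : Group.IsSolvable (zpowers y) := inferInstance
  have hmap := Coprime.map_inf_centralizer π (A := zpowers y) (K := N) le_normalizer_of_normal
    (by rw [QuotientGroup.ker_mk']; exact hN'N) (by rw [QuotientGroup.ker_mk']; exact hcy) (Or.inl inferInstance)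
  intro x hx
  have hxm : π x ∈ N.map π ⊓ centralizer (((zpowers y).map π : Subgroup (G ⧸ N')) : Set (G ⧸ N')) := by
    refine ⟨mem_map_of_mem _ hx, ?_⟩
    rintro _ ⟨_, ⟨i, rfl⟩, rfl⟩
    rw [map_zpow]
    exact ((show Commute (π x) (π y) from
      mem_centralizer_iff.mp hyq (π x) (mem_map_of_mem _ hx)).zpow_right i).eq.symm
  rw [← hmap] at hxm
  obtain ⟨x', ⟨hx'N, hx'y⟩, hxx⟩ := hxm
  have h3 : x'⁻¹ * x ∈ N' := QuotientGroup.eq.mp hxx
  have h4 : x' * y = y * x' := (mem_centralizer_iff.mp hx'y y (mem_zpowers y)).symm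
  have h5 : (x'⁻¹ * x) * y = y * (x'⁻¹ * x) := mem_centralizer_iff.mp hyN' _ h3
  calc x * y = x' * ((x'⁻¹ * x) * y) := by group
    _ = x' * (y * (x'⁻¹ * x)) := by rw [h5]
    _ = (x' * y) * (x'⁻¹ * x) := by group
    _ = y * x := by rw [h4]; group

/-- S1456. -/
theorem commutator_le_fitting_of_centralizer_rank [Group.IsSolvable G] (hodd : Odd (Nat.card G))
    {E : Subgroup G} (hE : E ≤ fittingSubgroup G) (hEe : IsElementaryAbelian p E)
    (hr : RankLE 2 ↥(fittingSubgroup G ⊓ centralizer (E : Set G))) :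
    commutator G ≤ fittingSubgroup G := by
  refine commutator_le_fitting_of_centralizes fun r hrp y hy hcop => ?_
  haveI := Fact.mk hrp
  set R := pCore r G with hR
  have hRF : R ≤ fittingSubgroup G := Core.pCore_le_fittingSubgroup r
  haveI hRn : R.Normal := Core.pCore_normal
  have hRp : IsPGroup r R := Core.pCore_isPGroup
  by_cases hRE : R ≤ centralizer (E : Set G)
  · exact mem_centralizer_pCore_of_rank_le_two hodd
      (pRankLE_of_injective (inclusion (le_inf hRF hRE)) (inclusion_injective _) (hr r hrp)) hy hcop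
  -- so `E` lies in `R` and `r = p`
  obtain ⟨u, hu, hune⟩ : ∃ u ∈ E, ¬ R ≤ centralizer {u} := by
    by_contra h
    push Not at h
    exact hRE fun x hx => mem_centralizer_iff.mpr fun e he =>
      (mem_centralizer_singleton_iff.mp (h e he hx)).symm
  have hrpeq : r = p := by
    by_contra hne
    obtain ⟨x, hx, hxu⟩ := SetLike.not_le_iff_exists.mp hune
    obtain ⟨k, hk⟩ := hRp ⟨x, hx⟩
    refine hxu (mem_centralizer_singleton_iff.mpr (commute_of_mem Core.fittingSubgroup_isNilpotent
      (hRF hx) (hE hu) ?_).eq)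
    refine Nat.Coprime.coprime_dvd_left
      (orderOf_dvd_of_pow_eq_one (congrArg Subtype.val hk : x ^ r ^ k = 1)) ?_
    exact Nat.Coprime.coprime_dvd_right (orderOf_dvd_of_pow_eq_one (hEe.2 u hu))
      (((Nat.coprime_primes hrp hp.out).mpr hne).pow_left k)
  subst hrpeq
  have hER : E ≤ R := by
    haveI : (rPart r (fittingSubgroup G)).Normal := by
      rw [← normalizer_eq_top_iff, eq_top_iff]
      exact le_normalizer_rPart le_normalizer_of_normal
    exact (le_rPart_of_isPGroup Core.fittingSubgroup_isNilpotent hE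
      (Coprime.ea_isPGroup hEe)).trans (Core.le_pCore isPGroup_rPart)
  have hRne : R ≠ ⊥ := fun h => hune (h ▸ bot_le)
  have hp2 : r ≠ 2 := by
    intro h
    obtain ⟨k, hk⟩ := IsPGroup.iff_card.mp hRp
    have hk0 : k ≠ 0 := fun h0 => hRne (Subgroup.card_eq_one.mp (by rw [hk, h0, pow_zero]))
    have := hodd.of_dvd_nat ((dvd_pow_self r hk0).trans (hk ▸ Subgroup.card_subgroup_dvd_card _))
    rw [h] at this
    exact absurd this (by decide)
  -- a central element of order `r`
  haveI : Group.IsNilpotent R := hRp.isNilpotent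
  haveI : Nontrivial R := (nontrivial_iff_ne_bot R).mpr hRne
  haveI : Nontrivial (center R) := hRp.center_nontrivial
  obtain ⟨z₀, hz₀⟩ := exists_prime_orderOf_dvd_card' r (show r ∣ Nat.card (center R) by
    obtain ⟨k, hk⟩ := IsPGroup.iff_card.mp (hRp.to_subgroup (center R))
    refine hk ▸ dvd_pow_self r fun h0 => ?_
    have := Finite.one_lt_card (α := center R)
    rw [hk, h0, pow_zero] at this
    exact lt_irrefl _ this)
  set z : G := ((z₀ : R) : G) with hzdef
  have hzR : z ∈ R := (z₀ : R).2
  have hzo : orderOf z = r := by rw [hzdef, orderOf_coe, orderOf_coe, hz₀]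
  have hzc : ∀ x ∈ R, x * z = z * x := fun x hx =>
    congrArg Subtype.val (mem_center_iff.mp z₀.2 ⟨x, hx⟩)
  have huR : u ∈ R := hER hu
  -- elements of order `r` of `C_R(u)` lie in `⟨z, u⟩`
  set E₀ := E ⊔ zpowers z with hE₀
  have hE₀c : IsMulCommutative E₀ := Fusion.isMulCommutative_sup_of_le_centralizer hEe.1 inferInstance
    (by
      intro e he
      rw [zpowers_eq_closure, centralizer_closure, mem_centralizer_singleton_iff]
      exact hzc e (hER he))
  have hE₀p : ∀ x ∈ E₀, x ^ r = 1 := by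
    intro x hx
    obtain ⟨e, he, w, hw, rfl⟩ := (Coprime.mem_sup_of_le_normalizer (by
      rw [zpowers_le]
      exact centralizer_le_normalizer _ (mem_centralizer_iff.mpr fun e he => hzc e (hER he)))).mp hx
    obtain ⟨i, rfl⟩ := mem_zpowers_iff.mp hw
    rw [(((show Commute e z from hzc e (hER he))).zpow_right i).mul_pow, hEe.2 e he, one_mul,
      ← zpow_natCast, ← zpow_mul, mul_comm, zpow_mul, zpow_natCast, ← hzo, pow_orderOf_eq_one,
      one_zpow]
  have hE₀R : E₀ ≤ R := sup_le hER (zpowers_le.mpr hzR)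
  set Z := zpowers z ⊔ zpowers u with hZ
  have hzu : z ∈ Z := mem_sup_left (mem_zpowers _)
  have hsub : ∀ T : Subgroup G, IsElementaryAbelian r T → E ≤ T → T ≤ R → Nat.card T ≤ r ^ 2 := by
    intro T hTe hET hTR
    have hTc : T ≤ fittingSubgroup G ⊓ centralizer (E : Set G) := le_inf (hTR.trans hRF)
      ((le_centralizer_iff_isMulCommutative.mpr hTe.1).trans (centralizer_le hET))
    have h1 := hr r hrp (T.subgroupOf _)
      ⟨⟨fun a b => Subtype.ext (Subtype.ext (Coprime.ea_comm hTe a.2 b.2))⟩⟩
      (fun a ha => Subtype.ext (by simpa using hTe.2 (a : G) ha))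
    rwa [Coprime.card_subgroupOf hTc] at h1
  have hE₀card : Nat.card E₀ ≤ r ^ 2 := hsub E₀ ⟨hE₀c, hE₀p⟩ le_sup_left hE₀R
  -- `⟨z, u⟩ = E₀`
  have hZE₀ : Z ≤ E₀ := sup_le le_sup_right ((zpowers_le.mpr hu).trans le_sup_left)
  have hZeq : Z = E₀ := by
    refine Subgroup.eq_of_le_of_card_ge hZE₀ (hE₀card.trans ?_)
    have hu1 : u ≠ 1 := by
      rintro rfl
      exact hune fun x _ => mem_centralizer_singleton_iff.mpr (by rw [mul_one, one_mul])
    have hinf : zpowers z ⊓ zpowers u = ⊥ := by
      rw [eq_bot_iff]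
      rintro w ⟨hw1, hw2⟩
      rw [mem_bot]
      by_contra hw0
      have hgen : zpowers w = zpowers u := by
        refine Subgroup.eq_of_le_of_card_ge (zpowers_le.mpr hw2) ?_
        rw [Nat.card_zpowers, Nat.card_zpowers, orderOf_eq_prime (hEe.2 u hu) hu1]
        obtain ⟨i, rfl⟩ := mem_zpowers_iff.mp hw2
        rw [orderOf_eq_prime (hEe.2 _ (E.zpow_mem hu i)) hw0]
      have huz : u ∈ zpowers z := zpowers_le.mpr hw1 (hgen ▸ mem_zpowers u)
      obtain ⟨i, rfl⟩ := mem_zpowers_iff.mp huz
      exact hune fun x hx => mem_centralizer_singleton_iff.mpr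
        ((show Commute x z from hzc x hx).zpow_right i).eq
    rw [hZ, Coprime.card_sup_eq_mul ((zpowers_le.mpr (centralizer_le_normalizer _ (by
        rw [zpowers_eq_closure, centralizer_closure, mem_centralizer_singleton_iff]
        exact hzc u huR)))) hinf, Nat.card_zpowers, Nat.card_zpowers, hzo,
      orderOf_eq_prime (hEe.2 u hu) hu1, sq]
  have hCu : ∀ x ∈ R, x ^ r = 1 → x * u = u * x → x ∈ E₀ := by
    intro x hx hxp hxu
    have hxE₀ : zpowers x ≤ centralizer (E₀ : Set G) := by
      rw [zpowers_le, ← hZeq, mem_centralizer_iff]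
      intro w hw
      refine (show w ∈ centralizer {x} from ?_) |> mem_centralizer_singleton_iff.mp
      exact (sup_le (zpowers_le.mpr (mem_centralizer_singleton_iff.mpr (hzc x hx).symm))
        (zpowers_le.mpr (mem_centralizer_singleton_iff.mpr hxu.symm)) : Z ≤ centralizer {x}) hw
    have hTc : IsMulCommutative (E₀ ⊔ zpowers x : Subgroup G) :=
      Fusion.isMulCommutative_sup_of_le_centralizer hE₀c inferInstance (le_centralizer_iff.mp hxE₀)
    have hTp : ∀ w ∈ E₀ ⊔ zpowers x, w ^ r = 1 := by
      intro w hw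
      obtain ⟨e, he, v, hv, rfl⟩ := (Coprime.mem_sup_of_le_normalizer
        (hxE₀.trans (centralizer_le_normalizer _))).mp hw
      obtain ⟨i, rfl⟩ := mem_zpowers_iff.mp hv
      rw [(((show Commute e x from (mem_centralizer_iff.mp (hxE₀ (mem_zpowers x)) e he))).zpow_right
          i).mul_pow, hE₀p e he, one_mul, ← zpow_natCast, ← zpow_mul, mul_comm, zpow_mul,
        zpow_natCast, hxp, one_zpow]
    have h1 := hsub _ ⟨hTc, hTp⟩ (le_sup_left.trans le_sup_left)
      (sup_le hE₀R (zpowers_le.mpr hx))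
    have h2 : Nat.card E₀ = r ^ 2 := le_antisymm hE₀card (by
      rw [← hZeq]
      have hu1 : u ≠ 1 := by
        rintro rfl
        exact hune fun x _ => mem_centralizer_singleton_iff.mpr (by rw [mul_one, one_mul])
      by_contra hlt
      rw [not_le] at hlt
      obtain ⟨k, hk⟩ := IsPGroup.iff_card.mp ((hRp.to_le (hZE₀.trans hE₀R)))
      rw [hk] at hlt
      have hk1 : k ≤ 1 := by have := (Nat.pow_lt_pow_iff_right hp.out.one_lt).mp hlt; omega
      have hzz : zpowers z = Z := Subgroup.eq_of_le_of_card_ge le_sup_left (by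
        rw [hk, Nat.card_zpowers, hzo]
        exact (Nat.pow_le_pow_right hp.out.pos hk1).trans (pow_one r).le)
      have huz : u ∈ zpowers z := hzz ▸ mem_sup_right (mem_zpowers u)
      obtain ⟨i, rfl⟩ := mem_zpowers_iff.mp huz
      exact hune fun x hx => mem_centralizer_singleton_iff.mpr
        ((show Commute x z from hzc x hx).zpow_right i).eq)
    have h3 : E₀ = E₀ ⊔ zpowers x := Subgroup.eq_of_le_of_card_ge le_sup_left (h2 ▸ h1)
    exact h3 ▸ mem_sup_right (mem_zpowers x)
  -- a detecting subgroup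
  obtain ⟨D, hDR, hDn, hDV, hdet⟩ := exists_detecting hp2 hRp
  have hyD : y ∈ centralizer (D : Set G) := by
    refine mem_centralizer_of_small_fixed hodd hp2 hRp huR hy hcop hDR hDV.1 ?_
    refine (Nat.le_of_dvd Nat.card_pos (card_dvd_of_le fun x hx => ?_)).trans hE₀card
    exact hCu x (hDR hx.1) (hDV.1 x hx.1) (mem_centralizer_singleton_iff.mp hx.2)
  exact (hdet (zpowers y) (by rwa [Nat.card_zpowers]) (zpowers_le.mpr hyD)) (mem_zpowers y)

end Cfsg.Agent.OddLocal
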