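import Cfsg.Agent.OddLocal.CNTheorem
import Cfsg.Agent.FixedPointFree.Prime
import Cfsg.Agent.Fusion.UniqueInvolution
import Cfsg.Agent.Coprime.Hall

/-!
Groups with nilpotent centralisers: fixed-point-free complements, quotients by solvable normal
subgroups.
-/

set_option autoImplicit false

namespace Cfsg.Agent.OddLocal.CN

open Subgroup
open scoped commutatorElement

universe u

variable {G : Type u} [Group G]

theorem isCNGroup_subgroup (hCN : Cfsg.IsCNGroup G) (H : Subgroup G) : Cfsg.IsCNGroup H := by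
  intro h hh
  have hle : (centralizer ({h} : Set H)).map H.subtype ≤ centralizer ({(h : G)} : Set G) := by
    rintro _ ⟨c, hc, rfl⟩
    exact mem_centralizer_singleton_iff.mpr
      (congrArg Subtype.val (mem_centralizer_singleton_iff.mp hc))
  exact (Group.isNilpotent_congr
    ((centralizer ({h} : Set H)).equivMapOfInjective H.subtype H.subtype_injective)).mpr
    (Core.isNilpotent_mono (hCN (h : G) fun e => hh (Subtype.ext e)) hle)

theorem isCNGroup_congr {G' : Type u} [Group G'] (e : G ≃* G') (hCN : Cfsg.IsCNGroup G) :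
    Cfsg.IsCNGroup G' := by
  intro g hg
  have hmap : centralizer ({g} : Set G') = (centralizer ({e.symm g} : Set G)).map e.toMonoidHom := by
    ext x
    simp only [mem_centralizer_singleton_iff, mem_map, MulEquiv.coe_toMonoidHom]
    constructor
    · exact fun h => ⟨e.symm x, by rw [← map_mul, h, map_mul], e.apply_symm_apply x⟩
    · rintro ⟨y, hy, rfl⟩
      have := congrArg e hy
      simpa using this
  rw [hmap]
  exact Core.isNilpotent_map (hCN _ fun h => hg (by simpa using congrArg e h)) _

/-- A centraliser of a prime-order power contains the centraliser of the element. -/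
theorem exists_prime_power [Finite G] {x : G} (hx : x ≠ 1) :
    ∃ (r : ℕ) (y : G), r.Prime ∧ orderOf y = r ∧ r ∣ orderOf x ∧ y ∈ zpowers x ∧
      centralizer ({x} : Set G) ≤ centralizer ({y} : Set G) := by
  obtain ⟨r, hr, hd⟩ := Nat.exists_prime_and_dvd (show orderOf x ≠ 1 from
    fun e => hx (orderOf_eq_one_iff.mp e))
  have := Fact.mk hr
  obtain ⟨y, hy⟩ := exists_prime_orderOf_dvd_card' (G := zpowers x) r (by rwa [Nat.card_zpowers])
  refine ⟨r, y, hr, by rw [Subgroup.orderOf_coe, hy], hd, y.2, fun w hw => ?_⟩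
  obtain ⟨i, hi⟩ := mem_zpowers_iff.mp y.2
  exact mem_centralizer_singleton_iff.mpr (hi ▸
    (show Commute w x from mem_centralizer_singleton_iff.mp hw).zpow_right i)

/-- If elements of coprime prime power order commute then the group is nilpotent. -/
theorem isNilpotent_of_commute [Finite G]
    (h : ∀ q r : ℕ, q.Prime → r.Prime → q ≠ r → ∀ x y : G, IsPGroup q (zpowers x) →
      IsPGroup r (zpowers y) → Commute x y) : Group.IsNilpotent G := by
  refine ((Group.isNilpotent_of_finite_tfae (G := G)).out 0 3 (a := Group.IsNilpotent G)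
    (b := ∀ (q : ℕ) (_ : Fact q.Prime) (S : Sylow q G), (S : Subgroup G).Normal)).mpr ?_
  intro q hq S
  rw [← normalizer_eq_top_iff, eq_top_iff]
  refine Coprime.le_of_forall_sylow_le fun r hr => ?_
  have := Fact.mk hr
  rcases eq_or_ne r q with rfl | hrq
  · refine ⟨S.subtype le_top, fun x hx => ?_⟩
    rw [Sylow.coe_subtype, subgroupOf_map_subtype, inf_top_eq] at hx
    exact le_normalizer hx
  · refine ⟨default, fun x hx => centralizer_le_normalizer _ (mem_centralizer_iff.mpr fun s hs => ?_)⟩
    exact h q r hq.out hr (Ne.symm hrq) s x (isPGroup_zpowers S.2 hs) (zpowers_primePow _ hx)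

section Quotient

variable [Finite G]

/-- The quotient of a CN-group by an abelian normal `p`-subgroup is a CN-group. -/
theorem isCNGroup_quotient_pgroup {p : ℕ} [hp : Fact p.Prime] (hCN : Cfsg.IsCNGroup G)
    (A : Subgroup G) [A.Normal] (hA : IsPGroup p A) [hAc : IsMulCommutative A] (hA1 : A ≠ ⊥) :
    Cfsg.IsCNGroup (G ⧸ A) := by
  obtain ⟨n, hn⟩ := IsPGroup.iff_card.mp hA
  let f := QuotientGroup.mk' A
  have hnA : A ≤ centralizer (A : Set G) := le_centralizer_iff_isMulCommutative.mpr hAc
  have hfix : ∀ x : G, IsPGroup p (zpowers x) → ∃ a ∈ A, a ≠ 1 ∧ Commute x a := by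
    intro x hx
    by_contra! hno
    have := card_modEq_fixed_one (r := p) hx ‹A.Normal› fun v hv hfix => by
      by_contra hv1
      exact hno v hv hv1 (hfix x (mem_zpowers x))
    rw [hn] at this
    have hn0 : n ≠ 0 := fun e => hA1 (card_eq_one.mp (by rw [hn, e, pow_zero]))
    have h0 : (p ^ n) % p = 0 := Nat.mod_eq_zero_of_dvd (dvd_pow_self p hn0)
    rw [Nat.ModEq, h0, Nat.mod_eq_of_lt hp.out.one_lt] at this
    exact zero_ne_one this
  have lift : ∀ y : G ⧸ A, (orderOf y).Coprime p →
      ∃ y' : G, (orderOf y').Coprime p ∧ f y' = y := by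
    intro y hy
    obtain ⟨y₀, rfl⟩ := QuotientGroup.mk'_surjective A y
    obtain ⟨j, hj⟩ := exists_pow_eq_self_of_coprime (x := f y₀) (n := p ^ n)
      ((hy.pow_right n).symm)
    refine ⟨(y₀ ^ j) ^ p ^ n, hy.coprime_dvd_left (orderOf_dvd_of_pow_eq_one ?_), ?_⟩
    · rw [show ((y₀ ^ j) ^ p ^ n) ^ orderOf ((QuotientGroup.mk' A) y₀) =
        ((y₀ ^ j) ^ orderOf ((QuotientGroup.mk' A) y₀)) ^ p ^ n by
          rw [← pow_mul _ (p ^ n), mul_comm, pow_mul]]
      have hmem : (y₀ ^ j) ^ orderOf (f y₀) ∈ A := (QuotientGroup.eq_one_iff _).mp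
        (show f ((y₀ ^ j) ^ orderOf (f y₀)) = 1 by
          rw [map_pow, map_pow, ← pow_mul, mul_comm, pow_mul, pow_orderOf_eq_one, one_pow])
      exact orderOf_dvd_iff_pow_eq_one.mp (hn ▸ orderOf_dvd_natCard _ hmem)
    · rw [map_pow, map_pow, ← pow_mul, mul_comm, pow_mul, hj]
  have image : ∀ y : G, (orderOf y).Coprime p →
      (centralizer ({y} : Set G)).map f = centralizer ({f y} : Set (G ⧸ A)) := by
    intro y hy
    have h := Coprime.map_inf_centralizer f (A := zpowers y) (K := ⊤)
      (by rw [normalizer_eq_top]; exact le_top) le_top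
      (by rw [QuotientGroup.ker_mk', Nat.card_zpowers, hn]; exact hy.pow_right n)
      (Or.inl (Group.isSolvable_of_comm fun a b => mul_comm' a b))
    rw [top_inf_eq, map_top_of_surjective f (QuotientGroup.mk'_surjective A), top_inf_eq,
      MonoidHom.map_zpowers] at h
    rwa [zpowers_eq_closure, zpowers_eq_closure, centralizer_closure, centralizer_closure] at h
  -- `p`-elements lift to `p`-elements
  have plift : ∀ s : G ⧸ A, IsPGroup p (zpowers s) → ∀ u : G, f u = s → IsPGroup p (zpowers u) := by
    intro s hs u hu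
    have hord : orderOf u ∣ orderOf s * p ^ n := by
      refine orderOf_dvd_of_pow_eq_one ?_
      rw [pow_mul]
      have hmem : u ^ orderOf s ∈ A := (QuotientGroup.eq_one_iff _).mp
        (show f (u ^ orderOf s) = 1 by rw [map_pow, hu, pow_orderOf_eq_one])
      exact orderOf_dvd_iff_pow_eq_one.mp (hn ▸ orderOf_dvd_natCard _ hmem)
    obtain ⟨m, hm⟩ := IsPGroup.iff_card.mp hs
    rw [Nat.card_zpowers] at hm
    rw [hm, ← pow_add] at hord
    obtain ⟨i, -, hi⟩ := (Nat.dvd_prime_pow hp.out).mp hord
    exact IsPGroup.of_card (n := i) (by rw [Nat.card_zpowers, hi])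
  -- a `p'`-element centralising a nontrivial `p`-element of the quotient centralises `A`
  have key : ∀ s : G ⧸ A, s ≠ 1 → IsPGroup p (zpowers s) → ∀ y : G, (orderOf y).Coprime p →
      Commute (f y) s → y ∈ centralizer (A : Set G) := by
    intro s hs hsp y hy hys
    have hmem : s ∈ (centralizer ({y} : Set G)).map f := by
      rw [image y hy]
      exact mem_centralizer_singleton_iff.mpr hys.symm.eq
    obtain ⟨u, hu, hus⟩ := hmem
    have hu1 : u ≠ 1 := fun e => hs (by rw [← hus, e, map_one])
    obtain ⟨a, ha, ha1, hua⟩ := hfix u (plift s hsp u hus)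
    have cop : ∀ b ∈ A, (orderOf y).Coprime (orderOf b) := fun b hb => by
      obtain ⟨k, hk⟩ := IsPGroup.iff_card.mp (isPGroup_zpowers hA hb)
      rw [← Nat.card_zpowers b, hk]
      exact hy.pow_right k
    have hya : Commute y a := commute_of_mem (hCN u hu1)
      (mem_centralizer_singleton_iff.mpr (mem_centralizer_singleton_iff.mp hu).symm)
      (mem_centralizer_singleton_iff.mpr hua.symm) (cop a ha)
    rw [mem_centralizer_iff]
    intro b hb
    exact (commute_of_mem (hCN a ha1) (mem_centralizer_singleton_iff.mpr hya)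
      (mem_centralizer_singleton_iff.mpr (mem_centralizer_iff.mp (hnA hb) a ha).symm)
      (cop b hb)).symm
  intro x hx
  by_cases hpx : p ∣ orderOf x
  · obtain ⟨s', hs⟩ := exists_prime_orderOf_dvd_card' (G := zpowers x) p (by rwa [Nat.card_zpowers])
    obtain ⟨i, hi⟩ := mem_zpowers_iff.mp s'.2
    set s : G ⧸ A := (s' : G ⧸ A) with hsdef
    have hso : orderOf s = p := by rw [hsdef, Subgroup.orderOf_coe, hs]
    have hs1 : s ≠ 1 := fun e => hp.out.one_lt.ne (by rw [← hso, e, orderOf_one])
    have hsp : IsPGroup p (zpowers s) :=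
      IsPGroup.of_card (n := 1) (by rw [Nat.card_zpowers, hso, pow_one])
    have hle : centralizer ({x} : Set (G ⧸ A)) ≤ centralizer ({s} : Set (G ⧸ A)) := fun w hw =>
      mem_centralizer_singleton_iff.mpr (hi ▸
        (show Commute w x from mem_centralizer_singleton_iff.mp hw).zpow_right i)
    refine Core.isNilpotent_mono ?_ hle
    obtain ⟨a, ha, ha1⟩ := (bot_or_exists_ne_one A).resolve_left hA1
    -- the lift of a `p'`-element of the centraliser
    have good : ∀ (q : ℕ), q.Prime → q ≠ p → ∀ w : centralizer ({s} : Set (G ⧸ A)),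
        IsPGroup q (zpowers w) → ∃ y : G, (orderOf y).Coprime p ∧ f y = w ∧
          y ∈ centralizer (A : Set G) := by
      intro q hq hqp w hw
      have := Fact.mk hq
      obtain ⟨m, hm⟩ := IsPGroup.iff_card.mp hw
      rw [Nat.card_zpowers, ← Subgroup.orderOf_coe] at hm
      obtain ⟨y, hy, hyw⟩ := lift (w : G ⧸ A)
        (hm ▸ ((Nat.coprime_primes hq hp.out).mpr hqp).pow_left m)
      exact ⟨y, hy, hyw, key s hs1 hsp y hy (hyw ▸ mem_centralizer_singleton_iff.mp w.2)⟩
    have pcase : ∀ (r : ℕ), r.Prime → r ≠ p → ∀ u w : centralizer ({s} : Set (G ⧸ A)),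
        IsPGroup p (zpowers u) → IsPGroup r (zpowers w) → Commute u w := by
      intro r hr hrp u w hu hw
      obtain ⟨y, hy, hyw, hyA⟩ := good r hr hrp w hw
      obtain ⟨u₀, hu₀⟩ := QuotientGroup.mk'_surjective A (u : G ⧸ A)
      have hu₀p : IsPGroup p (zpowers u₀) := plift _ (by
        have := hu.map (centralizer ({s} : Set (G ⧸ A))).subtype
        rwa [MonoidHom.map_zpowers] at this) u₀ hu₀
      obtain ⟨b, hb, hb1, hub⟩ := hfix u₀ hu₀p
      have hco : (orderOf u₀).Coprime (orderOf y) := by
        obtain ⟨k, hk⟩ := IsPGroup.iff_card.mp hu₀p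
        rw [← Nat.card_zpowers u₀, hk]
        exact hy.symm.pow_left k
      have h := (commute_of_mem (hCN b hb1) (mem_centralizer_singleton_iff.mpr hub)
        (mem_centralizer_singleton_iff.mpr (mem_centralizer_iff.mp hyA b hb).symm) hco).map f
      rw [hu₀, hyw] at h
      exact Subtype.ext h
    refine isNilpotent_of_commute fun q r hq hr hqr u w hu hw => ?_
    rcases eq_or_ne q p with rfl | hqp
    · exact pcase r hr (Ne.symm hqr) u w hu hw
    rcases eq_or_ne r p with rfl | hrp
    · exact (pcase q hq hqp w u hw hu).symm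
    obtain ⟨y, hy, hyu, hyA⟩ := good q hq hqp u hu
    obtain ⟨y', hy', hyw, hyA'⟩ := good r hr hrp w hw
    have := Fact.mk hq
    have := Fact.mk hr
    -- replace the lifts by their `q`- and `r`-parts
    have hK := Core.isNilpotent_map (hCN a ha1) f
    refine Subtype.ext (commute_of_mem hK
      (x := (u : G ⧸ A)) (y := (w : G ⧸ A))
      (hyu ▸ mem_map_of_mem f (mem_centralizer_singleton_iff.mpr (mem_centralizer_iff.mp hyA a ha).symm))
      (hyw ▸ mem_map_of_mem f (mem_centralizer_singleton_iff.mpr (mem_centralizer_iff.mp hyA' a ha).symm))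
      ?_)
    obtain ⟨k, hk⟩ := IsPGroup.iff_card.mp hu
    obtain ⟨l, hl⟩ := IsPGroup.iff_card.mp hw
    rw [Nat.card_zpowers, ← Subgroup.orderOf_coe] at hk hl
    rw [hk, hl]
    exact Nat.Coprime.pow _ _ ((Nat.coprime_primes hq hr).mpr hqr)
  · obtain ⟨y, hy, rfl⟩ := lift x ((hp.out.coprime_iff_not_dvd.mpr hpx).symm)
    rw [← image y hy]
    exact Core.isNilpotent_map (hCN y fun e => hx (by rw [e, map_one])) f

end Quotient

/-- The quotient of a CN-group by a solvable normal subgroup is a CN-group. -/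
theorem isCNGroup_quotient : ∀ (n : ℕ) (G : Type u) [Group G] [Finite G], Nat.card G = n →
    Cfsg.IsCNGroup G → ∀ (H : Subgroup G) [H.Normal], Group.IsSolvable H →
      Cfsg.IsCNGroup (G ⧸ H) := by
  intro n
  induction n using Nat.strong_induction_on with
  | _ n IH =>
  intro G _ _ hn hCN H _ hH
  rcases eq_or_ne H ⊥ with rfl | hH1
  · exact isCNGroup_congr QuotientGroup.quotientBot.symm hCN
  obtain ⟨M, hMn, hMc, hMH, hM1⟩ := Coprime.exists_minimal_normal_abelian H hH1 hH
  obtain ⟨p, hp, hpd⟩ := Nat.exists_prime_and_dvd (show Nat.card M ≠ 1 from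
    fun e => hM1 (card_eq_one.mp e))
  have := Fact.mk hp
  let P : Sylow p M := default
  have := hMc
  have hPn : (P : Subgroup M).Normal := inferInstance
  have := P.characteristic_of_normal hPn
  set A := (P : Subgroup M).map M.subtype with hAdef
  have hAn : A.Normal := inferInstance
  have hAp : IsPGroup p A := P.2.map _
  have hAM : A ≤ M := map_subtype_le _
  have hAc : IsMulCommutative A := le_centralizer_iff_isMulCommutative.mp
    (hAM.trans ((le_centralizer_iff_isMulCommutative.mpr hMc).trans (centralizer_le hAM)))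
  have hA1 : A ≠ ⊥ := fun e => by
    have := P.dvd_card_of_dvd_card hpd
    rw [(map_eq_bot_iff_of_injective _ M.subtype_injective).mp e, card_bot] at this
    exact hp.one_lt.ne' (Nat.dvd_one.mp this)
  have hCN' := isCNGroup_quotient_pgroup (p := p) hCN A hAp hA1
  have hAH : A ≤ H := hAM.trans hMH
  have hlt : Nat.card (G ⧸ A) < n := by
    rw [← Subgroup.index_eq_card, ← hn, ← A.card_mul_index]
    exact lt_mul_of_one_lt_left (Nat.pos_of_ne_zero A.index_ne_zero_of_finite)
      (A.one_lt_card_iff_ne_bot.mpr hA1)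
  have hsol : Group.IsSolvable (H.map (QuotientGroup.mk' A)) :=
    Coprime.isSolvable_map _ hH
  exact isCNGroup_congr (QuotientGroup.quotientQuotientEquivQuotient A H hAH)
    (IH _ hlt (G ⧸ A) rfl hCN' (H.map (QuotientGroup.mk' A)) hsol)

end Cfsg.Agent.OddLocal.CN
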