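import Cfsg.Agent.OddLocal.Basic
import Cfsg.Agent.OddLocal.InvTransitivity
import Cfsg.Agent.OddLocal.CNSolvable
import Cfsg.Agent.Layer.PConstraint
import Cfsg.Agent.LocalStructure.OmegaAction

/-!
Bender's method: invariant subgroups of order prime to the Fitting subgroup of a maximal local
subgroup, and overgroups of its large subgroups.
-/

set_option autoImplicit false
set_option linter.unusedSectionVars false
set_option linter.style.haveILetI false

namespace Cfsg.Agent.OddLocal

open Subgroup Cfsg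
open scoped Pointwise commutatorElement

universe u

variable {G : Type u} [Group G] [Finite G]

/-! ### Parts of a nilpotent subgroup -/

/-- The `r`-part of a nilpotent subgroup. -/
def rPart (r : ℕ) (F : Subgroup G) : Subgroup G := (pCore r ↥F).map F.subtype

/-- The `r'`-part of a nilpotent subgroup. -/
def rPrimePart (r : ℕ) (F : Subgroup G) : Subgroup G := (pPrimeCore r ↥F).map F.subtype

/-- The centre of the `r`-part. -/
def rCenter (r : ℕ) (F : Subgroup G) : Subgroup G :=
  (center ↥(rPart r F)).map (rPart r F).subtype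

variable {r : ℕ} [hr : Fact r.Prime] {F : Subgroup G}

theorem rPart_le : rPart r F ≤ F := map_subtype_le _

theorem rPrimePart_le : rPrimePart r F ≤ F := map_subtype_le _

theorem isPGroup_rPart : IsPGroup r (rPart r F) := Core.pCore_isPGroup.map _

theorem coprime_card_rPrimePart : (Nat.card (rPrimePart r F)).Coprime r := by
  rw [rPrimePart, card_map_of_injective F.subtype_injective]
  exact Core.coprime_card_pPrimeCore

theorem le_normalizer_rPart {H : Subgroup G} (h : H ≤ normalizer (F : Set G)) :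
    H ≤ normalizer (rPart r F : Set G) :=
  LocalStructure.le_normalizer_map_characteristic h _

theorem le_normalizer_rPrimePart {H : Subgroup G} (h : H ≤ normalizer (F : Set G)) :
    H ≤ normalizer (rPrimePart r F : Set G) :=
  LocalStructure.le_normalizer_map_characteristic h _

theorem le_normalizer_rCenter {H : Subgroup G} (h : H ≤ normalizer (F : Set G)) :
    H ≤ normalizer (rCenter r F : Set G) :=
  LocalStructure.le_normalizer_map_characteristic (le_normalizer_rPart h) _

theorem rCenter_le : rCenter r F ≤ rPart r F := map_subtype_le _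

theorem rPrimePart_le_centralizer_rPart :
    rPrimePart r F ≤ centralizer (rPart r F : Set G) := by
  rintro _ ⟨x, hx, rfl⟩
  rw [mem_centralizer_iff]
  rintro _ ⟨y, hy, rfl⟩
  exact (congrArg Subtype.val
    (mem_centralizer_iff.mp (Core.pCore_le_centralizer_pPrimeCore hy) x hx)).symm

theorem rPart_le_rPrimePart {s : ℕ} [Fact s.Prime] (h : r ≠ s) :
    rPart r F ≤ rPrimePart s F :=
  map_mono (Core.pCore_le_pPrimeCore h)

theorem mem_rPart_of_pow (hF : Group.IsNilpotent F) {x : G} (hx : x ∈ F) {k : ℕ}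
    (hxk : x ^ r ^ k = 1) : x ∈ rPart r F := by
  obtain ⟨j, -, hj⟩ := (Nat.dvd_prime_pow hr.out).mp (orderOf_dvd_of_pow_eq_one
    (Subtype.ext (by simpa using hxk) : (⟨x, hx⟩ : F) ^ r ^ k = 1))
  obtain ⟨P, hP⟩ := (IsPGroup.of_card (n := j) (by rw [Nat.card_zpowers, hj]) :
    IsPGroup r (zpowers (⟨x, hx⟩ : F))).exists_le_sylow
  have hPn : (P : Subgroup F).Normal := inferInstance
  exact ⟨⟨x, hx⟩, Core.le_pCore P.isPGroup' (hP (mem_zpowers _)), rfl⟩

theorem le_rPart_of_isPGroup (hF : Group.IsNilpotent F) {Y : Subgroup G} (hY : Y ≤ F)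
    (hYr : IsPGroup r Y) : Y ≤ rPart r F := fun x hx => by
  obtain ⟨k, hk⟩ := hYr ⟨x, hx⟩
  exact mem_rPart_of_pow hF (hY hx) (congrArg Subtype.val hk)

theorem rPart_ne_bot (hF : Group.IsNilpotent F) (hd : r ∣ Nat.card F) : rPart r F ≠ ⊥ := by
  intro h
  obtain ⟨x, hx⟩ := exists_prime_orderOf_dvd_card' r hd
  have hxo : orderOf (x : G) = r := (orderOf_coe x).trans hx
  have h1 : (x : G) ^ r ^ 1 = 1 := by rw [pow_one]; exact hxo ▸ pow_orderOf_eq_one (x : G)
  have := mem_rPart_of_pow hF x.2 h1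
  rw [h, mem_bot] at this
  rw [this, orderOf_one] at hxo
  exact hr.out.one_lt.ne hxo

theorem rCenter_ne_bot (hF : Group.IsNilpotent F) (hd : r ∣ Nat.card F) : rCenter r F ≠ ⊥ := by
  haveI : Nontrivial (rPart r F) := (nontrivial_iff_ne_bot _).mpr (rPart_ne_bot hF hd)
  haveI := IsPGroup.center_nontrivial (isPGroup_rPart (r := r) (F := F))
  intro h
  refine (nontrivial_iff_ne_bot (center ↥(rPart r F))).mp inferInstance ?_
  exact (Subgroup.map_eq_bot_iff_of_injective _ (rPart r F).subtype_injective).mp h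

theorem le_iSup_rPart (hF : Group.IsNilpotent F) :
    F ≤ ⨆ s : Nat.Primes, rPart (s : ℕ) F := by
  haveI := hF
  have h1 : (⊤ : Subgroup F) = ⨆ s : Nat.Primes, pCore (s : ℕ) F := by
    rw [← Core.fittingSubgroup_eq_iSup_pCore, Core.fittingSubgroup_eq_top]
  intro x hx
  have h2 : x ∈ (⊤ : Subgroup F).map F.subtype := ⟨⟨x, hx⟩, mem_top _, rfl⟩
  rw [h1, Subgroup.map_iSup] at h2
  exact h2

theorem rCenter_le_centralizer (hF : Group.IsNilpotent F) :
    rCenter r F ≤ centralizer (F : Set G) := by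
  rw [le_centralizer_iff]
  refine (le_iSup_rPart hF).trans (iSup_le fun s => ?_)
  haveI := Fact.mk s.2
  rcases eq_or_ne (s : ℕ) r with h | h
  · subst h
    intro y hy
    rw [mem_centralizer_iff]
    rintro _ ⟨z, hz, rfl⟩
    exact congrArg Subtype.val (mem_center_iff.mp hz ⟨y, hy⟩).symm
  · exact ((rPart_le_rPrimePart (r := (s : ℕ)) (s := r) h).trans
      rPrimePart_le_centralizer_rPart).trans (centralizer_le rCenter_le)

theorem isPGroup_rCenter : IsPGroup r (rCenter r F) := isPGroup_rPart.to_le rCenter_le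

/-! ### Cores cut out by primes -/

/-- A subgroup in `O_{p'}(S)` for all primes `p` outside `π` lies in `O_π(S)`. -/
theorem le_piCoreOf_of_forall {π : Set ℕ} {S Y : Subgroup G} (hYS : Y ≤ S)
    (h : ∀ p : ℕ, p.Prime → p ∉ π → Y ≤ (pPrimeCore p ↥S).map S.subtype) : Y ≤ piCoreOf π S := by
  set W := S ⊓ ⨅ (p : ℕ) (_ : p.Prime) (_ : p ∉ π), (pPrimeCore p ↥S).map S.subtype with hW
  refine le_trans (le_inf hYS (le_iInf fun p => le_iInf fun hp => le_iInf fun hpπ => h p hp hpπ))
    (le_piCoreOf inf_le_left ?_ ?_)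
  · have key : ∀ x ∈ S, ∀ y ∈ W, x * y * x⁻¹ ∈ W := by
      intro x hx y hy
      refine Subgroup.mem_inf.mpr ⟨S.mul_mem (S.mul_mem hx hy.1) (S.inv_mem hx), ?_⟩
      rw [Subgroup.mem_iInf]
      intro p
      rw [Subgroup.mem_iInf]
      intro hp
      rw [Subgroup.mem_iInf]
      intro hpπ
      exact (mem_normalizer_iff.mp (LocalStructure.le_normalizer_map_characteristic
        (Q := S) Subgroup.le_normalizer (pPrimeCore p ↥S) hx) y).mp
        (Subgroup.mem_iInf.mp (Subgroup.mem_iInf.mp (Subgroup.mem_iInf.mp hy.2 p) hp) hpπ)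
    intro x hx
    rw [mem_normalizer_iff]
    intro y
    refine ⟨key x hx y, fun hy => ?_⟩
    have := key x⁻¹ (inv_mem hx) _ hy
    rwa [show x⁻¹ * (x * y * x⁻¹) * x⁻¹⁻¹ = y by group] at this
  · intro s hs hd
    by_contra hsπ
    haveI := Fact.mk hs
    have hle : W ≤ (pPrimeCore s ↥S).map S.subtype :=
      inf_le_right.trans (iInf_le_of_le s (iInf_le_of_le hs (iInf_le_of_le hsπ le_rfl)))
    have hd' := hd.trans (card_dvd_of_le hle)
    rw [card_map_of_injective S.subtype_injective] at hd'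
    exact Core.not_dvd_card_pPrimeCore hd'

/-- In a solvable subgroup `S` containing a `p`-subgroup `P` with `C_S(P) ≤ H`, a `p'`-subgroup
normalised by `H` and centralising `P` meets `S` in `O_{p'}(S)`. -/
theorem inf_le_pPrimeCore {p : ℕ} [Fact p.Prime] {H S P Y : Subgroup G} (hS : Group.IsSolvable S)
    (hP : IsPGroup p P) (hPS : P ≤ S) (hCH : centralizer (P : Set G) ≤ H)
    (hHY : H ≤ normalizer (Y : Set G)) (hY : (Nat.card Y).Coprime p)
    (hYP : Y ≤ centralizer (P : Set G)) : Y ⊓ S ≤ (pPrimeCore p ↥S).map S.subtype := by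
  haveI := hS
  set P' := P.subgroupOf S with hP'
  set C := centralizer (P' : Set ↥S) with hC
  set Y' := Y.subgroupOf S with hY'
  have hYC : Y' ≤ C := fun y hy => mem_centralizer_iff.mpr fun x hx =>
    Subtype.ext (mem_centralizer_iff.mp (hYP hy) (x : G) hx)
  have hn : (Y'.subgroupOf C).Normal := by
    refine (normal_subgroupOf_iff_le_normalizer hYC).mpr fun c hc => ?_
    have hcH : (c : G) ∈ H := hCH (mem_centralizer_iff.mpr fun x hx =>
      congrArg Subtype.val (mem_centralizer_iff.mp hc ⟨x, hPS hx⟩ hx))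
    rw [mem_normalizer_iff]
    exact fun y => mem_normalizer_iff.mp (hHY hcH) (y : G)
  have hYcop : (Nat.card (Y'.subgroupOf C)).Coprime p := by
    rw [Coprime.card_subgroupOf hYC]
    refine hY.coprime_dvd_left ?_
    rw [← card_map_of_injective S.subtype_injective (K := Y')]
    exact card_dvd_of_le (map_comap_le _ _)
  have hle : Y' ≤ pPrimeCore p ↥S := by
    refine le_trans ?_ (Layer.pPrimeCore_centralizer_le Layer.isPConstrained_of_isSolvable
      (hP.comap_of_injective _ S.subtype_injective))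
    rw [← map_subgroupOf_eq_of_le hYC]
    exact map_mono (Core.le_pPrimeCore hYcop)
  intro y hy
  exact ⟨⟨y, hy.2⟩, hle hy.1, rfl⟩

/-! ### The solvable part of the centraliser of `F(H)` -/

/-- A solvable subgroup of `C_H(F(H))` normalised by it lies in `F(H)`. -/
theorem le_fittingOf_of_solvable {H Y : Subgroup G} (hY : Group.IsSolvable Y)
    (hYX : Y ≤ H ⊓ centralizer (fittingOf H : Set G))
    (hn : H ⊓ centralizer (fittingOf H : Set G) ≤ normalizer (Y : Set G)) : Y ≤ fittingOf H := by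
  set F₀ := fittingSubgroup ↥H with hF₀
  set C := centralizer (F₀ : Set ↥H) with hC
  set Y' := Y.subgroupOf H with hY'
  have hC' : ∀ x : H, x ∈ C ↔ (x : G) ∈ centralizer (fittingOf H : Set G) := by
    intro x
    rw [hC, mem_centralizer_iff, mem_centralizer_iff]
    constructor
    · rintro h _ ⟨y, hy, rfl⟩
      exact congrArg Subtype.val (h y hy)
    · exact fun h y hy => Subtype.ext (h _ ⟨y, hy, rfl⟩)
  have hYC : Y' ≤ C := fun y hy => (hC' y).mpr (hYX hy).2
  have hsn : Y'.IsSubnormal := by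
    refine Subgroup.IsSubnormal.step Y' C hYC (Subgroup.Normal.isSubnormal inferInstance) ?_
    refine (normal_subgroupOf_iff_le_normalizer hYC).mpr fun c hc => ?_
    rw [mem_normalizer_iff]
    exact fun y => mem_normalizer_iff.mp (hn ⟨c.2, (hC' c).mp hc⟩) (y : G)
  set S := Layer.solvRad ↥H with hS
  have hYS : Y' ≤ S := Layer.subnormal_le_solvRad hsn (Coprime.isSolvable_subgroupOf H hY)
  haveI : Group.IsSolvable S := Layer.solvRad_isSolvable
  have hFS : (fittingSubgroup ↥S).map S.subtype ≤ F₀ := by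
    haveI : ((fittingSubgroup ↥S).map S.subtype).Normal := by
      rw [← normalizer_eq_top_iff, eq_top_iff]
      exact LocalStructure.le_normalizer_map_characteristic (Q := S) le_normalizer_of_normal _
    exact Core.le_fittingSubgroup (Core.isNilpotent_map inferInstance S.subtype)
  intro y hy
  have hyH : y ∈ H := (hYX hy).1
  refine ⟨⟨y, hyH⟩, hFS ⟨⟨⟨y, hyH⟩, hYS hy⟩,
    Core.centralizer_fittingSubgroup_le (mem_centralizer_iff.mpr fun z hz => ?_), rfl⟩, rfl⟩
  exact Subtype.ext (mem_centralizer_iff.mp (hYC hy) (z : H) (hFS ⟨z, hz, rfl⟩))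

/-! ### Invariant subgroups of order prime to `|F|` -/

section Local

variable {H M : Subgroup G} (hFH : F ≤ H) (hHF : H ≤ normalizer (F : Set G))
  (hFn : Group.IsNilpotent F)
  (hloc : ∀ s : ℕ, s.Prime → s ∣ Nat.card F → normalizer (rCenter s F : Set G) ≤ H)
  (hM : M ≤ F) (hCM : F ⊓ centralizer (M : Set G) ≤ M)

include hFn hM hCM in
theorem rCenter_le_of_selfCentral (s : ℕ) [Fact s.Prime] : rCenter s F ≤ M := fun _ hx =>
  hCM ⟨rPart_le (rCenter_le hx), centralizer_le hM (rCenter_le_centralizer hFn hx)⟩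

include hFH hHF hFn hloc hM hCM in
/-- An invariant `π(F)'`-subgroup centralising some `rCenter` centralises `F`. -/
theorem le_centralizer_of_rCenter {Y : Subgroup G}
    (hY : PiNum (primesNotDvd (Nat.card F)) Y) (hMY : M ≤ normalizer (Y : Set G))
    (hd : r ∣ Nat.card F) (hYr : Y ≤ centralizer (rCenter r F : Set G)) :
    Y ≤ H ⊓ centralizer (F : Set G) := by
  have _ := hFH
  have hYH : Y ≤ H := (hYr.trans (centralizer_le_normalizer _)).trans (hloc r hr.out hd)
  refine le_inf hYH ?_
  have hcopF : ∀ {s : ℕ}, s.Prime → s ∣ Nat.card Y → ¬ s ∣ Nat.card F := fun hs h => (hY _ hs h).2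
  have hYF : Y ⊓ F = ⊥ := Coprime.inf_eq_bot_of_coprime (Nat.coprime_of_dvd fun s hs h1 h2 =>
    hcopF hs h1 h2)
  have hYM : Y ≤ centralizer (M : Set G) := by
    intro y hy
    rw [mem_centralizer_iff]
    intro m hm
    have h1 : ⁅m, y⁆ ∈ Y ⊓ F := by
      rw [commutatorElement_def]
      refine ⟨Y.mul_mem ((mem_normalizer_iff.mp (hMY hm) y).mp hy) (Y.inv_mem hy), ?_⟩
      have h2 := F.mul_mem (hM hm) ((mem_normalizer_iff.mp (hHF (hYH hy)) m⁻¹).mp
        (F.inv_mem (hM hm)))
      simpa [mul_assoc] using h2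
    rw [hYF, mem_bot] at h1
    exact commutatorElement_eq_one_iff_mul_comm.mp h1
  rw [le_centralizer_iff]
  refine (le_iSup_rPart hFn).trans (iSup_le fun s => ?_)
  haveI := Fact.mk s.2
  rw [le_centralizer_iff]
  by_cases hsF : (s : ℕ) ∣ Nat.card F
  · refine Coprime.thompson_pxq (P := rPart (s : ℕ) F ⊓ M) (isPGroup_rPart.to_le inf_le_left)
      (Nat.Coprime.symm ((Fact.out : (s : ℕ).Prime).coprime_iff_not_dvd.mpr fun h =>
        hcopF s.2 h hsF)) isPGroup_rPart ?_
      (inf_le_left.trans Subgroup.le_normalizer) ((le_normalizer_rPart hHF).trans' hYH) ?_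
    · exact inf_le_right.trans (le_centralizer_iff.mp hYM)
    rintro x ⟨hx, hxC⟩
    refine le_centralizer_iff.mp hYM (hCM ⟨rPart_le hx, mem_centralizer_iff.mpr fun m hm => ?_⟩)
    -- split `m` into its `s`-part and `s'`-part
    obtain ⟨e, n, hn, hmn⟩ := Nat.exists_eq_pow_mul_and_not_dvd (orderOf_pos m).ne' (s : ℕ) s.2.ne_one
    obtain ⟨k, hk0, hk1⟩ := Nat.chineseRemainder
      ((Nat.Coprime.pow_left e (s.2.coprime_iff_not_dvd.mpr hn))) 0 1
    -- `m ^ k` has order prime to `s`, `m * (m ^ k)⁻¹` is an `s`-element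
    have hk0' : (s : ℕ) ^ e ∣ k := Nat.modEq_zero_iff_dvd.mp hk0
    set b := m ^ k with hb
    set a := m * b⁻¹ with ha
    have hbM : b ∈ M := M.pow_mem hm k
    have haM : a ∈ M := M.mul_mem hm (M.inv_mem hbM)
    have hbn : b ^ n = 1 := by
      obtain ⟨t, ht⟩ := hk0'
      rw [hb, ← pow_mul, ht, show (s : ℕ) ^ e * t * n = orderOf m * t by rw [hmn]; ring, pow_mul,
        pow_orderOf_eq_one, one_pow]
    have hab : a ^ (s : ℕ) ^ e = 1 := by
      rw [ha, ((Commute.refl m).pow_right k).inv_right.mul_pow, inv_pow, mul_inv_eq_one,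
        ← pow_mul, pow_eq_pow_iff_modEq, hmn]
      simpa [mul_comm] using (hk1.mul_right' ((s : ℕ) ^ e)).symm
    have hxa : Commute a x :=
      mem_centralizer_iff.mp hxC a ⟨mem_rPart_of_pow hFn (hM haM) hab, haM⟩
    obtain ⟨j, hj⟩ := isPGroup_rPart (r := (s : ℕ)) (F := F) ⟨x, hx⟩
    have hxj : x ^ (s : ℕ) ^ j = 1 := congrArg Subtype.val hj
    have hxb : Commute b x := commute_of_mem hFn (hM hbM) (rPart_le hx)
      (Nat.Coprime.coprime_dvd_left (orderOf_dvd_of_pow_eq_one hbn)
        (Nat.Coprime.coprime_dvd_right (orderOf_dvd_of_pow_eq_one hxj)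
          ((s.2.coprime_iff_not_dvd.mpr hn).symm.pow_right j)))
    rw [show m = a * b by rw [ha, inv_mul_cancel_right]]
    exact (hxa.mul_left hxb).eq
  · have hbot : rPart (s : ℕ) F = ⊥ := by
      by_contra hne
      obtain ⟨k, hk⟩ := IsPGroup.iff_card.mp (isPGroup_rPart (r := (s : ℕ)) (F := F))
      have hk0 : k ≠ 0 := fun h => hne (Subgroup.card_eq_one.mp (by rw [hk, h, pow_zero]))
      exact hsF ((dvd_pow_self _ hk0).trans (hk ▸ card_dvd_of_le rPart_le))
    rw [hbot]
    intro y _
    simp [mem_centralizer_iff]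

include hFH hHF hFn hloc hM hCM in
/-- Invariant `π(F)'`-subgroups of a solvable `R` lie in `O_{π(F)'}(R)`. -/
theorem le_piCoreOf_of_fixedFree (hF2 : 2 ≤ (Nat.card F).primeFactors.card) {R : Subgroup G}
    (hR : Group.IsSolvable R) (hMR : M ≤ normalizer (R : Set G))
    (hfree : ∀ Y : Subgroup G, Y ≤ R → PiNum (primesNotDvd (Nat.card F)) Y →
      M ≤ normalizer (Y : Set G) → ∀ s : ℕ, s.Prime → s ∣ Nat.card F →
      Y ≤ centralizer (rCenter s F : Set G) → Y = ⊥)
    {Y : Subgroup G} (hYR : Y ≤ R) (hY : PiNum (primesNotDvd (Nat.card F)) Y)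
    (hMY : M ≤ normalizer (Y : Set G)) : Y ≤ piCoreOf (primesNotDvd (Nat.card F)) R := by
  set S := R ⊔ M with hS
  have hSs : Group.IsSolvable S := by
    rw [hS, sup_comm]
    haveI : Group.IsNilpotent M := Core.isNilpotent_mono hFn hM
    exact Layer.isSolvable_sup hMR inferInstance hR
  refine le_trans (le_inf ?_ hYR) (piCoreOf_inf_le (X := S) le_sup_left)
  refine le_piCoreOf_of_forall (hYR.trans le_sup_left) fun p hp hpπ => ?_
  have hpF : p ∣ Nat.card F := by_contra fun h => hpπ ⟨hp, h⟩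
  haveI := Fact.mk hp
  obtain ⟨r', hr'F, hr'p⟩ := Finset.exists_mem_ne hF2 p
  have hr' : r'.Prime := Nat.prime_of_mem_primeFactors hr'F
  haveI := Fact.mk hr'
  set Mp := M ⊓ rPrimePart p F with hMp
  set W := (pPrimeCore p ↥S).map S.subtype with hW
  have hMpW : Mp ≤ W := by
    refine le_trans (le_inf inf_le_right (inf_le_left.trans le_sup_right) : Mp ≤ rPrimePart p F ⊓ S) ?_
    refine inf_le_pPrimeCore (P := rCenter p F) hSs isPGroup_rCenter
      ((rCenter_le_of_selfCentral hFn hM hCM p).trans le_sup_right)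
      ((centralizer_le_normalizer _).trans (hloc p hp hpF)) (le_normalizer_rPrimePart hHF)
      coprime_card_rPrimePart (rPrimePart_le_centralizer_rPart.trans (centralizer_le rCenter_le))
  have hMn : M ≤ normalizer (Mp : Set G) :=
    Coprime.le_normalizer_inf Subgroup.le_normalizer
      ((hM.trans hFH).trans (le_normalizer_rPrimePart hHF))
  have hMpY : Mp ≤ normalizer (Y : Set G) := inf_le_left.trans hMY
  have hC : Y ⊓ centralizer (Mp : Set G) = ⊥ := by
    refine hfree _ (inf_le_left.trans hYR) (hY.mono inf_le_left)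
      (Coprime.le_normalizer_inf hMY (Coprime.le_normalizer_centralizer hMn))
      r' hr' (Nat.dvd_of_mem_primeFactors hr'F) (inf_le_right.trans (centralizer_le ?_))
    exact le_inf (rCenter_le_of_selfCentral hFn hM hCM r')
      (rCenter_le.trans (rPart_le_rPrimePart hr'p))
  have hcop : (Nat.card Mp).Coprime (Nat.card Y) := Nat.coprime_of_dvd fun s hs h1 h2 =>
    (hY s hs h2).2 (h1.trans (card_dvd_of_le (inf_le_left.trans hM)))
  have hMps : Group.IsSolvable Mp := by
    haveI : Group.IsNilpotent Mp := Core.isNilpotent_mono hFn (inf_le_left.trans hM)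
    infer_instance
  have hYW : ⁅Y, Mp⁆ ≤ W := by
    have hSW : S ≤ normalizer (W : Set G) :=
      LocalStructure.le_normalizer_map_characteristic (Q := S) Subgroup.le_normalizer _
    refine commutator_le.mpr fun y hy m hm => ?_
    rw [commutatorElement_def]
    exact W.mul_mem ((mem_normalizer_iff.mp (hSW (mem_sup_left (hYR hy))) m).mp (hMpW hm))
      (W.inv_mem (hMpW hm))
  calc Y = ⁅Y, Mp⁆ := by
        conv_lhs => rw [← Coprime.commutator_sup_centralizer hMpY hcop (Or.inl hMps), hC, sup_bot_eq]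
    _ ≤ W := hYW

end Local

end Cfsg.Agent.OddLocal
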