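import Cfsg.Agent.OddLocal.SmallAction
import Cfsg.Agent.OddLocal.RankTwoSolvable
import Cfsg.Agent.OddLocal.FittingLocal

/-!
A solvable group of odd order whose Fitting subgroup has rank at most two has nilpotent derived
subgroup.
-/

set_option autoImplicit false
set_option linter.unusedSectionVars false
set_option linter.style.haveILetI false

namespace Cfsg.Agent.OddLocal

open Subgroup Cfsg

universe u

variable {G : Type u} [Group G] [Finite G]

/-- Elements of `r'`-order of the derived subgroup centralise an `O_r` of rank at most two. -/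
theorem mem_centralizer_pCore_of_rank_le_two [Group.IsSolvable G] (hodd : Odd (Nat.card G)) {r : ℕ}
    [hr : Fact r.Prime] (hrank : PRankLE r 2 ↥(pCore r G)) {y : G} (hy : y ∈ commutator G)
    (hcop : (orderOf y).Coprime r) : y ∈ centralizer (pCore r G : Set G) := by
  by_cases hb : pCore r G = ⊥
  · rw [mem_centralizer_iff]
    intro x hx
    rw [hb, SetLike.mem_coe, mem_bot] at hx
    rw [hx, one_mul, mul_one]
  have hr2 : r ≠ 2 := by
    intro h
    obtain ⟨k, hk⟩ := IsPGroup.iff_card.mp (Core.pCore_isPGroup (p := r) (G := G))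
    have hk0 : k ≠ 0 := fun h0 => hb (Subgroup.card_eq_one.mp (by rw [hk, h0, pow_zero]))
    have := hodd.of_dvd_nat ((dvd_pow_self r hk0).trans (hk ▸ Subgroup.card_subgroup_dvd_card _))
    rw [h] at this
    exact absurd this (by decide)
  obtain ⟨D, hDU, hDn, hDV, hdet⟩ := exists_detecting hr2 (Core.pCore_isPGroup (p := r) (G := G))
  obtain ⟨n, s, hn, hs, hs2⟩ := small_of_rank_le_two (p := r) (D := D)
    (fun x => Subtype.ext (by simpa using hDV.1 x x.2))
    (by
      rw [_root_.commutator_def, commutator_le]
      intro a _ b _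
      rw [mem_center_iff]
      intro c
      have h := commutatorElement_eq_one_iff_mul_comm.mp (hDV.2 a a.2 b b.2 c c.2)
      exact Subtype.ext h.symm)
    (pRankLE_of_injective (inclusion hDU) (inclusion_injective _) hrank)
  have hyD := mem_centralizer_of_mem_commutator hodd hr2 hn hs hs2 hy hcop
  exact (hdet (zpowers y) (by rwa [Nat.card_zpowers]) (zpowers_le.mpr hyD)) (mem_zpowers y)

/-- S1456 for `E = 1`: if `F(G)` has rank at most two then `G' ≤ F(G)`. -/
theorem commutator_le_fitting_of_centralizes [Group.IsSolvable G]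
    (h : ∀ r : ℕ, r.Prime → ∀ y ∈ commutator G, (orderOf y).Coprime r →
      y ∈ centralizer (pCore r G : Set G)) :
    commutator G ≤ fittingSubgroup G := by
  set C := commutator G with hC
  -- every element of prime power order lies in `F(G)`
  have hmain : ∀ r : ℕ, r.Prime → ∀ x ∈ C, (∃ k, orderOf x = r ^ k) → x ∈ fittingSubgroup G := by
    intro r hr x hxC hxk
    haveI := Fact.mk hr
    set K := C ⊓ ⨅ (s : ℕ) (_ : s.Prime) (_ : s ≠ r), centralizer (pCore s G : Set G) with hK
    have hKc : ∀ z : G, z ∈ K ↔ z ∈ C ∧ ∀ s : ℕ, s.Prime → s ≠ r →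
        z ∈ centralizer (pCore s G : Set G) := fun z => by
      simp only [hK, Subgroup.mem_inf, Subgroup.mem_iInf]
    have hKn : K.Normal := by
      haveI hcn : ∀ s : ℕ, (centralizer (pCore s G : Set G)).Normal := fun s => by
        haveI : (pCore s G).Normal := Core.pCore_normal
        infer_instance
      refine ⟨fun z hz g => (hKc _).mpr ⟨(inferInstance : C.Normal).conj_mem z ((hKc z).mp hz).1 g,
        fun s hs hsr => (hcn s).conj_mem z (((hKc z).mp hz).2 s hs hsr) g⟩⟩
    have hxK : x ∈ K := (hKc x).mpr ⟨hxC, fun s hs hsr => by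
      obtain ⟨k, hk⟩ := hxk
      exact h s hs x hxC (hk ▸ ((Nat.coprime_primes hr hs).mpr (Ne.symm hsr)).pow_left k)⟩
    -- elements of order a power of `s ≠ r` are central in `K`
    have hcent : ∀ s : ℕ, s.Prime → s ≠ r → ∀ z : K, (∃ k, orderOf z = s ^ k) → z ∈ center K := by
      intro s hs hsr z hzk
      haveI := Fact.mk hs
      obtain ⟨k, hk⟩ := hzk
      rw [← orderOf_coe] at hk
      have hzC : (z : G) ∈ C := ((hKc _).mp z.2).1
      have hzF : (z : G) ∈ fittingSubgroup G := by
        refine Core.centralizer_fittingSubgroup_le ?_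
        rw [← zpowers_le, le_centralizer_iff, Core.fittingSubgroup_eq_iSup_pCore]
        refine iSup_le fun t => ?_
        rw [le_centralizer_iff, zpowers_le]
        by_cases ht : (t : ℕ) = r
        · rw [ht]
          exact h r hr z hzC (hk ▸ ((Nat.coprime_primes hs hr).mpr hsr).pow_left k)
        · exact ((hKc _).mp z.2).2 t t.2 ht
      have hzs : (z : G) ∈ pCore s G := by
        have h1 := le_rPart_of_isPGroup (r := s) Core.fittingSubgroup_isNilpotent
          (Y := zpowers (z : G)) (zpowers_le.mpr hzF)
          (IsPGroup.of_card (n := k) (by rw [Nat.card_zpowers, hk])) (mem_zpowers _)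
        haveI : (rPart s (fittingSubgroup G)).Normal := by
          rw [← normalizer_eq_top_iff, eq_top_iff]
          exact le_normalizer_rPart le_normalizer_of_normal
        exact Core.le_pCore isPGroup_rPart h1
      rw [mem_center_iff]
      intro w
      exact Subtype.ext (mem_centralizer_iff.mp (((hKc _).mp w.2).2 s hs hsr) z hzs).symm
    have hq : IsPGroup r (K ⧸ center K) := by
      refine IsPGroup.of_card (Nat.eq_prime_pow_of_unique_prime_dvd Nat.card_pos.ne' ?_)
      intro s hs hd
      by_contra hsr
      haveI := Fact.mk hs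
      obtain ⟨S⟩ : Nonempty (Sylow s K) := inferInstance
      have hle : (S : Subgroup K) ≤ center K := fun z hz => by
        obtain ⟨k, hk⟩ := S.2 ⟨z, hz⟩
        obtain ⟨j, -, hj⟩ := (Nat.dvd_prime_pow hs).mp
          (orderOf_dvd_of_pow_eq_one (congrArg Subtype.val hk : z ^ s ^ k = 1))
        exact hcent s hs hsr z ⟨j, hj⟩
      exact S.not_dvd_index ((Subgroup.index_eq_card (center K)).symm ▸ hd |>.trans
        (Subgroup.index_dvd_of_le hle))
    have hKnil : Group.IsNilpotent K := Group.of_quotient_center_nilpotent hq.isNilpotent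
    exact (Core.le_fittingSubgroup (hN := hKn) hKnil) hxK
  suffices hd : Nat.card C ∣ Nat.card (C ⊓ fittingSubgroup G : Subgroup G) by
    rw [← Subgroup.eq_of_le_of_card_ge (inf_le_left : C ⊓ fittingSubgroup G ≤ C)
      (Nat.le_of_dvd Nat.card_pos hd)]
    exact inf_le_right
  rw [← Nat.factorization_le_iff_dvd Nat.card_pos.ne' Nat.card_pos.ne', Finsupp.le_def]
  intro r
  by_cases hr : r.Prime
  · haveI := Fact.mk hr
    obtain ⟨S⟩ : Nonempty (Sylow r C) := inferInstance
    have h1 : Nat.card (S : Subgroup C) ∣ Nat.card (C ⊓ fittingSubgroup G : Subgroup G) := by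
      rw [← card_map_of_injective C.subtype_injective (K := (S : Subgroup C))]
      refine card_dvd_of_le ?_
      rintro _ ⟨z, hz, rfl⟩
      refine ⟨z.2, hmain r hr _ z.2 ?_⟩
      obtain ⟨k, hk⟩ := S.2 ⟨z, hz⟩
      obtain ⟨j, -, hj⟩ := (Nat.dvd_prime_pow hr).mp
        (orderOf_dvd_of_pow_eq_one (congrArg Subtype.val hk : z ^ r ^ k = 1))
      exact ⟨j, by rw [← hj]; exact orderOf_coe z⟩
    rw [S.card_eq_multiplicity] at h1
    exact (hr.pow_dvd_iff_le_factorization Nat.card_pos.ne').mp h1
  · rw [Nat.factorization_eq_zero_of_not_prime _ hr]; exact Nat.zero_le _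

theorem commutator_le_fitting_of_rank_le_two [Group.IsSolvable G] (hodd : Odd (Nat.card G))
    (hF : RankLE 2 ↥(fittingSubgroup G)) : commutator G ≤ fittingSubgroup G :=
  commutator_le_fitting_of_centralizes fun r hr y hy hcop => by
    haveI := Fact.mk hr
    exact mem_centralizer_pCore_of_rank_le_two hodd
      (pRankLE_of_injective (inclusion (Core.pCore_le_fittingSubgroup r)) (inclusion_injective _)
        (hF r hr)) hy hcop

end Cfsg.Agent.OddLocal
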