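import Cfsg.Agent.OddLocal.NarrowGroup
import Cfsg.Agent.OddLocal.RankTwoFitting
import Cfsg.Agent.OddLocal.UniquenessFitting
import Cfsg.Agent.OddLocal.NarrowFitting

/-!
Automorphisms of narrow `p`-groups (BG Theorem 5.5): throughout, `R` is a normal `p`-subgroup of the
ambient group.
-/

set_option autoImplicit false
set_option linter.unusedSectionVars false
set_option linter.style.haveILetI false

namespace Cfsg.Agent.OddLocal

open Subgroup Cfsg
open scoped commutatorElement

universe u

variable {X : Type u} [Group X] [Finite X] {p : ℕ} [hp : Fact p.Prime]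

/-- `y` acts trivially on every normal factor of order dividing `p`. -/
def TrivialOnSmallFactors (p : ℕ) (y : X) : Prop :=
  ∀ L N : Subgroup X, L.Normal → N.Normal → N ≤ L → N.relIndex L ∣ p → ∀ l ∈ L, ⁅y, l⁆ ∈ N

theorem trivialOnSmallFactors_pow (g : X) : TrivialOnSmallFactors p (g ^ (p - 1)) :=
  fun L N _ _ _ hrel l hl => by
    obtain ⟨K, hK, -, hKs⟩ := stab_of_relIndex_dvd (L := L) (N := N) (p := p) hrel
    exact hKs _ (hK g) l hl

theorem trivialOnSmallFactors_commutator {y : X} (hy : y ∈ commutator X) :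
    TrivialOnSmallFactors p y :=
  fun L N _ _ _ hrel l hl => by
    obtain ⟨K, -, hK, hKs⟩ := stab_of_relIndex_dvd (L := L) (N := N) (p := p) hrel
    exact hKs _ (hK hy) l hl

theorem trivialOnSmallFactors_of_coprime {a : X} (h : (p - 1).Coprime (orderOf a)) :
    TrivialOnSmallFactors p a := by
  obtain ⟨m, hm⟩ := exists_pow_eq_self_of_coprime h
  rw [← hm, ← pow_mul, mul_comm, pow_mul]
  exact trivialOnSmallFactors_pow _

variable {R : Subgroup X}

/-- An element of `p'`-order of the rank at least three case centralises the narrow group. -/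
theorem mem_centralizer_of_narrow [R.Normal] (hp2 : p ≠ 2) (hR : IsPGroup p R)
    (hr : ¬ PRankLE p 2 R) (hn : IsNarrow p R) {y : X} (hcop : (orderOf y).Coprime p)
    (hy : TrivialOnSmallFactors p y) : y ∈ centralizer (R : Set X) := by
  obtain ⟨D, hDR, hDn, hDV, hdet⟩ := exists_detecting hp2 hR
  refine hdet (zpowers y) (by rwa [Nat.card_zpowers]) (zpowers_le.mpr ?_) (mem_zpowers y)
  obtain ⟨E, hE, hE2, hEmax⟩ := exists_maximal_elementary_of_narrow hR hr hn
  obtain ⟨-, -, -, hTc, hTi⟩ := maximal_elementary_two hR hp2 hr hE hE2 hEmax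
  set T : Subgroup R := centralizer (secondOmega p R : Set R) with hT
  haveI := hTc
  set D0 : Subgroup R := D.subgroupOf R with hD0
  have hD0p : ∀ x ∈ D0 ⊓ T, x ^ p = 1 := fun x hx => Subtype.ext (by simpa using hDV.1 x hx.1)
  have hmapD : ∀ U : Subgroup R, (D0 ⊓ U).map R.subtype = D ⊓ U.map R.subtype := by
    intro U
    ext x
    constructor
    · rintro ⟨a, ⟨ha1, ha2⟩, rfl⟩
      exact ⟨ha1, mem_map_of_mem _ ha2⟩
    · rintro ⟨hx, a, ha, rfl⟩
      exact ⟨a, ⟨hx, ha⟩, rfl⟩
  have hnormal : ∀ U : Subgroup R, U.Characteristic → (D ⊓ U.map R.subtype).Normal := fun U _ =>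
    inferInstance
  haveI hzc : ∀ i : ℕ, (Subgroup.upperCentralSeries R i).Characteristic := fun i => inferInstance
  set N : ℕ → Subgroup R := fun i => D0 ⊓ T ⊓ Subgroup.upperCentralSeries R i with hN
  have hNn : ∀ i, ((N i).map R.subtype).Normal := fun i => by
    rw [hN]
    dsimp only
    rw [inf_assoc, hmapD]
    exact hnormal _ inferInstance
  have key : ∀ i, y ∈ centralizer (((N i).map R.subtype : Subgroup X) : Set X) := by
    intro i
    induction i with
    | zero =>
      rw [mem_centralizer_iff]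
      rintro _ ⟨a, ha, rfl⟩
      have : a = 1 := by
        have h0 : a ∈ Subgroup.upperCentralSeries R 0 := (Subgroup.mem_inf.mp ha).2
        rwa [Subgroup.upperCentralSeries_zero, mem_bot] at h0
      simp [this]
    | succ i ih =>
      have hmono : N i ≤ N (i + 1) :=
        inf_le_inf_left _ (Subgroup.upperCentralSeries_mono R (Nat.le_succ i))
      refine mem_centralizer_of_stab (p := p) (((hR.to_subgroup (N i))).map R.subtype) hcop ih
        (hy _ _ (hNn (i + 1)) (hNn i) (map_mono hmono) ?_)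
      rw [relIndex_map_map_of_injective _ _ R.subtype_injective]
      exact narrow_factor_dvd hR hp2 hr hE hE2 hEmax hD0p inf_le_right i
  obtain ⟨c, hc⟩ := hR.isNilpotent.nilpotent
  have hNc : N c = D0 ⊓ T := by
    rw [hN]
    dsimp only
    rw [hc, inf_top_eq]
  have h1 := key c
  rw [hNc] at h1
  have hDeq : D0.map R.subtype = D := map_subgroupOf_eq_of_le hDR
  have hn0 : ((D0 ⊓ T).map R.subtype).Normal := hmapD T ▸ hnormal T inferInstance
  refine mem_centralizer_of_stab (p := p) (((hR.to_subgroup (D0 ⊓ T))).map R.subtype) hcop h1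
    (hy D _ hDn hn0 (hDeq ▸ map_mono inf_le_left) ?_)
  rw [← hDeq]
  rw [relIndex_map_map_of_injective _ _ R.subtype_injective, inf_comm, inf_relIndex_right, ← hTi]
  exact relIndex_dvd_index_of_normal T D0

/-- Elements of `p'`-order of the derived subgroup centralise `R` in rank at most two. -/
theorem mem_centralizer_of_rank_two [Group.IsSolvable X] [R.Normal] (hodd : Odd (Nat.card X))
    (hp2 : p ≠ 2) (hR : IsPGroup p R) (hr : PRankLE p 2 R) {y : X} (hy : y ∈ commutator X)
    (hcop : (orderOf y).Coprime p) : y ∈ centralizer (R : Set X) := by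
  obtain ⟨D, hDR, hDn, hDV, hdet⟩ := exists_detecting hp2 hR
  obtain ⟨n, s, hn, hs, hs2⟩ := small_of_rank_le_two (p := p) (D := D)
    (fun x => Subtype.ext (by simpa using hDV.1 x x.2))
    (by
      rw [_root_.commutator_def, commutator_le]
      intro a _ b _
      rw [mem_center_iff]
      intro c
      have h := commutatorElement_eq_one_iff_mul_comm.mp (hDV.2 a a.2 b b.2 c c.2)
      exact Subtype.ext h.symm)
    (pRankLE_of_injective (inclusion hDR) (inclusion_injective _) hr)
  have hyD := mem_centralizer_of_mem_commutator hodd hp2 hn hs hs2 hy hcop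
  exact (hdet (zpowers y) (by rwa [Nat.card_zpowers]) (zpowers_le.mpr hyD)) (mem_zpowers y)

/-- A `p'`-element of prime order not dividing `p - 1` acting nontrivially on a rank two group has
order dividing `p + 1`. -/
theorem dvd_succ_of_rank_two [R.Normal] (hp2 : p ≠ 2) (hR : IsPGroup p R) (hr : PRankLE p 2 R)
    {a : X} (hq : (orderOf a).Prime) (hcop : (orderOf a).Coprime p)
    (hq1 : ¬ orderOf a ∣ p - 1) (ha : a ∉ centralizer (R : Set X)) : orderOf a ∣ p + 1 := by
  obtain ⟨D, hDR, hDn, hDV, hdet⟩ := exists_detecting hp2 hR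
  have haD : a ∉ centralizer (D : Set X) := fun h =>
    ha (hdet (zpowers a) (by rwa [Nat.card_zpowers]) (zpowers_le.mpr h) (mem_zpowers a))
  obtain ⟨n, s, hn, hs, hs2⟩ := small_of_rank_le_two (p := p) (D := D)
    (fun x => Subtype.ext (by simpa using hDV.1 x x.2))
    (by
      rw [_root_.commutator_def, commutator_le]
      intro a _ b _
      rw [mem_center_iff]
      intro c
      have h := commutatorElement_eq_one_iff_mul_comm.mp (hDV.2 a a.2 b b.2 c c.2)
      exact Subtype.ext h.symm)
    (pRankLE_of_injective (inclusion hDR) (inclusion_injective _) hr)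
  set φ : X →* MulAut D := MulAut.conjNormal with hφ
  have hne : φ a ≠ 1 := fun h => haD (mem_centralizer_iff.mpr fun d hd => by
    have h1 := congrArg Subtype.val (DFunLike.congr_fun h (⟨d, hd⟩ : D))
    rw [hφ, MulAut.conjNormal_apply] at h1
    exact (mul_inv_eq_iff_eq_mul.mp h1).symm)
  have ho : orderOf (φ a) = orderOf a := by
    rcases (Nat.dvd_prime hq).mp (orderOf_map_dvd φ a) with h | h
    · exact absurd (orderOf_eq_one_iff.mp h) hne
    · exact h
  have hdvd : orderOf a ∣ p ^ (s * (n - s)) * ∏ i ∈ Finset.range s, (p ^ s - p ^ i) :=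
    ho ▸ (_root_.orderOf_dvd_natCard (φ a)).trans (FGS.card_mulAut_dvd hn hs)
  have hnp : ¬ orderOf a ∣ p := fun h => hq.ne_one (Nat.eq_one_of_dvd_coprimes hcop dvd_rfl h)
  rcases hq.dvd_mul.mp hdvd with h | h
  · exact absurd (hq.dvd_of_dvd_pow h) hnp
  interval_cases s
  · simp only [Finset.prod_range_zero, Nat.dvd_one] at h
    exact absurd h hq.ne_one
  · simp only [Finset.prod_range_one, pow_one, pow_zero] at h
    exact absurd h hq1
  · simp only [Finset.prod_range_succ, Finset.prod_range_zero, one_mul, pow_zero, pow_one] at h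
    rw [show (p ^ 2 - p) = p * (p - 1) by rw [Nat.mul_sub, mul_one, sq],
      show p ^ 2 - 1 = (p + 1) * (p - 1) by rw [← Nat.sq_sub_sq, one_pow]] at h
    rcases hq.dvd_mul.mp h with h | h
    · rcases hq.dvd_mul.mp h with h | h
      · exact h
      · exact absurd h hq1
    · rcases hq.dvd_mul.mp h with h | h
      · exact absurd h hnp
      · exact absurd h hq1

/-- A step of order dividing `p` in a chain invariant under an element of order prime to
`p (p - 1)`; nothing need be normal in the ambient group. -/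
theorem mem_centralizer_of_small_step {L N : Subgroup X} {a : X} (hcop : (orderOf a).Coprime p)
    (h1 : (p - 1).Coprime (orderOf a)) (hN : IsPGroup p N) (hNL : N ≤ L)
    (hLN : L ≤ normalizer (N : Set X)) (haL : a ∈ normalizer (L : Set X))
    (hrel : N.relIndex L ∣ p) (haN : a ∈ centralizer (N : Set X)) :
    a ∈ centralizer (L : Set X) := by
  set W := normalizer (N : Set X) ⊓ normalizer (L : Set X) with hW
  have hLW : L ≤ W := le_inf hLN Subgroup.le_normalizer
  have haW : a ∈ W := ⟨centralizer_le_normalizer _ haN, haL⟩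
  haveI hLn : (L.subgroupOf W).Normal :=
    (normal_subgroupOf_iff_le_normalizer hLW).mpr inf_le_right
  haveI hNn : (N.subgroupOf W).Normal :=
    (normal_subgroupOf_iff_le_normalizer (hNL.trans hLW)).mpr inf_le_left
  have hrel' : (N.subgroupOf W).relIndex (L.subgroupOf W) ∣ p := by
    rwa [← relIndex_map_map_of_injective _ _ W.subtype_injective,
      map_subgroupOf_eq_of_le (hNL.trans hLW), map_subgroupOf_eq_of_le hLW]
  have h1' : (p - 1).Coprime (orderOf (⟨a, haW⟩ : W)) := by rwa [← Subgroup.orderOf_coe]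
  refine mem_centralizer_of_stab hN hcop haN fun l hl => ?_
  exact trivialOnSmallFactors_of_coprime h1' _ _ hLn hNn (comap_mono hNL) hrel' ⟨l, hLW hl⟩ hl

theorem omegaCenter_normal [R.Normal] : (omegaCenter p R).Normal := ⟨fun x hx g => by
  obtain ⟨hxR, hxp, hxc⟩ := mem_omegaCenter_iff.mp hx
  have hn : ∀ v ∈ R, g⁻¹ * v * g ∈ R := fun v hv => by
    simpa using (inferInstance : R.Normal).conj_mem v hv g⁻¹
  refine mem_omegaCenter_iff.mpr ⟨(inferInstance : R.Normal).conj_mem x hxR g,
    by rw [conj_pow, hxp, mul_one, mul_inv_cancel], fun v hv => ?_⟩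
  calc g * x * g⁻¹ * v = g * (x * (g⁻¹ * v * g)) * g⁻¹ := by group
    _ = g * ((g⁻¹ * v * g) * x) * g⁻¹ := by rw [(hxc _ (hn v hv)).eq]
    _ = v * (g * x * g⁻¹) := by group⟩

/-- In a group whose elements of order `p` are central, `x ^ p = y ^ p` gives
`(x⁻¹ y) ^ p = 1`. -/
theorem pow_eq_one_of_pow_eq {P : Type u} [Group P] [Finite P] (hP : IsPGroup p P) (hp2 : p ≠ 2)
    (hc : ∀ z : P, z ^ p = 1 → z ∈ center P) {x y : P} (hxy : x ^ p = y ^ p) :
    (x⁻¹ * y) ^ p = 1 := by
  suffices h : ∀ m : ℕ, ∀ x y : P, Nat.card (closure {x, y} : Subgroup P) = m → x ^ p = y ^ p →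
      (x⁻¹ * y) ^ p = 1 from h _ x y rfl hxy
  clear hxy x y
  intro m
  induction m using Nat.strong_induction_on with
  | _ m ih =>
  intro x y hm hxy
  by_cases hcomm : Commute x y
  · rw [hcomm.inv_left.mul_pow, inv_pow, hxy, inv_mul_cancel]
  set z := x * y * x⁻¹ with hz
  set K := closure {x, y} with hK
  have hxK : x ∈ K := subset_closure (by simp)
  have hyK : y ∈ K := subset_closure (by simp)
  have hzK : z ∈ K := mul_mem (mul_mem hxK hyK) (inv_mem hxK)
  have hlt : closure {y, z} < K := by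
    refine lt_of_le_of_ne ((closure_le K).mpr ?_) fun heq => hcomm ?_
    · rintro t (rfl | rfl) <;> assumption
    haveI : Group.IsNilpotent K := (hP.to_subgroup K).isNilpotent
    have htop : zpowers (⟨y, hyK⟩ : K) ⊔ frattini K = ⊤ := by
      rw [eq_top_iff]
      set W := zpowers (⟨y, hyK⟩ : K) ⊔ frattini K with hW
      have hle : closure {y, z} ≤ W.map K.subtype := by
        rw [closure_le]
        rintro t (rfl | rfl)
        · exact ⟨⟨t, hyK⟩, mem_sup_left (mem_zpowers _), rfl⟩
        · refine ⟨⁅(⟨x, hxK⟩ : K), ⟨y, hyK⟩⁆ * ⟨y, hyK⟩, mul_mem (mem_sup_right ?_)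
            (mem_sup_left (mem_zpowers _)), ?_⟩
          · exact Core.commutator_le_frattini (commutator_mem_commutator (mem_top _) (mem_top _))
          · show ⁅x, y⁆ * y = _
            rw [hz, commutatorElement_def]
            group
      rw [heq] at hle
      intro k _
      obtain ⟨k', hk', hkk⟩ := hle k.2
      rwa [show k' = k from Subtype.ext hkk] at hk'
    have h1 := Core.eq_top_of_sup_frattini le_rfl htop
    obtain ⟨i, hi⟩ := mem_zpowers_iff.mp (h1 ▸ mem_top (⟨x, hxK⟩ : K))
    have hxy' : y ^ i = x := by simpa using congrArg Subtype.val hi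
    rw [← hxy']
    exact (Commute.refl y).zpow_left i
  have hzp : y ^ p = z ^ p := by
    rw [hz, conj_pow, ← hxy, (Commute.self_pow x p).eq, mul_inv_cancel_right]
  have hd := ih _ (hm ▸ Core.card_lt_of_lt hlt) y z rfl hzp
  set d := y⁻¹ * z with hdd
  have hdc := hc d hd
  have hdx : Commute d x := (mem_center_iff.mp hdc x).symm
  have hdy : Commute d y := (mem_center_iff.mp hdc y).symm
  have hzd : z = y * d := by rw [hdd, mul_inv_cancel_left]
  have hcd : ⁅y, x⁻¹⁆ = d := by
    calc ⁅y, x⁻¹⁆ = x⁻¹ * (z * y⁻¹) * x := by rw [hz, commutatorElement_def]; group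
      _ = x⁻¹ * d * x := by rw [hzd, ← hdy.eq, mul_inv_cancel_right]
      _ = d := by rw [mul_assoc, hdx.eq, inv_mul_cancel_left]
  rw [Fusion.mul_pow_of_commute_commutator (hcd ▸ hdx.inv_right) (hcd ▸ hdy) p, inv_pow, hxy,
    inv_mul_cancel, one_mul, hcd]
  obtain ⟨k, hk⟩ := hp.out.dvd_choose_self two_ne_zero
    (lt_of_le_of_ne hp.out.two_le (Ne.symm hp2))
  rw [hk, pow_mul, hd, one_pow]

/-- A group with central quotient of order at most `p ^ 2` has derived subgroup of order at most
`p` once its commutators have exponent `p`. -/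
theorem card_commutator_le_of_index_center {P : Type u} [Group P] [Finite P] (hP : IsPGroup p P)
    (hidx : (center P).index ≤ p ^ 2) (hexp : ∀ a b : P, ⁅a, b⁆ ^ p = 1)
    (hcent : ∀ a b : P, ⁅a, b⁆ ∈ center P) : Nat.card (commutator P) ≤ p := by
  by_cases hab : center P = ⊤
  · have : commutator P = ⊥ := by
      rw [_root_.commutator_def, eq_bot_iff, commutator_le]
      intro a _ b _
      rw [mem_bot, commutatorElement_eq_one_iff_mul_comm]
      exact (mem_center_iff.mp (hab ▸ mem_top a) b).symm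
    rw [this, card_bot]
    exact hp.out.one_le
  obtain ⟨x, -, hx⟩ := SetLike.not_le_iff_exists.mp fun h : ⊤ ≤ center P => hab (top_le_iff.mp h)
  obtain ⟨y, hy⟩ : ∃ y, ¬ Commute x y := by
    by_contra h
    push Not at h
    exact hx (mem_center_iff.mpr fun y => (h y).symm.eq)
  set A := center P ⊔ zpowers x with hA
  set S := A ⊔ zpowers y with hS
  have hA1 : center P < A :=
    lt_of_le_of_ne le_sup_left fun h => hx (h ▸ mem_sup_right (mem_zpowers x))
  have hA2 : A < S := by
    refine lt_of_le_of_ne le_sup_left fun h => hy ?_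
    have hyA : y ∈ A := h ▸ mem_sup_right (mem_zpowers y)
    have hAx : A ≤ centralizer {x} := sup_le
      (fun z hz => mem_centralizer_singleton_iff.mpr (mem_center_iff.mp hz x).symm)
      (zpowers_le.mpr (mem_centralizer_singleton_iff.mpr rfl))
    exact (mem_centralizer_singleton_iff.mp (hAx hyA)).symm
  have hStop : S = ⊤ := by
    by_contra hne
    obtain ⟨i, hi⟩ : ∃ i, (center P).index = p ^ i := IsPGroup.index hP _
    obtain ⟨j, hj⟩ : ∃ j, A.index = p ^ j := IsPGroup.index hP _
    obtain ⟨k, hk⟩ : ∃ k, S.index = p ^ k := IsPGroup.index hP _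
    have h1 := index_strictAnti hA1
    have h2 := index_strictAnti hA2
    have h3 : S.index ≠ 1 := fun h => hne (index_eq_one.mp h)
    rw [hi, hj] at h1
    rw [hj, hk] at h2
    rw [hi] at hidx
    rw [hk] at h3
    have e1 := (Nat.pow_lt_pow_iff_right hp.out.one_lt).mp h1
    have e2 := (Nat.pow_lt_pow_iff_right hp.out.one_lt).mp h2
    have e3 := (Nat.pow_le_pow_iff_right hp.out.one_lt).mp hidx
    have e4 : k ≠ 0 := fun h => h3 (by rw [h, pow_zero])
    omega
  set K := zpowers ⁅x, y⁆ with hK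
  haveI hKn : K.Normal := ⟨fun z hz g => by
    have hzc : z ∈ center P := zpowers_le.mpr (hcent x y) hz
    rwa [mem_center_iff.mp hzc g, mul_inv_cancel_right]⟩
  set π := QuotientGroup.mk' K with hπ
  have hcen : ∀ z ∈ center P, π z ∈ center (P ⧸ K) := fun z hz => mem_center_iff.mpr fun w => by
    obtain ⟨w, rfl⟩ := QuotientGroup.mk'_surjective K w
    rw [← map_mul, mem_center_iff.mp hz w, map_mul]
  have hxy : Commute (π x) (π y) := by
    rw [commute_iff_eq, ← commutatorElement_eq_one_iff_mul_comm, ← map_commutatorElement]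
    exact (QuotientGroup.eq_one_iff _).mpr (mem_zpowers _)
  have hall : ∀ t : P, Commute (π t) (π x) ∧ Commute (π t) (π y) := by
    intro t
    have hle : S ≤ ((centralizer ({π x} : Set (P ⧸ K))) ⊓ centralizer {π y}).comap π := by
      refine sup_le (sup_le (fun z hz => ?_) (zpowers_le.mpr ?_)) (zpowers_le.mpr ?_)
      · exact ⟨mem_centralizer_singleton_iff.mpr (mem_center_iff.mp (hcen z hz) _).symm,
          mem_centralizer_singleton_iff.mpr (mem_center_iff.mp (hcen z hz) _).symm⟩
      · exact ⟨mem_centralizer_singleton_iff.mpr rfl, mem_centralizer_singleton_iff.mpr hxy.eq⟩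
      · exact ⟨mem_centralizer_singleton_iff.mpr hxy.eq.symm, mem_centralizer_singleton_iff.mpr rfl⟩
    obtain ⟨h1, h2⟩ := hle (hStop ▸ mem_top t)
    exact ⟨mem_centralizer_singleton_iff.mp h1, mem_centralizer_singleton_iff.mp h2⟩
  have hle : commutator P ≤ K := by
    rw [_root_.commutator_def, commutator_le]
    intro a _ b _
    refine (QuotientGroup.eq_one_iff _).mp ?_
    show π ⁅a, b⁆ = 1
    rw [map_commutatorElement, commutatorElement_eq_one_iff_mul_comm]
    have hle2 : S ≤ (centralizer ({π a} : Set (P ⧸ K))).comap π := by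
      refine sup_le (sup_le (fun z hz => ?_) (zpowers_le.mpr ?_)) (zpowers_le.mpr ?_)
      · exact mem_centralizer_singleton_iff.mpr (mem_center_iff.mp (hcen z hz) _).symm
      · exact mem_centralizer_singleton_iff.mpr (hall a).1.eq.symm
      · exact mem_centralizer_singleton_iff.mpr (hall a).2.eq.symm
    exact (mem_centralizer_singleton_iff.mp (hle2 (hStop ▸ mem_top b))).symm
  refine (Nat.le_of_dvd Nat.card_pos (card_dvd_of_le hle)).trans ?_
  rw [hK, Nat.card_zpowers]
  exact Nat.le_of_dvd hp.out.pos (orderOf_dvd_of_pow_eq_one (hexp x y))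

/-- A `p`-group with central elements of order `p`, at most `p ^ 2` of them, and a fixed point free
automorphism of order prime to `p (p - 1)` is abelian. -/
theorem isMulCommutative_of_pCentral (hp2 : p ≠ 2) : ∀ (m : ℕ) {X : Type u} [Group X] [Finite X]
    (R : Subgroup X) [R.Normal], Nat.card R = m → IsPGroup p R →
    (∀ x ∈ R, x ^ p = 1 → x ∈ omegaCenter p R) → Nat.card (omegaCenter p R) ≤ p ^ 2 →
    ∀ a : X, (orderOf a).Coprime p → (p - 1).Coprime (orderOf a) →
      (∀ x ∈ R, ⁅a, x⁆ = 1 → x = 1) → IsMulCommutative R := by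
  intro m
  induction m using Nat.strong_induction_on with
  | _ m ih =>
  intro X _ _ R _ hm hR hc hH a hcop h1a hfree
  set H := omegaCenter p R with hHdef
  by_cases hb : R = ⊥
  · subst hb
    exact ⟨⟨fun a b => Subsingleton.elim _ _⟩⟩
  haveI hHn : H.Normal := omegaCenter_normal
  have hc' : ∀ z : R, z ^ p = 1 → z ∈ center R := fun z hz => mem_center_iff.mpr fun w =>
    Subtype.ext ((mem_omegaCenter_iff.mp (hc z z.2 (by simpa using congrArg Subtype.val hz))).2.2
      w w.2).eq.symm
  set π := QuotientGroup.mk' H with hπ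
  haveI : (R.map π).Normal := Normal.map inferInstance π (QuotientGroup.mk'_surjective H)
  have hker : π.ker = H := QuotientGroup.ker_mk' H
  have hHne : H ≠ ⊥ := fun h => by
    obtain ⟨x, hx⟩ := exists_prime_orderOf_dvd_card' p
      (hR.card_eq_or_dvd.resolve_left fun h => hb (card_eq_one.mp h))
    have hxH : (x : X) ∈ H := hc x x.2 (by
      rw [← hx, ← Subgroup.orderOf_coe, pow_orderOf_eq_one])
    rw [h, mem_bot] at hxH
    rw [← Subgroup.orderOf_coe, hxH, orderOf_one] at hx
    exact hp.out.ne_one hx.symm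
  have hlt : Nat.card (R.map π) < m := by
    have h1 : H.relIndex R = Nat.card (R.map π) :=
      (congrArg (fun K : Subgroup X => K.relIndex R) hker.symm).trans (relIndex_ker R π)
    have h2 := relIndex_mul_relIndex ⊥ H R bot_le omegaCenter_le
    rw [relIndex_bot_left, relIndex_bot_left, hm, h1] at h2
    rw [← h2]
    refine lt_mul_of_one_lt_left Nat.card_pos ?_
    exact (one_lt_card_iff_ne_bot H).mpr hHne
  -- commutators with elements whose `p`-th power is in `H`
  have hcomm : ∀ x ∈ R, x ^ p ∈ H → ∀ r ∈ R, ⁅r, x⁆ ∈ H := by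
    intro x hx hxH r hr
    have hxc : Commute r (x ^ p) := ((mem_omegaCenter_iff.mp hxH).2.2 r hr).symm
    have h1 := pow_eq_one_of_pow_eq (P := R) hR hp2 hc' (x := ⟨x, hx⟩)
      (y := ⟨r, hr⟩ * ⟨x, hx⟩ * ⟨r, hr⟩⁻¹) (Subtype.ext (by
        simp only [conj_pow, SubmonoidClass.coe_pow, Subgroup.coe_mul, Subgroup.coe_inv]
        rw [hxc.eq, mul_inv_cancel_right]))
    have h2 : (x⁻¹ * (r * x * r⁻¹)) ^ p = 1 := by simpa using congrArg Subtype.val h1
    have h3 : x⁻¹ * (r * x * r⁻¹) ∈ H := hc _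
      (mul_mem (inv_mem hx) ((inferInstance : R.Normal).conj_mem x hx r)) h2
    have h4 := hHn.conj_mem _ h3 x
    rwa [show x * (x⁻¹ * (r * x * r⁻¹)) * x⁻¹ = ⁅r, x⁆ by
      rw [commutatorElement_def]; group] at h4
  -- the preimage of the elements of order `p` of the quotient
  have hmul : ∀ x ∈ R, ∀ y ∈ R, x ^ p ∈ H → (x * y) ^ p = x ^ p * y ^ p := by
    intro x hx y hy hxH
    have hd : ⁅y, x⁆ ∈ H := hcomm x hx hxH y hy
    obtain ⟨-, hdp, hdc⟩ := mem_omegaCenter_iff.mp hd
    rw [Fusion.mul_pow_of_commute_commutator (hdc x hx) (hdc y hy) p]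
    obtain ⟨k, hk⟩ := hp.out.dvd_choose_self two_ne_zero
      (lt_of_le_of_ne hp.out.two_le (Ne.symm hp2))
    rw [hk, pow_mul, hdp, one_pow, mul_one]
  have hQH : ∀ w ∈ R.map π, w ^ p = 1 → ∃ x ∈ R, x ^ p ∈ H ∧ π x = w := by
    rintro _ ⟨x, hx, rfl⟩ hw
    refine ⟨x, hx, ?_, rfl⟩
    rw [← map_pow] at hw
    exact (QuotientGroup.eq_one_iff _).mp hw
  have hcQ : ∀ w ∈ R.map π, w ^ p = 1 → w ∈ omegaCenter p (R.map π) := by
    intro w hw hwp
    refine mem_omegaCenter_iff.mpr ⟨hw, hwp, ?_⟩
    obtain ⟨x, hx, hxH, rfl⟩ := hQH w hw hwp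
    rintro _ ⟨r, hr, rfl⟩
    refine (commutatorElement_eq_one_iff_commute.mp ?_).symm
    rw [← map_commutatorElement]
    exact (QuotientGroup.eq_one_iff _).mpr (hcomm x hx hxH r hr)
  let L : Subgroup X :=
    { carrier := {x | x ∈ R ∧ x ^ p ∈ H}
      one_mem' := ⟨one_mem _, by rw [one_pow]; exact one_mem _⟩
      mul_mem' := fun {x y} hx hy =>
        ⟨mul_mem hx.1 hy.1, by rw [hmul x hx.1 y hy.1 hx.2]; exact mul_mem hx.2 hy.2⟩
      inv_mem' := fun {x} hx => ⟨inv_mem hx.1, by rw [inv_pow]; exact inv_mem hx.2⟩ }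
  let f : L →* H :=
    { toFun := fun x => ⟨(x : X) ^ p, x.2.2⟩
      map_one' := Subtype.ext (one_pow p)
      map_mul' := fun x y => Subtype.ext (hmul x x.2.1 y y.2.1 x.2.2) }
  have hLcard : Nat.card (omegaCenter p (R.map π)) ≤ p ^ 2 := by
    have hle : omegaCenter p (R.map π) ≤ L.map π := fun w hw => by
      obtain ⟨hwR, hwp, -⟩ := mem_omegaCenter_iff.mp hw
      obtain ⟨x, hx, hxH, rfl⟩ := hQH w hwR hwp
      exact mem_map_of_mem π (show x ∈ L from ⟨hx, hxH⟩)
    refine (Nat.le_of_dvd Nat.card_pos (card_dvd_of_le hle)).trans ?_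
    rw [← relIndex_ker, hker]
    have h1 : f.ker = H.subgroupOf L := by
      ext x
      rw [MonoidHom.mem_ker, mem_subgroupOf]
      refine ⟨fun h => hc _ x.2.1 (congrArg Subtype.val h), fun h => ?_⟩
      exact Subtype.ext (mem_omegaCenter_iff.mp h).2.1
    show (H.subgroupOf L).index ≤ p ^ 2
    rw [← h1, index_ker]
    exact (Nat.le_of_dvd Nat.card_pos (Subgroup.card_subgroup_dvd_card f.range)).trans hH
  have hcopQ : (orderOf (π a)).Coprime p := hcop.coprime_dvd_left (orderOf_map_dvd π a)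
  have h1Q : (p - 1).Coprime (orderOf (π a)) := h1a.coprime_dvd_right (orderOf_map_dvd π a)
  have hHp : IsPGroup p H := hR.to_le omegaCenter_le
  have hfreeQ : ∀ w ∈ R.map π, ⁅π a, w⁆ = 1 → w = 1 := by
    rintro _ ⟨x, hx, rfl⟩ hw
    rw [← map_commutatorElement] at hw
    have hax : ⁅a, x⁆ ∈ H := (QuotientGroup.eq_one_iff _).mp hw
    obtain ⟨j, hj⟩ := IsPGroup.iff_card.mp hHp
    have hcopH : (Nat.card (zpowers a)).Coprime (Nat.card H) := by
      rw [Nat.card_zpowers, hj]; exact hcop.pow_right j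
    obtain ⟨n, hn, hnc⟩ := Coprime.exists_fixed_mem_leftCoset (A := zpowers a) (N := H)
      le_normalizer_of_normal hcopH (Or.inl inferInstance) (k := x) (fun b hb => by
        have hSb : b ∈ (centralizer ({π x} : Set (X ⧸ H))).comap π := by
          refine zpowers_le.mpr ?_ hb
          refine mem_centralizer_singleton_iff.mpr ?_
          exact commutatorElement_eq_one_iff_mul_comm.mp (by rwa [← map_commutatorElement])
        refine (QuotientGroup.eq_one_iff _).mp ?_
        show π (x⁻¹ * (b * x * b⁻¹)) = 1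
        have h5 : π b * π x = π x * π b := mem_centralizer_singleton_iff.mp hSb
        simp only [map_mul, map_inv, h5, mul_inv_cancel_right, inv_mul_cancel])
    have h6 : x * n = 1 := hfree _ (mul_mem hx (omegaCenter_le hn))
      (commutatorElement_eq_one_iff_mul_comm.mpr (mem_centralizer_iff.mp hnc a (mem_zpowers a)))
    refine (QuotientGroup.eq_one_iff _).mpr ?_
    rw [eq_inv_of_mul_eq_one_left h6]
    exact inv_mem hn
  haveI := ih _ hlt (R.map π) rfl (hR.map π) hcQ hLcard (π a) hcopQ h1Q hfreeQ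
  -- so `R` has class two
  have hcl : ∀ x y : R, ⁅(x : X), (y : X)⁆ ∈ H := fun x y => by
    refine (QuotientGroup.eq_one_iff _).mp ?_
    show π ⁅(x : X), (y : X)⁆ = 1
    rw [map_commutatorElement, commutatorElement_eq_one_iff_mul_comm]
    exact congrArg Subtype.val (IsMulCommutative.is_comm.comm
      (⟨π x, mem_map_of_mem π x.2⟩ : R.map π) ⟨π y, mem_map_of_mem π y.2⟩)
  have hcent : ∀ x y : R, ⁅x, y⁆ ∈ center R := fun x y => mem_center_iff.mpr fun w =>
    Subtype.ext ((mem_omegaCenter_iff.mp (hcl x y)).2.2 w w.2).eq.symm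
  have hexp : ∀ x y : R, ⁅x, y⁆ ^ p = 1 := fun x y =>
    Subtype.ext (mem_omegaCenter_iff.mp (hcl x y)).2.1
  let g : R →* R :=
    { toFun := fun x => x ^ p
      map_one' := one_pow p
      map_mul' := fun x y => by
        rw [Fusion.mul_pow_of_commute_commutator ((mem_center_iff.mp (hcent y x) x).symm)
          ((mem_center_iff.mp (hcent y x) y).symm) p]
        obtain ⟨k, hk⟩ := hp.out.dvd_choose_self two_ne_zero
          (lt_of_le_of_ne hp.out.two_le (Ne.symm hp2))
        rw [hk, pow_mul, hexp, one_pow, mul_one] }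
  have hrange : g.range ≤ center R := by
    rintro _ ⟨x, rfl⟩
    refine mem_center_iff.mpr fun w => ?_
    show w * x ^ p = x ^ p * w
    have h1 : Commute ⁅w, x⁆ (w * x * w⁻¹) := (mem_center_iff.mp (hcent w x) _).symm
    have h2 : w * x ^ p * w⁻¹ = x ^ p := by
      rw [← conj_pow]
      calc (w * x * w⁻¹) ^ p = (⁅w, x⁆ * x) ^ p := by rw [commutatorElement_def]; congr 1; group
        _ = x ^ p := by
          rw [(show Commute ⁅w, x⁆ x from (mem_center_iff.mp (hcent w x) x).symm).mul_pow, hexp,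
            one_mul]
    exact mul_inv_eq_iff_eq_mul.mp h2
  have hidx : (center R).index ≤ p ^ 2 := by
    refine (Nat.le_of_dvd (Nat.pos_of_ne_zero Subgroup.index_ne_zero_of_finite)
      (Subgroup.index_dvd_of_le hrange)).trans ?_
    have h1 := g.ker.card_mul_index
    have h2 := g.range.card_mul_index
    rw [index_ker] at h1
    have h3 : g.range.index = Nat.card g.ker := by
      refine Nat.eq_of_mul_eq_mul_left (Nat.card_pos (α := g.range)) ?_
      rw [h2, ← h1, mul_comm]
    rw [h3, ← card_map_of_injective R.subtype_injective]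
    refine (Nat.le_of_dvd Nat.card_pos (card_dvd_of_le ?_)).trans hH
    rintro _ ⟨x, hx, rfl⟩
    exact hc _ x.2 (congrArg Subtype.val hx)
  have hsmall := card_commutator_le_of_index_center hR hidx hexp hcent
  -- a fixed point free element fixes nothing
  set C := (commutator R).map R.subtype with hC
  have hCcard : Nat.card C ∣ p := by
    rw [hC, card_map_of_injective R.subtype_injective]
    obtain ⟨j, hj⟩ := IsPGroup.iff_card.mp (hR.to_subgroup (commutator R))
    rw [hj] at hsmall ⊢
    have h5 : j ≤ 1 := (Nat.pow_le_pow_iff_right hp.out.one_lt).mp (by rwa [pow_one])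
    exact (pow_dvd_pow p h5).trans (pow_one p).dvd
  haveI hCn : C.Normal := inferInstance
  have hCfix : ∀ x ∈ C, x = 1 := fun x hx => hfree x (map_subtype_le _ hx) (by
    have := trivialOnSmallFactors_of_coprime h1a C ⊥ hCn inferInstance bot_le
      (by rwa [relIndex_bot_left]) x hx
    rwa [mem_bot] at this)
  refine ⟨⟨fun x y => ?_⟩⟩
  have h7 := hCfix _ (mem_map_of_mem R.subtype
    (commutator_mem_commutator (mem_top x) (mem_top y) : ⁅x, y⁆ ∈ commutator R))
  exact commutatorElement_eq_one_iff_mul_comm.mp (Subtype.ext h7)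

/-- Case `[R, A] = R` of BG Theorem 5.5. -/
theorem card_eq_cube_of_rank_two [R.Normal] (hp2 : p ≠ 2) (hR : IsPGroup p R) (hr : PRankLE p 2 R)
    {a : X} (hcop : (orderOf a).Coprime p) (h1a : (p - 1).Coprime (orderOf a))
    (hfull : R ≤ ⁅R, zpowers a⁆) (hne : ¬ IsMulCommutative R) : Nat.card R = p ^ 3 := by
  have hRne : R ≠ ⊥ := fun hb => hne (by subst hb; exact ⟨⟨fun a b => Subsingleton.elim _ _⟩⟩)
  have haR : a ∉ centralizer (R : Set X) := fun h => hRne (le_bot_iff.mp (hfull.trans_eq
      (commutator_eq_bot_iff_le_centralizer.mpr (le_centralizer_iff.mp (zpowers_le.mpr h)))))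
  set H := omegaCenter p R with hHdef
  haveI hHn : H.Normal := omegaCenter_normal
  have hHp : IsPGroup p H := hR.to_le omegaCenter_le
  have hHe : IsElementaryAbelian p H := omegaCenter_elementary
  have hbound : ∀ V : Subgroup X, V ≤ R → IsElementaryAbelian p V → Nat.card V ≤ p ^ 2 := by
    intro V hV hVe
    have := hr (V.subgroupOf R)
      ⟨⟨fun a b => Subtype.ext (Subtype.ext (Coprime.ea_comm hVe a.2 b.2))⟩⟩
      (fun x hx => Subtype.ext (by simpa using hVe.2 (x : X) hx))
    rwa [Coprime.card_subgroupOf hV] at this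
  have hnorm : ∀ (L : Subgroup X) [L.Normal] (g : X), g ∈ normalizer (L : Set X) := fun L _ g =>
    (normalizer_eq_top L).ge (mem_top g)
  have hnormle : ∀ (L M : Subgroup X) [L.Normal], M ≤ normalizer (L : Set X) := fun L M _ x _ =>
    hnorm L x
  have hbot : a ∈ centralizer ((⊥ : Subgroup X) : Set X) := by
    rw [mem_centralizer_iff]
    intro w hw
    rw [SetLike.mem_coe, mem_bot] at hw
    rw [hw, one_mul, mul_one]
  have hHne : H ≠ ⊥ := fun h => by
    obtain ⟨z, hz, hz1⟩ := exists_mem_omegaCenter (q := p) hR hRne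
    exact hz1 (by rwa [← hHdef, h, mem_bot] at hz)
  obtain ⟨hh, hhc⟩ := IsPGroup.iff_card.mp hHp
  have hh1 : 1 ≤ hh := Nat.one_le_iff_ne_zero.mpr fun h0 =>
    hHne (Subgroup.card_eq_one.mp (by rw [hhc, h0, pow_zero]))
  have hh2 : hh ≤ 2 := (Nat.pow_le_pow_iff_right hp.out.one_lt).mp
    (hhc ▸ hbound _ omegaCenter_le omegaCenter_elementary)
  by_cases hcase : ∀ x ∈ R, x ^ p = 1 → x ∈ H
  · -- every element of order `p` is central: `R` is abelian
    refine absurd (isMulCommutative_of_pCentral hp2 _ R rfl hR hcase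
      (hbound _ omegaCenter_le omegaCenter_elementary) a hcop h1a fun x hx hax => ?_) hne
    by_contra hx1
    obtain ⟨k, hk⟩ := hR ⟨x, hx⟩
    obtain ⟨j, -, hj⟩ := (Nat.dvd_prime_pow hp.out).mp
      (orderOf_dvd_of_pow_eq_one (congrArg Subtype.val hk : x ^ p ^ k = 1))
    have hd : p ∣ orderOf x := by
      rw [hj]
      refine dvd_pow_self p fun h0 => hx1 ?_
      rw [h0, pow_zero, orderOf_eq_one_iff] at hj
      exact hj
    obtain ⟨i, hi⟩ := hd
    set z := x ^ i with hz
    have hi0 : i ≠ 0 := fun h0 => (orderOf_pos x).ne' (by rw [hi, h0, mul_zero])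
    have hzo : orderOf z = p := by
      rw [hz, orderOf_pow_of_dvd hi0 ⟨p, by rw [hi, mul_comm]⟩, hi,
        Nat.mul_div_cancel _ (Nat.pos_of_ne_zero hi0)]
    have hzH : z ∈ H := hcase z (pow_mem hx i) (hzo ▸ pow_orderOf_eq_one z)
    have hza : a ∈ centralizer (zpowers z : Set X) := by
      refine mem_centralizer_iff.mpr fun w hw => ?_
      obtain ⟨m, rfl⟩ := mem_zpowers_iff.mp hw
      exact (((commutatorElement_eq_one_iff_commute.mp hax).symm.pow_left i).zpow_left m).eq
    have haH : a ∈ centralizer (H : Set X) := by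
      refine mem_centralizer_of_small_step hcop h1a (hR.to_le (zpowers_le.mpr (pow_mem hx i)))
        (zpowers_le.mpr hzH) ?_ (hnorm H a) ?_ hza
      · exact le_trans ((Coprime.ea_le_centralizer hHe).trans
          (centralizer_le (SetLike.coe_subset_coe.mpr (zpowers_le.mpr hzH))))
          (centralizer_le_normalizer _)
      · have h3 := relIndex_mul_relIndex ⊥ (zpowers z) H bot_le (zpowers_le.mpr hzH)
        rw [relIndex_bot_left, relIndex_bot_left, Nat.card_zpowers, hzo, hhc] at h3
        refine Nat.dvd_of_mul_dvd_mul_left hp.out.pos ?_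
        rw [h3, ← pow_two]
        exact pow_dvd_pow p hh2
    refine haR (LocalStructure.le_centralizer_of_fixes_omega hp2 hR le_normalizer_of_normal
      (by rwa [Nat.card_zpowers]) (fun v hv hvp b hb => ?_) (mem_zpowers a))
    obtain ⟨m, rfl⟩ := mem_zpowers_iff.mp hb
    exact ((show Commute v a from mem_centralizer_iff.mp haH v (hcase v hv hvp)).zpow_right m).eq.symm
  push Not at hcase
  obtain ⟨u, hu, hup, huH⟩ := hcase
  -- `Ω₁(Z(R))` has order `p`
  have hHcard : Nat.card H = p := by
    have huc : u ∈ centralizer (H : Set X) := le_centralizer_omegaCenter hu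
    have h1 := hbound _ (sup_le omegaCenter_le (zpowers_le.mpr hu))
      (isElementaryAbelian_sup_zpowers hHe hup huc)
    rw [card_sup_zpowers_of_not_mem hup huc huH, hhc, ← pow_succ] at h1
    have h2 := (Nat.pow_le_pow_iff_right hp.out.one_lt).mp h1
    rw [hhc, show hh = 1 by omega, pow_one]
  have haH : a ∈ centralizer (H : Set X) :=
    mem_centralizer_of_small_step hcop h1a IsPGroup.of_bot bot_le (hnormle ⊥ H) (hnorm H a)
      (by rw [relIndex_bot_left, hHcard]) hbot
  obtain ⟨D, hDR, hDn, hDV, hdet⟩ := exists_detecting hp2 hR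
  have haD : a ∉ centralizer (D : Set X) := fun h =>
    haR (hdet (zpowers a) (by rwa [Nat.card_zpowers]) (zpowers_le.mpr h) (mem_zpowers a))
  have hDp : IsPGroup p D := hR.to_le hDR
  have hDne : D ≠ ⊥ := fun h => haD (by rw [h]; exact hbot)
  have hHD : H ≤ D := by
    have hD0 : D.subgroupOf R ≠ ⊥ := fun h => hDne (by
      rw [← map_subgroupOf_eq_of_le hDR, h, Subgroup.map_bot])
    obtain ⟨Y, hYD, hYc, -, hYp⟩ := Fusion.exists_central_card_prime hR (D.subgroupOf R) hD0
    have hYH : Y.map R.subtype ≤ H := by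
      rintro _ ⟨y, hy, rfl⟩
      refine mem_omegaCenter_iff.mpr ⟨y.2, hDV.1 _ (hYD hy), fun v hv => ?_⟩
      exact (congrArg Subtype.val (mem_center_iff.mp (hYc hy) ⟨v, hv⟩)).symm
    rw [← eq_of_le_of_card_ge hYH
      (by rw [card_map_of_injective R.subtype_injective, hYp, hHcard])]
    rintro _ ⟨y, hy, rfl⟩
    exact hYD hy
  have hrelH : ∀ (U : Subgroup X), H ≤ U → Nat.card U ∣ p ^ 2 → H.relIndex U ∣ p := by
    intro U hU hUc
    have h3 := relIndex_mul_relIndex ⊥ H U bot_le hU
    rw [relIndex_bot_left, relIndex_bot_left, hHcard] at h3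
    refine Nat.dvd_of_mul_dvd_mul_left hp.out.pos ?_
    rwa [h3, ← pow_two]
  -- `D` is not abelian
  obtain ⟨x, hx, y, hy, hxy⟩ : ∃ x ∈ D, ∃ y ∈ D, ¬ Commute x y := by
    by_contra h
    push Not at h
    have hDe : IsElementaryAbelian p D :=
      ⟨⟨⟨fun a b => Subtype.ext (h a a.2 b b.2).eq⟩⟩, fun w hw => hDV.1 w hw⟩
    obtain ⟨j, hj⟩ := IsPGroup.iff_card.mp hDp
    refine haD (mem_centralizer_of_small_step hcop h1a hHp hHD (hnormle H D) (hnorm D a)
      (hrelH D hHD (hj ▸ pow_dvd_pow p ((Nat.pow_le_pow_iff_right hp.out.one_lt).mp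
        (hj ▸ hbound D hDR hDe)))) haH)
  have hxH : x ∉ H := fun h => hxy ((mem_omegaCenter_iff.mp h).2.2 y (hDR hy))
  have hxc : x ∈ centralizer (H : Set X) := le_centralizer_omegaCenter (hDR hx)
  set A := H ⊔ zpowers x with hA
  have hAe : IsElementaryAbelian p A := isElementaryAbelian_sup_zpowers hHe (hDV.1 x hx) hxc
  have hAc : Nat.card A = p ^ 2 := by
    rw [hA, card_sup_zpowers_of_not_mem (hDV.1 x hx) hxc hxH, hHcard, pow_two]
  have hAD : A ≤ D := sup_le hHD (zpowers_le.mpr hx)
  have hCx : ∀ w ∈ R, w ^ p = 1 → Commute w x → w ∈ A := by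
    intro w hw hwp hwx
    by_contra hwA
    have hle : A ≤ centralizer {w} := sup_le (fun z hz => mem_centralizer_singleton_iff.mpr
      ((mem_omegaCenter_iff.mp hz).2.2 w hw).eq) (zpowers_le.mpr
      (mem_centralizer_singleton_iff.mpr hwx.eq.symm))
    have hwc : w ∈ centralizer (A : Set X) :=
      mem_centralizer_iff.mpr fun z hz => mem_centralizer_singleton_iff.mp (hle hz)
    have h1 := hbound _ (sup_le (hAD.trans hDR) (zpowers_le.mpr hw))
      (isElementaryAbelian_sup_zpowers hAe hwp hwc)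
    rw [card_sup_zpowers_of_not_mem hwp hwc hwA, hAc, ← pow_succ] at h1
    exact absurd ((Nat.pow_le_pow_iff_right hp.out.one_lt).mp h1) (by norm_num)
  have hcenD : ∀ w ∈ D, (∀ d ∈ D, Commute w d) → w ∈ H := by
    intro w hw hwD
    by_contra hwH
    have hwA := hCx w (hDR hw) (hDV.1 w hw) (hwD x hx)
    have hwc : w ∈ centralizer (H : Set X) := le_centralizer_omegaCenter (hDR hw)
    have heq : H ⊔ zpowers w = A := eq_of_le_of_card_ge (sup_le le_sup_left (zpowers_le.mpr hwA))
      (by rw [card_sup_zpowers_of_not_mem (hDV.1 w hw) hwc hwH, hHcard, hAc, pow_two])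
    have hAy : A ≤ centralizer {y} := heq ▸ sup_le (fun z hz => mem_centralizer_singleton_iff.mpr
      ((mem_omegaCenter_iff.mp hz).2.2 y (hDR hy)).eq)
      (zpowers_le.mpr (mem_centralizer_singleton_iff.mpr (hwD y hy).eq))
    exact hxy (mem_centralizer_singleton_iff.mp (hAy (mem_sup_right (mem_zpowers x))))
  have hDD : ∀ b ∈ D, ∀ c ∈ D, ⁅b, c⁆ ∈ H := fun b hb c hc => by
    refine hcenD _ ?_ fun d hd => commutatorElement_eq_one_iff_commute.mp (hDV.2 b hb c hc d hd)
    exact D.mul_mem (D.mul_mem (D.mul_mem hb hc) (D.inv_mem hb)) (D.inv_mem hc)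
  -- `|D| = p ^ 3`
  set S := A ⊔ zpowers y with hS
  have hyA : y ∉ A := fun h =>
    hxy (Coprime.ea_comm hAe (mem_sup_right (mem_zpowers x)) h)
  have hSD : S ≤ D := sup_le hAD (zpowers_le.mpr hy)
  have hDle : Nat.card D ≤ p ^ 3 := by
    have h1 := card_le_of_commutator_mem (L := D) (N := H) (s := x) fun k hk => hDD k hk x hx
    refine h1.trans ?_
    rw [hHcard, pow_succ]
    refine Nat.mul_le_mul ((Nat.le_of_dvd Nat.card_pos (card_dvd_of_le ?_)).trans hAc.le) le_rfl
    exact fun w hw => hCx w (hDR hw.1) (hDV.1 w hw.1) (mem_centralizer_singleton_iff.mp hw.2)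
  have hDeq : S = D ∧ Nat.card D = p ^ 3 := by
    obtain ⟨j, hj⟩ := IsPGroup.iff_card.mp (hDp.to_le hSD)
    have hlt : A < S := lt_of_le_of_ne le_sup_left fun h => hyA (h ▸ mem_sup_right (mem_zpowers y))
    have h1 := Core.card_lt_of_lt hlt
    rw [hAc, hj] at h1
    have h2 : p ^ 3 ≤ Nat.card S :=
      hj ▸ Nat.pow_le_pow_right hp.out.pos ((Nat.pow_lt_pow_iff_right hp.out.one_lt).mp h1)
    have h3 : S = D := eq_of_le_of_card_ge hSD (hDle.trans h2)
    exact ⟨h3, le_antisymm hDle (h3 ▸ h2)⟩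
  obtain ⟨hSeq, hDcard⟩ := hDeq
  -- `[D, R] ≤ H`
  have hDRH : ∀ r ∈ R, ∀ d ∈ D, ⁅r, d⁆ ∈ H := by
    set K := ⁅D, R⁆ ⊔ H with hK
    have hKD : K ≤ D := sup_le (commutator_le_left D R) hHD
    have hH0 : H.subgroupOf R < D.subgroupOf R := by
      refine lt_of_le_of_ne (comap_mono hHD) fun h => hxH ?_
      have : (⟨x, hDR hx⟩ : R) ∈ H.subgroupOf R := h.ge hx
      exact this
    obtain ⟨L₀, hL₀n, hHL₀, hL₀D, hL₀c, -⟩ :=
      Fusion.exists_normal_card_succ hR (H.subgroupOf R) (D.subgroupOf R) hH0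
    rw [Coprime.card_subgroupOf omegaCenter_le, hHcard] at hL₀c
    have hrel : L₀.relIndex (D.subgroupOf R) ∣ p := by
      have h3 := relIndex_mul_relIndex ⊥ L₀ (D.subgroupOf R) bot_le hL₀D
      rw [relIndex_bot_left, relIndex_bot_left, Coprime.card_subgroupOf hDR, hDcard, hL₀c] at h3
      refine (Nat.eq_of_mul_eq_mul_left (mul_pos hp.out.pos hp.out.pos) ?_).dvd
      rw [h3]
      ring
    have hKL : K ≤ L₀.map R.subtype := by
      refine sup_le ?_ ?_
      · rw [commutator_le]
        intro d hd r hr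
        obtain ⟨k, hk⟩ := hR ⟨r, hr⟩
        have h5 := commutator_mem_of_pow_eq_one hrel hk (l := (⟨d, hDR hd⟩ : R)) hd
        rw [← commutatorElement_inv]
        exact inv_mem ⟨_, h5, rfl⟩
      · rw [← map_subgroupOf_eq_of_le (show H ≤ R from omegaCenter_le)]
        exact map_mono hHL₀
    have hKc : Nat.card K ∣ p ^ 2 := by
      have h6 := card_dvd_of_le hKL
      rwa [card_map_of_injective R.subtype_injective, hL₀c, ← pow_two] at h6
    have hKH : K = H := by
      obtain ⟨j, hj2, hj⟩ := (Nat.dvd_prime_pow hp.out).mp hKc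
      rcases le_or_gt j 1 with hj1 | hj1
      · refine (eq_of_le_of_card_ge le_sup_right ?_).symm
        rw [hHcard, hj]
        exact (Nat.pow_le_pow_right hp.out.pos hj1).trans_eq (pow_one p)
      · have hKc2 : Nat.card K = p ^ 2 := by rw [hj, show j = 2 by omega]
        have haK : a ∈ centralizer (K : Set X) := mem_centralizer_of_small_step hcop h1a hHp
          le_sup_right (hnormle H K) (hnorm K a) (hrelH K le_sup_right hKc) haH
        refine absurd (mem_centralizer_of_small_step hcop h1a (hDp.to_le hKD) hKD (hnormle K D)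
          (hnorm D a) ?_ haK) haD
        have h3 := relIndex_mul_relIndex ⊥ K D bot_le hKD
        rw [relIndex_bot_left, relIndex_bot_left, hKc2, hDcard] at h3
        refine (Nat.eq_of_mul_eq_mul_left (pow_pos hp.out.pos 2) ?_).dvd
        rw [h3]
        ring
    intro r hr d hd
    rw [← commutatorElement_inv]
    exact inv_mem (hKH.le (mem_sup_left (commutator_mem_commutator hd hr)))
  -- `R = D C_R(D)`
  set C := R ⊓ centralizer (D : Set X) with hC
  have hCxy : R ⊓ centralizer {x} ⊓ centralizer {y} ≤ C := by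
    rintro w ⟨⟨hw, hwx⟩, hwy⟩
    refine ⟨hw, mem_centralizer_iff.mpr fun d hd => ?_⟩
    have hle : S ≤ centralizer {w} := sup_le (sup_le
      (fun z hz => mem_centralizer_singleton_iff.mpr ((mem_omegaCenter_iff.mp hz).2.2 w hw).eq)
      (zpowers_le.mpr (mem_centralizer_singleton_iff.mpr (mem_centralizer_singleton_iff.mp hwx).symm)))
      (zpowers_le.mpr (mem_centralizer_singleton_iff.mpr (mem_centralizer_singleton_iff.mp hwy).symm))
    exact mem_centralizer_singleton_iff.mp (hle (hSeq.ge hd))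
  have hRle : Nat.card R ≤ Nat.card C * p ^ 2 := by
    have h1 := card_le_of_commutator_mem (L := R) (N := H) (s := x) fun k hk => hDRH k hk x hx
    have h2 := card_le_of_commutator_mem (L := R ⊓ centralizer {x}) (N := H) (s := y)
      fun k hk => hDRH k hk.1 y hy
    rw [hHcard] at h1 h2
    have h3 := Nat.le_of_dvd Nat.card_pos (card_dvd_of_le hCxy)
    calc Nat.card R ≤ _ := h1
      _ ≤ (Nat.card C * p) * p := Nat.mul_le_mul (h2.trans (Nat.mul_le_mul h3 le_rfl)) le_rfl
      _ = Nat.card C * p ^ 2 := by ring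
  have hCω : ∀ w ∈ C, w ^ p = 1 → w ∈ H := by
    rintro w ⟨hw, hwD⟩ hwp
    have hwx : Commute w x := (mem_centralizer_iff.mp hwD x hx).symm
    exact hcenD w (hAD (hCx w hw hwp hwx)) fun d hd => (mem_centralizer_iff.mp hwD d hd).symm
  have haC : a ∈ centralizer (C : Set X) :=
    LocalStructure.le_centralizer_of_fixes_omega hp2 (hR.to_le inf_le_left) le_normalizer_of_normal
      (by rwa [Nat.card_zpowers]) (fun v hv hvp b hb => by
        obtain ⟨m, rfl⟩ := mem_zpowers_iff.mp hb
        exact ((show Commute v a from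
          mem_centralizer_iff.mp haH v (hCω v hv hvp)).zpow_right m).eq.symm) (mem_zpowers a)
  have hsup : D ⊔ C = R := by
    refine eq_of_le_of_card_ge (sup_le hDR inf_le_left) ?_
    have h1 := Core.card_sup_mul_card_inf D C
    have h2 : Nat.card (D ⊓ C : Subgroup X) ≤ p := by
      rw [← hHcard]
      exact Nat.le_of_dvd Nat.card_pos (card_dvd_of_le fun w hw => hCω w hw.2 (hDV.1 w hw.1))
    refine Nat.le_of_mul_le_mul_right ?_ hp.out.pos
    calc Nat.card R * p ≤ Nat.card C * p ^ 2 * p := Nat.mul_le_mul hRle le_rfl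
      _ = Nat.card D * Nat.card C := by rw [hDcard]; ring
      _ = _ := h1.symm
      _ ≤ _ := Nat.mul_le_mul le_rfl h2
  have hRD : R ≤ D := hfull.trans (commutator_le.mpr fun r hr b hb => by
    obtain ⟨d, hd, c, hc, rfl⟩ :=
      (Coprime.mem_sup_of_le_normalizer (hnormle D C)).mp (hsup.ge hr)
    obtain ⟨m, rfl⟩ := mem_zpowers_iff.mp hb
    have hca : Commute c (a ^ m) :=
      (show Commute c a from mem_centralizer_iff.mp haC c hc).zpow_right m
    have h1 : ⁅d * c, a ^ m⁆ = d * ((a ^ m) * d⁻¹ * (a ^ m)⁻¹) := by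
      calc ⁅d * c, a ^ m⁆ = d * (c * a ^ m) * c⁻¹ * d⁻¹ * (a ^ m)⁻¹ := by
            rw [commutatorElement_def]; group
        _ = d * (a ^ m * c) * c⁻¹ * d⁻¹ * (a ^ m)⁻¹ := by rw [hca.eq]
        _ = _ := by group
    rw [h1]
    exact mul_mem hd (hDn.conj_mem _ (inv_mem hd) _))
  rw [le_antisymm hRD hDR, hDcard]

/-- Narrowness is invariant under isomorphism. -/
theorem isNarrow_congr {P : Type u} [Group P] [Finite P] {Q : Type u} [Group Q] [Finite Q]
    (e : P ≃* Q) (h : IsNarrow p P) : IsNarrow p Q := by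
  rcases h with h | ⟨R₀, R₁, h0, hcyc, hinf, hcomm, hsup⟩
  · exact Or.inl (pRankLE_of_injective e.symm.toMonoidHom e.symm.injective h)
  refine Or.inr ⟨R₀.map e.toMonoidHom, R₁.map e.toMonoidHom, ?_, ?_, ?_, ?_, ?_⟩
  · rw [card_map_of_injective e.injective, h0]
  · haveI := hcyc
    exact isCyclic_of_surjective _ (e.subgroupMap R₁).surjective
  · rw [← map_inf _ _ _ e.injective, hinf, Subgroup.map_bot]
  · rintro _ ⟨a, ha, rfl⟩ _ ⟨b, hb, rfl⟩
    rw [← map_mul, hcomm a ha b hb, map_mul]
  · rw [← Subgroup.map_sup, hsup]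
    ext x
    constructor
    · rintro ⟨c, hc, rfl⟩
      rw [mem_centralizer_iff]
      rintro _ ⟨a, ha, rfl⟩
      rw [← map_mul, mem_centralizer_iff.mp hc a ha, map_mul]
    · intro hx
      refine ⟨e.symm x, mem_centralizer_iff.mpr fun a ha => ?_, e.apply_symm_apply x⟩
      refine e.injective ?_
      rw [map_mul, map_mul, e.apply_symm_apply]
      exact mem_centralizer_iff.mp hx (e a) (mem_map_of_mem _ ha)

end Cfsg.Agent.OddLocal
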