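import Cfsg.Agent.OddLocal.LinTwo
import Cfsg.Agent.OddLocal.StabFactors
import Cfsg.Agent.Coprime.Tools
import Cfsg.Agent.Coprime.Hall

/-!
An element of odd order prime to `p` acting on a group `R` of class two with `R` modulo a central
line of order `p ^ 2`, fixing the line pointwise and with no power centralising `R`: its order
divides `p - 1` or `p + 1`.
-/

set_option autoImplicit false
set_option linter.unusedSectionVars false
set_option linter.style.haveILetI false

namespace Cfsg.Agent.OddLocal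

open Subgroup
open scoped commutatorElement

universe u

variable {X : Type u} [Group X]

theorem conj_pow_of_central {a b : X} (hca : Commute ⁅a, b⁆ a) (hcb : Commute ⁅a, b⁆ b) (i j : ℕ) :
    ⁅a ^ i, b ^ j⁆ = ⁅a, b⁆ ^ (i * j) := by
  set c := ⁅a, b⁆ with hc
  have h1 : a * b * a⁻¹ = c * b := by rw [hc, commutatorElement_def]; group
  have h2 : ∀ i : ℕ, a ^ i * b * (a ^ i)⁻¹ = c ^ i * b := by
    intro i
    induction i with
    | zero => simp
    | succ i ih =>
      calc a ^ (i + 1) * b * (a ^ (i + 1))⁻¹ = a * (a ^ i * b * (a ^ i)⁻¹) * a⁻¹ := by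
            rw [pow_succ']; group
        _ = a * (c ^ i * b) * a⁻¹ := by rw [ih]
        _ = c ^ i * (a * b * a⁻¹) := by
          rw [← mul_assoc, ← ((hca.pow_left i).eq)]; group
        _ = c ^ (i + 1) * b := by rw [h1, pow_succ, mul_assoc]
  have h3 : a ^ i * b ^ j * (a ^ i)⁻¹ = c ^ (i * j) * b ^ j := by
    rw [← conj_pow, h2, (hcb.pow_left i).mul_pow, ← pow_mul]
  rw [commutatorElement_def, h3, mul_inv_cancel_right]

theorem commutator_mul_central {a b c d : X} (hca : Commute c a) (hcb : Commute c b)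
    (hcd : Commute c d) (hda : Commute d a) (hdb : Commute d b) :
    ⁅a * c, b * d⁆ = ⁅a, b⁆ := by
  have h1 : a * c * (b * d) = a * b * (c * d) := by
    calc a * c * (b * d) = a * (c * b) * d := by group
      _ = a * b * (c * d) := by rw [hcb.eq]; group
  have h2 : b * d * (a * c) = b * a * (c * d) := by
    calc b * d * (a * c) = b * (d * a) * c := by group
      _ = b * a * (d * c) := by rw [hda.eq]; group
      _ = b * a * (c * d) := by rw [hcd.eq]
  calc ⁅a * c, b * d⁆ = (a * c * (b * d)) * (b * d * (a * c))⁻¹ := by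
        rw [commutatorElement_def]; group
    _ = ⁅a, b⁆ := by rw [h1, h2, commutatorElement_def]; group

variable [Finite X] {p : ℕ} [hp : Fact p.Prime]

theorem commutator_sup_le_commutator {A C : Subgroup X} (hC : IsMulCommutative C)
    (h : C ≤ centralizer (A : Set X)) : ⁅A ⊔ C, A ⊔ C⁆ ≤ ⁅A, A⁆ := by
  have hn : C ≤ normalizer (A : Set X) := h.trans (centralizer_le_normalizer _)
  rw [commutator_le]
  intro x hx y hy
  obtain ⟨a, ha, c, hc, rfl⟩ := (Coprime.mem_sup_of_le_normalizer hn).mp hx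
  obtain ⟨b, hb, d, hd, rfl⟩ := (Coprime.mem_sup_of_le_normalizer hn).mp hy
  have hcom : ∀ {u v : X}, u ∈ C → v ∈ A → Commute u v := fun hu hv =>
    (mem_centralizer_iff.mp (h hu) _ hv).symm
  rw [commutator_mul_central (hcom hc ha) (hcom hc hb)
    (congrArg (fun z : C => (z : X)) (mul_comm' (⟨c, hc⟩ : C) ⟨d, hd⟩)) (hcom hd ha) (hcom hd hb)]
  exact commutator_mem_commutator ha hb

/-- See the module docstring. -/
theorem orderOf_dvd_pred_or_succ {R L : Subgroup X} [R.Normal] [L.Normal] (hLR : L ≤ R)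
    (hL : Nat.card L = p) (hR : Nat.card R = p ^ 3) (hexp : ∀ a ∈ R, a ^ p = 1)
    (hcomm : ∀ a ∈ R, ∀ b ∈ R, ⁅a, b⁆ ∈ L) (hcent : R ≤ centralizer (L : Set X))
    (hnc : ¬ IsMulCommutative R) {k : X} (hkL : k ∈ centralizer (L : Set X))
    (hcop : (orderOf k).Coprime p) (hodd : Odd (orderOf k))
    (hfree : ∀ n : ℕ, k ^ n ∈ centralizer (R : Set X) → k ^ n = 1) :
    orderOf k ∣ p - 1 ∨ orderOf k ∣ p + 1 := by
  have hLp : IsPGroup p L := IsPGroup.of_card (n := 1) (by rw [hL, pow_one])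
  set π := QuotientGroup.mk' L with hπ
  set W := R.map π with hW
  haveI : W.Normal := (inferInstance : R.Normal).map π (QuotientGroup.mk'_surjective _)
  have hWexp : ∀ w : W, w ^ p = 1 := by
    rintro ⟨_, r, hr, rfl⟩
    exact Subtype.ext (by rw [SubmonoidClass.coe_pow, ← map_pow, hexp r hr, map_one, coe_one])
  have hWcard : Nat.card W = p ^ 2 := by
    rw [hW, ← relIndex_ker, hπ, QuotientGroup.ker_mk']
    have h1 := Coprime.card_mul_relIndex_of_le hLR
    rw [hL, hR, show p ^ 3 = p * p ^ 2 by ring] at h1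
    exact Nat.eq_of_mul_eq_mul_left hp.out.pos h1
  letI : CommGroup W :=
    { (inferInstance : Group W) with
      mul_comm := by
        rintro ⟨_, a, ha, rfl⟩ ⟨_, b, hb, rfl⟩
        refine Subtype.ext ?_
        change π a * π b = π b * π a
        rw [← commutatorElement_eq_one_iff_mul_comm, ← map_commutatorElement]
        exact (QuotientGroup.eq_one_iff _).mpr (hcomm a ha b hb) }
  set ψ : X →* MulAut W := (MulAut.conjNormal).comp π with hψ
  have hψ_apply : ∀ (y : X) {r : X} (hr : r ∈ R),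
      ((ψ y ⟨π r, mem_map_of_mem π hr⟩ : W) : X ⧸ L) = π (y * r * y⁻¹) := fun y r hr => by
    rw [hψ, MonoidHom.comp_apply, MulAut.conjNormal_apply, map_mul, map_mul, map_inv]
  have hstab : ∀ n : ℕ, ψ (k ^ n) = 1 → k ^ n = 1 := by
    intro n hn
    refine hfree n (mem_centralizer_of_stab hLp
      (hcop.coprime_dvd_left (orderOf_pow_dvd n)) (pow_mem hkL n) fun l hl => ?_)
    have h1 := hψ_apply (k ^ n) hl
    rw [hn, MulAut.one_apply] at h1
    refine (QuotientGroup.eq_one_iff _).mp ?_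
    change π ⁅k ^ n, l⁆ = 1
    rw [commutatorElement_def, map_mul, ← h1]
    simp
  rcases mulAut_two_order hWexp hWcard (ψ k)
      (hcop.coprime_dvd_left (orderOf_map_dvd ψ k)) with h | ⟨i, hi⟩
  · left
    exact orderOf_dvd_iff_pow_eq_one.mpr (hstab _ (by rw [map_pow, h]))
  right
  set k₁ := k ^ (p + 1) with hk₁
  have hdiv : ∀ a ∈ R, (a ^ i)⁻¹ * (k₁ * a * k₁⁻¹) ∈ L := fun a ha => by
    refine (QuotientGroup.eq_one_iff _).mp ?_
    change π ((a ^ i)⁻¹ * (k₁ * a * k₁⁻¹)) = 1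
    rw [map_mul, map_inv, ← hψ_apply k₁ ha, hk₁, map_pow ψ, hi, SubmonoidClass.coe_pow, map_pow,
      inv_mul_cancel]
  obtain ⟨a, ha, b, hb, hab⟩ : ∃ a ∈ R, ∃ b ∈ R, ⁅a, b⁆ ≠ 1 := by
    by_contra hno
    push Not at hno
    exact hnc ⟨⟨fun u v =>
      Subtype.ext (commutatorElement_eq_one_iff_mul_comm.mp (hno u u.2 v v.2))⟩⟩
  have hLc : ∀ {l r : X}, l ∈ L → r ∈ R → Commute l r := fun hl hr =>
    mem_centralizer_iff.mp (hcent hr) _ hl
  set c := ⁅a, b⁆ with hc
  have hcL : c ∈ L := hcomm a ha b hb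
  have hk₁c : k₁ * c * k₁⁻¹ = c := by
    rw [← mem_centralizer_iff.mp (pow_mem hkL (p + 1)) c hcL, mul_inv_cancel_right]
  have hcpow : c ^ (i * i) = c := by
    have h1 : k₁ * a * k₁⁻¹ = a ^ i * ((a ^ i)⁻¹ * (k₁ * a * k₁⁻¹)) := by group
    have h2 : k₁ * b * k₁⁻¹ = b ^ i * ((b ^ i)⁻¹ * (k₁ * b * k₁⁻¹)) := by group
    calc c ^ (i * i) = ⁅a ^ i, b ^ i⁆ := (conj_pow_of_central (hLc hcL ha) (hLc hcL hb) i i).symm
      _ = ⁅k₁ * a * k₁⁻¹, k₁ * b * k₁⁻¹⁆ := by
        rw [h1, h2, commutator_mul_central (hLc (hdiv a ha) (R.pow_mem ha i))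
          (hLc (hdiv a ha) (R.pow_mem hb i)) (hLc (hdiv a ha) (hLR (hdiv b hb)))
          (hLc (hdiv b hb) (R.pow_mem ha i)) (hLc (hdiv b hb) (R.pow_mem hb i))]
      _ = k₁ * c * k₁⁻¹ := by rw [hc, ← MulAut.conj_apply, ← MulAut.conj_apply, ← MulAut.conj_apply,
          map_commutatorElement]
      _ = c := hk₁c
  have hcord : orderOf c = p := orderOf_eq_prime (hexp c (hLR hcL)) hab
  have hmod : i * i ≡ 1 [MOD p] := by
    rw [← hcord]
    exact pow_eq_pow_iff_modEq.mp (by rw [hcpow, pow_one])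
  have h2p : k ^ (2 * (p + 1)) = 1 := by
    refine hstab _ ?_
    refine MulEquiv.ext fun w => ?_
    rw [map_pow, mul_comm, pow_mul, sq, MulAut.mul_apply, hi, hi, ← pow_mul,
      MulAut.one_apply]
    have h1 : w ^ (i * i) = w ^ 1 := pow_eq_pow_iff_modEq.mpr
      (hmod.of_dvd (orderOf_dvd_of_pow_eq_one (hWexp w)))
    rw [h1, pow_one]
  exact ((Nat.coprime_two_right.mpr hodd).dvd_mul_left).mp (orderOf_dvd_of_pow_eq_one h2p)

end Cfsg.Agent.OddLocal
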