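import Cfsg.Agent.OddLocal.Covering

/-!
BG 14.7: `M' = U M_σ`, `K* ≤ M''`, and the elements of `A₀(M) \ A(M)`.
-/

set_option autoImplicit false
set_option linter.unusedSectionVars false
set_option linter.style.haveILetI false

namespace Cfsg.Agent.OddLocal

open Subgroup Cfsg
open scoped commutatorElement

universe u

variable {G : Type u} [Group G] [Finite G] {M L H K U W : Subgroup G}

/-- If `X = ⟨a⟩ X'`, then the fixed points of `a` in `X'` lie in `X''`. -/
theorem mem_derived_of_fixed {X : Type*} [Group X] [Finite X] (a : X)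
    (h : commutator X ⊔ zpowers a = ⊤) {y : X} (hy : y ∈ commutator X) (hya : Commute y a) :
    y ∈ ⁅commutator X, commutator X⁆ := by
  set N := ⁅commutator X, commutator X⁆ with hN
  haveI : (commutator X).Normal := inferInstance
  haveI hNn : N.Normal := commutator_normal _ _
  set f := QuotientGroup.mk' N with hf
  set A := (commutator X).map f with hA
  have hAc : ∀ u ∈ A, ∀ v ∈ A, u * v = v * u := by
    rintro _ ⟨u, hu, rfl⟩ _ ⟨v, hv, rfl⟩
    have h1 : f ⁅u, v⁆ = 1 := by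
      rw [hf, ← MonoidHom.mem_ker, QuotientGroup.ker_mk']
      exact commutator_mem_commutator hu hv
    rwa [map_commutatorElement, commutatorElement_eq_one_iff_mul_comm] at h1
  haveI : A.Normal := Normal.map inferInstance f (QuotientGroup.mk'_surjective N)
  have hgen : A ⊔ zpowers (f a) = ⊤ := by
    rw [hA, ← MonoidHom.map_zpowers, ← Subgroup.map_sup, h,
      Subgroup.map_top_of_surjective f (QuotientGroup.mk'_surjective N)]
  have hconjA : ∀ (k : X ⧸ N), ∀ v ∈ A, k * v * k⁻¹ ∈ A := fun k v hv =>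
    (inferInstance : A.Normal).conj_mem v hv k
  let φ : A →* A :=
    { toFun := fun v => ⟨f a * v * (f a)⁻¹ * (v : X ⧸ N)⁻¹,
        A.mul_mem (hconjA _ _ v.2) (A.inv_mem v.2)⟩
      map_one' := by ext; simp
      map_mul' := by
        intro u v
        ext
        change f a * ((u : X ⧸ N) * v) * (f a)⁻¹ * ((u : X ⧸ N) * v)⁻¹ =
          f a * u * (f a)⁻¹ * (u : X ⧸ N)⁻¹ * (f a * v * (f a)⁻¹ * (v : X ⧸ N)⁻¹)
        calc f a * ((u : X ⧸ N) * v) * (f a)⁻¹ * ((u : X ⧸ N) * v)⁻¹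
            = f a * u * (f a)⁻¹ * ((f a * v * (f a)⁻¹ * (v : X ⧸ N)⁻¹) * (u : X ⧸ N)⁻¹) := by group
          _ = f a * u * (f a)⁻¹ * ((u : X ⧸ N)⁻¹ * (f a * v * (f a)⁻¹ * (v : X ⧸ N)⁻¹)) := by
              rw [hAc _ (A.mul_mem (hconjA _ _ v.2) (A.inv_mem v.2)) _ (A.inv_mem u.2)]
          _ = _ := by group }
  set D : Subgroup (X ⧸ N) := φ.range.map A.subtype with hD
  have hDA : D ≤ A := map_subtype_le _
  have hDk : ∀ v ∈ A, f a * v * (f a)⁻¹ * v⁻¹ ∈ D := fun v hv => ⟨φ ⟨v, hv⟩, ⟨_, rfl⟩, rfl⟩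
  have hDn : ∀ d ∈ D, f a * d * (f a)⁻¹ ∈ D := by
    intro d hd
    have h1 := D.mul_mem (hDk d (hDA hd)) hd
    rwa [inv_mul_cancel_right] at h1
  have hz : ∀ i : ℤ, ∀ v ∈ A, (f a) ^ i * v * ((f a) ^ i)⁻¹ * v⁻¹ ∈ D := by
    intro i
    induction i using Int.induction_on with
    | zero => intro v _; simp
    | succ i ih =>
      intro v hv
      have h1 := ih v hv
      have h2 := hDn _ h1
      have h3 := D.mul_mem h2 (hDk v hv)
      rw [zpow_add, zpow_one, (Commute.self_zpow (f a) (i : ℤ)).eq.symm]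
      convert h3 using 1
      group
    | pred i ih =>
      intro v hv
      set w := (f a)⁻¹ * v * f a with hw
      have hwA : w ∈ A := by simpa [hw] using hconjA (f a)⁻¹ v hv
      have h1 := ih w hwA
      have h2 := D.inv_mem (hDk w hwA)
      have h3 := D.mul_mem h1 h2
      rw [zpow_sub, zpow_one]
      convert h3 using 1
      rw [hw]
      group
  have hDle : A ≤ D := by
    have hcomm : ⁅(⊤ : Subgroup (X ⧸ N)), ⊤⁆ ≤ D := by
      rw [commutator_le]
      intro x hx y hy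
      rw [← hgen] at hx hy
      obtain ⟨u, hu, k, hk, rfl⟩ := mem_sup_of_normal_left.mp hx
      obtain ⟨v, hv, l, hl, rfl⟩ := mem_sup_of_normal_left.mp hy
      obtain ⟨i, rfl⟩ := mem_zpowers_iff.mp hk
      obtain ⟨j, rfl⟩ := mem_zpowers_iff.mp hl
      have h1 := hz i v hv
      have h2 := D.inv_mem (hz j u hu)
      have hP : u * ((f a) ^ i * v * ((f a) ^ i)⁻¹) = ((f a) ^ i * v * ((f a) ^ i)⁻¹) * u :=
        hAc _ hu _ (hconjA _ _ hv)
      have hQ : u * ((f a) ^ j * u⁻¹ * ((f a) ^ j)⁻¹) * v⁻¹ =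
          v⁻¹ * (u * ((f a) ^ j * u⁻¹ * ((f a) ^ j)⁻¹)) :=
        hAc _ (A.mul_mem hu (hconjA _ _ (A.inv_mem hu))) _ (A.inv_mem hv)
      have e : ⁅u * (f a) ^ i, v * (f a) ^ j⁆ =
          ((f a) ^ i * v * ((f a) ^ i)⁻¹ * v⁻¹) *
            ((f a) ^ j * u * ((f a) ^ j)⁻¹ * u⁻¹)⁻¹ := by
        calc ⁅u * (f a) ^ i, v * (f a) ^ j⁆
            = u * ((f a) ^ i * v * ((f a) ^ i)⁻¹) *
                ((f a) ^ i * (f a) ^ j * ((f a) ^ i)⁻¹) * u⁻¹ * ((f a) ^ j)⁻¹ * v⁻¹ := by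
              rw [commutatorElement_def]; group
          _ = (f a) ^ i * v * ((f a) ^ i)⁻¹ * (u * ((f a) ^ j * u⁻¹ * ((f a) ^ j)⁻¹) * v⁻¹) := by
              rw [(Commute.zpow_zpow_self (f a) i j).eq, hP]; group
          _ = _ := by rw [hQ]; group
      rw [e]
      exact D.mul_mem h1 h2
    refine le_trans ?_ hcomm
    rw [hA, commutator_def, map_commutator,
      Subgroup.map_top_of_surjective f (QuotientGroup.mk'_surjective N)]
  have hsurj : Function.Surjective φ := by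
    intro v
    obtain ⟨w, ⟨u, hu⟩, hw⟩ := hDle v.2
    exact ⟨u, hu.trans (Subtype.ext hw)⟩
  have hinj := Finite.injective_iff_surjective.mpr hsurj
  have h1 : φ ⟨f y, mem_map_of_mem f hy⟩ = φ 1 := by
    rw [map_one]
    ext
    show f a * f y * (f a)⁻¹ * (f y)⁻¹ = 1
    rw [← map_mul, ← hya.eq, map_mul, mul_inv_cancel_right, mul_inv_cancel]
  have h2 := congrArg Subtype.val (hinj h1)
  change f y = 1 at h2
  rwa [hf, ← MonoidHom.mem_ker, QuotientGroup.ker_mk'] at h2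

variable (hG : IsMinSimpleOddOrder G) (hM : IsCoatom M)
include hG hM

theorem kappa_decomp_normal (h : IsSigmaDecomposition M K U) :
    M ≤ normalizer ((U ⊔ sigmaCore M : Subgroup G) : Set G) :=
  (Cfsg.Agent.S1352.result hG M hM K h.cyclic h.hall).2 U h

theorem kappa_decomp_sup (h : IsSigmaDecomposition M K U) : U ⊔ sigmaCore M ⊔ K = M := by
  refine le_antisymm (sup_le (sup_le h.compl.1 (sigmaCore_le M)) h.hall.1) fun m hm => ?_
  obtain ⟨u, hu, w, hw, rfl⟩ := h.compl.2.2.2 m hm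
  refine mul_mem (mem_sup_left (mem_sup_left hu)) ?_
  have hle : K ⊔ sigmaCore M ≤ U ⊔ sigmaCore M ⊔ K :=
    sup_le le_sup_right (le_sup_right.trans le_sup_left)
  exact hle hw

/-- BG 14.7 (h): `M' = U M_σ`. -/
theorem derived_eq (h : IsSigmaDecomposition M K U) (hK1 : K ≠ ⊥) :
    ⁅M, M⁆ = U ⊔ sigmaCore M := by
  obtain ⟨-, hn, hfree⟩ := sigmaDecomposition_structure hG hM h hK1
  haveI : IsMulCommutative K := by
    haveI := h.cyclic
    infer_instance
  refine le_antisymm ?_ (sup_le ?_ (sigmaCore_le_derived hG hM))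
  · have h1 := commutator_sup_le (h.hall.1.trans (kappa_decomp_normal hG hM h)) inferInstance
    rwa [kappa_decomp_sup hG hM h] at h1
  · obtain ⟨a, ha, ha1⟩ := exists_mem_ne_one _ hK1
    exact (le_commutator_of_free ha (h.normal ha) (hfree a ha ha1)).trans
      (commutator_mono h.compl.1 h.hall.1)

/-- BG 14.7 (h): `K* ≤ M''`. -/
theorem kStar_le_derived (h : IsSigmaDecomposition M K U) (hK1 : K ≠ ⊥) :
    kStar M K ≤ ⁅⁅M, M⁆, ⁅M, M⁆⁆ := by
  intro y hy
  obtain ⟨a, ha⟩ := K.isCyclic_iff_exists_zpowers_eq_top.mp h.cyclic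
  have haK : a ∈ K := ha ▸ mem_zpowers a
  have hD : (commutator ↥M).map M.subtype = ⁅M, M⁆ := by
    rw [commutator_def, map_commutator, ← MonoidHom.range_eq_map, M.range_subtype]
  have htop : commutator ↥M ⊔ zpowers (⟨a, h.hall.1 haK⟩ : M) = ⊤ := by
    refine map_injective M.subtype_injective ?_
    rw [Subgroup.map_sup, hD, MonoidHom.map_zpowers, ← MonoidHom.range_eq_map, M.range_subtype,
      derived_eq hG hM h hK1]
    show U ⊔ sigmaCore M ⊔ zpowers a = M
    rw [ha, kappa_decomp_sup hG hM h]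
  have hy' : y ∈ ⁅M, M⁆ := sigmaCore_le_derived hG hM hy.1
  rw [← hD] at hy'
  obtain ⟨y', hy'', rfl⟩ := hy'
  have h1 := mem_derived_of_fixed (X := M) ⟨a, h.hall.1 haK⟩ htop hy''
    (Subtype.ext (mem_centralizer_iff.mp hy.2 a haK).symm)
  have h2 := mem_map_of_mem M.subtype h1
  rwa [map_commutator, hD] at h2

/-- BG 14.7: the `M`-conjugates of `Ẑ` form `A₀(M) \ A(M)`. -/
theorem conj_rest_eq (h : IsSigmaDecomposition M K U) (hK1 : K ≠ ⊥) :
    {a : G | ∃ m ∈ M, ∃ z ∈ memberRest (K ⊔ kStar M K), a = m * z * m⁻¹} =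
      sigmaA0 M K \ sigmaA M U := by
  have hK := h.hall
  obtain ⟨hE, hUp⟩ := sigmaDecomposition_compl hG hM h
  set V := U ⊔ sigmaCore M with hV
  have hVn : M ≤ normalizer (V : Set G) := kappa_decomp_normal hG hM h
  have hVM : V ≤ M := sup_le h.compl.1 (sigmaCore_le M)
  have hVprime : ∀ q : ℕ, q.Prime → q ∣ Nat.card V → q ∉ kappa M := by
    intro q hq hd hc
    rw [hV, sup_comm] at hd
    rcases hq.dvd_mul.mp (hd.trans (card_sup_dvd_mul (h.compl.1.trans (le_normalizer_sigmaCore M))))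
      with h1 | h1
    · exact hc.2.2.1 (piNum_sigmaCore M q hq h1)
    · exact (hUp q hq h1).1 hc
  have hVhall : IsPiHallOf {q | q ∉ kappa M} V M := by
    refine ⟨hVM, hVprime, fun q hq hqκ hd => ?_⟩
    have h1 : V.relIndex (V ⊔ K) ∣ Nat.card K := by
      have h1 := Coprime.card_mul_relIndex_of_le (le_sup_left : V ≤ V ⊔ K)
      exact Nat.dvd_of_mul_dvd_mul_left Nat.card_pos
        (h1 ▸ card_sup_dvd_mul (hK.1.trans hVn))
    rw [kappa_decomp_sup hG hM h] at h1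
    exact hqκ (hK.2.1 q hq (hd.trans h1))
  have hbot : K ⊓ V = ⊥ := Coprime.inf_eq_bot_of_coprime
    (Nat.coprime_of_dvd fun q hq h1 h2 => hVprime q hq h2 (hK.2.1 q hq h1))
  ext a
  constructor
  · rintro ⟨m, hm, z, hz, rfl⟩
    rw [memberRest_eq hG hM hK hK1] at hz
    obtain ⟨x, hx, y, hy, rfl⟩ := (Coprime.mem_sup_of_le_normalizer (N := K) (A := kStar M K)
      (inf_le_right.trans (centralizer_le_normalizer _))).mp hz.1
    have hy1 : y ≠ 1 := fun e => hz.2 (Or.inl (by rw [e, mul_one]; exact hx))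
    have hx1 : x ≠ 1 := fun e => hz.2 (Or.inr (by rw [e, one_mul]; exact hy))
    have hxy : Commute x y := mem_centralizer_iff.mp hy.2 x hx
    have hzM : x * y ∈ M := M.mul_mem (hK.1 hx) (sigmaCore_le M hy.1)
    refine ⟨⟨⟨M.mul_mem (M.mul_mem hm hzM) (M.inv_mem hm), m * y * m⁻¹,
      (mem_normalizer_iff.mp (le_normalizer_sigmaCore M hm) y).mp hy.1,
      fun e => hy1 (conj_eq_one_iff.mp e), ?_⟩, ?_⟩, ?_⟩
    · calc m * (x * y) * m⁻¹ * (m * y * m⁻¹) = m * (x * y * y) * m⁻¹ := by group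
        _ = m * (y * (x * y)) * m⁻¹ := by rw [← mul_assoc y, hxy.eq]
        _ = _ := by group
    · rintro ⟨k, hk, -, n, hn, e⟩
      have e2 : x * y = m⁻¹ * n * k * (m⁻¹ * n)⁻¹ := by
        calc x * y = m⁻¹ * (m * (x * y) * m⁻¹) * m := by group
          _ = m⁻¹ * (n * k * n⁻¹) * m := by rw [e]
          _ = _ := by group
      have ho : orderOf (x * y) = orderOf k := by
        rw [e2, ← MulAut.conj_apply, MulEquiv.orderOf_eq]
      obtain ⟨q, hq, hqd⟩ := Nat.exists_prime_and_dvd (mt orderOf_eq_one_iff.mp hy1)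
      have hcop : (orderOf x).Coprime (orderOf y) :=
        ((kappa_kStar_coprime hG hM hK).coprime_dvd_left
          (Subgroup.orderOf_dvd_natCard _ hx)).coprime_dvd_right
          (Subgroup.orderOf_dvd_natCard _ hy)
      rw [hxy.orderOf_mul_eq_mul_orderOf_of_coprime hcop] at ho
      exact (hK.2.1 q hq ((ho ▸ hqd.trans (Dvd.intro_left _ rfl)).trans
        (Subgroup.orderOf_dvd_natCard _ hk))).2.2.1 (prime_mem_sigma_of_mem hG hM hy.1 hq hqd)
    · rintro ⟨-, hV'⟩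
      have hm' : m⁻¹ * (m * (x * y) * m⁻¹) * m⁻¹⁻¹ ∈ V :=
        (mem_normalizer_iff.mp (hVn (M.inv_mem hm)) _).mp hV'
      rw [show m⁻¹ * (m * (x * y) * m⁻¹) * m⁻¹⁻¹ = x * y by group] at hm'
      exact hx1 (mem_bot.mp (hbot ▸ ⟨hx, (mul_mem_cancel_right (mem_sup_right hy.1)).mp hm'⟩))
  · rintro ⟨⟨⟨haM, y, hy, hy1, hay⟩, hnK⟩, hnA⟩
    have hnV : a ∉ V := fun hc => hnA ⟨⟨haM, y, hy, hy1, hay⟩, hc⟩
    obtain ⟨b, c, hbc, hcomm, hbz, hcz, hbκ', hcκ⟩ := exists_pi_parts (fun q => q ∈ kappa M) a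
    have hb : b ∈ M := zpowers_le.mpr haM hbz
    have hc : c ∈ V := mem_of_isPiHallOf_normal hVhall hVn
      (zpowers_le.mpr (zpowers_le.mpr haM hcz))
      (fun q hq hd => hcκ q hq (by rwa [Nat.card_zpowers] at hd)) (mem_zpowers c)
    have hbκ : PiNum (kappa M) (zpowers b) := fun q hq hd =>
      hbκ' q hq (by rwa [Nat.card_zpowers] at hd)
    obtain ⟨m, hm, hle⟩ := exists_conj_le_of_relIndex (π := kappa M) (isSolvable_coatom hG hM) hK.1
      hK.2.2 (zpowers_le.mpr hb) hbκ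
    have hk : m * b * m⁻¹ ∈ K := hle (mem_map_of_mem (MulAut.conj m).toMonoidHom (mem_zpowers b))
    have hk1 : m * b * m⁻¹ ≠ 1 := by
      intro e
      rw [conj_eq_one_iff.mp e, one_mul] at hbc
      exact hnV (hbc ▸ hc)
    have hab : Commute b a := by
      rw [← hbc]
      exact (Commute.refl b).mul_right hcomm
    have hW : m * a * m⁻¹ ∈ K ⊔ kStar M K := by
      rw [← kappa_inf_centralizer hG hM hK hK1 hk hk1]
      exact ⟨M.mul_mem (M.mul_mem hm haM) (M.inv_mem hm), mem_centralizer_singleton_iff.mpr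
        (hab.symm.map (MulAut.conj m).toMonoidHom)⟩
    refine ⟨m⁻¹, M.inv_mem hm, m * a * m⁻¹, ?_, by group⟩
    rw [memberRest_eq hG hM hK hK1]
    refine ⟨hW, ?_⟩
    rintro (h1 | h1)
    · refine hnK ⟨m * a * m⁻¹, h1, fun e => hnV ?_, m⁻¹, M.inv_mem hm, by group⟩
      rw [conj_eq_one_iff.mp e]
      exact one_mem _
    · have h2 : m * a * m⁻¹ ∈ V := mem_sup_right h1.1
      exact hnV ((mem_normalizer_iff.mp (hVn hm) a).mpr h2)

/-- The `M`-conjugates of `Ẑ` form a TI-set. -/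
theorem conj_rest_TI (hK : IsPiHallOf (kappa M) K M) (hK1 : K ≠ ⊥) :
    IsTISubset {a : G | ∃ m ∈ M, ∃ z ∈ memberRest (K ⊔ kStar M K), a = m * z * m⁻¹} := by
  intro g hg x hx hgx
  exfalso
  obtain ⟨m, hm, z, hz, rfl⟩ := hx
  obtain ⟨n, hn, w, hw, e⟩ := hgx
  have hgM : g ∈ M := by
    have h1 : n⁻¹ * g * m ∈ K ⊔ kStar M K := by
      refine IsMember.mem_of_conj hG (⟨hM, hK, hK1, rfl⟩ : IsMember (K ⊔ kStar M K) M K) hz ?_
      rw [show n⁻¹ * g * m * z * (n⁻¹ * g * m)⁻¹ = n⁻¹ * (g * (m * z * m⁻¹) * g⁻¹) * n by group, e,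
        show n⁻¹ * (n * w * n⁻¹) * n = w by group]
      exact hw
    have h2 := M.mul_mem (M.mul_mem hn (kappa_W_le hG hM hK h1)) (M.inv_mem hm)
    rwa [show n * (n⁻¹ * g * m) * m⁻¹ = g by group] at h2
  refine hg fun a => ⟨?_, ?_⟩
  · rintro ⟨m', hm', z', hz', rfl⟩
    exact ⟨g * m', M.mul_mem hgM hm', z', hz', by group⟩
  · rintro ⟨m', hm', z', hz', h'⟩
    refine ⟨g⁻¹ * m', M.mul_mem (M.inv_mem hgM) hm', z', hz', ?_⟩
    calc a = g⁻¹ * (g * a * g⁻¹) * g := by group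
      _ = _ := by rw [h']; group

end Cfsg.Agent.OddLocal
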