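import Cfsg.Agent.OddLocal.PLengthProper

/-!
`N(P)` controls the fusion in a Sylow `p`-subgroup of a minimal simple group of odd order
(BG Theorem 10.6 (b)-(e)).
-/

set_option autoImplicit false
set_option linter.unusedSectionVars false
set_option linter.style.haveILetI false

namespace Cfsg.Agent.OddLocal

open Subgroup Cfsg
open scoped commutatorElement

universe u

variable {G : Type u} [Group G] [Finite G] {p : ℕ} [hp : Fact p.Prime]

theorem exists_conj_mem_sylow (P : Sylow p G) {T : Subgroup G} (hT : IsPGroup p T) :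
    ∃ u : G, T.map (MulAut.conj u).toMonoidHom ≤ (P : Subgroup G) := by
  obtain ⟨S, hS⟩ := hT.exists_le_sylow
  obtain ⟨u, hu⟩ := MulAction.exists_smul_eq G S P
  refine ⟨u, ?_⟩
  rw [← hu, Sylow.coe_subgroup_smul]
  exact map_mono hS

theorem card_lt_card_inf_normalizer {P : Subgroup G} (hP : IsPGroup p P) {Q : Subgroup G}
    (hQP : Q < P) : Nat.card Q < Nat.card (normalizer (Q : Set G) ⊓ P : Subgroup G) := by
  haveI : Group.IsNilpotent P := hP.isNilpotent
  exact Core.card_lt_of_lt (lt_normalizer_inf hQP)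

/-- The normaliser of a Sylow subgroup controls strong fusion. -/
theorem exists_normalizer_eq_conj (hG : IsMinSimpleOddOrder G) (P : Sylow p G) :
    ∀ (k : ℕ) (Q : Subgroup G) (x : G), Nat.card (P : Subgroup G) - Nat.card Q = k →
      Q ≤ (P : Subgroup G) → Q.map (MulAut.conj x).toMonoidHom ≤ (P : Subgroup G) →
      ∃ y ∈ normalizer ((P : Subgroup G) : Set G), ∀ q ∈ Q, x * q * x⁻¹ = y * q * y⁻¹ := by
  intro k
  induction k using Nat.strong_induction_on with
  | _ k ih =>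
  intro Q x hk hQP hxQ
  set Pg := (P : Subgroup G) with hPg
  set Q2 := Q.map (MulAut.conj x).toMonoidHom with hQ2
  by_cases hQe : Q = Pg
  · refine ⟨x, ?_, fun q _ => rfl⟩
    subst hQe
    exact mem_normalizer_of_map_conj (eq_of_le_of_card_ge hxQ (card_map_conj _ x).ge)
  by_cases hQ1 : Q = ⊥
  · refine ⟨1, one_mem _, fun q hq => ?_⟩
    rw [hQ1, mem_bot] at hq
    subst hq
    simp
  have hQlt : Q < Pg := lt_of_le_of_ne hQP hQe
  have hQ2lt : Q2 < Pg := lt_of_le_of_ne hxQ fun h => by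
    have h1 := Core.card_lt_of_lt hQlt
    rw [← h, hQ2, card_map_conj] at h1
    exact lt_irrefl _ h1
  set N := normalizer (Q : Set G) with hN
  have hQtop : Q ≠ ⊤ := fun h => hQlt.ne_top h
  have hNtop : N ≠ ⊤ := ne_top_of_normal_ne_bot hG hQ1 hQtop
  set R1 := normalizer (Q : Set G) ⊓ Pg with hR1
  set R2' := normalizer (Q2 : Set G) ⊓ Pg with hR2'
  set R2 := R2'.map (MulAut.conj x⁻¹).toMonoidHom with hR2
  have hR2N : R2 ≤ N := by
    intro z hz
    rw [hR2, mem_map_conj_iff, inv_inv] at hz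
    refine mem_normalizer_of_map_conj ?_
    have h1 := map_conj_eq_self_of_mem hz.1
    rw [hQ2, map_conj_map_conj] at h1
    have h2 := congrArg (fun H : Subgroup G => H.map (MulAut.conj x⁻¹).toMonoidHom) h1
    simp only [map_conj_map_conj] at h2
    rw [show x⁻¹ * (x * z * x⁻¹ * x) = z by group, inv_mul_cancel] at h2
    rw [h2]
    ext w
    rw [mem_map_conj_iff]
    simp
  obtain ⟨S, hS⟩ := ((P.2.to_le inf_le_right : IsPGroup p R1).comap_of_injective N.subtype
    N.subtype_injective).exists_le_sylow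
  obtain ⟨S₂, hS₂⟩ := (((P.2.to_le inf_le_right : IsPGroup p R2').map _ : IsPGroup p R2).comap_of_injective
    N.subtype N.subtype_injective).exists_le_sylow
  obtain ⟨n, hn⟩ := MulAction.exists_smul_eq N S₂ S
  have hfac : n ∈ normalizer ((S : Subgroup N) : Set N) ⊔ pPrimeCore p N := by
    rw [sup_comm, pPrimeCore_sup_normalizer (pLengthLE_one_of_proper hG hNtop) S]
    exact mem_top n
  obtain ⟨m, hm, d, hd, rfl⟩ := Subgroup.mem_sup_of_normal_right.mp hfac
  have hdS : ∀ z ∈ (S₂ : Subgroup N), d * z * d⁻¹ ∈ (S : Subgroup N) := by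
    intro z hz
    have h1 : m * d * z * (m * d)⁻¹ ∈ (S : Subgroup N) := by
      rw [← hn, Sylow.coe_subgroup_smul]
      exact ⟨z, hz, rfl⟩
    refine (mem_normalizer_iff.mp hm _).mpr ?_
    convert h1 using 1
    group
  have hdC : ∀ q ∈ Q, (d : G) * q = q * d := by
    intro q hq
    haveI : (Q.subgroupOf N).Normal :=
      (normal_subgroupOf_iff_le_normalizer Subgroup.le_normalizer).mpr le_rfl
    have hqN : q ∈ N := Subgroup.le_normalizer hq
    obtain ⟨j, hj⟩ := IsPGroup.iff_card.mp (P.2.to_le hQP : IsPGroup p Q)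
    have h1 := Core.commute_of_coprime (H := Q.subgroupOf N) (K := pPrimeCore p N) (by
      rw [Coprime.card_subgroupOf Subgroup.le_normalizer, hj]
      exact (Core.coprime_card_pPrimeCore.pow_right j).symm) (x := ⟨q, hqN⟩) hq hd
    exact (congrArg Subtype.val h1.eq).symm
  obtain ⟨u, hu⟩ := exists_conj_mem_sylow P (S.2.map N.subtype : IsPGroup p ((S : Subgroup N).map N.subtype))
  have hlt : ∀ R : Subgroup G, Nat.card Q < Nat.card R → R ≤ Pg →
      ∀ g : G, R.map (MulAut.conj g).toMonoidHom ≤ Pg →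
        ∃ y ∈ normalizer (Pg : Set G), ∀ q ∈ R, g * q * g⁻¹ = y * q * y⁻¹ := by
    intro R hR hRP g hg
    refine ih _ ?_ R g rfl hRP hg
    have h1 : Nat.card R ≤ Nat.card Pg := Nat.le_of_dvd Nat.card_pos (card_dvd_of_le hRP)
    omega
  obtain ⟨y1, hy1, h1⟩ := hlt R1 (card_lt_card_inf_normalizer P.2 hQlt) inf_le_right u (by
    rintro _ ⟨z, hz, rfl⟩
    exact hu (mem_map_of_mem _ (mem_map_of_mem N.subtype
      (hS (show (⟨z, hz.1⟩ : N) ∈ R1.subgroupOf N from hz)))))
  obtain ⟨y2, hy2, h2⟩ := hlt R2' (by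
      have := card_lt_card_inf_normalizer P.2 hQ2lt
      rwa [hQ2, card_map_conj] at this) inf_le_right (u * d * x⁻¹) (by
    rintro _ ⟨z, hz, rfl⟩
    have hz2 : x⁻¹ * z * x ∈ R2 := by
      rw [hR2, mem_map_conj_iff]
      simpa [mul_assoc] using hz
    have h3 := hu (mem_map_of_mem _ (mem_map_of_mem N.subtype
      (hdS ⟨_, hR2N hz2⟩ (hS₂ (show (⟨_, hR2N hz2⟩ : N) ∈ R2.subgroupOf N from hz2)))))
    simpa [mul_assoc] using h3)
  refine ⟨y2⁻¹ * y1, mul_mem (inv_mem hy2) hy1, fun q hq => ?_⟩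
  have e1 := h1 q ⟨Subgroup.le_normalizer hq, hQP hq⟩
  have hq2 : x * q * x⁻¹ ∈ Q2 := ⟨q, hq, rfl⟩
  have e2 := h2 _ ⟨Subgroup.le_normalizer hq2, hxQ hq2⟩
  have e3 : u * d * x⁻¹ * (x * q * x⁻¹) * (u * d * x⁻¹)⁻¹ = u * q * u⁻¹ := by
    rw [show u * (d : G) * x⁻¹ * (x * q * x⁻¹) * (u * d * x⁻¹)⁻¹ = u * ((d : G) * q) * (d : G)⁻¹ * u⁻¹ by group,
      hdC q hq]
    group
  rw [e3, e1] at e2
  calc x * q * x⁻¹ = y2⁻¹ * (y2 * (x * q * x⁻¹) * y2⁻¹) * y2 := by group
    _ = y2⁻¹ * (y1 * q * y1⁻¹) * y2 := by rw [← e2]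
    _ = y2⁻¹ * y1 * q * (y2⁻¹ * y1)⁻¹ := by group

/-- BG 10.6(c). -/
theorem exists_map_conj_eq (hG : IsMinSimpleOddOrder G) (P : Sylow p G) {Q : Subgroup G} {x : G}
    (hQ : Q ≤ (P : Subgroup G)) (hxQ : Q.map (MulAut.conj x).toMonoidHom ≤ (P : Subgroup G)) :
    ∃ y ∈ normalizer ((P : Subgroup G) : Set G),
      Q.map (MulAut.conj x).toMonoidHom = Q.map (MulAut.conj y).toMonoidHom := by
  obtain ⟨y, hy, h⟩ := exists_normalizer_eq_conj hG P _ Q x rfl hQ hxQ
  refine ⟨y, hy, ?_⟩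
  ext z
  constructor
  · rintro ⟨q, hq, rfl⟩
    exact ⟨q, hq, (h q hq).symm⟩
  · rintro ⟨q, hq, rfl⟩
    exact ⟨q, hq, h q hq⟩

/-- BG 10.6(d). -/
theorem not_dvd_relIndex_normalizer (hG : IsMinSimpleOddOrder G) (P : Sylow p G) {Q : Subgroup G}
    (hQ : Q ≤ (P : Subgroup G)) :
    ¬ p ∣ ((P : Subgroup G) ⊓ normalizer (Q : Set G)).relIndex (normalizer (Q : Set G)) := by
  set N := normalizer (Q : Set G) with hN
  obtain ⟨T, hT⟩ := ((P.2.to_le inf_le_left : IsPGroup p ((P : Subgroup G) ⊓ N : Subgroup G)).comap_of_injective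
    N.subtype N.subtype_injective).exists_le_sylow
  set Tm := (T : Subgroup N).map N.subtype with hTm
  -- `Q` lies in every Sylow subgroup of its normaliser
  haveI : (Q.subgroupOf N).Normal :=
    (normal_subgroupOf_iff_le_normalizer Subgroup.le_normalizer).mpr le_rfl
  have hQT : Q ≤ Tm := by
    rw [hTm, ← map_subgroupOf_eq_of_le (Subgroup.le_normalizer : Q ≤ N)]
    exact map_mono ((Core.le_pCore (N := Q.subgroupOf N)
      ((P.2.to_le hQ).comap_of_injective N.subtype N.subtype_injective)).trans (Core.pCore_le_sylow T))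
  obtain ⟨u, hu⟩ := exists_conj_mem_sylow P (T.2.map N.subtype : IsPGroup p Tm)
  obtain ⟨y, hy, h⟩ := exists_normalizer_eq_conj hG P _ Q u rfl hQ ((map_mono hQT).trans hu)
  set w := y⁻¹ * u with hw
  have hwC : ∀ q ∈ Q, w * q * w⁻¹ = q := fun q hq => by
    rw [hw, show y⁻¹ * u * q * (y⁻¹ * u)⁻¹ = y⁻¹ * (u * q * u⁻¹) * y by group, h q hq]
    group
  have hwN : w ∈ N := centralizer_le_normalizer _ (mem_centralizer_iff.mpr fun q hq => by
    conv_lhs => rw [← hwC q hq]
    group)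
  have hle : Tm.map (MulAut.conj w).toMonoidHom ≤ (P : Subgroup G) ⊓ N := by
    refine le_inf ?_ (map_conj_le_of_mem (map_subtype_le _) hwN)
    rintro _ ⟨t, ht, rfl⟩
    have h1 := hu (mem_map_of_mem _ ht)
    have h2 := (mem_normalizer_iff''.mp hy _).mp h1
    simpa [hw, mul_assoc] using h2
  intro hd
  have h1 := card_dvd_of_le hle
  rw [card_map_conj, hTm, card_map_of_injective N.subtype_injective] at h1
  have h2 : Nat.card ((P : Subgroup G) ⊓ N : Subgroup G) * ((P : Subgroup G) ⊓ N).relIndex N = Nat.card N :=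
    card_mul_relIndex_eq inf_le_right
  have h3 := mul_dvd_mul h1 hd
  rw [h2] at h3
  obtain ⟨j, hj⟩ := T.2.exists_card_eq
  rw [hj, ← pow_succ] at h3
  have h4 := T.pow_dvd_card_of_pow_dvd_card h3
  rw [hj, Nat.pow_dvd_pow_iff_le_right hp.out.one_lt] at h4
  omega

/-- BG 10.6(e). -/
theorem normalizer_le_normalizer_of_weaklyClosed (hG : IsMinSimpleOddOrder G) (P : Sylow p G)
    {R Q : Subgroup G} (hR : IsPGroup p R) (hQ : Q ≤ (P : Subgroup G) ⊓ R)
    (hNP : normalizer ((P : Subgroup G) : Set G) ≤ normalizer (Q : Set G)) :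
    normalizer (R : Set G) ≤ normalizer (Q : Set G) := by
  intro g hg
  obtain ⟨v, hv⟩ := exists_conj_mem_sylow P hR
  have key : ∀ w : G, Q.map (MulAut.conj w).toMonoidHom ≤ (P : Subgroup G) →
      Q.map (MulAut.conj w).toMonoidHom = Q := fun w hw => by
    obtain ⟨y, hy, he⟩ := exists_map_conj_eq hG P (hQ.trans inf_le_left) hw
    rw [he, map_conj_eq_self_of_mem (hNP hy)]
  have h1 := key v ((map_mono (hQ.trans inf_le_right)).trans hv)
  have h2 := key (v * g) (by
    rw [← map_conj_map_conj]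
    refine (map_mono ?_).trans hv
    exact (map_mono (hQ.trans inf_le_right)).trans (map_conj_eq_self_of_mem hg).le)
  have h3 := mem_normalizer_of_map_conj h1
  have h4 := mem_normalizer_of_map_conj h2
  simpa using mul_mem (inv_mem h3) h4

/-- BG 10.6(b). -/
theorem sylow_eq_commutator_complement (hG : IsMinSimpleOddOrder G) (P : Sylow p G) {V : Subgroup G}
    (hV : IsComplIn (P : Subgroup G) V (normalizer ((P : Subgroup G) : Set G))) :
    (P : Subgroup G) = ⁅(P : Subgroup G), V⁆ ∧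
      (P : Subgroup G) ≤ ⁅normalizer ((P : Subgroup G) : Set G), normalizer ((P : Subgroup G) : Set G)⁆ := by
  set Pg := (P : Subgroup G) with hPg
  set N := normalizer (Pg : Set G) with hN
  have h1 : Pg ≤ ⁅Pg, N⁆ := by
    refine le_trans ?_ (Fusion.focalSubgroup_le_commutator_right_of_controls P N ?_)
    · rw [← commutator_inf_eq_focalSubgroup P, commutator_eq_top_of_minSimple hG, top_inf_eq]
    intro x hx g hg
    obtain ⟨y, hy, h⟩ := exists_normalizer_eq_conj hG P _ (zpowers x) g rfl (zpowers_le.mpr hx) (by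
      rw [MonoidHom.map_zpowers, zpowers_le]
      exact hg)
    exact ⟨y, hy, (h x (mem_zpowers x)).symm⟩
  refine ⟨le_antisymm ?_ (Coprime.commutator_le_of_le_normalizer hV.2.1),
    h1.trans (commutator_mono Subgroup.le_normalizer le_rfl)⟩
  set U := ⁅Pg, V⁆ with hU
  have hUP : U ≤ Pg := Coprime.commutator_le_of_le_normalizer hV.2.1
  have h2 : Pg ≤ ⁅Pg, Pg⁆ ⊔ U := by
    refine h1.trans (commutator_le.mpr fun x hx n hn => ?_)
    obtain ⟨a, ha, v, hv, rfl⟩ := hV.2.2.2 n hn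
    rw [show ⁅x, a * v⁆ = ⁅x, a⁆ * (a * ⁅x, v⁆ * a⁻¹) by simp only [commutatorElement_def]; group]
    refine Subgroup.mul_mem_sup (commutator_mem_commutator hx ha) ?_
    exact (mem_normalizer_iff.mp (normalizer_commutator_ge_left Pg V ha) _).mp
      (commutator_mem_commutator hx hv)
  haveI : Group.IsNilpotent Pg := P.2.isNilpotent
  have h3 : U.subgroupOf Pg = ⊤ := by
    refine frattini_nongenerating ?_
    rw [eq_top_iff]
    intro z _
    obtain ⟨w, hw, hwz⟩ : (z : G) ∈ ((U.subgroupOf Pg) ⊔ frattini Pg).map Pg.subtype := by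
      refine (sup_le ?_ ?_ : ⁅Pg, Pg⁆ ⊔ U ≤ _) (h2 z.2)
      · rw [← map_subtype_commutator]
        exact map_mono (Core.commutator_le_frattini.trans le_sup_right)
      · conv_lhs => rw [← map_subgroupOf_eq_of_le hUP]
        exact map_mono le_sup_left
    rwa [show z = w from Subtype.ext hwz.symm]
  exact fun x hx => (h3.ge (mem_top (⟨x, hx⟩ : Pg)) :)

end Cfsg.Agent.OddLocal
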