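import Cfsg.Agent.RankTwo.Structure
import Cfsg.Agent.OddLocal.NarrowAction
import Cfsg.Agent.S1447

/-!
BG 4.16: a `p`-group `R` of rank at most two with `[R, A] = R` for a group `A` of odd order prime
to `p`.
-/

set_option autoImplicit false
set_option linter.unusedSectionVars false
set_option linter.style.haveILetI false

namespace Cfsg.Agent.OddLocal

open Subgroup
open scoped commutatorElement

universe u

variable {p : ℕ} [hp : Fact p.Prime]

theorem mem_centralizer_rank_two_three {X : Type u} [Group X] [Finite X] {R : Subgroup X}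
    [R.Normal] (hp2 : p ≠ 2) (hR : IsPGroup p R) (hr : Cfsg.PRankLE p 2 R) {a : X}
    (hcop : (orderOf a).Coprime p) (h1 : (p - 1).Coprime (orderOf a))
    (h2 : (p + 1).Coprime (orderOf a)) : a ∈ centralizer (R : Set X) := by
  obtain ⟨D, hDR, hDn, hDV, hdet⟩ := exists_detecting hp2 hR
  refine hdet (zpowers a) (by rwa [Nat.card_zpowers]) (zpowers_le.mpr ?_) (mem_zpowers a)
  obtain ⟨n, s, hn, hs, hs2⟩ := small_of_rank_le_two (p := p) (D := D)
    (fun x => Subtype.ext (by simpa using hDV.1 x x.2))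
    (by
      rw [_root_.commutator_def, commutator_le]
      intro a _ b _
      rw [mem_center_iff]
      intro c
      have h := commutatorElement_eq_one_iff_mul_comm.mp (hDV.2 a a.2 b b.2 c c.2)
      exact Subtype.ext h.symm)
    (pRankLE_of_injective (inclusion hDR) (inclusion_injective _) hr)
  set φ : X →* MulAut D := MulAut.conjNormal with hφ
  have hdvd : orderOf (φ a) ∣ p ^ (s * (n - s)) * ∏ i ∈ Finset.range s, (p ^ s - p ^ i) :=
    (_root_.orderOf_dvd_natCard (φ a)).trans (FGS.card_mulAut_dvd hn hs)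
  set o := orderOf (φ a) with ho
  have hoa : o ∣ orderOf a := orderOf_map_dvd φ a
  have hop : o.Coprime p := hcop.coprime_dvd_left hoa
  have ho1 : o.Coprime (p - 1) := (h1.coprime_dvd_right hoa).symm
  have ho2 : o.Coprime (p + 1) := (h2.coprime_dvd_right hoa).symm
  have h := (Nat.Coprime.pow_right (s * (n - s)) hop).dvd_of_dvd_mul_left hdvd
  have hone : o = 1 := by
    interval_cases s
    · simpa using h
    · simp only [Finset.prod_range_one, pow_one, pow_zero] at h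
      exact Nat.eq_one_of_dvd_coprimes ho1 dvd_rfl h
    · simp only [Finset.prod_range_succ, Finset.prod_range_zero, one_mul, pow_zero, pow_one] at h
      rw [show (p ^ 2 - p) = p * (p - 1) by rw [Nat.mul_sub, mul_one, sq],
        show p ^ 2 - 1 = (p + 1) * (p - 1) by rw [← Nat.sq_sub_sq, one_pow]] at h
      exact Nat.eq_one_of_dvd_coprimes ((ho2.mul_right ho1).mul_right (hop.mul_right ho1)) dvd_rfl h
  have hφ1 : φ a = 1 := orderOf_eq_one_iff.mp hone
  refine mem_centralizer_iff.mpr fun d hd => ?_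
  have h1 := congrArg Subtype.val (DFunLike.congr_fun hφ1 (⟨d, hd⟩ : D))
  rw [hφ, MulAut.conjNormal_apply] at h1
  exact (mul_inv_eq_iff_eq_mul.mp h1).symm

theorem three_lt_of_commutator_eq {G : Type u} [Group G] [Finite G] (hp2 : p ≠ 2) {R A : Subgroup G}
    (hR : IsPGroup p R) (hR1 : R ≠ ⊥) (hr : Cfsg.PRankLE p 2 R)
    (hA : A ≤ normalizer (R : Set G)) (hcop : (Nat.card A).Coprime p) (hAodd : Odd (Nat.card A))
    (hRA : ⁅R, A⁆ = R) : 3 < p := by
  by_contra hlt
  have hp3 : p = 3 := by have := hp.out.two_le; omega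
  refine hR1 ?_
  rw [← hRA, commutator_eq_bot_iff_le_centralizer, le_centralizer_iff]
  intro a ha
  set N := normalizer (R : Set G) with hN
  haveI : (R.subgroupOf N).Normal := normal_in_normalizer
  have hRN : R ≤ N := Subgroup.le_normalizer
  have hdvd : orderOf (⟨a, hA ha⟩ : N) ∣ Nat.card A := by
    have h' := _root_.orderOf_dvd_natCard (⟨a, ha⟩ : A)
    rw [← Subgroup.orderOf_coe] at h' ⊢
    exact h'
  have h2 : Nat.Coprime 2 (Nat.card A) := hAodd.coprime_two_left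
  have h := mem_centralizer_rank_two_three (R := R.subgroupOf N) hp2
    (hR.of_equiv (subgroupOfEquivOfLe hRN).symm)
    (pRankLE_of_injective (subgroupOfEquivOfLe hRN).toMonoidHom (MulEquiv.injective _) hr)
    (a := (⟨a, hA ha⟩ : N)) (hcop.coprime_dvd_left hdvd)
    (by rw [hp3]; exact h2.coprime_dvd_right hdvd)
    (by rw [hp3]; exact (h2.pow_left 2).coprime_dvd_right hdvd)
  exact mem_centralizer_iff.mpr fun r hr' =>
    congrArg Subtype.val (mem_centralizer_iff.mp h ⟨r, hRN hr'⟩ hr')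

/-- In the skew case every automorphism of odd order fixes the cosets of `E⟨c⟩`. -/
theorem skew_fixes {R : Type u} [Group R] [Finite R] (hp2 : p ≠ 2) (hR : IsPGroup p R)
    (hexp : ∀ x ∈ Cfsg.omegaOne p (⊤ : Subgroup R), x ^ p = 1)
    {E : Subgroup R} {u c : R} {k : ℕ} (h : RankTwo.IsSkew p E u c k) (α : MulAut R) {n : ℕ}
    (hn : Odd n) (hαn : α ^ n = 1) (r : R) : α r * r⁻¹ ∈ E ⊔ zpowers c := by
  haveI := h.normal
  set C := E ⊔ zpowers c with hC
  haveI : C.Normal := h.sup_normal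
  set D := Cfsg.omegaOne p (⊤ : Subgroup R) with hD
  have hDα : ∀ (β : MulAut R), ∀ d ∈ D, β d ∈ D := by
    intro β d hd
    induction hd using closure_induction with
    | mem z hz => exact RankTwo.mem_omega (mem_top _) (by rw [← map_pow, hz.2, map_one])
    | one => rw [map_one]; exact one_mem _
    | mul a b _ _ iha ihb => rw [map_mul]; exact mul_mem iha ihb
    | inv a _ iha => rw [map_inv]; exact inv_mem iha
  have hED : E ≤ D := fun e he => RankTwo.mem_omega (mem_top e) (h.E_exp e he)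
  have huD : u ∈ D := RankTwo.mem_omega (mem_top u) h.u_pow
  -- `E` is generated by the commutators of `R` with `D`
  set K := closure {w : R | ∃ a : R, ∃ d ∈ D, ⁅a, d⁆ = w} with hK
  have hKE : K ≤ E := by
    rw [hK, closure_le]
    rintro _ ⟨a, d, hd, rfl⟩
    exact h.canonical a d hd
  haveI hKn : K.Normal := by
    refine ⟨fun x hx g => ?_⟩
    induction hx using closure_induction with
    | mem z hz =>
      obtain ⟨a, d, hd, rfl⟩ := hz
      refine subset_closure ⟨g * a * g⁻¹, g * d * g⁻¹, ?_, ?_⟩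
      · exact (RankTwo.omega_normal ⊤).conj_mem d hd g
      · simp only [commutatorElement_def]; group
    | one => simp
    | mul a b _ _ iha ihb =>
      rw [show g * (a * b) * g⁻¹ = g * a * g⁻¹ * (g * b * g⁻¹) by group]
      exact mul_mem iha ihb
    | inv a _ iha =>
      rw [show g * a⁻¹ * g⁻¹ = (g * a * g⁻¹)⁻¹ by group]
      exact inv_mem iha
  have hKeq : K = E := by
    refine eq_of_le_of_card_ge hKE ?_
    obtain ⟨a₀, d₀, hd₀, hne⟩ := h.canonical_ne
    have hmem : ⁅a₀, d₀⁆ ∈ K := subset_closure ⟨a₀, d₀, hd₀, rfl⟩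
    have hdvd := card_dvd_of_le hKE
    rw [h.card_E] at hdvd ⊢
    obtain ⟨i, hi2, hi⟩ := (Nat.dvd_prime_pow hp.out).mp hdvd
    rw [hi]
    refine Nat.pow_le_pow_right hp.out.pos ?_
    by_contra hlt
    refine hne ?_
    have hrel : (⊥ : Subgroup R).relIndex K ∣ p := by
      rw [relIndex_bot_left, hi]
      exact (pow_dvd_pow p (show i ≤ 1 by omega)).trans (pow_one p).dvd
    obtain ⟨j, hj⟩ := hR u
    exact commutatorElement_eq_one_iff_commute.mp
      (mem_bot.mp (commutator_mem_of_pow_eq_one hrel hj hmem))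
  have hEα : ∀ (β : MulAut R), ∀ e ∈ E, β e ∈ E := by
    intro β e he
    rw [← hKeq] at he ⊢
    induction he using closure_induction with
    | mem z hz =>
      obtain ⟨a, d, hd, rfl⟩ := hz
      exact subset_closure ⟨β a, β d, hDα β d hd, by rw [map_commutatorElement]⟩
    | one => rw [map_one]; exact one_mem _
    | mul a b _ _ iha ihb => rw [map_mul]; exact mul_mem iha ihb
    | inv a _ iha => rw [map_inv]; exact inv_mem iha
  have hCcen : C ≤ centralizer (E : Set R) := sup_le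
    (fun e he => mem_centralizer_iff.mpr fun e' he' => (h.E_comm' e' he' e he).eq)
    (zpowers_le.mpr (mem_centralizer_iff.mpr fun e he => (h.E_comm e he).eq))
  have hsplit : ∀ g : R, ∃ x ∈ C, ∃ i : ℤ, x * u ^ i = g := by
    intro g
    obtain ⟨x, hx, y, hy, rfl⟩ := (Coprime.mem_sup_of_le_normalizer
      (N := C) (A := zpowers u) le_normalizer_of_normal).mp (h.gen.ge (mem_top g))
    obtain ⟨i, rfl⟩ := mem_zpowers_iff.mp hy
    exact ⟨x, hx, i, rfl⟩
  have huC : u ∉ centralizer (E : Set R) := fun hu =>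
    h.comm_noncentral (mem_centralizer_iff.mp hu _ h.comm_mem).symm
  have hcenC : centralizer (E : Set R) ≤ C := by
    intro g hg
    obtain ⟨x, hx, i, rfl⟩ := hsplit g
    have hui : u ^ i ∈ centralizer (E : Set R) := by
      have := mul_mem (inv_mem (hCcen hx)) hg
      rwa [inv_mul_cancel_left] at this
    by_cases hdiv : (p : ℤ) ∣ i
    · obtain ⟨t, rfl⟩ := hdiv
      rw [zpow_mul, zpow_natCast, h.u_pow, one_zpow, mul_one]
      exact hx
    · refine absurd ?_ huC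
      obtain ⟨s, t, hst⟩ := ((Nat.prime_iff_prime_int.mp hp.out).coprime_iff_not_dvd.mpr hdiv)
      have : u = (u ^ i) ^ t := by
        rw [← zpow_mul, show i * t = 1 - (p : ℤ) * s by linarith, zpow_sub, zpow_one, zpow_mul,
          zpow_natCast, h.u_pow, one_zpow, inv_one, mul_one]
      rw [this]
      exact zpow_mem hui t
  have hCα : ∀ (β : MulAut R), ∀ x ∈ C, β x ∈ C := fun β x hx => by
    refine hcenC (mem_centralizer_iff.mpr fun e he => ?_)
    have := mem_centralizer_iff.mp (hCcen hx) _ (hEα β.symm e he)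
    have h' := congrArg β this
    rwa [map_mul, map_mul, MulEquiv.apply_symm_apply] at h'
  have hCel : ∀ x ∈ C, ∃ e ∈ E, ∃ i : ℤ, e * c ^ i = x := fun x hx => by
    obtain ⟨e, he, y, hy, rfl⟩ := (Coprime.mem_sup_of_le_normalizer
      (N := E) (A := zpowers c) le_normalizer_of_normal).mp hx
    obtain ⟨i, rfl⟩ := mem_zpowers_iff.mp hy
    exact ⟨e, he, i, rfl⟩
  set z := c ^ p ^ k with hz
  have hzp : z ^ p = 1 := by rw [hz, ← pow_mul, ← pow_succ, ← h.c_order, pow_orderOf_eq_one]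
  have hz1 : z ≠ 1 := fun h1 => by
    have h2 := orderOf_dvd_of_pow_eq_one h1
    rw [h.c_order] at h2
    exact absurd ((Nat.pow_dvd_pow_iff_le_right hp.out.one_lt).mp h2) (by omega)
  have hzo : orderOf z = p := orderOf_eq_prime hzp hz1
  have hzint : ∀ i : ℤ, z ^ i = 1 ↔ (p : ℤ) ∣ i := fun i => by
    rw [← orderOf_dvd_iff_zpow_eq_one, hzo]
  have hzcen : ∀ g : R, Commute z g := fun g => by
    obtain ⟨x, hx, i, rfl⟩ := hsplit g
    obtain ⟨e, he, j, rfl⟩ := hCel x hx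
    exact (((h.E_comm e he).pow_right _).symm.mul_right (((Commute.refl c).pow_left _).zpow_right j)
      ).mul_right (h.top_comm.symm.zpow_right i)
  haveI : (zpowers z).Normal := ⟨fun x hx g => by
    obtain ⟨i, rfl⟩ := mem_zpowers_iff.mp hx
    rw [← ((hzcen g).zpow_left i).eq, mul_inv_cancel_right]
    exact zpow_mem (mem_zpowers z) i⟩
  have hEz : ∀ g : R, ∀ e ∈ E, ∃ t : ℤ, ⁅g, e⁆ = z ^ t := fun g e he => by
    have hrel : (zpowers z).relIndex E ∣ p := by
      have h3 := relIndex_mul_relIndex ⊥ (zpowers z) E bot_le (zpowers_le.mpr h.top_mem)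
      rw [relIndex_bot_left, relIndex_bot_left, h.card_E, Nat.card_zpowers, hzo] at h3
      exact (Nat.eq_of_mul_eq_mul_left hp.out.pos (h3.trans (pow_two p))).dvd
    obtain ⟨j, hj⟩ := hR g
    obtain ⟨t, ht⟩ := mem_zpowers_iff.mp (commutator_mem_of_pow_eq_one hrel hj he)
    exact ⟨t, ht.symm⟩
  set b := ⁅u, c⁆ with hb
  have hbc : Commute b c := h.E_comm b h.comm_mem
  have huc : u * c * u⁻¹ = b * c := by rw [hb, commutatorElement_def]; group
  obtain ⟨m, hm⟩ := hEz u b h.comm_mem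
  have hpm : ¬ (p : ℤ) ∣ m := fun hd => h.comm_noncentral (by
    rw [← commutatorElement_eq_one_iff_commute, hm]
    exact (hzint m).mpr hd)
  have hub : ∀ j : ℕ, ∀ i : ℤ, u ^ j * b ^ i * (u ^ j)⁻¹ = z ^ (m * (j * i)) * b ^ i := by
    intro j
    induction j with
    | zero => intro i; simp
    | succ j ih =>
      intro i
      have h1 : u * b * u⁻¹ = z ^ m * b := by rw [← hm, commutatorElement_def]; group
      calc u ^ (j + 1) * b ^ i * (u ^ (j + 1))⁻¹
          = u ^ j * (u * b * u⁻¹) ^ i * (u ^ j)⁻¹ := by rw [conj_zpow, pow_succ]; group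
        _ = (u ^ j * z ^ (m * i) * (u ^ j)⁻¹) * (u ^ j * b ^ i * (u ^ j)⁻¹) := by
          rw [h1, ((hzcen b).zpow_left m).mul_zpow, ← zpow_mul]; group
        _ = z ^ (m * ((j + 1 : ℕ) * i)) * b ^ i := by
          rw [ih, ← ((hzcen (u ^ j)).zpow_left (m * i)).eq, mul_inv_cancel_right, ← mul_assoc,
            ← zpow_add]
          congr 2
          push_cast
          ring
  have huj : ∀ j : ℕ, ∃ t : ℤ, u ^ j * c * (u ^ j)⁻¹ = z ^ t * b ^ (j : ℤ) * c := by
    intro j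
    induction j with
    | zero => exact ⟨0, by simp⟩
    | succ j ih =>
      obtain ⟨t, ht⟩ := ih
      refine ⟨t + m * j, ?_⟩
      have h2 := hub 1 (j : ℤ)
      rw [pow_one] at h2
      calc u ^ (j + 1) * c * (u ^ (j + 1))⁻¹ = u * (u ^ j * c * (u ^ j)⁻¹) * u⁻¹ := by
            rw [pow_succ' u j]; group
        _ = (u * z ^ t * u⁻¹) * (u * b ^ (j : ℤ) * u⁻¹) * (u * c * u⁻¹) := by rw [ht]; group
        _ = z ^ t * (z ^ (m * (j : ℤ)) * b ^ (j : ℤ)) * (b * c) := by
          rw [← ((hzcen u).zpow_left t).eq, mul_inv_cancel_right, h2, huc]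
          norm_num
        _ = z ^ (t + m * (j : ℤ)) * b ^ ((j + 1 : ℕ) : ℤ) * c := by
          push_cast
          rw [zpow_add, zpow_add, zpow_one]
          group
  -- the action of `α`
  obtain ⟨e₁, he₁, γ, hγ⟩ := hCel (α c) (hCα α c (mem_sup_right (mem_zpowers c)))
  obtain ⟨x, hx, ν', hν'⟩ := hsplit (α u)
  have hpZ : (0 : ℤ) < p := by exact_mod_cast hp.out.pos
  obtain ⟨ν, hν⟩ : ∃ ν : ℕ, x * u ^ ν = α u := ⟨(ν' % (p : ℤ)).toNat, by
    rw [← hν', ← zpow_natCast u, Int.toNat_of_nonneg (Int.emod_nonneg _ hpZ.ne'),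
      ← zpow_eq_zpow_emod' ν' h.u_pow]⟩
  have hxE : x ∈ E := by
    obtain ⟨e, he, i, hei⟩ := hCel x hx
    have h1 : x ^ p = 1 := hexp x (by
      have : α u * (u ^ ν)⁻¹ ∈ D := mul_mem (hDα α u huD) (inv_mem (pow_mem huD ν))
      rwa [← hν, mul_inv_cancel_right] at this)
    rw [← hei, ((h.E_comm e he).zpow_right i).mul_pow, h.E_exp e he, one_mul, ← zpow_natCast,
      ← zpow_mul, ← orderOf_dvd_iff_zpow_eq_one, h.c_order, pow_succ] at h1
    push_cast at h1
    obtain ⟨t, rfl⟩ := (mul_dvd_mul_iff_right (by exact_mod_cast hp.out.ne_zero)).mp h1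
    rw [← hei]
    refine mul_mem he ?_
    rw [zpow_mul, show ((p : ℤ) ^ k) = ((p ^ k : ℕ) : ℤ) by push_cast; ring, zpow_natCast]
    exact zpow_mem h.top_mem t
  have hαz : α z = z ^ γ := by
    have h1 : e₁ ^ p ^ k = 1 := by
      obtain ⟨t, ht⟩ : p ∣ p ^ k := dvd_pow_self p (Nat.one_le_iff_ne_zero.mp h.k_pos)
      rw [ht, pow_mul, h.E_exp e₁ he₁, one_pow]
    rw [hz, map_pow, ← hγ, ((h.E_comm e₁ he₁).zpow_right γ).mul_pow, h1, one_mul, ← zpow_natCast,
      ← zpow_mul, ← zpow_natCast, ← zpow_mul, Int.mul_comm]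
  have hpγ : ¬ (p : ℤ) ∣ γ := fun hd => hz1 (α.injective (by
    rw [hαz, map_one, (hzint γ).mpr hd]))
  obtain ⟨t₂, ht₂⟩ : ∃ t : ℤ, α b = z ^ t * b ^ ((ν : ℤ) * γ) := by
    obtain ⟨s, hs⟩ := hEz (u ^ ν) e₁ he₁
    obtain ⟨t, ht⟩ := huj ν
    have hc' : u ^ ν * c ^ γ * (u ^ ν)⁻¹ = z ^ (t * γ) * b ^ ((ν : ℤ) * γ) * c ^ γ := by
      rw [← conj_zpow, ht, ((((hzcen c).zpow_left t).mul_left (hbc.zpow_left _))).mul_zpow,
        ((hzcen _).zpow_left t).mul_zpow, ← zpow_mul, ← zpow_mul]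
    have he' : u ^ ν * e₁ * (u ^ ν)⁻¹ = z ^ s * e₁ := by
      rw [← hs, commutatorElement_def]; group
    have hxC : ∀ y ∈ C, x * y * x⁻¹ = y := fun y hy => by
      rw [mem_centralizer_iff.mp (hCcen hy) x hxE, mul_inv_cancel_right]
    have hu' : (x * u ^ ν) * (e₁ * c ^ γ) * (x * u ^ ν)⁻¹ =
        z ^ (s + t * γ) * b ^ ((ν : ℤ) * γ) * (e₁ * c ^ γ) := by
      have h3 : u ^ ν * (e₁ * c ^ γ) * (u ^ ν)⁻¹ =
          z ^ (s + t * γ) * b ^ ((ν : ℤ) * γ) * (e₁ * c ^ γ) := by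
        rw [← conj_mul, he', hc', zpow_add]
        have hbe : Commute (b ^ ((ν : ℤ) * γ)) e₁ := (h.E_comm' b h.comm_mem e₁ he₁).zpow_left _
        have hze : Commute (z ^ (t * γ)) e₁ := (hzcen e₁).zpow_left _
        calc z ^ s * e₁ * (z ^ (t * γ) * b ^ ((ν : ℤ) * γ) * c ^ γ)
            = z ^ s * (e₁ * z ^ (t * γ)) * b ^ ((ν : ℤ) * γ) * c ^ γ := by group
          _ = z ^ s * z ^ (t * γ) * (e₁ * b ^ ((ν : ℤ) * γ)) * c ^ γ := by rw [hze.eq.symm]; group
          _ = _ := by rw [hbe.eq.symm]; group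
      rw [show x * u ^ ν * (e₁ * c ^ γ) * (x * u ^ ν)⁻¹ =
        x * (u ^ ν * (e₁ * c ^ γ) * (u ^ ν)⁻¹) * x⁻¹ by group, h3, hxC]
      refine mul_mem (mul_mem (zpow_mem ?_ _) (zpow_mem (mem_sup_left h.comm_mem) _))
        (mul_mem (mem_sup_left he₁) (zpow_mem (mem_sup_right (mem_zpowers c)) _))
      exact mem_sup_left h.top_mem
    refine ⟨s + t * γ, ?_⟩
    rw [hb, map_commutatorElement, ← hν, ← hγ, commutatorElement_def, ← hb, hu',
      mul_inv_cancel_right]
  have hν2 : (p : ℤ) ∣ (ν : ℤ) * ν - 1 := by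
    have h1 : u * b * u⁻¹ = z ^ m * b := by rw [← hm, commutatorElement_def]; group
    have h2 := congrArg α h1
    rw [map_mul, map_mul, map_inv, map_mul, map_zpow, hαz, ← hν, ht₂, ← zpow_mul] at h2
    have h3 : x * (u ^ ν * (z ^ t₂ * b ^ ((ν : ℤ) * γ)) * (u ^ ν)⁻¹) * x⁻¹ =
        z ^ (γ * m) * (z ^ t₂ * b ^ ((ν : ℤ) * γ)) := by rw [← h2]; group
    rw [show u ^ ν * (z ^ t₂ * b ^ ((ν : ℤ) * γ)) * (u ^ ν)⁻¹ =
      (u ^ ν * z ^ t₂ * (u ^ ν)⁻¹) * (u ^ ν * b ^ ((ν : ℤ) * γ) * (u ^ ν)⁻¹) by group,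
      ← ((hzcen (u ^ ν)).zpow_left t₂).eq, mul_inv_cancel_right, hub] at h3
    have h4 : x * (z ^ t₂ * (z ^ (m * ((ν : ℤ) * ((ν : ℤ) * γ))) * b ^ ((ν : ℤ) * γ))) * x⁻¹ =
        z ^ t₂ * (z ^ (m * ((ν : ℤ) * ((ν : ℤ) * γ))) * b ^ ((ν : ℤ) * γ)) := by
      refine mul_inv_eq_iff_eq_mul.mpr (h.E_comm' x hxE _ ?_).eq
      exact mul_mem (zpow_mem h.top_mem _) (mul_mem (zpow_mem h.top_mem _) (zpow_mem h.comm_mem _))
    rw [h4] at h3
    simp only [← mul_assoc, mul_right_cancel_iff, ← zpow_add] at h3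
    have h5 : z ^ (t₂ + m * ((ν : ℤ) * ((ν : ℤ) * γ)) - (γ * m + t₂)) = 1 := by
      rw [zpow_sub, show m * ((ν : ℤ) * ((ν : ℤ) * γ)) = m * ν * ν * γ by ring, h3, mul_inv_cancel]
    have h6 := (hzint _).mp h5
    rw [show t₂ + m * ((ν : ℤ) * ((ν : ℤ) * γ)) - (γ * m + t₂) = (m * γ) * ((ν : ℤ) * ν - 1) by
      ring] at h6
    have hpr := Nat.prime_iff_prime_int.mp hp.out
    exact (hpr.dvd_or_dvd h6).resolve_left fun hh => (hpr.dvd_or_dvd hh).elim hpm hpγ
  -- hence `α ^ 2` fixes the coset of `u`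
  set π := QuotientGroup.mk' C with hπ
  have hπ2 : π (α (α u)) = π u := by
    have hπx : ∀ y ∈ C, π y = 1 := fun y hy => (QuotientGroup.eq_one_iff y).mpr hy
    have h1 : π (α u) = π u ^ ν := by rw [← hν, map_mul, hπx x hx, one_mul, map_pow]
    rw [← hν, map_mul, map_mul, hπx _ (hCα α x hx), one_mul, map_pow, map_pow, h1, ← pow_mul,
      ← zpow_natCast]
    push_cast
    obtain ⟨t, ht⟩ := hν2
    rw [show (ν : ℤ) * ν = (p : ℤ) * t + 1 by linarith, zpow_add, zpow_one, zpow_mul, zpow_natCast,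
      ← map_pow, h.u_pow, map_one, one_zpow, one_mul]
  have hall : ∀ j : ℕ, π ((α ^ (2 * j)) u) = π u := by
    intro j
    induction j with
    | zero => simp
    | succ j ih =>
      have h1 : (α ^ (2 * j)) u * u⁻¹ ∈ C := by
        rw [← QuotientGroup.eq_one_iff, ← QuotientGroup.mk'_apply, map_mul, map_inv, ← hπ, ih,
          mul_inv_cancel]
      have h2 := hCα (α * α) _ h1
      rw [show (α ^ (2 * (j + 1))) u = (α * α) ((α ^ (2 * j)) u) by
        rw [show 2 * (j + 1) = 2 + 2 * j by ring, pow_add, pow_two]; rfl]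
      rw [← hπ2]
      rw [← QuotientGroup.eq_one_iff, ← QuotientGroup.mk'_apply, map_mul, map_inv, map_mul,
        map_inv, ← hπ, mul_inv_eq_one] at h2
      exact h2
  obtain ⟨j, hj⟩ := hn
  have hfix : π (α u) = π u := by
    have h1 : α ^ (2 * (j + 1)) = α := by
      rw [show 2 * (j + 1) = (2 * j + 1) + 1 by ring, pow_succ, ← hj, hαn, one_mul]
    rw [← hall (j + 1), h1]
  obtain ⟨y, hy, i, rfl⟩ := hsplit r
  rw [← QuotientGroup.eq_one_iff, ← QuotientGroup.mk'_apply, map_mul, map_inv, ← hπ, map_mul,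
    map_mul, map_mul, map_zpow, map_zpow, map_zpow, hfix,
    show π (α y) = 1 from (QuotientGroup.eq_one_iff _).mpr (hCα α y hy),
    show π y = 1 from (QuotientGroup.eq_one_iff _).mpr hy, one_mul, mul_inv_cancel]

theorem rank_two_commutator_structure {G : Type u} [Group G] [Finite G] (hp2 : p ≠ 2)
    {R A : Subgroup G} (hR : IsPGroup p R) (hR1 : R ≠ ⊥) (hr : Cfsg.PRankLE p 2 R)
    (hA : A ≤ normalizer (R : Set G)) (hcop : (Nat.card A).Coprime p) (hAodd : Odd (Nat.card A))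
    (hRA : ⁅R, A⁆ = R) :
    3 < p ∧ (IsMulCommutative R ∨ ∃ R₁ R₂ : Subgroup G, R₁ ⊔ R₂ = R ∧
      (∀ a ∈ R₁, ∀ b ∈ R₂, a * b = b * a) ∧ ¬ IsMulCommutative R₁ ∧ Nat.card R₁ = p ^ 3 ∧
      Monoid.exponent R₁ = p ∧ IsCyclic R₂ ∧
      closure {x : G | x ∈ R₂ ∧ x ^ p = 1} = ⁅R₁, R₁⁆ ∧
      R₁ ⊓ centralizer (R₁ : Set G) = ⁅R₁, R₁⁆ ∧ Nat.card (⁅R₁, R₁⁆ : Subgroup G) = p) := by
  have hp3 := three_lt_of_commutator_eq hp2 hR hR1 hr hA hcop hAodd hRA
  refine ⟨hp3, ?_⟩
  by_cases hab : IsMulCommutative R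
  · exact Or.inl hab
  obtain ⟨hexp, hle⟩ := RankTwo.omega_exponent hp3 hR hr
  rcases le_or_gt (Nat.card (Cfsg.omegaOne p (⊤ : Subgroup R))) (p ^ 2) with h2 | h2
  · refine absurd ?_ hab
    have h := (Cfsg.Agent.S1447.result p hp2 R A hR
      (RankTwo.isMetacyclic_of_omega hp3 hR h2) hA hcop).1
    exact hRA ▸ h
  have hcube : Nat.card (Cfsg.omegaOne p (⊤ : Subgroup R)) = p ^ 3 := by
    obtain ⟨i, hi⟩ := IsPGroup.iff_card.mp (hR.to_subgroup (Cfsg.omegaOne p (⊤ : Subgroup R)))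
    rw [hi] at h2 hle ⊢
    rw [Nat.pow_lt_pow_iff_right hp.out.one_lt] at h2
    rw [Nat.pow_le_pow_iff_right hp.out.one_lt] at hle
    rw [show i = 3 by omega]
  rcases RankTwo.structure_of_omega_cube hp3 hR hr hcube with ⟨D, T, hDT⟩ | ⟨E, u, c, k, hsk⟩
  · refine Or.inr ⟨D.map R.subtype, T.map R.subtype, ?_, ?_, ?_, ?_, ?_, ?_, ?_, ?_, ?_⟩
    · rw [← Subgroup.map_sup, hDT.sup, ← MonoidHom.range_eq_map, range_subtype]
    · rintro _ ⟨a, ha, rfl⟩ _ ⟨b, hb, rfl⟩
      rw [← map_mul, hDT.comm a ha b hb, map_mul]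
    · intro h
      exact hDT.nonab ⟨⟨fun a b => Subtype.ext (R.subtype_injective (congrArg Subtype.val
        (h.is_comm.comm (⟨_, mem_map_of_mem _ a.2⟩ : D.map R.subtype)
          ⟨_, mem_map_of_mem _ b.2⟩) :))⟩⟩
    · rw [card_map_of_injective R.subtype_injective, hDT.card]
    · rw [← Monoid.exponent_eq_of_mulEquiv (D.equivMapOfInjective R.subtype R.subtype_injective)]
      refine ((Nat.dvd_prime hp.out).mp (Monoid.exponent_dvd_of_forall_pow_eq_one
        fun x => Subtype.ext (by simpa using hDT.exponent x x.2))).resolve_left fun h => ?_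
      haveI := Monoid.exp_eq_one_iff.mp h
      have := hDT.card
      rw [Nat.card_eq_one_iff_unique.mpr ⟨inferInstance, inferInstance⟩] at this
      exact (Nat.one_lt_pow (by norm_num) hp.out.one_lt).ne this
    · haveI := hDT.cyclic
      exact isCyclic_of_surjective _ (R.subtype.subgroupMap_surjective T)
    · rw [← map_commutator, ← hDT.omega_eq, MonoidHom.map_closure]
      congr 1
      ext x
      constructor
      · rintro ⟨⟨y, hy, rfl⟩, hyp⟩
        exact ⟨y, ⟨hy, Subtype.ext (by simpa using hyp)⟩, rfl⟩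
      · rintro ⟨y, ⟨hy, hyp⟩, rfl⟩
        exact ⟨mem_map_of_mem _ hy, by rw [← map_pow, hyp, map_one]⟩
    · rw [← map_commutator, ← hDT.inf_eq]
      ext x
      constructor
      · rintro ⟨⟨y, hy, rfl⟩, hyc⟩
        refine ⟨y, ⟨hy, mem_centralizer_iff.mpr fun d hd => R.subtype_injective ?_⟩, rfl⟩
        rw [map_mul, map_mul]
        exact mem_centralizer_iff.mp hyc _ (mem_map_of_mem _ hd)
      · rintro ⟨y, ⟨hy, hyc⟩, rfl⟩
        refine ⟨mem_map_of_mem _ hy, mem_centralizer_iff.mpr ?_⟩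
        rintro _ ⟨d, hd, rfl⟩
        rw [← map_mul, mem_centralizer_iff.mp hyc d hd, map_mul]
    · rw [← map_commutator, card_map_of_injective R.subtype_injective, hDT.card_commutator]
  · refine absurd ?_ hR1
    set C := E ⊔ zpowers c with hC
    have hall : R ≤ C.map R.subtype := by
      refine hRA.ge.trans (commutator_le.mpr fun r hr' a ha => ?_)
      have hpow : (R.normalizerMonoidHom ⟨a, hA ha⟩) ^ Nat.card A = 1 := by
        have h' := _root_.orderOf_dvd_natCard (⟨a, ha⟩ : A)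
        rw [← Subgroup.orderOf_coe] at h'
        rw [← map_pow, show (⟨a, hA ha⟩ : normalizer (R : Set G)) ^ Nat.card A = 1 from
          Subtype.ext (orderOf_dvd_iff_pow_eq_one.mp h'), map_one]
      have h1 := skew_fixes hp2 hR hexp hsk (R.normalizerMonoidHom ⟨a, hA ha⟩) hAodd hpow ⟨r, hr'⟩
      refine ⟨_, inv_mem h1, ?_⟩
      rw [map_inv, map_mul, map_inv]
      change (a * r * a⁻¹ * r⁻¹)⁻¹ = ⁅r, a⁆
      rw [commutatorElement_def]
      group
    exact absurd (mem_map.mp (hall (u : R).2)) fun ⟨w, hw, hwu⟩ =>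
      hsk.u_not_mem (R.subtype_injective hwu ▸ hw)

end Cfsg.Agent.OddLocal
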