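import Cfsg.Agent.OddLocal.FittingFormula
import Cfsg.Agent.OddLocal.SigmaLineUnique

/-!
# `F(M)` is a TI-subset when `M_F ≠ M_σ`, and `M_F` is not cyclic (BG 15.4, 15.6)
-/

namespace Cfsg.Agent.OddLocal

open Subgroup
open scoped commutatorElement

universe u

variable {G : Type u} [Group G] [Finite G] {M K U : Subgroup G}

namespace CoreData

variable (h : CoreData M K)

include h

theorem inUniqueMaximal_coreSylow : InUniqueMaximal (coreSylow M K) := by
  have := Fact.mk h.prime
  set q := Nat.card (kStar M K) with hq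
  have hnd : ¬ q ∣ (piCore ({q} : Set ℕ) M).index := by
    intro hd
    have h1 : q ∣ (coreSylow M K).relIndex M := by
      rwa [coreSylow, piCoreOf, relIndex, subgroupOf,
        comap_map_eq_self_of_injective M.subtype_injective]
    rw [← relIndex_mul_relIndex _ _ _ h.coreSylow_le_sigmaCore (sigmaCore_le M)] at h1
    rcases h.prime.dvd_mul.1 h1 with h3 | h3
    · exact h.quotient_facts.1 h3
    · exact (isPiHallOf_sigmaCore h.minSimple h.coatom).2.2 q h.prime h.mem_sigma h3
  have hp : IsPGroup q (piCore ({q} : Set ℕ) M) := isPGroup_of_singleton (piNum_piCore _)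
  set P : Sylow q M := hp.toSylow hnd with hP
  obtain ⟨S, hS⟩ := sigma_sylow h.mem_sigma P
  have hSQ : (S : Subgroup G) = coreSylow M K := hS
  obtain ⟨x, hx⟩ := exists_prime_orderOf_dvd_card' q (dvd_refl (Nat.card (kStar M K)))
  rw [← hSQ]
  refine inUniqueMaximal_sylow h.minSimple h.coatom h.mem_sigma S (hSQ ▸ h.coreSylow_le_sigmaCore)
    (x := (x : G)) (sigmaCore_le M (mem_inf.1 x.2).1) ?_ ?_ (Or.inl h.mem_beta)
  · intro e
    rw [OneMemClass.coe_eq_one] at e
    rw [e, orderOf_one] at hx
    exact h.prime.one_lt.ne hx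
  · rw [← orderOf_dvd_iff_pow_eq_one, orderOf_coe, hx]

/-- Centralisers of elements of prime order in `F(M)` lie in `M`. -/
theorem centralizer_le_of_mem_fitting {r : ℕ} [Fact r.Prime] {z : G} (hz : z ∈ fittingOf M)
    (hzo : orderOf z = r) : centralizer ({z} : Set G) ≤ M := by
  have := Fact.mk h.prime
  have hz1 : z ≠ 1 := fun e => (Fact.out : r.Prime).one_lt.ne (by rw [← hzo, e, orderOf_one])
  by_cases hrq : r = Nat.card (kStar M K)
  · subst hrq
    exact (unique_centralizer_line h.minSimple h.coatom h.mem_sigma (fittingOf_le M hz) hz1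
      (hzo ▸ pow_orderOf_eq_one z) (Or.inl h.mem_beta)).1
  · have hQC : coreSylow M K ≤ centralizer ({z} : Set G) := fun y hy => by
      refine mem_centralizer_singleton_iff.2 (commute_of_mem (isNilpotent_fittingOf M)
        ((h.coreSylow_le_fittingHallOf.trans (fittingHallOf_le_fittingOf M)) hy) hz ?_).eq
      rw [hzo]
      refine Nat.Coprime.symm ((Nat.Prime.coprime_iff_not_dvd Fact.out).2 fun hd => hrq ?_)
      exact mem_singleton_of_isPGroup (coreSylow_isPGroup h) r Fact.out
        (hd.trans (Subgroup.orderOf_dvd_natCard _ hy))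
    exact (unique_of_inUniqueMaximal h.inUniqueMaximal_coreSylow h.coatom (coreSylow_le M K) hQC
      (centralizer_ne_top h.minSimple hz1)).1

theorem fittingOf_TI : IsTISubset (fittingOf M : Set G) := by
  intro g hg x hx hgx
  by_contra hx1
  have hgM : g ∉ M := fun hc => hg (le_normalizer_fittingOf M hc)
  obtain ⟨p, hp, hpd⟩ := Nat.exists_prime_and_dvd (mt orderOf_eq_one_iff.mp hx1)
  haveI := Fact.mk hp
  set y := x ^ (orderOf x / p) with hy
  have hyo : orderOf y = p := orderOf_pow_orderOf_div (orderOf_pos x).ne' hpd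
  have hyF : y ∈ fittingOf M := (fittingOf M).pow_mem hx _
  set z := g * y * g⁻¹ with hz
  have hzF : z ∈ fittingOf M := by
    have h1 := (fittingOf M).pow_mem hgx (orderOf x / p)
    rwa [conj_pow] at h1
  have hzo : orderOf z = p := by rw [hz, ← MulAut.conj_apply, MulEquiv.orderOf_eq, hyo]
  have hC := h.centralizer_le_of_mem_fitting hzF hzo
  refine hgM (mem_of_centralizer_le h.minSimple h.coatom (p := p) (X := zpowers z)
    (piNum_sigmaCore M p hp (hzo ▸ Subgroup.orderOf_dvd_natCard _ (h.fittingOf_le_sigmaCore hzF)))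
    (isPGroup_of_card_prime (by rw [Nat.card_zpowers, hzo]))
    (by rw [Ne, zpowers_eq_bot]; exact fun e => hp.one_lt.ne (by rw [← hzo, e, orderOf_one]))
    (zpowers_le.2 (fittingOf_le M hzF)) (zpowers_le.2 ?_) ?_)
  · rw [mem_map_conj_iff]
    simpa [hz, mul_assoc] using fittingOf_le M hyF
  · rw [centralizer_zpowers]; exact hC

theorem coreSylow_not_isCyclic : ¬ IsCyclic (coreSylow M K) := by
  intro hc
  obtain ⟨D, hD, hKD⟩ := h.exists_compl
  obtain ⟨a, ha⟩ := hc.exists_generator
  have hpow := (h.quotient_elementary hD hKD a a.2 a a.2).1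
  set q := Nat.card (kStar M K) with hq
  set Q0 := coreSylow M K ⊓ centralizer (D : Set G) with hQ0
  have hQ : Nat.card (coreSylow M K) ∣ q * Nat.card Q0 := by
    rw [← orderOf_eq_card_of_forall_mem_zpowers ha, ← orderOf_coe a]
    rw [orderOf_dvd_iff_pow_eq_one, pow_mul]
    exact orderOf_dvd_iff_pow_eq_one.1 (Subgroup.orderOf_dvd_natCard _ hpow)
  rw [h.card_eq_pow hD hKD le_rfl h.ne_bot, mul_comm q, Nat.mul_dvd_mul_iff_left Nat.card_pos] at hQ
  exact h.card_K_prime.one_lt.not_ge ((Nat.pow_dvd_pow_iff_le_right h.prime.one_lt).1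
    (by rw [pow_one]; exact hQ))

end CoreData

variable (hG : IsMinSimpleOddOrder G) (hM : IsCoatom M)
include hG hM

theorem kStar_le_fittingHallOf (h : IsSigmaDecomposition M K U) :
    kStar M K ≤ fittingHallOf M := by
  by_cases hn : Group.IsNilpotent (sigmaCore M)
  · rw [fittingHallOf_eq_of_nilpotent hG hM hn]; exact inf_le_left
  · exact (coreData_of_not_nilpotent hG hM h hn).2.kStar_le_fittingHallOf

theorem fittingHallOf_not_isCyclic (h : IsSigmaDecomposition M K U) (hK1 : K ≠ ⊥) :
    ¬ IsCyclic (fittingHallOf M) := by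
  by_cases hn : Group.IsNilpotent (sigmaCore M)
  · rw [fittingHallOf_eq_of_nilpotent hG hM hn]
    exact sigmaCore_not_isCyclic hG hM h hK1
  · intro hc
    obtain ⟨-, hd⟩ := coreData_of_not_nilpotent hG hM h hn
    exact hd.coreSylow_not_isCyclic (Subgroup.isCyclic_of_le hd.coreSylow_le_fittingHallOf)

end Cfsg.Agent.OddLocal
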