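import Cfsg.Agent.OddLocal.NonSigma
import Cfsg.Agent.OddLocal.BetaCore
import Cfsg.Agent.FixedPointFree.Prime
import Cfsg.Agent.Core.Carter
import Cfsg.Agent.Coprime.PCoreTools
import Mathlib.GroupTheory.SpecificGroups.ZGroup

/-!
The complement `E` of `M_σ` in `M` (BG 12.1).
-/

set_option autoImplicit false
set_option linter.unusedSectionVars false
set_option linter.style.haveILetI false

namespace Cfsg.Agent.OddLocal

open Subgroup Cfsg
open scoped commutatorElement

universe u

variable {G : Type u} [Group G] [Finite G] {p : ℕ} [hp : Fact p.Prime] {M E : Subgroup G}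

omit hp in
theorem IsComplIn.card_mul {A B M : Subgroup G} (h : IsComplIn A B M) :
    Nat.card A * Nat.card B = Nat.card M := by
  obtain ⟨hA, hB, hAB, hM⟩ := h
  rw [← Nat.card_prod]
  refine Nat.card_eq_of_bijective (fun x : A × B => (⟨x.1 * x.2, M.mul_mem (hA x.1.2) (hB x.2.2)⟩ : M))
    ⟨fun x y e => Subgroup.mul_injective_of_disjoint (disjoint_iff.mpr hAB) (congrArg Subtype.val e),
      fun m => ?_⟩
  obtain ⟨a, ha, b, hb, hm⟩ := hM m m.2
  exact ⟨(⟨a, ha⟩, ⟨b, hb⟩), Subtype.ext hm.symm⟩

variable (hG : IsMinSimpleOddOrder G) (hM : IsCoatom M) (hE : IsComplIn E (sigmaCore M) M)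

include hE

omit hp in
theorem compl_le : E ≤ M := hE.1

omit hp in
theorem compl_card : Nat.card E * Nat.card (sigmaCore M) = Nat.card M := IsComplIn.card_mul hE

omit hp in
theorem compl_relIndex : (sigmaCore M).relIndex M = Nat.card E := by
  have h := compl_card hE
  have h' : Nat.card (sigmaCore M) * (sigmaCore M).relIndex M = Nat.card M := by
    simpa using relIndex_mul_relIndex ⊥ (sigmaCore M) M bot_le hE.2.1
  exact Nat.eq_of_mul_eq_mul_left Nat.card_pos (by rw [h', ← h, mul_comm])

include hG hM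

omit hp in
theorem compl_prime_not_sigma {q : ℕ} (hq : q.Prime) (hd : q ∣ Nat.card E) : q ∉ sigma M :=
  fun hs => (isPiHallOf_sigmaCore hG hM).2.2 q hq hs (compl_relIndex hE ▸ hd)

omit hp in
theorem compl_coprime : (Nat.card E).Coprime (Nat.card (sigmaCore M)) :=
  Nat.coprime_of_dvd fun q hq h1 h2 =>
    compl_prime_not_sigma hG hM hE hq h1 ((isPiHallOf_sigmaCore hG hM).2.1 q hq h2)

theorem dvd_compl_iff : p ∣ Nat.card E ↔ p ∣ Nat.card M ∧ p ∉ sigma M := by
  refine ⟨fun h => ⟨h.trans (card_dvd_of_le hE.1), compl_prime_not_sigma hG hM hE hp.out h⟩, ?_⟩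
  rintro ⟨h, hs⟩
  rw [← compl_card hE] at h
  exact (hp.out.dvd_mul.mp h).resolve_right fun h' =>
    hs ((isPiHallOf_sigmaCore hG hM).2.1 p hp.out h')

theorem compl_sylow_exists (P : Sylow p E) (hd : p ∉ sigma M) :
    ∃ Q : Sylow p M, (Q : Subgroup M).map M.subtype = (P : Subgroup E).map E.subtype := by
  have hle : (P : Subgroup E).map E.subtype ≤ M := (map_subtype_le _).trans hE.1
  have hc : Nat.card ↥(((P : Subgroup E).map E.subtype).subgroupOf M) =
      p ^ (Nat.card M).factorization p := by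
    rw [Nat.card_congr (subgroupOfEquivOfLe hle).toEquiv, card_map_of_injective E.subtype_injective,
      P.card_eq_multiplicity, ← compl_card hE, Nat.factorization_mul Nat.card_pos.ne' Nat.card_pos.ne',
      Finsupp.add_apply, Nat.factorization_eq_zero_of_not_dvd
        (fun h => hd ((isPiHallOf_sigmaCore hG hM).2.1 p hp.out h)), add_zero]
  exact ⟨Sylow.ofCard _ hc, by rw [Sylow.coe_ofCard, map_subgroupOf_eq_of_le hle]⟩

omit hp in
/-- `E'` is nilpotent. -/
theorem compl_commutator_nilpotent : Group.IsNilpotent ↥⁅E, E⁆ := by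
  obtain ⟨hc, -⟩ := commutator_quotient_alpha_le hG hM
  set f := QuotientGroup.mk' (piCore (alpha M) M) with hf
  let g : E →* (↥M ⧸ piCore (alpha M) M) := f.comp (inclusion hE.1)
  have hinj : Function.Injective g := by
    rw [injective_iff_map_eq_one]
    intro e he
    have h1 : inclusion hE.1 e ∈ piCore (sigma M) M :=
      piCore_alpha_le_sigma hG hM ((QuotientGroup.eq_one_iff _).mp he)
    have h2 : (e : G) ∈ E ⊓ sigmaCore M := ⟨e.2, mem_map_of_mem M.subtype h1⟩
    rw [hE.2.2.1, mem_bot] at h2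
    exact Subtype.ext h2
  have h1 : (commutator E).map g ≤ fittingSubgroup (↥M ⧸ piCore (alpha M) M) := by
    refine le_trans ?_ hc
    rw [_root_.commutator_def, map_commutator, _root_.commutator_def]
    exact commutator_mono le_top le_top
  have h2 : Group.IsNilpotent ↥((commutator E).map g) :=
    Core.isNilpotent_mono Core.fittingSubgroup_isNilpotent h1
  have h3 : Group.IsNilpotent ↥(commutator E) :=
    (Group.isNilpotent_congr (equivMapOfInjective _ g hinj)).mpr h2
  rw [commutator_eq_map_subtype]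
  exact (Group.isNilpotent_congr (equivMapOfInjective _ _ E.subtype_injective)).mp h3

theorem dvd_card_commutator_iff (hd : p ∉ sigma M) :
    p ∣ Nat.card ↥⁅M, M⁆ ↔ p ∣ Nat.card ↥⁅E, E⁆ := by
  refine ⟨fun h => ?_, fun h => h.trans (card_dvd_of_le (commutator_mono hE.1 hE.1))⟩
  set N := piCore (sigma M) M with hN
  set f := QuotientGroup.mk' N with hf
  let g : E →* (↥M ⧸ N) := f.comp (inclusion hE.1)
  have hsurj : Function.Surjective g := by
    intro x
    obtain ⟨m, rfl⟩ := QuotientGroup.mk'_surjective N x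
    obtain ⟨a, ha, b, hb, hm⟩ := hE.2.2.2 m m.2
    refine ⟨⟨a, ha⟩, QuotientGroup.eq.mpr ?_⟩
    obtain ⟨b', hb', hbb⟩ := hb
    have : (inclusion hE.1 ⟨a, ha⟩)⁻¹ * m = b' := Subtype.ext (by
      show a⁻¹ * (m : G) = (b' : G)
      rw [hm, inv_mul_cancel_left]
      exact hbb.symm)
    rw [this]
    exact hb'
  have h1 : (commutator M).map f = (commutator E).map g := by
    rw [_root_.commutator_def, map_commutator, map_top_of_surjective f (QuotientGroup.mk'_surjective N),
      _root_.commutator_def, map_commutator, map_top_of_surjective g hsurj]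
  have h2 : Nat.card ↥(commutator M ⊓ f.ker) * Nat.card ↥((commutator M).map f) =
      Nat.card (commutator M) := by
    have h3 := (f.domRestrict (commutator M)).ker.card_mul_index
    rw [Subgroup.index_ker, MonoidHom.domRestrict_range, MonoidHom.ker_domRestrict] at h3
    rw [← h3]
    congr 1
    exact Nat.card_congr
      { toFun := fun x => ⟨⟨x.1, x.2.1⟩, x.2.2⟩
        invFun := fun x => ⟨x.1.1, x.1.2, x.2⟩
        left_inv := fun x => rfl
        right_inv := fun x => rfl }
  rw [commutator_eq_map_subtype M, card_map_of_injective M.subtype_injective, ← h2] at h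
  rcases hp.out.dvd_mul.mp h with h' | h'
  · exact absurd (piNum_piCore (sigma M) p hp.out (h'.trans (card_dvd_of_le (by
      rw [hf, QuotientGroup.ker_mk']; exact inf_le_right)))) hd
  · rw [commutator_eq_map_subtype E, card_map_of_injective E.subtype_injective]
    exact h'.trans (h1 ▸ card_map_dvd _ g)

theorem compl_pRankLE_two (hd : p ∉ sigma M) : PRankLE p 2 M := by
  by_contra h
  exact hd (alpha_subset_sigma hG hM ⟨hp.out, h⟩)

/-- `τ₁`, `τ₂`, `τ₃` cover the prime divisors of `|E|`. -/
theorem tau_cases (h : p ∣ Nat.card E) : p ∈ tau1 M ∨ p ∈ tau2 M ∨ p ∈ tau3 M := by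
  obtain ⟨hd, hs⟩ := (dvd_compl_iff hG hM hE).mp h
  by_cases h1 : PRankLE p 1 M
  · by_cases h2 : p ∣ Nat.card ↥⁅M, M⁆
    · exact Or.inr (Or.inr ⟨hp.out, hs, h2, h1⟩)
    · exact Or.inl ⟨hp.out, hs, hd, h2, h1⟩
  · exact Or.inr (Or.inl ⟨hp.out, hs, compl_pRankLE_two hG hM hE hs, h1⟩)

/-- Sylow subgroups of rank one are cyclic. -/
theorem compl_isCyclic_sylow (h1 : PRankLE p 1 M) (P : Sylow p E) : IsCyclic (P : Subgroup E) := by
  have hinj : Function.Injective ((inclusion hE.1).comp (P : Subgroup E).subtype) :=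
    (inclusion_injective hE.1).comp (Subgroup.subtype_injective (P : Subgroup E))
  by_cases hb : (P : Subgroup E) = ⊥
  · rw [hb]; infer_instance
  exact isCyclic_of_pRankLE_one
    (prime_ne_two_of_pGroup hG (P.2.map E.subtype)
      (fun h => hb ((map_eq_bot_iff_of_injective _ E.subtype_injective).mp h)))
    P.2 (pRankLE_of_injective _ hinj h1)

/-- Sylow subgroups for `τ₃` lie in `E'`. -/
theorem tau3_sylow_le (h3 : p ∈ tau3 M) (P : Sylow p E) : (P : Subgroup E) ≤ commutator E := by
  have hcyc := compl_isCyclic_sylow hG hM hE h3.2.2.2 P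
  have hd : p ∣ Nat.card (commutator E) := by
    have := (dvd_card_commutator_iff hG hM hE h3.2.1).mp h3.2.2.1
    rwa [commutator_eq_map_subtype E, card_map_of_injective E.subtype_injective] at this
  have hi := (Sylow.not_dvd_card_commutator_or_not_dvd_index_commutator P).resolve_left (not_not_intro hd)
  exact le_of_coprime_index' P.2 hi
where
  le_of_coprime_index' {K : Type u} [Group K] [Finite K] {p : ℕ} [hp : Fact p.Prime]
      {N : Subgroup K} [N.Normal] {P : Subgroup K} (hP : IsPGroup p P) (hi : ¬ p ∣ N.index) :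
      P ≤ N := by
    refine Core.le_of_coprime_index ?_
    obtain ⟨n, hn⟩ := hP.exists_card_eq
    rw [hn]
    exact (hp.out.coprime_iff_not_dvd.mpr hi).pow_left n

omit hp

/-- A subgroup of `E` whose primes have rank one in `M` is a Z-group. -/
theorem compl_isZGroup {H : Subgroup G} (hH : H ≤ E)
    (h : ∀ q : ℕ, q.Prime → q ∣ Nat.card H → PRankLE q 1 M) : IsZGroup H := by
  refine ⟨fun q hq Q => ?_⟩
  have := Fact.mk hq
  by_cases hb : (Q : Subgroup H) = ⊥
  · rw [hb]; infer_instance
  have hd : q ∣ Nat.card H := by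
    obtain ⟨n, hn⟩ := Q.2.exists_card_eq
    exact ((dvd_pow_self q (fun h0 => hb (card_eq_one.mp (by rw [hn, h0, pow_zero])))).trans
      hn.symm.dvd).trans (card_subgroup_dvd_card _)
  obtain ⟨P, hP⟩ := ((Q.2.map (inclusion hH)) : IsPGroup q _).exists_le_sylow
  have hc := compl_isCyclic_sylow hG hM hE (h q hq hd) P
  exact isCyclic_of_injective
    (f := ((inclusion hH).comp (Q : Subgroup H).subtype).codRestrict (P : Subgroup E)
      (fun x => hP (mem_map_of_mem _ x.2)))
    (fun x y e => Subtype.ext (inclusion_injective hH (congrArg Subtype.val e)))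

theorem tau3_hall_le {E₃ : Subgroup G} (h3 : IsPiHallOf (tau3 M) E₃ E) : E₃ ≤ ⁅E, E⁆ := by
  rw [commutator_eq_map_subtype, ← map_subgroupOf_eq_of_le h3.1]
  refine map_mono (Core.le_of_coprime_index (Nat.coprime_of_dvd fun q hq h1 h2 => ?_))
  have := Fact.mk hq
  rw [Nat.card_congr (subgroupOfEquivOfLe h3.1).toEquiv] at h1
  obtain ⟨P⟩ : Nonempty (Sylow q E) := inferInstance
  exact P.not_dvd_index (h2.trans (index_dvd_of_le (tau3_sylow_le hG hM hE (h3.2.1 q hq h1) P)))

theorem tau3_hall_cyclic {E₃ : Subgroup G} (h3 : IsPiHallOf (tau3 M) E₃ E) : IsCyclic E₃ := by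
  have := compl_commutator_nilpotent hG hM hE
  have h1 : Group.IsNilpotent E₃ := Core.isNilpotent_mono this (tau3_hall_le hG hM hE h3)
  have := compl_isZGroup hG hM hE h3.1 fun q hq hd => (h3.2.1 q hq hd).2.2.2
  infer_instance

theorem tau1_hall_cyclic {E₁ : Subgroup G} (h1 : IsPiHallOf (tau1 M) E₁ E) : IsCyclic E₁ := by
  have hz := compl_isZGroup hG hM hE h1.1 fun q hq hd => (h1.2.1 q hq hd).2.2.2.2
  have h2 : ⁅E₁, E₁⁆ ≤ E₁ := commutator_le_self E₁
  have h0 : ⁅E₁, E₁⁆ = ⊥ := by
    rw [← card_eq_one]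
    by_contra hne
    obtain ⟨q, hq, hd⟩ := Nat.exists_prime_and_dvd hne
    exact (h1.2.1 q hq (hd.trans (card_dvd_of_le h2))).2.2.2.1
      (hd.trans (card_dvd_of_le (commutator_mono (h1.1.trans hE.1) (h1.1.trans hE.1))))
  have : Group.IsNilpotent E₁ := Core.isNilpotent_of_commutator_le_center h0.le
    (fun x _ => by simp [mem_centralizer_iff])
  infer_instance

/-- A Hall `τ₃(M)`-subgroup of `E` is normal in `E`. -/
theorem tau3_hall_normal {E₃ : Subgroup G} (h3 : IsPiHallOf (tau3 M) E₃ E) :
    E ≤ normalizer (E₃ : Set G) := by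
  have hle := tau3_hall_le hG hM hE h3
  have hnil := compl_commutator_nilpotent hG hM hE
  -- `E₃` is a normal Hall subgroup of `E'`, hence characteristic
  set K := ⁅E, E⁆ with hK
  have hKE : K ≤ E := commutator_le_self E
  have hcop : (Nat.card (E₃.subgroupOf K)).Coprime (E₃.subgroupOf K).index := by
    refine Nat.coprime_of_dvd fun q hq h1 h2 => ?_
    rw [Nat.card_congr (subgroupOfEquivOfLe hle).toEquiv] at h1
    exact h3.2.2 q hq (h3.2.1 q hq h1) (h2.trans (Dvd.intro _ (relIndex_mul_relIndex E₃ K E hle hKE)))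
  have hn : (E₃.subgroupOf K).Normal := Core.hall_normal_of_isNilpotent hcop
  have hchar : (E₃.subgroupOf K).Characteristic := Subgroup.characteristic_iff_map_eq.mpr fun φ => by
    refine eq_of_le_of_card_ge (Core.le_of_coprime_index ?_) ?_
    · rw [card_map_of_injective φ.injective]; exact hcop
    · rw [card_map_of_injective φ.injective]
  have h := Coprime.le_normalizer_map_of_characteristic (A := E) (K := K) ?_ _ hchar
  · rwa [map_subgroupOf_eq_of_le hle] at h
  · exact FixedPointFree.le_normalizer_commutator' le_normalizer le_normalizer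

end Cfsg.Agent.OddLocal
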