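import Cfsg.Agent.OddLocal.SupportCoset

/-!
The cardinality of the union of the conjugates of the cosets `x R(x)` (BG 14.6).
-/

set_option autoImplicit false
set_option linter.unusedSectionVars false
set_option linter.style.haveILetI false

namespace Cfsg.Agent.OddLocal

open Subgroup Cfsg

universe u

variable {G : Type u} [Group G] [Finite G] {M M' R : Subgroup G} {x : G}

theorem mem_sigmaCore_conj (hG : IsMinSimpleOddOrder G) (hM : IsCoatom M) (hx : x ∈ sigmaCore M)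
    (g : G) : g * x * g⁻¹ ∈ sigmaCore (M.map (MulAut.conj g).toMonoidHom) := by
  rw [sigmaCore_map_conj hG hM]
  exact mem_map_of_mem (MulAut.conj g).toMonoidHom hx

theorem mem_sigmaCore_of_mem_conj (hG : IsMinSimpleOddOrder G) (hM : IsCoatom M)
    (hx : x ∈ sigmaCore M) {g : G} (hxg : x ∈ M.map (MulAut.conj g).toMonoidHom) :
    x ∈ sigmaCore (M.map (MulAut.conj g).toMonoidHom) :=
  le_sigmaCore hG (isCoatom_map_conj hM g) (zpowers_le.mpr hxg) (fun q hq hd => by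
    rw [sigma_map_conj]
    exact prime_mem_sigma_of_mem hG hM hx hq (by rwa [Nat.card_zpowers] at hd))
    (mem_zpowers x)

/-- Conjugates of `M` over `x` have the same `R(x)`. -/
theorem IsSupport.congr_conj (hG : IsMinSimpleOddOrder G) (hM : IsCoatom M) (hx : x ∈ sigmaCore M)
    (hx1 : x ≠ 1) (h : IsSupport M x R) {g : G} (hxg : x ∈ M.map (MulAut.conj g).toMonoidHom) :
    IsSupport (M.map (MulAut.conj g).toMonoidHom) x R := by
  obtain ⟨r, ⟨hr, hrg⟩, -⟩ := h.existsUnique_conj hG hM hx hx1 hxg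
  rw [← hrg]
  rcases h with ⟨hC, rfl⟩ | ⟨hC, N, hN, hNC, rfl⟩
  · rw [mem_bot] at hr
    rw [hr, map_conj_eq_self_of_mem (one_mem _)]
    exact Or.inl ⟨hC, rfl⟩
  · refine Or.inr ⟨fun hle => hC ?_, N, hN, hNC, rfl⟩
    intro c hc
    have hrC : r ∈ centralizer ({x} : Set G) := hr.2
    have h1 := hle (mul_mem (mul_mem hrC hc) (inv_mem hrC))
    rw [mem_map_conj_iff] at h1
    rwa [show r⁻¹ * (r * c * r⁻¹) * r = c by group] at h1

variable (hG : IsMinSimpleOddOrder G) (hM : IsCoatom M)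
include hG hM

/-- The sets `M̃` of nonconjugate maximal subgroups are disjoint. -/
theorem tildeOf_sigma_disjoint (hM' : IsCoatom M')
    (hnc : ∀ g : G, M' ≠ M.map (MulAut.conj g).toMonoidHom) :
    tildeOf M ((sigmaCore M : Set G) \ {1}) ∩ tildeOf M' ((sigmaCore M' : Set G) \ {1}) = ∅ := by
  rw [Set.eq_empty_iff_forall_notMem]
  rintro _ ⟨⟨a, ⟨ha, ha1⟩, r, hr, y, rfl⟩, b, ⟨hb, hb1⟩, s, hs, z, hz⟩
  have ha1' : a ≠ 1 := ha1
  have hb1' : b ≠ 1 := hb1
  have hy : y * (a * r) * y⁻¹ = y * a * y⁻¹ * (y * r * y⁻¹) := by group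
  have hz' : z * (b * s) * z⁻¹ = z * b * z⁻¹ * (z * s * z⁻¹) := by group
  rw [hy, hz'] at hz
  have heq := support_cosets_disjoint hG (isCoatom_map_conj hM y) (isCoatom_map_conj hM' z)
    (mem_sigmaCore_conj hG hM ha y) (fun e => ha1' (conj_eq_one_iff.mp e))
    (mem_sigmaCore_conj hG hM' hb z) (fun e => hb1' (conj_eq_one_iff.mp e))
    ((isSupport_supportR hG hM ha ha1').map hG y) ((isSupport_supportR hG hM' hb hb1').map hG z)
    (mem_map_of_mem _ hr) (mem_map_of_mem _ hs) hz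
  obtain ⟨q, hq, hqd⟩ := Nat.exists_prime_and_dvd (mt orderOf_eq_one_iff.mp ha1')
  haveI := Fact.mk hq
  have h1 : orderOf (z * b * z⁻¹) = orderOf a := by
    rw [← heq, ← MulAut.conj_apply, MulEquiv.orderOf_eq]
  obtain ⟨g, hg⟩ := exists_conj_of_sigma_inter hG hM hM' (p := q)
    (prime_mem_sigma_of_mem hG hM ha hq hqd)
    (prime_mem_sigma_of_mem hG hM' hb hq (by
      rwa [← h1, ← MulAut.conj_apply, MulEquiv.orderOf_eq] at hqd))
  exact hnc g hg

/-- BG 14.6: `|M̃| = (|M_σ| - 1) |G : M|`. -/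
theorem ncard_tildeOf_sigma :
    Set.ncard (tildeOf M ((sigmaCore M : Set G) \ {1})) =
      (Nat.card (sigmaCore M) - 1) * M.index := by
  classical
  set T := tildeOf M ((sigmaCore M : Set G) \ {1}) with hT
  set S := {x : G // x ∈ (sigmaCore M : Set G) \ {1}} with hSdef
  -- a chosen conjugate of `M` over every conjugate of an element of `M_σ`
  have hch : ∀ x' : G, ∃ (g : G) (R : Subgroup G), (∃ y : G, y⁻¹ * x' * y ∈ sigmaCore M ∧ x' ≠ 1) →
      x' ∈ sigmaCore (M.map (MulAut.conj g).toMonoidHom) ∧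
        IsSupport (M.map (MulAut.conj g).toMonoidHom) x' R := by
    intro x'
    by_cases hy : ∃ y : G, y⁻¹ * x' * y ∈ sigmaCore M ∧ x' ≠ 1
    · obtain ⟨y, hy, hx'⟩ := hy
      have h1 := mem_sigmaCore_conj hG hM hy y
      rw [show y * (y⁻¹ * x' * y) * y⁻¹ = x' by group] at h1
      obtain ⟨R, hR⟩ := exists_isSupport hG (isCoatom_map_conj hM y) h1 hx'
      exact ⟨y, R, fun _ => ⟨h1, hR⟩⟩
    · exact ⟨1, ⊥, fun h => absurd h hy⟩
  choose g₀ R₀ h₀ using hch
  -- the unique translation to another conjugate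
  have hr : ∀ (x' g : G), x' ∈ sigmaCore (M.map (MulAut.conj g).toMonoidHom) → x' ≠ 1 →
      ∃! r : G, r ∈ R₀ x' ∧ (M.map (MulAut.conj (g₀ x')).toMonoidHom).map (MulAut.conj r).toMonoidHom =
        M.map (MulAut.conj g).toMonoidHom := by
    intro x' g hx' hx'1
    have hx'' : g⁻¹ * x' * g ∈ sigmaCore M := by
      rwa [sigmaCore_map_conj hG hM, mem_map_conj_iff] at hx'
    obtain ⟨h1, h2⟩ := h₀ x' ⟨g, hx'', hx'1⟩
    have hg : M.map (MulAut.conj g).toMonoidHom =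
        (M.map (MulAut.conj (g₀ x')).toMonoidHom).map (MulAut.conj (g * (g₀ x')⁻¹)).toMonoidHom := by
      rw [map_conj_map_conj, inv_mul_cancel_right]
    rw [hg]
    exact h2.existsUnique_conj hG (isCoatom_map_conj hM _) h1 hx'1
      (by rw [← hg]; exact sigmaCore_le _ hx')
  -- the parametrisation
  have hF : ∀ (qx : (G ⧸ M) × S), ∃ t ∈ T, ∃ r ∈ R₀ (qx.1.out * qx.2.1 * qx.1.out⁻¹),
      t = qx.1.out * qx.2.1 * qx.1.out⁻¹ * r ∧
      (M.map (MulAut.conj (g₀ (qx.1.out * qx.2.1 * qx.1.out⁻¹))).toMonoidHom).map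
        (MulAut.conj r).toMonoidHom = M.map (MulAut.conj qx.1.out).toMonoidHom := by
    rintro ⟨q, x, hx, hx1⟩
    change ∃ t ∈ T, ∃ r ∈ R₀ (q.out * x * q.out⁻¹), _
    set g := q.out with hg
    have hx' := mem_sigmaCore_conj hG hM hx g
    have hx'1 : g * x * g⁻¹ ≠ 1 := fun e => hx1 (conj_eq_one_iff.mp e)
    obtain ⟨r, ⟨hrR, hrM⟩, -⟩ := hr _ g hx' hx'1
    refine ⟨g * x * g⁻¹ * r, ?_, r, hrR, rfl, hrM⟩
    obtain ⟨h1, h2⟩ := h₀ (g * x * g⁻¹) ⟨g, by
      rw [show g⁻¹ * (g * x * g⁻¹) * g = x by group]; exact hx, hx'1⟩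
    set y := g₀ (g * x * g⁻¹) with hy
    have hx'' : y⁻¹ * (g * x * g⁻¹) * y ∈ sigmaCore M := by
      rwa [sigmaCore_map_conj hG hM, mem_map_conj_iff] at h1
    have hx''1 : y⁻¹ * (g * x * g⁻¹) * y ≠ 1 := fun e => hx'1 (by
      calc g * x * g⁻¹ = y * (y⁻¹ * (g * x * g⁻¹) * y) * y⁻¹ := by group
        _ = 1 := by rw [e]; group)
    have hR := (isSupport_supportR hG hM hx'' hx''1).map hG y
    rw [show y * (y⁻¹ * (g * x * g⁻¹) * y) * y⁻¹ = g * x * g⁻¹ by group] at hR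
    rw [IsSupport.unique hG (isCoatom_map_conj hM y) h1 hx'1 hR h2] at hrR
    obtain ⟨r', hr', hrr⟩ := hrR
    refine ⟨_, ⟨hx'', hx''1⟩, r', hr', y, ?_⟩
    change y * r' * y⁻¹ = r at hrr
    rw [← hrr]
    group
  choose F hFT rF hrF hFeq hFM using hF
  have hinj : Function.Injective fun qx => (⟨F qx, hFT qx⟩ : T) := by
    intro a b hab
    have hab' : F a = F b := congrArg Subtype.val hab
    obtain ⟨q, x, hx, hx1⟩ := a
    obtain ⟨q', x', hx', hx'1⟩ := b
    have e1 := hFeq (q, ⟨x, hx, hx1⟩)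
    have e2 := hFeq (q', ⟨x', hx', hx'1⟩)
    have m1 := hFM (q, ⟨x, hx, hx1⟩)
    have m2 := hFM (q', ⟨x', hx', hx'1⟩)
    have k1 := hrF (q, ⟨x, hx, hx1⟩)
    have k2 := hrF (q', ⟨x', hx', hx'1⟩)
    dsimp only at e1 e2 m1 m2 k1 k2
    rw [e1, e2] at hab'
    set r := rF (q, ⟨x, hx, hx1⟩)
    set r' := rF (q', ⟨x', hx', hx'1⟩)
    set g := q.out with hg
    set g' := q'.out with hg'
    have n1 : g * x * g⁻¹ ≠ 1 := fun e => hx1 (conj_eq_one_iff.mp e)
    have n2 : g' * x' * g'⁻¹ ≠ 1 := fun e => hx'1 (conj_eq_one_iff.mp e)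
    obtain ⟨p1, s1⟩ := h₀ (g * x * g⁻¹) ⟨g, by
      rw [show g⁻¹ * (g * x * g⁻¹) * g = x by group]; exact hx, n1⟩
    obtain ⟨p2, s2⟩ := h₀ (g' * x' * g'⁻¹) ⟨g', by
      rw [show g'⁻¹ * (g' * x' * g'⁻¹) * g' = x' by group]; exact hx', n2⟩
    have hxx := support_cosets_disjoint hG (isCoatom_map_conj hM _) (isCoatom_map_conj hM _)
      p1 n1 p2 n2 s1 s2 k1 k2 hab'
    rw [hxx] at hab' m1
    have hrr : r = r' := mul_left_cancel hab'
    rw [hrr, m2] at m1
    have h2 : g⁻¹ * g' ∈ M := mem_of_map_conj_eq hG hM (by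
      rw [← map_conj_map_conj, m1, map_conj_map_conj, inv_mul_cancel,
        map_conj_eq_self_of_mem (one_mem _)])
    obtain rfl : q = q' := by
      rw [← QuotientGroup.out_eq' q, ← QuotientGroup.out_eq' q']
      exact QuotientGroup.eq.mpr h2
    obtain rfl : x = x' := mul_left_cancel (mul_right_cancel hxx)
    rfl
  have hsurj : Function.Surjective fun qx => (⟨F qx, hFT qx⟩ : T) := by
    rintro ⟨t, a, ⟨ha, ha1⟩, r, hra, y, rfl⟩
    have ha1' : a ≠ 1 := ha1
    set x' := y * a * y⁻¹ with hx'def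
    have hx'1 : x' ≠ 1 := fun e => ha1' (conj_eq_one_iff.mp e)
    have hR := (isSupport_supportR hG hM ha ha1').map hG y
    have hx'σ := mem_sigmaCore_conj hG hM ha y
    obtain ⟨h1, h2⟩ := h₀ x' ⟨y, by
      rw [hx'def, show y⁻¹ * (y * a * y⁻¹) * y = a by group]; exact ha, hx'1⟩
    have h3 : IsSupport (M.map (MulAut.conj y).toMonoidHom) x' (R₀ x') := by
      have e : M.map (MulAut.conj y).toMonoidHom = (M.map (MulAut.conj (g₀ x')).toMonoidHom).map
          (MulAut.conj (y * (g₀ x')⁻¹)).toMonoidHom := by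
        rw [map_conj_map_conj, inv_mul_cancel_right]
      rw [e]
      exact h2.congr_conj hG (isCoatom_map_conj hM _) h1 hx'1 (by rw [← e]; exact sigmaCore_le _ hx'σ)
    have hR₀ := IsSupport.unique hG (isCoatom_map_conj hM y) hx'σ hx'1 h3 hR
    set r' := y * r * y⁻¹ with hr'def
    have hr'R : r' ∈ R₀ x' := hR₀ ▸ mem_map_of_mem _ hra
    set g := r' * g₀ x' with hgdef
    set q : G ⧸ M := QuotientGroup.mk g with hq
    have hqg : q.out⁻¹ * g ∈ M := QuotientGroup.eq.mp (QuotientGroup.out_eq' q)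
    have hMq : M.map (MulAut.conj q.out).toMonoidHom = M.map (MulAut.conj g).toMonoidHom := by
      have h4 := congrArg (fun X : Subgroup G => X.map (MulAut.conj q.out).toMonoidHom)
        (map_conj_eq_self_of_mem (Subgroup.le_normalizer hqg))
      simp only [map_conj_map_conj, mul_inv_cancel_left] at h4
      exact h4.symm
    have hxH : x' ∈ sigmaCore (M.map (MulAut.conj g).toMonoidHom) := by
      rw [hgdef, ← map_conj_map_conj]
      refine mem_sigmaCore_of_mem_conj hG (isCoatom_map_conj hM _) h1 (mem_map_conj_iff.mpr ?_)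
      have hrC : r' * x' = x' * r' :=
        mem_centralizer_singleton_iff.mp (h2.le_centralizer hr'R)
      rw [mul_assoc, ← hrC, inv_mul_cancel_left]
      exact sigmaCore_le _ h1
    rw [← hMq] at hxH
    have hx0 : q.out⁻¹ * x' * q.out ∈ sigmaCore M := by
      rwa [sigmaCore_map_conj hG hM, mem_map_conj_iff] at hxH
    have hx01 : q.out⁻¹ * x' * q.out ≠ 1 := fun e => hx'1 (by
      calc x' = q.out * (q.out⁻¹ * x' * q.out) * q.out⁻¹ := by group
        _ = 1 := by rw [e]; group)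
    refine ⟨(q, ⟨_, hx0, hx01⟩), Subtype.ext ?_⟩
    have e1 := hFeq (q, ⟨_, hx0, hx01⟩)
    have m1 := hFM (q, ⟨_, hx0, hx01⟩)
    have k1 := hrF (q, ⟨_, hx0, hx01⟩)
    dsimp only at e1 m1 k1 ⊢
    rw [show q.out * (q.out⁻¹ * x' * q.out) * q.out⁻¹ = x' by group] at e1 m1 k1
    obtain ⟨r₁, -, hu⟩ := hr x' q.out hxH hx'1
    have e2 := hu _ ⟨k1, m1⟩
    have e3 := hu r' ⟨hr'R, by rw [map_conj_map_conj, hMq]⟩
    rw [e1, e2, ← e3, hx'def, hr'def]
    group
  rw [← Nat.card_coe_set_eq, ← Nat.card_congr (Equiv.ofBijective _ ⟨hinj, hsurj⟩), Nat.card_prod,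
    ← Subgroup.index, Nat.mul_comm]
  congr 1
  rw [hSdef, show Nat.card {x : G // x ∈ (sigmaCore M : Set G) \ {1}} =
    ((sigmaCore M : Set G) \ {1}).ncard from rfl,
    Set.ncard_diff_singleton_of_mem (one_mem _)]
  rfl

end Cfsg.Agent.OddLocal
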