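import Cfsg.Agent.OddLocal.ZGroupFixed
import Cfsg.Agent.OddLocal.NilpotentPrimeAction
import Cfsg.Agent.Core.Fitting
import Cfsg.Agent.Core.KegelWielandt

/-!
# Prime action with fixed-point-free action on the Fitting subgroup

In a solvable group of odd order `[K, R] ≤ F(K)` if `R` has prime action on `K` and no fixed points
on `F(K)`.
-/

set_option autoImplicit false
set_option maxHeartbeats 400000

open Subgroup Cfsg
open scoped commutatorElement

namespace Cfsg.Agent.OddLocal.PrimeActionFitting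

universe u

variable {Γ : Type u} [Group Γ] [Finite Γ]

/-- An element without fixed points on the elementary abelian `V` acts trivially on the image of
`P` in `Aut V`. -/
theorem commutator_le_centralizer_elementary {p q s : ℕ} [hp : Fact p.Prime] [hq : Fact q.Prime]
    (hs : s.Prime) (hq2 : q ≠ 2) (hs2 : s ≠ 2) (hqp : q ≠ p) (hsp : s ≠ p) (hsq : s ≠ q) {c : Γ}
    (hc : c ^ s = 1) {V P : Subgroup Γ} (hV : IsElementaryAbelian p V)
    (hcV : c ∈ normalizer (V : Set Γ)) (hP : IsPGroup q P) (hcP : c ∈ normalizer (P : Set Γ))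
    (hPV : P ≤ normalizer (V : Set Γ)) (hfix : V ⊓ centralizer {c} = ⊥) :
    ⁅P, zpowers c⁆ ≤ centralizer (V : Set Γ) := by
  set N := normalizer (V : Set Γ) ⊓ normalizer ((P ⊓ centralizer (V : Set Γ) : Subgroup Γ) : Set Γ)
    with hN
  set C := P ⊓ centralizer (V : Set Γ) with hC
  have hVN : V ≤ N := by
    refine le_inf le_normalizer (le_trans ?_ (centralizer_le_normalizer _))
    rw [le_centralizer_iff]
    exact inf_le_right
  have hPN : P ≤ N :=
    le_inf hPV (Coprime.le_normalizer_inf le_normalizer (Coprime.le_normalizer_centralizer hPV))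
  have hcN : zpowers c ≤ N := le_inf (zpowers_le.mpr hcV)
    (Coprime.le_normalizer_inf (zpowers_le.mpr hcP)
      (Coprime.le_normalizer_centralizer (zpowers_le.mpr hcV)))
  have hCN : C ≤ N := inf_le_left.trans hPN
  have : (C.subgroupOf N).Normal := (normal_subgroupOf_iff_le_normalizer hCN).mpr inf_le_right
  set f := QuotientGroup.mk' (C.subgroupOf N) with hf
  have hker : f.ker = C.subgroupOf N := QuotientGroup.ker_mk' _
  set cN : N := ⟨c, hcN (mem_zpowers c)⟩
  obtain ⟨a, ha⟩ := (Coprime.ea_isPGroup hV).exists_card_eq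
  obtain ⟨b, hb⟩ := hP.exists_card_eq
  have hVC : ∀ x : N, (x : Γ) ∈ V → f x = 1 → x = 1 := by
    intro x hx h
    rw [← MonoidHom.mem_ker, hker] at h
    have h1 : (x : Γ) ∈ V ⊓ P := ⟨hx, (mem_subgroupOf.mp h).1⟩
    rw [inf_eq_bot_of_coprime (by
      rw [ha, hb]; exact ((Nat.coprime_primes hp.out hq.out).mpr (Ne.symm hqp)).pow a b),
      mem_bot] at h1
    exact Subtype.ext h1
  have hab := hV.1
  have hVbar : IsElementaryAbelian p ((V.subgroupOf N).map f) := by
    refine ⟨⟨⟨?_⟩⟩, ?_⟩
    · rintro ⟨_, x, hx, rfl⟩ ⟨_, y, hy, rfl⟩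
      refine Subtype.ext ?_
      show f x * f y = f y * f x
      rw [← map_mul, ← map_mul]
      exact congrArg f (Subtype.ext (setLike_mul_comm (show (x : Γ) ∈ V from hx) hy))
    · rintro _ ⟨x, hx, rfl⟩
      rw [← map_pow, show x ^ p = 1 from Subtype.ext (by simpa using hV.2 _ hx), map_one]
  have hnormV : ∀ g : N, f g ∈ normalizer (((V.subgroupOf N).map f : Subgroup _) : Set _) := by
    intro g
    refine le_normalizer_map f (mem_map_of_mem f ?_)
    rw [mem_normalizer_iff]
    intro x
    exact mem_normalizer_iff.mp g.2.1 (x : Γ)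
  have key := ZFix.commute_of_fpf (p := p) (q := q) hs hq2 hs2 hqp hsp hsq (c := f cN)
    (V := (V.subgroupOf N).map f)
    (by rw [← map_pow, show cN ^ s = 1 from Subtype.ext (by simpa [cN] using hc), map_one])
    hVbar (hnormV cN)
    (by
      rw [eq_bot_iff]
      rintro _ ⟨⟨x, hx, rfl⟩, hxc⟩
      have h := mem_centralizer_singleton_iff.mp hxc
      rw [← map_mul, ← map_mul] at h
      have h1 : x⁻¹ * cN * x * cN⁻¹ = 1 := by
        refine hVC _ ?_ (by
          have h' : f x * f cN = f cN * f x := by rw [← map_mul, ← map_mul]; exact h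
          simp only [map_mul, map_inv]
          rw [mul_assoc (f x)⁻¹, ← h']
          group)
        show (x : Γ)⁻¹ * c * x * c⁻¹ ∈ V
        rw [mul_assoc, mul_assoc, ← mul_assoc c]
        exact V.mul_mem (V.inv_mem hx) ((mem_normalizer_iff.mp hcV (x : Γ)).mp hx)
      have h2 : Commute c (x : Γ) := by
        have := congrArg Subtype.val h1
        simp only [coe_mul, InvMemClass.coe_inv, OneMemClass.coe_one, cN] at this
        rw [mul_inv_eq_one, mul_assoc, inv_mul_eq_iff_eq_mul] at this
        exact this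
      rw [mem_bot, show x = 1 from Subtype.ext (FixedPointFree.eq_one_of_fixed hfix hx h2), map_one])
    ((P.subgroupOf N).map f) (hP.comap_subtype.map f)
    (le_normalizer_map f (mem_map_of_mem f (by
      rw [mem_normalizer_iff]
      intro x
      exact mem_normalizer_iff.mp hcP (x : Γ))))
    (by rintro _ ⟨x, -, rfl⟩; exact hnormV x)
    (by
      rw [eq_bot_iff]
      rintro _ ⟨⟨x, hx, rfl⟩, hxV⟩
      rw [mem_bot, ← MonoidHom.mem_ker, hker, mem_subgroupOf]
      refine ⟨hx, mem_centralizer_iff.mpr fun v hv => ?_⟩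
      have h := mem_centralizer_iff.mp hxV (f ⟨v, hVN hv⟩) (mem_map_of_mem f hv)
      have h1 : x⁻¹ * ⟨v, hVN hv⟩ * x * (⟨v, hVN hv⟩ : N)⁻¹ = 1 := by
        refine hVC _ ?_ (by
          simp only [map_mul, map_inv]
          rw [mul_assoc (f x)⁻¹, h]
          group)
        show (x : Γ)⁻¹ * v * x * v⁻¹ ∈ V
        exact V.mul_mem ((mem_normalizer_iff''.mp x.2.1 v).mp hv) (V.inv_mem hv)
      have := congrArg Subtype.val h1
      simp only [coe_mul, InvMemClass.coe_inv, OneMemClass.coe_one] at this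
      rw [mul_inv_eq_one, mul_assoc, inv_mul_eq_iff_eq_mul] at this
      exact this)
  rw [commutator_le]
  intro x hx y hy
  have h1 : f ⁅(⟨x, hPN hx⟩ : N), (⟨y, hcN hy⟩ : N)⁆ = 1 := by
    rw [map_commutatorElement, commutatorElement_eq_one_iff_mul_comm]
    obtain ⟨k, hk⟩ := mem_zpowers_iff.mp hy
    have e : (⟨y, hcN hy⟩ : N) = cN ^ k := Subtype.ext (by simpa [cN] using hk.symm)
    rw [e, map_zpow]
    exact ((show Commute (f ⟨x, hPN hx⟩) (f cN) from mem_centralizer_singleton_iff.mp
      (key (mem_map_of_mem f hx))).zpow_right k).eq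
  rw [← MonoidHom.mem_ker, hker, mem_subgroupOf] at h1
  exact h1.2

/-- The case of an arbitrary `p`-group. -/
theorem commutator_le_centralizer_pgroup {p q s : ℕ} [hp : Fact p.Prime] [hq : Fact q.Prime]
    (hs : s.Prime) (hq2 : q ≠ 2) (hs2 : s ≠ 2) (hqp : q ≠ p) (hsp : s ≠ p) (hsq : s ≠ q) {c : Γ}
    (hc : c ^ s = 1) {V P : Subgroup Γ} (hV : IsPGroup p V)
    (hcV : c ∈ normalizer (V : Set Γ)) (hP : IsPGroup q P) (hcP : c ∈ normalizer (P : Set Γ))
    (hPV : P ≤ normalizer (V : Set Γ)) (hfix : V ⊓ centralizer {c} = ⊥) :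
    ⁅P, zpowers c⁆ ≤ centralizer (V : Set Γ) := by
  have := hV.isNilpotent
  set N := normalizer (V : Set Γ) with hN
  set F : Subgroup Γ := (frattini V).map V.subtype with hF
  have hFV : F ≤ V := map_subtype_le _
  have hNF : N ≤ normalizer (F : Set Γ) :=
    Coprime.le_normalizer_map_of_characteristic le_rfl _ inferInstance
  have : (F.subgroupOf N).Normal := (normal_subgroupOf_iff_le_normalizer (hFV.trans le_normalizer)).mpr hNF
  set f := QuotientGroup.mk' (F.subgroupOf N) with hf
  have hker : f.ker = F.subgroupOf N := QuotientGroup.ker_mk' _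
  set cN : N := ⟨c, hcV⟩
  have hcz : zpowers cN = (zpowers c).subgroupOf N := by
    apply map_injective N.subtype_injective
    rw [MonoidHom.map_zpowers, map_subgroupOf_eq_of_le (zpowers_le.mpr hcV)]
    rfl
  have hVn : (V.subgroupOf N).Normal := normal_in_normalizer
  have hVbar : IsElementaryAbelian p ((V.subgroupOf N).map f) := by
    refine ⟨⟨⟨?_⟩⟩, ?_⟩
    · rintro ⟨_, x, hx, rfl⟩ ⟨_, y, hy, rfl⟩
      refine Subtype.ext ?_
      show f x * f y = f y * f x
      rw [← commutatorElement_eq_one_iff_mul_comm, ← map_commutatorElement, ← MonoidHom.mem_ker,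
        hker, mem_subgroupOf]
      exact ⟨⁅(⟨x, hx⟩ : V), (⟨y, hy⟩ : V)⁆, Core.commutator_le_frattini
        (commutator_mem_commutator (mem_top _) (mem_top _)), rfl⟩
    · rintro _ ⟨x, hx, rfl⟩
      rw [← map_pow, ← MonoidHom.mem_ker, hker, mem_subgroupOf, SubmonoidClass.coe_pow]
      exact ⟨⟨x, hx⟩ ^ p, Core.pow_mem_frattini hV _, rfl⟩
  have hcopV : (Nat.card (zpowers c)).Coprime (Nat.card V) := by
    obtain ⟨a, ha⟩ := hV.exists_card_eq
    rw [ha, Nat.card_zpowers]
    exact (((Nat.coprime_primes hs hp.out).mpr hsp).coprime_dvd_left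
      (orderOf_dvd_of_pow_eq_one hc)).pow_right a
  have hnorm : ((V.subgroupOf N).map f).Normal := hVn.map f (QuotientGroup.mk'_surjective _)
  have key := commutator_le_centralizer_elementary (p := p) (q := q) hs hq2 hs2 hqp hsp hsq
    (c := f cN) (V := (V.subgroupOf N).map f) (P := (P.subgroupOf N).map f)
    (by rw [← map_pow, show cN ^ s = 1 from Subtype.ext (by simpa [cN] using hc), map_one])
    hVbar (by rw [normalizer_eq_top]; exact mem_top _) (hP.comap_subtype.map f)
    (le_normalizer_map f (mem_map_of_mem f (by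
      rw [mem_normalizer_iff]
      intro x
      exact mem_normalizer_iff.mp hcP (x : Γ))))
    (by rw [normalizer_eq_top]; exact le_top)
    (by
      have hfix' : V.subgroupOf N ⊓ centralizer ((zpowers cN : Subgroup N) : Set N) = ⊥ := by
        rw [FixedPointFree.centralizer_zpowers, eq_bot_iff]
        rintro x ⟨hx, hxc⟩
        exact mem_bot.mpr (Subtype.ext (FixedPointFree.eq_one_of_fixed hfix hx
          (show Commute (x : Γ) c from congrArg Subtype.val (mem_centralizer_singleton_iff.mp hxc)).symm))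
      have h := FixedPointFree.fixed_map_eq_bot f hs
        (FixedPointFree.isPGroup_zpowers (c := cN) (Subtype.ext (by simpa [cN] using hc)))
        le_normalizer_of_normal (by rw [hker]; exact fun x hx => hFV hx) hfix'
      rwa [MonoidHom.map_zpowers, FixedPointFree.centralizer_zpowers] at h)
  have hA : ⁅P, zpowers c⁆ ≤ N := by
    rw [commutator_le]
    exact fun x hx y hy => N.mul_mem (N.mul_mem (N.mul_mem (hPV hx) (zpowers_le.mpr hcV hy))
      (N.inv_mem (hPV hx))) (N.inv_mem (zpowers_le.mpr hcV hy))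
  refine Coprime.le_centralizer_of_trivial_mod_frattini hA ?_ ?_
  · obtain ⟨b, hb⟩ := hP.exists_card_eq
    obtain ⟨a, ha⟩ := hV.exists_card_eq
    have h1 : ⁅P, zpowers c⁆ ≤ P := by
      rw [commutator_le]
      intro x hx y hy
      rw [commutatorElement_def, mul_assoc, mul_assoc, ← mul_assoc y]
      exact P.mul_mem hx ((mem_normalizer_iff.mp (zpowers_le.mpr hcP hy) _).mp (P.inv_mem hx))
    refine Nat.Coprime.coprime_dvd_left (card_dvd_of_le h1)
      (Nat.Coprime.coprime_dvd_right (card_subgroup_dvd_card (frattini V)) ?_)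
    rw [hb, ha]
    exact ((Nat.coprime_primes hq.out hp.out).mpr hqp).pow b a
  · intro x hx v hv
    rw [← hF]
    have hxm : (⟨x, hA hx⟩ : N) ∈ ⁅P.subgroupOf N, zpowers cN⁆ := by
      rw [hcz]
      have h1 := hx
      rw [← map_subgroupOf_eq_of_le (H := P) hPV, ← map_subgroupOf_eq_of_le (H := zpowers c)
        (zpowers_le.mpr hcV), ← map_commutator] at h1
      obtain ⟨y, hy, hy'⟩ := h1
      rwa [← Subtype.ext (a1 := y) (a2 := (⟨x, hA hx⟩ : N)) hy']
    have h := mem_centralizer_iff.mp (key (by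
      rw [← MonoidHom.map_zpowers, ← map_commutator]; exact mem_map_of_mem f hxm))
      (f ⟨v, le_normalizer hv⟩) (mem_map_of_mem f hv)
    have h2 : f (⟨x, hA hx⟩ * ⟨v, le_normalizer hv⟩ * (⟨x, hA hx⟩ : N)⁻¹ *
        (⟨v, le_normalizer hv⟩ : N)⁻¹) = 1 := by
      simp only [map_mul, map_inv]
      rw [← h]
      group
    rw [← MonoidHom.mem_ker, hker, mem_subgroupOf] at h2
    exact h2

omit [Finite Γ] in
/-- A subgroup containing a Sylow subgroup for every prime is the whole group. -/
theorem eq_top_of_sylow_le {K : Type u} [Group K] [Finite K] {A : Subgroup K}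
    (h : ∀ q : ℕ, q.Prime → ∃ S : Sylow q K, (S : Subgroup K) ≤ A) : A = ⊤ := by
  apply eq_top_of_card_eq
  refine Nat.dvd_antisymm (card_subgroup_dvd_card _) ((Nat.factorization_le_iff_dvd
    Nat.card_pos.ne' Nat.card_pos.ne').mp fun q => ?_)
  by_cases hq : q.Prime
  · obtain ⟨S, hS⟩ := h q hq
    have := Fact.mk hq
    have h1 := card_dvd_of_le hS
    rw [S.card_eq_multiplicity] at h1
    exact (hq.pow_dvd_iff_le_factorization Nat.card_pos.ne').mp h1
  · simp [Nat.factorization_eq_zero_of_not_prime _ hq]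

/-- **Main theorem.** -/
theorem commutator_le_fitting [Group.IsSolvable Γ] (hodd : Odd (Nat.card Γ)) (K R : Subgroup Γ)
    [K.Normal] (hcop : (Nat.card K).Coprime (Nat.card R))
    (hprime : ∀ x ∈ R, x ≠ 1 →
      K ⊓ centralizer ({x} : Set Γ) = K ⊓ centralizer (R : Set Γ))
    (hF : fittingOf K ⊓ centralizer (R : Set Γ) = ⊥) :
    ⁅K, R⁆ ≤ fittingOf K := by
  by_cases hR1 : R = ⊥
  · simp [hR1]
  obtain ⟨s, hs, hsR⟩ := Nat.exists_prime_and_dvd (n := Nat.card R)
    (fun h => hR1 (card_eq_one.mp h))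
  have := Fact.mk hs
  obtain ⟨⟨c, hcR⟩, hc⟩ := exists_prime_orderOf_dvd_card' s hsR
  rw [orderOf_mk] at hc
  have hc1 : c ≠ 1 := fun h => hs.ne_one (by rw [← hc, h, orderOf_one])
  have hcs : c ^ s = 1 := hc ▸ pow_orderOf_eq_one c
  have hne2 : ∀ {r : ℕ}, r ∣ Nat.card Γ → r ≠ 2 := fun {r} hr h => hodd.not_two_dvd_nat (h ▸ hr)
  have hFdef : fittingOf K = fittingSubgroup Γ ⊓ K := Core.map_fittingSubgroup_normal K
  set F := fittingOf K with hFeq
  have hFK : F ≤ K := map_subtype_le _
  have : F.Normal := by rw [hFdef]; infer_instance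
  have hRK : R ≤ normalizer (K : Set Γ) := by rw [normalizer_eq_top]; exact le_top
  have hfixc : F ⊓ centralizer ({c} : Set Γ) = ⊥ := by
    rw [← inf_eq_left.mpr hFK, inf_assoc, hprime c hcR hc1, ← inf_assoc, inf_eq_left.mpr hFK, hF]
  -- `[P, R]` centralises `O_q(F)` for each invariant `r`-subgroup `P` of `K`
  have hstep : ∀ (r : ℕ) [Fact r.Prime] (P : Subgroup Γ), IsPGroup r P → P ≤ K →
      R ≤ normalizer (P : Set Γ) → ∀ (q : ℕ) [Fact q.Prime], q ≠ r →
      ⁅P, R⁆ ≤ centralizer ((pCore q Γ ⊓ K : Subgroup Γ) : Set Γ) := by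
    intro r hr P hP hPK hRP q hq hqr
    by_cases hP1 : P = ⊥
    · simp [hP1]
    set V := pCore q Γ ⊓ K with hVdef
    have hVn : V.Normal := inferInstance
    by_cases hV1 : V = ⊥
    · rw [hV1]
      intro x _
      rw [mem_centralizer_iff]
      intro h hh
      rw [SetLike.mem_coe, mem_bot] at hh
      rw [hh, one_mul, mul_one]
    have hdvd : ∀ {n : ℕ} [Fact n.Prime] {H : Subgroup Γ}, IsPGroup n H → H ≠ ⊥ →
        n ∣ Nat.card H := by
      intro n _ H hH hne
      obtain ⟨k, hk⟩ := hH.exists_card_eq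
      rw [hk]
      exact dvd_pow_self n (fun h => hne (card_eq_one.mp (by rw [hk, h, pow_zero])))
    have hVq : IsPGroup q V := Core.pCore_isPGroup.to_le inf_le_left
    have hrK : r ∣ Nat.card K := (hdvd hP hP1).trans (card_dvd_of_le hPK)
    have hqK : q ∣ Nat.card K := (hdvd hVq hV1).trans (card_dvd_of_le inf_le_right)
    have hsr : s ≠ r := fun h =>
      hs.not_dvd_one (hcop.gcd_eq_one ▸ Nat.dvd_gcd (h ▸ hrK) hsR)
    have hsq : s ≠ q := fun h =>
      hs.not_dvd_one (hcop.gcd_eq_one ▸ Nat.dvd_gcd (h ▸ hqK) hsR)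
    have hVF : V ≤ F := by
      rw [hFdef]; exact inf_le_inf_right _ (Core.pCore_le_fittingSubgroup q)
    have hc' := commutator_le_centralizer_pgroup (p := q) (q := r) hs
      (hne2 (hrK.trans (card_subgroup_dvd_card K))) (hne2 (hsR.trans (card_subgroup_dvd_card R)))
      (Ne.symm hqr) hsq hsr hcs hVq (by rw [normalizer_eq_top]; exact mem_top c) hP (hRP hcR)
      (by rw [normalizer_eq_top]; exact le_top) (FixedPointFree.fixed_mono hfixc hVF)
    set C := centralizer (V : Set Γ) with hCdef
    have hCn : C.Normal := inferInstance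
    have hcz : zpowers c ≤ normalizer (P : Set Γ) := zpowers_le.mpr (hRP hcR)
    have hsup := Coprime.commutator_sup_centralizer (A := zpowers c) hcz
      (Nat.Coprime.coprime_dvd_left (card_dvd_of_le (zpowers_le.mpr hcR))
        (hcop.symm.coprime_dvd_right (card_dvd_of_le hPK)))
      (Or.inl (ZFix.isSolvable_zpowers c))
    rw [FixedPointFree.centralizer_zpowers] at hsup
    have hle : P ≤ C ⊔ (K ⊓ centralizer (R : Set Γ)) := by
      rw [← hsup]
      exact sup_le_sup hc' ((inf_le_inf_right _ hPK).trans (hprime c hcR hc1).le)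
    rw [commutator_le]
    intro x hx y hy
    obtain ⟨u, hu, d, hd, rfl⟩ := mem_sup_of_normal_left.mp (hle hx)
    have e : ⁅u * d, y⁆ = ⁅u, y⁆ := by
      have : y * d = d * y := mem_centralizer_iff.mp hd.2 y hy
      have h2 : d * y * d⁻¹ = y := by rw [← this, mul_inv_cancel_right]
      calc ⁅u * d, y⁆ = u * (d * y * d⁻¹) * u⁻¹ * y⁻¹ := by simp only [commutatorElement_def]; group
        _ = ⁅u, y⁆ := by rw [h2, commutatorElement_def]
    rw [e, commutatorElement_def, mul_assoc, mul_assoc, ← mul_assoc y]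
    exact C.mul_mem hu (hCn.conj_mem _ (C.inv_mem hu) y)
  -- `R` centralises every `O_r(K/F)`
  set f := QuotientGroup.mk' F with hf
  have hker : f.ker = F := QuotientGroup.ker_mk' F
  have hKbar : (K.map f).Normal := Normal.map inferInstance f (QuotientGroup.mk'_surjective F)
  have hcore : ∀ (r : ℕ) [Fact r.Prime],
      R.map f ≤ centralizer ((pCore r (Γ ⧸ F) ⊓ K.map f : Subgroup (Γ ⧸ F)) : Set (Γ ⧸ F)) := by
    intro r hr
    set A := pCore r (Γ ⧸ F) ⊓ K.map f with hA
    have hAn : A.Normal := inferInstance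
    set L := A.comap f with hL
    have hLn : L.Normal := inferInstance
    have hLK : L ≤ K := by
      calc L ≤ (K.map f).comap f := comap_mono inf_le_right
        _ = K := by rw [comap_map_eq, hker, sup_eq_left.mpr hFK]
    obtain ⟨S, hS⟩ := Coprime.exists_invariant_sylow (A := R) (K := L)
      (by rw [normalizer_eq_top]; exact le_top)
      (hcop.symm.coprime_dvd_right (card_dvd_of_le hLK))
      (Or.inr (Group.isSolvable_of_isSolvable_injective (f := L.subtype) L.subtype_injective)) r
    set P := (S : Subgroup L).map L.subtype with hP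
    have hPL : P ≤ L := map_subtype_le _
    have hPr : IsPGroup r P := S.2.map _
    -- the nilpotent normal subgroup
    set D := L ⊓ ⨅ (q : ℕ) (_ : q.Prime) (_ : q ≠ r),
      centralizer ((pCore q Γ ⊓ K : Subgroup Γ) : Set Γ) with hD
    have hDn : D.Normal := by
      haveI : (⨅ (q : ℕ) (_ : q.Prime) (_ : q ≠ r),
          centralizer ((pCore q Γ ⊓ K : Subgroup Γ) : Set Γ)).Normal :=
        normal_iInf_normal fun q => normal_iInf_normal fun _ => normal_iInf_normal fun _ =>
          inferInstance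
      infer_instance
    have hDcent : ∀ q : ℕ, q.Prime → q ≠ r →
        D ≤ centralizer ((pCore q Γ ⊓ K : Subgroup Γ) : Set Γ) := fun q hq hqr =>
      inf_le_right.trans ((iInf_le _ q).trans ((iInf_le _ hq).trans (iInf_le _ hqr)))
    have hqel : ∀ q : ℕ, q.Prime → q ≠ r → ∀ x ∈ L, (∃ k, orderOf x = q ^ k) →
        x ∈ pCore q Γ ⊓ K := by
      intro q hq hqr x hx ⟨k, hk⟩
      have := Fact.mk hq
      have hxF : x ∈ F := by
        rw [← hker, MonoidHom.mem_ker]
        obtain ⟨j, hj⟩ := (IsPGroup.iff_orderOf.mp (Core.pCore_isPGroup (p := r) (G := Γ ⧸ F)))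
          ⟨f x, (show f x ∈ A from hx).1⟩
        rw [orderOf_mk] at hj
        have h1 := orderOf_map_dvd f x
        rw [hj, hk] at h1
        have h2 : orderOf (f x) = 1 := by
          rw [hj]
          refine Nat.eq_one_of_dvd_coprimes ?_ h1 (dvd_refl _)
          exact ((Nat.coprime_primes hq hr.out).mpr hqr).pow k j
        exact orderOf_eq_one_iff.mp h2
      rw [hFdef] at hxF
      exact ⟨Core.mem_pCore_of_mem_fitting hxF.1 ⟨k, hk⟩, hxF.2⟩
    have hsylow : ∀ q : ℕ, q.Prime → q ≠ r → ∀ S : Sylow q D, (S : Subgroup D) ≤ center D := by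
      intro q hq hqr S x hx
      have := Fact.mk hq
      rw [mem_center_iff]
      intro y
      obtain ⟨k, hk⟩ := IsPGroup.iff_orderOf.mp S.2 ⟨x, hx⟩
      rw [orderOf_mk, ← orderOf_coe] at hk
      exact Subtype.ext (mem_centralizer_iff.mp (hDcent q hq hqr y.2) (x : Γ)
        (hqel q hq hqr _ x.2.1 ⟨k, hk⟩)).symm
    have hDnil : Group.IsNilpotent D := by
      refine (Group.isNilpotent_of_finite_tfae.out 0 3 rfl rfl).mpr fun q hq T => ?_
      by_cases hqr : q = r
      · rw [← normalizer_eq_top_iff]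
        refine eq_top_of_sylow_le fun q' hq' => ?_
        have := Fact.mk hq'
        by_cases h : q' = q
        · subst h
          exact ⟨T, le_normalizer⟩
        · obtain ⟨U⟩ := (inferInstance : Nonempty (Sylow q' D))
          exact ⟨U, (hsylow q' hq' (hqr ▸ h) U).trans
            ((center_le_centralizer _).trans (centralizer_le_normalizer _))⟩
      · exact ⟨fun x hx g => by
          rw [mem_center_iff.mp (hsylow q hq.out hqr T hx) g, mul_inv_cancel_right]
          exact hx⟩
    have hDF : D ≤ F := by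
      rw [hFdef]
      exact le_inf (Core.le_fittingSubgroup hDnil) (inf_le_left.trans hLK)
    have hPR : ⁅P, R⁆ ≤ F := by
      refine le_trans (le_inf ?_ (le_iInf fun q => le_iInf fun hq => le_iInf fun hqr => ?_)) hDF
      · exact (Coprime.commutator_le_of_le_normalizer hS).trans hPL
      · exact @hstep r hr P hPr (hPL.trans hLK) hS q (Fact.mk hq) hqr
    -- the image of `P` is everything
    have hsurj := MonoidHom.subgroupMap_surjective f L
    have hmapL : L.map f = A := map_comap_eq_self_of_surjective (QuotientGroup.mk'_surjective F) A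
    have hAr : IsPGroup r ↥(L.map f) := by
      rw [hmapL]; exact Core.pCore_isPGroup.to_le inf_le_left
    have htop : (S.mapSurjective hsurj : Subgroup (L.map f)) = ⊤ := by
      exact eq_top_iff.mpr ((hAr.to_subgroup ⊤).le_sylow_of_normal (S.mapSurjective hsurj))
    intro y hy
    obtain ⟨z, hz, rfl⟩ := hy
    rw [mem_centralizer_iff]
    intro a ha
    have hmem : (⟨a, hmapL.symm ▸ ha⟩ : L.map f) ∈ (S.mapSurjective hsurj : Subgroup (L.map f)) :=
      htop ▸ mem_top _
    rw [Sylow.coe_mapSurjective] at hmem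
    obtain ⟨w, hw, hwe⟩ := hmem
    have hwe' : f (w : Γ) = a := congrArg Subtype.val hwe
    rw [← hwe']
    have h1 : f ⁅(w : Γ), z⁆ = 1 := by
      rw [← MonoidHom.mem_ker, hker]
      exact hPR (commutator_mem_commutator (mem_map_of_mem L.subtype hw) hz)
    rwa [map_commutatorElement, commutatorElement_eq_one_iff_mul_comm] at h1
  -- hence its Fitting subgroup
  set Kb := K.map f
  set Rb := R.map f
  set Fb := fittingSubgroup (Γ ⧸ F) ⊓ Kb with hFb
  have hRFb : Rb ≤ centralizer (Fb : Set (Γ ⧸ F)) := by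
    rw [le_centralizer_iff]
    intro x hx
    have h1 : (⊤ : Subgroup Fb) ≤ (centralizer (Rb : Set (Γ ⧸ F))).comap Fb.subtype := by
      rw [← NilpotentPrimeAction.closure_sylow_eq_top Fb, closure_le]
      rintro y ⟨r, hr, T, hy⟩
      obtain ⟨k, hk⟩ := IsPGroup.iff_orderOf.mp T.2 ⟨y, hy⟩
      rw [orderOf_mk, ← orderOf_coe] at hk
      exact le_centralizer_iff.mp (@hcore r hr)
        ⟨Core.mem_pCore_of_mem_fitting y.2.1 ⟨k, hk⟩, y.2.2⟩
    exact h1 (mem_top (⟨x, hx⟩ : Fb))
  have hKR : ⁅Kb, Rb⁆ ≤ Kb := by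
    rw [commutator_le]
    intro x hx y _
    rw [commutatorElement_def, mul_assoc, mul_assoc, ← mul_assoc y]
    exact Kb.mul_mem hx (hKbar.conj_mem _ (Kb.inv_mem hx) y)
  have hthree : ⁅⁅Kb, Rb⁆, Fb⁆ = ⊥ := by
    have hRF : ⁅Rb, Fb⁆ = ⊥ := commutator_eq_bot_iff_le_centralizer.mpr hRFb
    refine Subgroup.commutator_commutator_eq_bot_of_rotate ?_ ?_
    · rw [hRF, commutator_bot_left]
    · refine le_bot_iff.mp (le_trans (commutator_mono (?_ : ⁅Fb, Kb⁆ ≤ Fb) le_rfl) ?_)
      · have : Fb.Normal := inferInstance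
        exact commutator_le_left Fb Kb
      · rw [commutator_comm, hRF]
  have hsolvQ : Group.IsSolvable (Γ ⧸ F) :=
    Group.isSolvable_of_surjective (QuotientGroup.mk'_surjective F)
  have hle1 : ⁅Kb, Rb⁆ ≤ Fb := by
    intro x hx
    have hxC : x ∈ centralizer (Fb : Set (Γ ⧸ F)) :=
      commutator_eq_bot_iff_le_centralizer.mp hthree hx
    have hself := Core.centralizer_fittingSubgroup_le (G := Kb)
    have h1 : (⟨x, hKR hx⟩ : Kb) ∈ fittingSubgroup Kb := by
      refine hself (mem_centralizer_iff.mpr fun y hy => Subtype.ext ?_)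
      refine mem_centralizer_iff.mp hxC (y : Γ ⧸ F) ?_
      rw [hFb, ← Core.map_fittingSubgroup_normal Kb]
      exact mem_map_of_mem _ hy
    rw [hFb, ← Core.map_fittingSubgroup_normal Kb]
    exact mem_map_of_mem Kb.subtype h1
  have h2 : ⁅⁅Kb, Rb⁆, Rb⁆ = ⊥ := le_bot_iff.mp ((commutator_mono hle1 le_rfl).trans
    (by rw [commutator_comm, commutator_eq_bot_iff_le_centralizer.mpr hRFb]))
  rw [Coprime.commutator_commutator_eq (A := Rb) (K := Kb)
    (by rw [normalizer_eq_top]; exact le_top)
    ((hcop.symm.coprime_dvd_left (Subgroup.card_map_dvd R f)).coprime_dvd_right (Subgroup.card_map_dvd K f))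
    (Or.inr inferInstance)] at h2
  rw [← hker, ← Subgroup.map_eq_bot_iff, map_commutator]
  exact h2

end Cfsg.Agent.OddLocal.PrimeActionFitting
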