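import Cfsg.Agent.OddLocal.KappaTwo
import Cfsg.Agent.OddLocal.PrimeActionFitting
import Cfsg.Agent.Fusion.FixedPointFree
import Cfsg.Agent.WielandtFixed.Main
import Cfsg.Agent.S1373

/-!
# The structure of a maximal subgroup with non-nilpotent `M_σ` (BG 15.2)

Here `U = 1`, the fixed points `K*` of `K` on `M_σ` have prime order `q`, the Sylow `q`-subgroup
`Q` of `M_σ` is normal, its complements are nilpotent and fixed-point-free under `K`, and Wielandt's
order formula gives the shape of `Q` over the fixed points of a complement.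
-/

namespace Cfsg.Agent.OddLocal

open Subgroup

variable {G : Type*} [Group G] [Finite G] {M K U : Subgroup G}

/-- Standing data of a maximal subgroup with non-nilpotent `M_σ`. -/
structure CoreData (M K : Subgroup G) : Prop where
  minSimple : IsMinSimpleOddOrder G
  coatom : IsCoatom M
  hall : IsPiHallOf (kappa M) K M
  ne_bot : K ≠ ⊥
  sup_eq : sigmaCore M ⊔ K = M
  derived : ⁅M, M⁆ = sigmaCore M
  prime : (Nat.card (kStar M K)).Prime
  not_nilpotent : ¬ Group.IsNilpotent (sigmaCore M)

theorem derived_lt (hG : IsMinSimpleOddOrder G) (hM : IsCoatom M) : ⁅M, M⁆ < M := by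
  haveI := isSolvable_coatom hG hM
  haveI : Nontrivial M := (Subgroup.nontrivial_iff_ne_bot M).2 (coatom_ne_bot hG hM)
  refine lt_of_le_of_ne ?_ fun h => (Group.IsSolvable.commutator_lt_top_of_nontrivial (G := M)).ne ?_
  · rw [commutator_eq_map_subtype]; exact map_subtype_le _
  · apply map_injective M.subtype_injective
    rw [← commutator_eq_map_subtype, h, ← MonoidHom.range_eq_map, range_subtype]

theorem coreData_of_not_nilpotent (hG : IsMinSimpleOddOrder G) (hM : IsCoatom M)
    (h : IsSigmaDecomposition M K U) (hnn : ¬ Group.IsNilpotent (sigmaCore M)) :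
    U = ⊥ ∧ CoreData M K := by
  have hU : U = ⊥ := by_contra fun hU1 => hnn (sigmaCore_nilpotent_of_U hG hM h hU1)
  have hsup : sigmaCore M ⊔ K = M := by
    have := kappa_decomp_sup hG hM h
    rwa [hU, bot_sup_eq] at this
  have hK1 : K ≠ ⊥ := fun hK => by
    refine (derived_lt hG hM).ne (le_antisymm (derived_lt hG hM).le ?_)
    conv_lhs => rw [← hsup, hK, sup_bot_eq]
    exact sigmaCore_le_derived hG hM
  refine ⟨hU, hG, hM, h.hall, hK1, hsup, ?_, Cfsg.Agent.S1373.result hG M hM K U h hK1 hU, hnn⟩
  rw [derived_eq hG hM h hK1, hU, bot_sup_eq]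

/-- The Sylow `q`-subgroup `Q` of `M_σ`, `q = |K*|`. -/
def coreSylow (M K : Subgroup G) : Subgroup G :=
  piCoreOf ({Nat.card (kStar M K)} : Set ℕ) M

theorem coreSylow_isPGroup (h : CoreData M K) :
    IsPGroup (Nat.card (kStar M K)) (coreSylow M K) :=
  have := Fact.mk h.prime
  isPGroup_of_singleton (piNum_piCoreOf _ M)

theorem coreSylow_le (M K : Subgroup G) : coreSylow M K ≤ M := piCoreOf_le _ M

theorem le_normalizer_coreSylow (M K : Subgroup G) : M ≤ normalizer (coreSylow M K : Set G) :=
  le_normalizer_piCoreOf _ M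

namespace CoreData

variable (h : CoreData M K)

include h

theorem le_M : K ≤ M := h.hall.1

theorem le_normalizer_core : K ≤ normalizer (sigmaCore M : Set G) :=
  h.le_M.trans (le_normalizer_sigmaCore M)

theorem fixed {k : G} (hk : k ∈ K) (hk1 : k ≠ 1) :
    sigmaCore M ⊓ centralizer ({k} : Set G) = kStar M K := by
  refine le_antisymm ?_ (le_inf inf_le_left fun x hx => mem_centralizer_singleton_iff.mpr ?_)
  · refine mem_kStar_of_piNum h.minSimple h.coatom h.hall ?_ ((piNum_sigmaCore M).mono inf_le_left)
    rw [← kappa_inf_centralizer h.minSimple h.coatom h.hall h.ne_bot hk hk1]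
    exact inf_le_inf (sigmaCore_le M) le_rfl
  · exact (mem_centralizer_iff.1 (mem_inf.1 hx).2 k hk).symm

theorem exists_prime_elt : ∃ k ∈ K, k ≠ 1 ∧ ∃ r : ℕ, r.Prime ∧ orderOf k = r := by
  obtain ⟨r, hr, hd⟩ := Nat.exists_prime_and_dvd
    (show Nat.card K ≠ 1 from fun h1 => h.ne_bot (card_eq_one.1 h1))
  have := Fact.mk hr
  obtain ⟨x, hx⟩ := exists_prime_orderOf_dvd_card' r hd
  refine ⟨x, x.2, fun e => ?_, r, hr, by rw [orderOf_coe]; exact hx⟩
  rw [OneMemClass.coe_eq_one] at e
  rw [e, orderOf_one] at hx
  exact hr.one_lt.ne hx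

theorem coprime : (Nat.card K).Coprime (Nat.card (sigmaCore M)) :=
  kappa_subgroup_coprime h.minSimple h.coatom h.hall

theorem solvable_core : Group.IsSolvable (sigmaCore M) :=
  Core.isSolvable_mono (isSolvable_coatom h.minSimple h.coatom) (sigmaCore_le M)

theorem mem_sigma : Nat.card (kStar M K) ∈ sigma M :=
  piNum_sigmaCore M _ h.prime (card_dvd_of_le inf_le_left)

theorem isCyclic_kStar : IsCyclic (kStar M K) :=
  have := Fact.mk h.prime
  isCyclic_of_prime_card rfl

theorem hall_cyclic : IsCyclic K :=
  (kappa_pair h.minSimple h.coatom h.hall h.ne_bot).1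

theorem kStar_le_derived' : kStar M K ≤ ⁅sigmaCore M, sigmaCore M⁆ := by
  obtain ⟨k, hk, hk1, -⟩ := h.exists_prime_elt
  intro y hy
  have hyσ : y ∈ sigmaCore M := (mem_inf.1 hy).1
  obtain ⟨g, hg⟩ := (h.hall_cyclic).exists_generator
  have hgen : commutator M ⊔ zpowers (⟨(g : G), h.le_M g.2⟩ : M) = ⊤ := by
    apply map_injective M.subtype_injective
    rw [Subgroup.map_sup, MonoidHom.map_zpowers, ← commutator_eq_map_subtype, h.derived,
      ← MonoidHom.range_eq_map, range_subtype]
    conv_rhs => rw [← h.sup_eq]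
    congr 1
    refine le_antisymm (zpowers_le.2 g.2) fun x hx => ?_
    obtain ⟨n, hn⟩ := hg ⟨x, hx⟩
    exact ⟨n, congrArg Subtype.val hn⟩
  have hyd : (⟨y, sigmaCore_le M hyσ⟩ : M) ∈ commutator M := by
    have : y ∈ (commutator M).map M.subtype := by rw [← commutator_eq_map_subtype, h.derived]; exact hyσ
    obtain ⟨z, hz, hzy⟩ := this
    rwa [show (⟨y, sigmaCore_le M hyσ⟩ : M) = z from Subtype.ext hzy.symm]
  have := mem_derived_of_fixed (⟨(g : G), h.le_M g.2⟩ : M) hgen hyd
    (Subtype.ext (mem_centralizer_iff.1 (mem_inf.1 hy).2 g g.2).symm)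
  have h2 := mem_map_of_mem M.subtype this
  rwa [map_commutator, ← commutator_eq_map_subtype, h.derived] at h2

theorem kStar_le_coreSylow : kStar M K ≤ coreSylow M K := by
  have := Fact.mk h.prime
  set Ms := sigmaCore M with hMs
  -- `K*` meets `F(M_σ)`
  have hF : kStar M K ≤ fittingOf Ms := by
    by_contra hno
    have hbot : fittingOf Ms ⊓ centralizer (K : Set G) = ⊥ := by
      rcases ((fittingOf Ms).subgroupOf (kStar M K)).eq_bot_or_eq_top_of_prime_card with h1 | h1
      · refine (eq_bot_iff_forall _).2 fun x hx => ?_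
        obtain ⟨hx1, hx2⟩ := mem_inf.1 hx
        have hxk : x ∈ kStar M K := mem_inf.2 ⟨fittingOf_le Ms hx1, hx2⟩
        have : (⟨x, hxk⟩ : kStar M K) ∈ (fittingOf Ms).subgroupOf (kStar M K) := hx1
        rw [h1, mem_bot] at this
        exact congrArg Subtype.val this
      · exact absurd (subgroupOf_eq_top.1 h1) hno
    haveI := isSolvable_coatom h.minSimple h.coatom
    set K' := Ms.subgroupOf M with hK'
    haveI : K'.Normal := (normal_subgroupOf_iff_le_normalizer (sigmaCore_le M)).2
      (le_normalizer_sigmaCore M)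
    have hcardK : Nat.card K' = Nat.card Ms :=
      Nat.card_congr (subgroupOfEquivOfLe (sigmaCore_le M)).toEquiv
    have hcardR : Nat.card (K.subgroupOf M) = Nat.card K :=
      Nat.card_congr (subgroupOfEquivOfLe h.le_M).toEquiv
    set N := (fittingOf K').map M.subtype with hN
    have hNn : Group.IsNilpotent N := Core.isNilpotent_map (isNilpotent_fittingOf K') _
    have hKmap : K'.map M.subtype = Ms := map_subgroupOf_eq_of_le (sigmaCore_le M)
    have hNle : N ≤ Ms := (map_mono (fittingOf_le K')).trans hKmap.le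
    have hNnorm : Ms ≤ normalizer (N : Set G) := by
      rw [← hKmap]
      refine (map_mono ?_).trans (le_normalizer_map _)
      have hn : ((fittingOf K').subgroupOf K').Normal := by
        rw [show (fittingOf K').subgroupOf K' = fittingSubgroup K' from
          comap_map_eq_self_of_injective K'.subtype_injective _]
        exact inferInstance
      exact (normal_subgroupOf_iff_le_normalizer (fittingOf_le K')).1 hn
    have hNF : N ≤ fittingOf Ms := le_fittingOf_of_normal hNle hNnorm hNn
    have hprime : ∀ x ∈ K.subgroupOf M, x ≠ 1 → K' ⊓ centralizer ({x} : Set M) =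
        K' ⊓ centralizer ((K.subgroupOf M : Subgroup M) : Set M) := by
      intro x hx hx1
      refine le_antisymm (fun y hy => mem_inf.2 ⟨(mem_inf.1 hy).1, ?_⟩)
        (inf_le_inf le_rfl (centralizer_le (by simpa using hx)))
      have h1 : (y : G) ∈ Ms ⊓ centralizer ({(x : G)} : Set G) := mem_inf.2 ⟨(mem_inf.1 hy).1,
        mem_centralizer_singleton_iff.2 (congrArg Subtype.val
          (mem_centralizer_singleton_iff.1 (mem_inf.1 hy).2))⟩
      rw [h.fixed (k := (x : G)) hx (fun e => hx1 (Subtype.ext e))] at h1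
      exact mem_centralizer_iff.2 fun z hz => Subtype.ext (mem_centralizer_iff.1 (mem_inf.1 h1).2 _ hz)
    have hFR : fittingOf K' ⊓ centralizer ((K.subgroupOf M : Subgroup M) : Set M) = ⊥ := by
      refine (eq_bot_iff_forall _).2 fun y hy => Subtype.ext ?_
      have : (y : G) ∈ fittingOf Ms ⊓ centralizer (K : Set G) :=
        mem_inf.2 ⟨hNF (mem_map_of_mem _ (mem_inf.1 hy).1), mem_centralizer_iff.2 fun z hz =>
          congrArg Subtype.val (mem_centralizer_iff.1 (mem_inf.1 hy).2 ⟨z, h.le_M hz⟩ hz)⟩
      rw [hbot, mem_bot] at this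
      exact this
    have hodd : Odd (Nat.card M) :=
      Odd.of_dvd_nat h.minSimple.1 (card_subgroup_dvd_card M)
    have hcomm := PrimeActionFitting.commutator_le_fitting hodd K' (K.subgroupOf M)
      (by rw [hcardK, hcardR]; exact h.coprime.symm) hprime hFR
    have hle : ⁅Ms, K⁆ ≤ fittingOf Ms := by
      have := map_mono (f := M.subtype) hcomm
      rw [map_commutator, hKmap, map_subgroupOf_eq_of_le h.le_M] at this
      exact this.trans hNF
    -- then `M_σ' ≤ F(M_σ)`
    have hsplit : Ms = fittingOf Ms ⊔ kStar M K := by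
      refine le_antisymm ?_ (sup_le (fittingOf_le Ms) inf_le_left)
      refine le_trans (le_of_eq (Coprime.commutator_sup_centralizer h.le_normalizer_core h.coprime
        (Or.inr h.solvable_core)).symm) ?_
      exact sup_le_sup hle le_rfl
    have hnF : kStar M K ≤ normalizer (fittingOf Ms : Set G) := by
      refine (inf_le_left : kStar M K ≤ Ms).trans ?_
      have hn : ((fittingOf Ms).subgroupOf Ms).Normal := by
        rw [show (fittingOf Ms).subgroupOf Ms = fittingSubgroup Ms from
          comap_map_eq_self_of_injective Ms.subtype_injective _]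
        exact inferInstance
      exact (normal_subgroupOf_iff_le_normalizer (fittingOf_le Ms)).1 hn
    have hcomm' : IsMulCommutative (kStar M K) := h.isCyclic_kStar.isMulCommutative
    refine hno (h.kStar_le_derived'.trans ?_)
    rw [← hMs]
    conv_lhs => rw [hsplit]
    exact commutator_sup_le hnF hcomm'
  -- the `q`-part of `F(M_σ)` lies in `Q`
  have hFn : Group.IsNilpotent (fittingOf Ms) := isNilpotent_fittingOf Ms
  refine (le_rPart_of_isPGroup hFn hF (IsPGroup.iff_card.2 ⟨1, by rw [pow_one]⟩)).trans ?_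
  refine le_piCoreOf (rPart_le.trans ((fittingOf_le Ms).trans (sigmaCore_le M))) ?_
    (piNum_of_isPGroup (Set.mem_singleton _) isPGroup_rPart)
  refine le_normalizer_rPart ((le_normalizer_sigmaCore M).trans ?_)
  intro g hg
  refine mem_normalizer_of_map_conj ?_
  have hchar : ∀ (e : Ms ≃* Ms), (fittingSubgroup Ms).map e.toMonoidHom = fittingSubgroup Ms :=
    characteristic_iff_map_eq.1 Core.fittingSubgroup_characteristic
  rw [fittingOf, map_map,
    show ((MulAut.conj g).toMonoidHom.comp Ms.subtype) =
      Ms.subtype.comp (Ms.normalizerMonoidHom ⟨g, hg⟩).toMonoidHom from MonoidHom.ext fun x => rfl,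
    ← map_map, hchar]

theorem coreSylow_le_sigmaCore : coreSylow M K ≤ sigmaCore M :=
  have := Fact.mk h.prime
  le_sigmaCore_of_isPGroup h.minSimple h.coatom (coreSylow_le M K) (coreSylow_isPGroup h) h.mem_sigma

/-- The quotient of `M_σ` by `Q` is nilpotent of order prime to `q`. -/
theorem quotient_facts :
    ¬ Nat.card (kStar M K) ∣ (coreSylow M K).relIndex (sigmaCore M) ∧
      ∀ D : Subgroup G, D ≤ sigmaCore M → coreSylow M K ⊓ D = ⊥ → Group.IsNilpotent D := by
  have := Fact.mk h.prime
  haveI := isSolvable_coatom h.minSimple h.coatom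
  obtain ⟨k, hk, hk1, r, hr, hkr⟩ := h.exists_prime_elt
  set q := Nat.card (kStar M K) with hq
  set Q' := piCore ({q} : Set ℕ) M with hQ'
  set f := QuotientGroup.mk' Q' with hf
  set S := (sigmaCore M).subgroupOf M with hS
  set L := S.map f with hL
  haveI : S.Normal := (normal_subgroupOf_iff_le_normalizer (sigmaCore_le M)).2
    (le_normalizer_sigmaCore M)
  haveI : L.Normal := Normal.map inferInstance f (QuotientGroup.mk'_surjective Q')
  have hQS : Q' ≤ S := fun x hx => h.coreSylow_le_sigmaCore (mem_map_of_mem _ hx)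
  let k' : M := ⟨k, h.le_M hk⟩
  have hk'r : k' ^ r = 1 := Subtype.ext (by rw [← hkr]; exact pow_orderOf_eq_one k)
  have hfix : L ⊓ centralizer {f k'} = ⊥ := by
    have hcop : (Nat.card (zpowers k')).Coprime (Nat.card f.ker) := by
      rw [hf, QuotientGroup.ker_mk', Nat.card_zpowers,
        show orderOf k' = orderOf k from (orderOf_coe k').symm]
      refine (h.coprime.coprime_dvd_left ?_).coprime_dvd_right ?_
      · have := orderOf_dvd_natCard (⟨k, hk⟩ : K)
        rwa [← orderOf_coe] at this
      · exact (card_map_of_injective M.subtype_injective (K := Q')).symm.dvd.trans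
          (card_dvd_of_le h.coreSylow_le_sigmaCore)
    have hn : zpowers k' ≤ normalizer (S : Set M) := by
      rw [normalizer_eq_top]; exact le_top
    have e := Coprime.map_inf_centralizer f (A := zpowers k') hn (by rwa [hf, QuotientGroup.ker_mk'])
      hcop (Or.inr (Group.isSolvable_of_isSolvable_injective f.ker.subtype_injective))
    rw [centralizer_zpowers, MonoidHom.map_zpowers, centralizer_zpowers] at e
    rw [hL, ← e, eq_bot_iff, map_le_iff_le_comap]
    intro x hx
    rw [mem_comap, mem_bot, hf, QuotientGroup.mk'_apply, QuotientGroup.eq_one_iff]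
    have hxg : (x : G) ∈ sigmaCore M ⊓ centralizer ({k} : Set G) := mem_inf.2 ⟨(mem_inf.1 hx).1,
      mem_centralizer_singleton_iff.2 (congrArg Subtype.val
        (mem_centralizer_singleton_iff.1 (mem_inf.1 hx).2))⟩
    rw [h.fixed hk hk1] at hxg
    obtain ⟨y, hy, hyx⟩ := h.kStar_le_coreSylow hxg
    rwa [show x = y from Subtype.ext hyx.symm]
  have hLn : Group.IsNilpotent L := Fusion.isNilpotent_of_fpf_prime hr
    (c := f k') (by rw [← map_pow, hk'r, map_one]) (by rw [normalizer_eq_top]; trivial) hfix
  refine ⟨fun hd => ?_, fun D hD hDQ => ?_⟩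
  · have hd' : q ∣ Nat.card L := by
      have h1 : Nat.card L * Nat.card Q' = Nat.card S := by
        have := WielandtFixed.card_map_mul_card_inf_ker f S
        rw [hf, QuotientGroup.ker_mk', inf_eq_right.2 hQS] at this
        rw [mul_comm]; exact this
      have h2 := Coprime.card_mul_relIndex_of_le h.coreSylow_le_sigmaCore
      rw [show Nat.card (coreSylow M K) = Nat.card Q' from
        card_map_of_injective M.subtype_injective] at h2
      rw [show Nat.card S = Nat.card (sigmaCore M) from
        Nat.card_congr (subgroupOfEquivOfLe (sigmaCore_le M)).toEquiv, ← h2, mul_comm (Nat.card Q')] at h1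
      rw [Nat.eq_of_mul_eq_mul_right Nat.card_pos h1]
      exact hd
    refine rPart_ne_bot hLn hd' (eq_bot_iff.2 ?_)
    rw [← piCore_quotient_eq_bot ({q} : Set ℕ) (G := M)]
    refine le_sSup ⟨normalizer_eq_top_iff.1 (eq_top_iff.2 ?_),
      piNum_of_isPGroup (Set.mem_singleton q) isPGroup_rPart⟩
    refine le_normalizer_rPart ?_
    rw [normalizer_eq_top]
  · let φ : D →* M ⧸ Q' := f.comp (inclusion (hD.trans (sigmaCore_le M)))
    have hφ : Function.Injective φ := by
      rw [← MonoidHom.ker_eq_bot_iff, eq_bot_iff]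
      intro x hx
      rw [mem_bot]
      have hxQ : inclusion (hD.trans (sigmaCore_le M)) x ∈ Q' := by
        rwa [MonoidHom.mem_ker, MonoidHom.comp_apply, hf, QuotientGroup.mk'_apply,
          QuotientGroup.eq_one_iff] at hx
      have : (x : G) ∈ coreSylow M K ⊓ D := mem_inf.2 ⟨mem_map_of_mem M.subtype hxQ, x.2⟩
      rw [hDQ, mem_bot] at this
      exact Subtype.ext this
    have hr' : φ.range ≤ L := by
      rintro _ ⟨x, rfl⟩
      exact mem_map_of_mem f (hD x.2)
    haveI : Group.IsNilpotent φ.range := Core.isNilpotent_mono hLn hr'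
    exact (Group.isNilpotent_congr (MonoidHom.ofInjective hφ)).2 inferInstance

end CoreData

end Cfsg.Agent.OddLocal
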