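import Cfsg.Agent.OddLocal.KappaDerived

/-!
BG 14.7 (g): maximal subgroups of type `P₂`: every Sylow subgroup of `M_σ` has a central elementary
subgroup of rank `≥ |K|`, centralisers of elements of `M_σ` lie in `M`, and `F(M)` is a TI-set.
-/

set_option autoImplicit false
set_option linter.unusedSectionVars false
set_option linter.style.haveILetI false

namespace Cfsg.Agent.OddLocal

open Subgroup Cfsg
open Cfsg.Agent.WielandtFixed (fixCard order_formula)

universe u

variable {G : Type u} [Group G] [Finite G] {M L K U : Subgroup G}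

variable (hG : IsMinSimpleOddOrder G) (hM : IsCoatom M)
include hG hM

theorem sigmaCore_nilpotent_of_U (h : IsSigmaDecomposition M K U) (hU1 : U ≠ ⊥) :
    Group.IsNilpotent (sigmaCore M) := by
  obtain ⟨-, hUp⟩ := sigmaDecomposition_compl hG hM h
  obtain ⟨r, hr, hrU⟩ := exists_prime_dvd_of_ne_bot hU1
  haveI := Fact.mk hr
  obtain ⟨S⟩ : Nonempty (Sylow r M) := inferInstance
  have hrM : r ∣ Nat.card M := hrU.trans (card_dvd_of_le h.compl.1)
  exact (Cfsg.Agent.S1429.result hG M hM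
    (fun hc => (hUp r hr hrU).1 (hc r hr hrM (hUp r hr hrU).2)) r hrM
    (fun hc => hc.elim (hUp r hr hrU).2 (hUp r hr hrU).1) S).2.2

/-- `C_{M_σ}(U) = 1`. -/
theorem sigmaCore_inf_centralizer_U (h : IsSigmaDecomposition M K U) (hK1 : K ≠ ⊥) (hU1 : U ≠ ⊥) :
    sigmaCore M ⊓ centralizer (U : Set G) = ⊥ := by
  by_contra hne
  obtain ⟨hE, hUp⟩ := sigmaDecomposition_compl hG hM h
  obtain ⟨-, hn, -⟩ := sigmaDecomposition_structure hG hM h hK1
  obtain ⟨r, hr, hrU⟩ := exists_prime_dvd_of_ne_bot hU1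
  haveI := Fact.mk hr
  have hrE : r ∣ Nat.card ↥(U ⊔ K) := hrU.trans (card_dvd_of_le le_sup_left)
  rcases tau_cases hG hM hE hrE with h1 | h2 | h3
  rotate_left
  · obtain ⟨A, hAE, hA⟩ := exists_plane_in_compl hG hM hE h2
    have hAU : A ≤ U := by
      refine mem_of_isPiHallOf_normal (π := {s | s ∉ kappa M}) (M := U ⊔ K)
        ⟨le_sup_left, fun s hs hd => (hUp s hs hd).1, fun s hs hsκ hd => ?_⟩ hn hAE
        (piNum_of_isPGroup (fun hc => ?_) (Coprime.ea_isPGroup hA.elem))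
      · have h1 := Coprime.card_mul_relIndex_of_le (le_sup_left : U ≤ U ⊔ K)
        have h2 : U.relIndex (U ⊔ K) ∣ Nat.card K := Nat.dvd_of_mul_dvd_mul_left Nat.card_pos
          (h1 ▸ card_sup_dvd_mul h.normal)
        exact hsκ (h.hall.2.1 s hs (hd.trans h2))
      · rcases kappa_tau13 hG hM hc with h' | h'
        · exact h2.2.2.2 h'.2.2.2.2
        · exact h2.2.2.2 h'.2.2.2
    exact hne (le_bot_iff.mp (hA.fixed_eq_bot hG hM ▸
      inf_le_inf_left _ (centralizer_le (SetLike.coe_subset_coe.mpr hAU))))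
  all_goals
    obtain ⟨⟨z, hz⟩, hzo⟩ := exists_prime_orderOf_dvd_card' r hrU
    rw [← orderOf_coe] at hzo
    change orderOf z = r at hzo
    refine (hUp r hr hrU).1 (kappa_of_fixed hG hM (P := zpowers z) ?_
      (by rw [Nat.card_zpowers, hzo]) (zpowers_le.mpr (h.compl.1 hz)) fun e => ?_)
    · first | exact Or.inl h1 | exact Or.inr h3
    · exact hne (le_bot_iff.mp (e ▸ inf_le_inf_left _
        (centralizer_le (SetLike.coe_subset_coe.mpr (zpowers_le.mpr hz)))))

/-- Each prime of `M_σ` has an elementary subgroup of order `≥ p ^ |K|` in the centre of `M_σ`. -/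
theorem exists_central_elementary (h : IsSigmaDecomposition M K U) (hK1 : K ≠ ⊥) (hU1 : U ≠ ⊥)
    {p : ℕ} [Fact p.Prime] (hp : p ∈ sigma M) :
    ∃ V : Subgroup G, V ≤ sigmaCore M ∧ M ≤ normalizer (V : Set G) ∧ IsElementaryAbelian p V ∧
      p ^ Nat.card K ≤ Nat.card V ∧ V ≤ centralizer (sigmaCore M : Set G) := by
  have hn := sigmaCore_nilpotent_of_U hG hM h hU1
  obtain ⟨hE, hUp⟩ := sigmaDecomposition_compl hG hM h
  obtain ⟨-, hUn, hfree⟩ := sigmaDecomposition_structure hG hM h hK1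
  obtain ⟨-, hfix, -, -⟩ := kappa_structure hG hM hE h.hall hK1 le_sup_right
  obtain ⟨S, hSσ, hSn⟩ := exists_normal_sylow hG hM hn hp
  let V : Subgroup G :=
    { carrier := {x | x ∈ (S : Subgroup G) ∧ x ∈ centralizer ((S : Subgroup G) : Set G) ∧ x ^ p = 1}
      one_mem' := ⟨one_mem _, one_mem _, one_pow _⟩
      mul_mem' := fun {a b} ha hb => ⟨mul_mem ha.1 hb.1, mul_mem ha.2.1 hb.2.1, by
        rw [(show Commute a b from (mem_centralizer_iff.mp ha.2.1 b hb.1).symm).mul_pow, ha.2.2,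
          hb.2.2, one_mul]⟩
      inv_mem' := fun {a} ha => ⟨inv_mem ha.1, inv_mem ha.2.1, by rw [inv_pow, ha.2.2, inv_one]⟩ }
  have hVS : V ≤ (S : Subgroup G) := fun x hx => hx.1
  have hVσ : V ≤ sigmaCore M := hVS.trans hSσ
  have hVe : IsElementaryAbelian p V :=
    ⟨⟨⟨fun a b => Subtype.ext (mem_centralizer_iff.mp b.2.2.1 a a.2.1)⟩⟩, fun a ha => ha.2.2⟩
  have hV1 : V ≠ ⊥ := by
    intro e
    haveI : Nontrivial (S : Subgroup G) := (nontrivial_iff_ne_bot _).mpr
      (sylow_ne_bot_of_sigma hG hM S hp)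
    haveI := S.2.center_nontrivial
    obtain ⟨⟨⟨z, hzS⟩, hzc⟩, hz1⟩ := exists_ne (1 : center (S : Subgroup G))
    have hz1' : z ≠ 1 := fun e => hz1 (Subtype.ext (Subtype.ext e))
    obtain ⟨j, hj⟩ := S.2.exists_orderOf_eq_pow ⟨z, hzS⟩
    rw [← orderOf_coe] at hj
    change orderOf z = p ^ j at hj
    have hd : p ∣ orderOf z := by
      rcases Nat.eq_zero_or_pos j with h0 | h0
      · exact absurd (orderOf_eq_one_iff.mp (by rw [hj, h0, pow_zero])) hz1'
      · exact hj ▸ dvd_pow_self p h0.ne'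
    set w := z ^ (orderOf z / p) with hw
    have hwo : orderOf w = p := orderOf_pow_orderOf_div (orderOf_pos z).ne' hd
    have hzC : z ∈ centralizer ((S : Subgroup G) : Set G) := mem_centralizer_iff.mpr fun a ha =>
      congrArg Subtype.val (mem_center_iff.mp hzc ⟨a, ha⟩)
    have hwV : w ∈ V := ⟨pow_mem hzS _, pow_mem hzC _,
      orderOf_dvd_iff_pow_eq_one.mp (dvd_of_eq hwo)⟩
    rw [e, mem_bot] at hwV
    rw [hwV, orderOf_one] at hwo
    exact (Fact.out : p.Prime).ne_one hwo.symm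
  have hVn : M ≤ normalizer (V : Set G) := by
    intro m hm
    have h1 : ∀ {m : G}, m ∈ M → ∀ x ∈ V, m * x * m⁻¹ ∈ V := by
      intro m hm x hx
      refine ⟨(mem_normalizer_iff.mp (hSn hm) x).mp hx.1, mem_centralizer_iff.mpr fun a ha => ?_,
        by rw [conj_pow, hx.2.2]; group⟩
      have h2 : m⁻¹ * a * m ∈ (S : Subgroup G) := by
        simpa using (mem_normalizer_iff.mp (hSn (M.inv_mem hm)) a).mp ha
      calc a * (m * x * m⁻¹) = m * (m⁻¹ * a * m * x) * m⁻¹ := by group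
        _ = m * (x * (m⁻¹ * a * m)) * m⁻¹ := by rw [mem_centralizer_iff.mp hx.2.1 _ h2]
        _ = m * x * m⁻¹ * a := by group
    refine mem_normalizer_iff.mpr fun x => ⟨h1 hm x, fun hx => ?_⟩
    have h2 := h1 (M.inv_mem hm) _ hx
    rwa [show m⁻¹ * (m * x * m⁻¹) * m⁻¹⁻¹ = x by group] at h2
  have hVC : V ≤ centralizer (sigmaCore M : Set G) := by
    refine le_centralizer_iff.mp (Coprime.le_of_forall_sylow_le fun r hr => ?_)
    haveI := Fact.mk hr
    obtain ⟨T⟩ : Nonempty (Sylow r ↥(sigmaCore M)) := inferInstance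
    refine ⟨T, ?_⟩
    by_cases hrp : r = p
    · subst hrp
      refine (le_sylow_of_normal hG hM (hSσ.trans (sigmaCore_le M)) hSn (T.2.map _)
        ((map_subtype_le _).trans (sigmaCore_le M))).trans ?_
      exact fun a ha => mem_centralizer_iff.mpr fun v hv =>
        (mem_centralizer_iff.mp hv.2.1 a ha).symm
    · intro a ha
      refine mem_centralizer_iff.mpr fun v hv => ?_
      obtain ⟨i, hi⟩ := (T.2.map (sigmaCore M).subtype).exists_orderOf_eq_pow ⟨a, ha⟩
      rw [← orderOf_coe] at hi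
      change orderOf a = r ^ i at hi
      have hvo : orderOf v ∣ p := orderOf_dvd_of_pow_eq_one hv.2.2
      exact (commute_of_mem hn (hVσ hv) (map_subtype_le _ ha)
        ((((Nat.coprime_primes (Fact.out : p.Prime) hr).mpr (Ne.symm hrp)).coprime_dvd_left
          hvo).pow_right i |> fun hc => hi ▸ hc)).eq
  refine ⟨V, hVσ, hVn, hVe, ?_, hVC⟩
  have hUKM : U ⊔ K ≤ M := hE.1
  have hUKbot : U ⊓ K = ⊥ := Coprime.inf_eq_bot_of_coprime
    (Nat.coprime_of_dvd fun q hq h1 h2 => (hUp q hq h1).1 (h.hall.2.1 q hq h2))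
  have key := order_formula (Nat.card V) G U K V rfl hUKbot
    (fun e he u hu => (mem_normalizer_iff.mp (h.normal he) u).mp hu)
    (fun e he he1 u hu hc => mem_bot.mp (hfree e he he1 ▸
      (⟨hu, mem_centralizer_singleton_iff.mpr hc.symm⟩ : u ∈ U ⊓ centralizer ({e} : Set G))))
    (fun x hx y hy => (mem_normalizer_iff.mp (hVn (hUKM hx)) y).mp hy)
    (Coprime.isSolvable_of_le (hVσ.trans (sigmaCore_le M)) (isSolvable_coatom hG hM))
    ((compl_coprime hG hM hE).symm.coprime_dvd_left (card_dvd_of_le hVσ))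
  have hU0 : V ⊓ centralizer (U : Set G) = ⊥ := le_bot_iff.mp
    ((inf_le_inf_right _ hVσ).trans (sigmaCore_inf_centralizer_U hG hM h hK1 hU1).le)
  have hUK0 : V ⊓ centralizer ((U ⊔ K : Subgroup G) : Set G) = ⊥ := le_bot_iff.mp
    ((inf_le_inf_left _ (centralizer_le (SetLike.coe_subset_coe.mpr le_sup_left))).trans hU0.le)
  simp only [fixCard] at key
  rw [hUK0, hU0, card_bot, one_pow, one_mul, mul_one] at key
  rw [key]
  refine Nat.pow_le_pow_left ?_ _
  refine Nat.le_of_dvd Nat.card_pos ?_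
  have hne : V ⊓ centralizer (K : Set G) ≠ ⊥ := by
    intro e
    rw [e, card_bot, one_pow] at key
    exact hV1 (card_eq_one.mp key)
  obtain ⟨r, hr, hrd⟩ := exists_prime_dvd_of_ne_bot hne
  obtain ⟨i, hi⟩ := IsPGroup.iff_card.mp (S.2.to_le (inf_le_left.trans hVS) :
    IsPGroup p ↥(V ⊓ centralizer (K : Set G)))
  rw [hi] at hrd ⊢
  have hrp := (Nat.prime_dvd_prime_iff_eq hr (Fact.out : p.Prime)).mp (hr.dvd_of_dvd_pow hrd)
  rcases Nat.eq_zero_or_pos i with h0 | h0
  · rw [h0, pow_zero] at hrd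
    exact absurd hrd hr.not_dvd_one
  · exact dvd_pow_self p h0.ne'

/-- For `M` of type `P₂` the centralisers of the elements of `M_σ` lie in `M`. -/
theorem centralizer_le_of_P2 (h : IsSigmaDecomposition M K U) (hK1 : K ≠ ⊥) (hU1 : U ≠ ⊥) {x : G}
    (hx : x ∈ sigmaCore M) (hx1 : x ≠ 1) : centralizer ({x} : Set G) ≤ M := by
  by_contra hC
  obtain ⟨N, hN, -, hNC, -, h2, -⟩ := exists_support hG hM hx hx1 hC
  obtain ⟨p, hp, hpd⟩ := Nat.exists_prime_and_dvd (mt orderOf_eq_one_iff.mp hx1)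
  haveI := Fact.mk hp
  obtain ⟨V, hVσ, -, hVe, hVc, hVC⟩ := exists_central_elementary hG hM h hK1 hU1
    (prime_mem_sigma_of_mem hG hM hx hp hpd)
  have hK3 : 3 ≤ Nat.card K := by
    have hodd : Odd (Nat.card K) := hG.1.of_dvd_nat (card_subgroup_dvd_card K)
    have h2' := (Subgroup.one_lt_card_iff_ne_bot K).mpr hK1
    obtain ⟨j, hj⟩ := hodd
    omega
  refine not_pRankLE_of_elementary (k := 2) (K := N) (E := V)
    (fun v hv => hNC (mem_centralizer_singleton_iff.mpr
      (mem_centralizer_iff.mp (hVC hv) x hx).symm)) hVe ?_ (h2 p hp hpd).2.2.1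
  exact (Nat.pow_le_pow_right hp.pos hK3).trans hVc

/-- Conjugates of elements of `M_σ` inside `M` are reached by `M`. -/
theorem mem_of_conj_P2 (h : IsSigmaDecomposition M K U) (hK1 : K ≠ ⊥) (hU1 : U ≠ ⊥) {x g : G}
    (hx : x ∈ sigmaCore M) (hx1 : x ≠ 1) (hg : x ∈ M.map (MulAut.conj g).toMonoidHom) : g ∈ M := by
  obtain ⟨r, ⟨hr, hrg⟩, -⟩ := IsSupport.existsUnique_conj hG hM hx hx1 (R := ⊥)
    (Or.inl ⟨centralizer_le_of_P2 hG hM h hK1 hU1 hx hx1, rfl⟩) hg
  rw [mem_bot] at hr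
  rw [hr, map_conj_eq_self_of_mem (one_mem _)] at hrg
  exact mem_of_map_conj_eq hG hM hrg.symm

theorem sigmaCore_le_fittingOf (hn : Group.IsNilpotent (sigmaCore M)) :
    sigmaCore M ≤ fittingOf M :=
  le_fittingOf_of_normal (sigmaCore_le M) (le_normalizer_sigmaCore M) hn

/-- BG 14.7 (g): `F(M)` is a TI-subset. -/
theorem fittingOf_TI_of_P2 (h : IsSigmaDecomposition M K U) (hK1 : K ≠ ⊥) (hU1 : U ≠ ⊥) :
    IsTISubset (fittingOf M : Set G) := by
  intro g hg x hx hgx
  by_contra hx1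
  have hgM : g ∉ M := fun hc => hg (le_normalizer_fittingOf M hc)
  obtain ⟨p, hp, hpd⟩ := Nat.exists_prime_and_dvd (mt orderOf_eq_one_iff.mp hx1)
  haveI := Fact.mk hp
  set y := x ^ (orderOf x / p) with hy
  have hyo : orderOf y = p := orderOf_pow_orderOf_div (orderOf_pos x).ne' hpd
  have hy1 : y ≠ 1 := fun e => hp.ne_one (by rw [← hyo, e, orderOf_one])
  have hyF : y ∈ fittingOf M := (fittingOf M).pow_mem hx _
  have hgyF : g * y * g⁻¹ ∈ fittingOf M := by
    have h1 := (fittingOf M).pow_mem hgx (orderOf x / p)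
    rwa [conj_pow] at h1
  have hyM : y ∈ M := fittingOf_le M hyF
  by_cases hpσ : p ∈ sigma M
  · have hyσ : y ∈ sigmaCore M := le_sigmaCore_of_isPGroup hG hM (zpowers_le.mpr hyM)
      (isPGroup_of_card_prime (by rw [Nat.card_zpowers, hyo])) hpσ (mem_zpowers y)
    refine hgM ?_
    have h1 := mem_of_conj_P2 hG hM h hK1 hU1 hyσ hy1 (g := g⁻¹) (by
      rw [mem_map_conj_iff, inv_inv]
      exact fittingOf_le M hgyF)
    exact inv_inv g ▸ M.inv_mem h1
  have hn := sigmaCore_nilpotent_of_U hG hM h hU1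
  obtain ⟨hE, -⟩ := sigmaDecomposition_compl hG hM h
  have hcent : ∀ {z : G}, z ∈ fittingOf M → orderOf z = p →
      sigmaCore M ≤ centralizer ({z} : Set G) := fun {z} hz hzo s hs =>
    mem_centralizer_singleton_iff.mpr (commute_of_mem (isNilpotent_fittingOf M)
      (sigmaCore_le_fittingOf hG hM hn hs) hz (by
        rw [hzo]
        exact (hp.coprime_iff_not_dvd.mpr fun hd =>
          hpσ (prime_mem_sigma_of_mem hG hM hs hp hd)).symm)).eq
  have hσ1 := sigmaCore_ne_bot hG hM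
  have hyc := hcent hyF hyo
  have hycard : Nat.card (zpowers y) = p := by rw [Nat.card_zpowers, hyo]
  have hfixy : sigmaCore M ⊓ centralizer (zpowers y : Set G) = sigmaCore M := by
    rw [inf_eq_left, centralizer_zpowers]
    exact hyc
  have hpM : p ∣ Nat.card M := hyo ▸ Subgroup.orderOf_dvd_natCard M hyM
  have hpκ : p ∉ kappa M := by
    intro hκ
    obtain ⟨m, hm, hle⟩ := exists_conj_le_of_relIndex (π := kappa M) (isSolvable_coatom hG hM)
      h.hall.1 h.hall.2.2 (zpowers_le.mpr hyM) (piNum_of_card_prime hycard hp hκ)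
    obtain ⟨-, hfix, -, -⟩ := kappa_structure hG hM hE h.hall hK1 le_sup_right
    have hk : m * y * m⁻¹ ∈ K := hle (mem_map_of_mem (MulAut.conj m).toMonoidHom (mem_zpowers y))
    have hall : sigmaCore M ≤ kStar M K := by
      show sigmaCore M ≤ sigmaCore M ⊓ centralizer (K : Set G)
      rw [← hfix _ hk (fun e => hy1 (conj_eq_one_iff.mp e))]
      refine le_inf le_rfl fun s hs => mem_centralizer_singleton_iff.mpr ?_
      have h1 : m⁻¹ * s * m ∈ sigmaCore M := by
        simpa using (mem_normalizer_iff.mp (le_normalizer_sigmaCore M (M.inv_mem hm)) s).mp hs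
      have h2 := mem_centralizer_singleton_iff.mp (hyc h1)
      calc s * (m * y * m⁻¹) = m * (m⁻¹ * s * m * y) * m⁻¹ := by group
        _ = m * (y * (m⁻¹ * s * m)) * m⁻¹ := by rw [h2]
        _ = m * y * m⁻¹ * s := by group
    obtain ⟨q, hq, hqd⟩ := exists_prime_dvd_of_ne_bot
      ((IsMember.kStar_ne_bot hG (⟨hM, h.hall, hK1, rfl⟩ : IsMember (K ⊔ kStar M K) M K)))
    haveI := Fact.mk hq
    obtain ⟨S⟩ : Nonempty (Sylow q ↥(sigmaCore M)) := inferInstance
    exact (kappa_fixed_sylow hG hM h.hall hK1 hqd S).2 ((map_subtype_le _).trans hall)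
  have hp2 : p ∈ tau2 M := by
    rcases tau_cases hG hM hE ((dvd_compl_iff hG hM hE).mpr ⟨hpM, hpσ⟩) with h1 | h2 | h3
    · exact absurd (kappa_of_fixed hG hM (Or.inl h1) hycard (zpowers_le.mpr hyM)
        (by rw [hfixy]; exact hσ1)) hpκ
    · exact h2
    · exact absurd (kappa_of_fixed hG hM (Or.inr h3) hycard (zpowers_le.mpr hyM)
        (by rw [hfixy]; exact hσ1)) hpκ
  set z := g * y * g⁻¹ with hzdef
  have hzo : orderOf z = p := by rw [hzdef, ← MulAut.conj_apply, MulEquiv.orderOf_eq, hyo]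
  have huniq : ∀ {w : G}, w ∈ fittingOf M → orderOf w = p →
      centralizer ({w} : Set G) ≤ M ∧
        ∀ L : Subgroup G, IsCoatom L → centralizer ({w} : Set G) ≤ L → L = M := by
    intro w hw hwo
    obtain ⟨s, hs, hs1⟩ := exists_mem_ne_one _ hσ1
    refine unique_of_tau2_elt hG hM (fittingOf_le M hw)
      (fun e => hp.ne_one (by rw [← hwo, e, orderOf_one])) (fun r hr hd => ?_)
      ⟨fittingOf_le M hw, s, hs, hs1,
        (mem_centralizer_singleton_iff.mp (hcent hw hwo hs)).symm⟩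
    rw [hwo] at hd
    rwa [(Nat.prime_dvd_prime_iff_eq hr hp).mp hd]
  refine hgM (mem_of_map_conj_eq hG hM ((huniq hgyF hzo).2 _ (isCoatom_map_conj hM g) ?_))
  intro c hc
  rw [mem_map_conj_iff]
  refine (huniq hyF hyo).1 (mem_centralizer_singleton_iff.mpr ?_)
  have h1 := mem_centralizer_singleton_iff.mp hc
  calc g⁻¹ * c * g * y = g⁻¹ * (c * (g * y * g⁻¹)) * g := by group
    _ = g⁻¹ * (g * y * g⁻¹ * c) * g := by rw [h1]
    _ = y * (g⁻¹ * c * g) := by group

end Cfsg.Agent.OddLocal
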