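import Cfsg.Agent.OddLocal.NonTIParts
import Cfsg.Agent.OddLocal.NonTIAction
import Cfsg.Agent.S1373
import Cfsg.Agent.S1412

/-!
BG 15.7, third part: the action of `K ≠ 1` on a non-abelian `O_p(H)`.
-/

set_option autoImplicit false
set_option linter.unusedSectionVars false
set_option linter.style.haveILetI false

namespace Cfsg.Agent.OddLocal

open Subgroup Cfsg
open scoped commutatorElement

universe u

variable {G : Type u} [Group G] [Finite G] {M N B K : Subgroup G} {p : ℕ} [hp : Fact p.Prime]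
  {x : G}

variable (hG : IsMinSimpleOddOrder G) (hM : IsCoatom M)
include hG hM

theorem fixed_le_kStar (hK : IsPiHallOf (kappa M) K M) (hK1 : K ≠ ⊥) {e : G} (he : e ∈ K)
    (he1 : e ≠ 1) : sigmaCore M ⊓ centralizer ({e} : Set G) ≤ kStar M K := by
  refine mem_kStar_of_piNum hG hM hK ?_ fun r hr hd =>
    piNum_sigmaCore M r hr (hd.trans (card_dvd_of_le inf_le_left))
  rw [← kappa_inf_centralizer hG hM hK hK1 he he1]
  exact inf_le_inf_right _ (sigmaCore_le M)

variable (h : LineSupport p M N B x) (hn : Group.IsNilpotent (sigmaCore M))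
  (hnc : ¬ IsMulCommutative (rPart p (sigmaCore M)))
  (hKU : IsSigmaDecomposition M K ⊥) (hK1 : K ≠ ⊥)
include h hn hnc hKU hK1

/-- `M'' = H'` lies in `O_p(H)` and contains `C_H(K)`, which has order `p`. -/
theorem LineSupport.kStar_facts :
    kStar M K ≤ ⁅sigmaCore M, sigmaCore M⁆ ∧ kStar M K ≤ rPart p (sigmaCore M) ∧
      Nat.card (kStar M K) = p := by
  have h1 := kStar_le_derived hG hM hKU hK1
  rw [derived_eq hG hM hKU hK1, bot_sup_eq] at h1
  have hsup : sigmaCore M ≤ rPart p (sigmaCore M) ⊔ rPrimePart p (sigmaCore M) := by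
    refine (le_iSup_rPart hn).trans (iSup_le fun s => ?_)
    haveI := Fact.mk s.2
    rcases eq_or_ne (s : ℕ) p with hs | hs
    · subst hs
      exact le_sup_left
    · exact (rPart_le_rPrimePart hs).trans le_sup_right
  haveI := h.prime_part_cyclic hG hM hn hnc
  have h2 : kStar M K ≤ rPart p (sigmaCore M) :=
    h1.trans ((commutator_mono hsup hsup).trans (commutator_sup_le
      (rPrimePart_le_centralizer_rPart.trans (centralizer_le_normalizer _)) inferInstance))
  refine ⟨h1, h2, ?_⟩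
  have ht : (Nat.card (kStar M K)).Prime := S1373.result hG M hM K ⊥ hKU hK1 rfl
  exact mem_singleton_of_isPGroup (isPGroup_rPart.to_le h2) _ ht dvd_rfl

theorem LineSupport.free_on_rPart {e : G} (he : e ∈ K)
    (hc : e ∈ centralizer (rPart p (sigmaCore M) : Set G)) : e = 1 := by
  by_contra he1
  refine hnc ?_
  obtain ⟨-, -, hcard⟩ := h.kStar_facts hG hM hn hnc hKU hK1
  have hle : rPart p (sigmaCore M) ≤ kStar M K :=
    (le_inf rPart_le fun y hy =>
      mem_centralizer_singleton_iff.mpr (mem_centralizer_iff.mp hc y hy)).trans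
      (fixed_le_kStar hG hM hKU.hall hK1 he he1)
  haveI : IsCyclic (kStar M K) := isCyclic_of_prime_card hcard
  haveI := Subgroup.isCyclic_of_le hle
  infer_instance

theorem LineSupport.coprime_of_mem {e : G} (he : e ∈ K) : (orderOf e).Coprime p := by
  obtain ⟨hE, -⟩ := sigmaDecomposition_compl hG hM hKU
  rw [bot_sup_eq] at hE
  exact ((compl_coprime hG hM hE).coprime_dvd_left
    (Subgroup.orderOf_dvd_natCard _ he)).coprime_dvd_right
    (h.order ▸ Subgroup.orderOf_dvd_natCard _ (h.le_core h.mem))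

theorem LineSupport.odd_prime : p ≠ 2 := fun e =>
  hG.1.not_two_dvd_nat (e ▸ h.order ▸ _root_.orderOf_dvd_natCard x)

/-- If `O_p(H)` has rank at least three, `K` has exponent dividing `p - 1`. -/
theorem LineSupport.pow_pred_of_large (hr : ¬ PRankLE p 2 (rPart p (sigmaCore M))) {e : G}
    (he : e ∈ K) : e ^ (p - 1) = 1 := by
  obtain ⟨P₀, -, hP₀, -⟩ := exists_sylow_eq_rPart hG hM hn h.mem_sigma
  set R := (P₀ : Subgroup M) with hR
  have heq : R = (rPart p (sigmaCore M)).subgroupOf M := by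
    rw [← hP₀, subgroupOf, comap_map_eq_self_of_injective M.subtype_injective]
  haveI : R.Normal := by
    rw [heq]
    exact (normal_subgroupOf_iff_le_normalizer (rPart_le.trans (sigmaCore_le M))).mpr
      (le_normalizer_rPart (le_normalizer_sigmaCore M))
  have hrR : ¬ PRankLE p 2 R := fun hc => hr (hP₀ ▸ pRankLE_of_injective
    (R.equivMapOfInjective M.subtype M.subtype_injective).symm.toMonoidHom
    (R.equivMapOfInjective M.subtype M.subtype_injective).symm.injective hc)
  have heM : e ∈ M := hKU.hall.1 he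
  have hcop := h.coprime_of_mem hG hM hn hnc hKU hK1 he
  have h1 : (⟨e, heM⟩ : M) ^ (p - 1) ∈ centralizer (R : Set M) :=
    mem_centralizer_of_narrow (h.odd_prime hG hM hn hnc hKU hK1) P₀.2 hrR
      (sylow_narrow_of_not_beta hG hM h.mem_sigma.2.1 h.not_beta P₀)
      (by
        rw [← orderOf_coe, SubmonoidClass.coe_pow]
        exact hcop.coprime_dvd_left (orderOf_pow_dvd _))
      (trivialOnSmallFactors_pow _)
  refine h.free_on_rPart hG hM hn hnc hKU hK1 (K.pow_mem he _) (mem_centralizer_iff.mpr ?_)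
  rw [← hP₀]
  rintro _ ⟨r, hr', rfl⟩
  simpa using congrArg M.subtype (mem_centralizer_iff.mp h1 r hr')

/-- If `O_p(H)` has rank two it has order `p ³`, exponent `p` and `[H, H]` is its centre. -/
theorem LineSupport.small_structure (hr : PRankLE p 2 (rPart p (sigmaCore M))) :
    Nat.card (rPart p (sigmaCore M)) = p ^ 3 ∧ (∀ a ∈ rPart p (sigmaCore M), a ^ p = 1) ∧
      (∀ a ∈ rPart p (sigmaCore M), ∀ b ∈ rPart p (sigmaCore M), ⁅a, b⁆ ∈ kStar M K) ∧
      rPart p (sigmaCore M) ≤ centralizer (kStar M K : Set G) := by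
  obtain ⟨-, S, -, hS⟩ := exists_sylow_eq_rPart hG hM hn h.mem_sigma
  set P := rPart p (sigmaCore M) with hP
  obtain hc | ⟨P₁, P₂, hsup, hcomm, -, hc1, hexp, hcyc, hcl⟩ :=
    S1412.result hG p S (hS.symm ▸ hr)
  · exact absurd (hS ▸ hc) hnc
  rw [hS] at hsup
  have hP₁ : P₁ ≤ P := hsup ▸ le_sup_left
  have hP₂ : P₂ ≤ P := hsup ▸ le_sup_right
  have h21 : P₂ ≤ centralizer (P₁ : Set G) := fun b hb =>
    mem_centralizer_iff.mpr fun a ha => hcomm a ha b hb
  set W := rPrimePart p (sigmaCore M) with hW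
  haveI := h.prime_part_cyclic hG hM hn hnc
  haveI := hcyc
  have hWP : W ≤ centralizer (P : Set G) := rPrimePart_le_centralizer_rPart
  set C := P₂ ⊔ W with hC
  have hCc : IsMulCommutative C := by
    rw [← le_centralizer_iff_isMulCommutative]
    refine sup_le ?_ ?_ <;> rw [le_centralizer_iff] <;> refine sup_le ?_ ?_
    · exact le_centralizer_iff_isMulCommutative.mpr inferInstance
    · exact hWP.trans (centralizer_le hP₂)
    · exact le_centralizer_iff.mp (hWP.trans (centralizer_le hP₂))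
    · exact le_centralizer_iff_isMulCommutative.mpr inferInstance
  have hC1 : C ≤ centralizer (P₁ : Set G) := sup_le h21 (hWP.trans (centralizer_le hP₁))
  have hHle : sigmaCore M ≤ P₁ ⊔ C := by
    refine (le_iSup_rPart hn).trans (iSup_le fun s => ?_)
    haveI := Fact.mk s.2
    rcases eq_or_ne (s : ℕ) p with hs | hs
    · subst hs
      rw [← hP, ← hsup]
      exact sup_le_sup_left le_sup_left _
    · exact ((rPart_le_rPrimePart hs).trans le_sup_right).trans le_sup_right
  have hexp1 : ∀ a ∈ P₁, a ^ p = 1 := fun a ha => by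
    have := Monoid.pow_exponent_eq_one (G := P₁) ⟨a, ha⟩
    rw [hexp] at this
    exact congrArg Subtype.val this
  have hcen : ∀ {z : G}, z ∈ P → (∀ v ∈ P₁, Commute z v) → (∀ v ∈ P₂, Commute z v) →
      z ∈ rCenter p (sigmaCore M) := by
    intro z hz hz1 hz2
    refine ⟨⟨z, hz⟩, mem_center_iff.mpr fun v => Subtype.ext ?_, rfl⟩
    obtain ⟨v₁, hv₁, v₂, hv₂, hv⟩ := (Coprime.mem_sup_of_le_normalizer
      (h21.trans (centralizer_le_normalizer _))).mp (hsup.ge v.2)
    change (v : G) * z = z * v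
    rw [← hv]
    exact (((hz1 v₁ hv₁).mul_right (hz2 v₂ hv₂))).eq.symm
  have hD : ⁅P₁, P₁⁆ ≤ B ⊓ rCenter p (sigmaCore M) := by
    rw [commutator_le]
    intro a ha b hb
    have hab : ⁅a, b⁆ ∈ P₁ := (commutator_le_self P₁) (commutator_mem_commutator ha hb)
    have hz := hcen (hP₁ hab)
      (fun v hv => by
        have := mem_center_iff.mp (commutator_mem_center_of_card hc1 (⟨a, ha⟩ : P₁) ⟨b, hb⟩) ⟨v, hv⟩
        exact (congrArg (fun w : P₁ => (w : G)) this).symm)
      (fun v hv => mem_centralizer_iff.mp (h21 hv) _ hab)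
    exact ⟨h.mem_of_center hG hM hn hnc hz (hexp1 _ hab), hz⟩
  obtain ⟨hkd, -, hkc⟩ := h.kStar_facts hG hM hn hnc hKU hK1
  have hHH : ⁅sigmaCore M, sigmaCore M⁆ ≤ B ⊓ rCenter p (sigmaCore M) :=
    ((commutator_mono hHle hHle).trans (commutator_sup_le_commutator hCc hC1)).trans hD
  have hkL : kStar M K = B ⊓ rCenter p (sigmaCore M) :=
    eq_of_le_of_card_ge (hkd.trans hHH)
      (by rw [hkc, h.center_line_card hG hM hn hnc])
  -- the centre is the line
  obtain ⟨e, he, he1⟩ := exists_mem_ne_one _ hK1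
  set Z := rCenter p (sigmaCore M) with hZdef
  haveI : IsMulCommutative Z := by
    rw [hZdef, rCenter]
    infer_instance
  have heZ : zpowers e ≤ normalizer (Z : Set G) :=
    zpowers_le.mpr (le_normalizer_rCenter (le_normalizer_sigmaCore M) (hKU.hall.1 he))
  have hcopZ : (Nat.card (zpowers e)).Coprime (Nat.card Z) := by
    rw [Nat.card_zpowers]
    obtain ⟨j, hj⟩ := IsPGroup.iff_card.mp (isPGroup_rCenter (r := p) (F := sigmaCore M))
    rw [hj]
    exact (h.coprime_of_mem hG hM hn hnc hKU hK1 he).pow_right j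
  have hZk : Z ≤ centralizer ({e} : Set G) := by
    rw [← centralizer_zpowers, ← commutator_eq_bot_iff_le_centralizer]
    by_contra hT
    obtain ⟨q, hq, hqd⟩ := exists_prime_dvd_of_ne_bot hT
    have hTZ : ⁅Z, zpowers e⁆ ≤ Z := Coprime.commutator_le_of_le_normalizer heZ
    obtain rfl : q = p :=
      mem_singleton_of_isPGroup ((isPGroup_rCenter (r := p) (F := sigmaCore M)).to_le hTZ) q hq hqd
    obtain ⟨⟨z, hz⟩, hzo⟩ := exists_prime_orderOf_dvd_card' q hqd
    rw [Subgroup.orderOf_mk] at hzo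
    have hzB := h.mem_of_center hG hM hn hnc (hTZ hz) (orderOf_dvd_iff_pow_eq_one.mp (dvd_of_eq hzo))
    have hzk : z ∈ kStar M K := hkL.ge ⟨hzB, hTZ hz⟩
    have : z ∈ (⊥ : Subgroup G) := by
      rw [← Coprime.centralizer_inf_commutator_eq_bot heZ hcopZ]
      exact ⟨⟨hTZ hz, centralizer_le (zpowers_le.mpr he) hzk.2⟩, hz⟩
    rw [mem_bot] at this
    rw [this, orderOf_one] at hzo
    exact hq.ne_one hzo.symm
  have hZL : Z ≤ kStar M K :=
    (le_inf (rCenter_le.trans rPart_le) hZk).trans (fixed_le_kStar hG hM hKU.hall hK1 he he1)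
  have hP₂1 : P₂ ≤ P₁ := fun b hb => by
    have hbZ : b ∈ Z := hcen (hP₂ hb) (fun v hv => (hcomm v hv b hb).symm)
      fun v hv => congrArg (fun w : P₂ => (w : G)) (mul_comm' (⟨b, hb⟩ : P₂) ⟨v, hv⟩)
    have hbp : b ^ p = 1 := h.pair.elem.2 b (hkL.le (hZL hbZ)).1
    have : b ∈ P₁ ⊓ centralizer (P₁ : Set G) := hcl ▸ subset_closure ⟨hb, hbp⟩
    exact this.1
  have hPeq : P = P₁ := by rw [← hsup, sup_eq_left.mpr hP₂1]
  refine ⟨by rw [hPeq, hc1], hPeq ▸ hexp1, fun a ha b hb => ?_, ?_⟩
  · exact hkL.ge (hHH (commutator_mem_commutator (rPart_le ha) (rPart_le hb)))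
  · rw [hkL, le_centralizer_iff]
    exact inf_le_right.trans ((rCenter_le_centralizer hn).trans (centralizer_le rPart_le))

/-- For `K ≠ 1` either `|K|` divides `p - 1`, or `|O_p(H)| = p ^ 3` and `|K|` divides `p + 1`. -/
theorem LineSupport.kappa_cases :
    (∀ e ∈ K, e ^ (p - 1) = 1) ∨
      (Nat.card (rPart p (sigmaCore M)) = p ^ 3 ∧ Nat.card K ∣ p + 1) := by
  by_cases hr : PRankLE p 2 (rPart p (sigmaCore M))
  swap
  · exact Or.inl fun e he => h.pow_pred_of_large hG hM hn hnc hKU hK1 hr he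
  obtain ⟨hcard, hexp, hcomm, hcent⟩ := h.small_structure hG hM hn hnc hKU hK1 hr
  obtain ⟨-, hkP, hkc⟩ := h.kStar_facts hG hM hn hnc hKU hK1
  set P := rPart p (sigmaCore M) with hP
  obtain ⟨k, hk⟩ := K.isCyclic_iff_exists_zpowers_eq_top.mp hKU.cyclic
  have hkK : k ∈ K := hk ▸ mem_zpowers k
  have hkM : k ∈ M := hKU.hall.1 hkK
  have hPM : P ≤ M := rPart_le.trans (sigmaCore_le M)
  set R := P.subgroupOf M with hR
  set L := (kStar M K).subgroupOf M with hL
  haveI : R.Normal := (normal_subgroupOf_iff_le_normalizer hPM).mpr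
    (le_normalizer_rPart (le_normalizer_sigmaCore M))
  have hkStarM : kStar M K ≤ M := hkP.trans hPM
  have hLn : M ≤ normalizer (kStar M K : Set G) := by
    obtain ⟨hE, -⟩ := sigmaDecomposition_compl hG hM hKU
    rw [bot_sup_eq] at hE
    intro m hm
    obtain ⟨a, ha, s, hs, rfl⟩ := hE.2.2.2 m hm
    refine mul_mem (centralizer_le_normalizer _ ?_) (centralizer_le_normalizer _ ?_)
    · exact mem_centralizer_iff.mpr fun z hz => (mem_centralizer_iff.mp hz.2 a ha).symm
    · have hWk : rPrimePart p (sigmaCore M) ≤ centralizer (kStar M K : Set G) :=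
        rPrimePart_le_centralizer_rPart.trans (centralizer_le hkP)
      refine ((le_iSup_rPart hn).trans (iSup_le fun r => ?_)) hs
      haveI := Fact.mk r.2
      rcases eq_or_ne (r : ℕ) p with hr' | hr'
      · subst hr'
        exact hcent
      · exact (rPart_le_rPrimePart hr').trans hWk
  haveI : L.Normal := (normal_subgroupOf_iff_le_normalizer hkStarM).mpr hLn
  have hko : orderOf (⟨k, hkM⟩ : M) = Nat.card K := by
    rw [Subgroup.orderOf_mk, ← hk, Nat.card_zpowers]
  rcases orderOf_dvd_pred_or_succ (p := p) (R := R) (L := L) (fun a ha => hkP ha)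
      (by rw [hL, Coprime.card_subgroupOf hkStarM, hkc])
      (by rw [hR, Coprime.card_subgroupOf hPM, hcard])
      (fun a ha => Subtype.ext (by simpa using hexp a ha))
      (fun a ha b hb => by
        rw [hL, mem_subgroupOf, show ((⁅a, b⁆ : M) : G) = ⁅(a : G), (b : G)⁆ from
          map_commutatorElement M.subtype a b]
        exact hcomm a ha b hb)
      (fun a ha => mem_centralizer_iff.mpr fun l hl =>
        Subtype.ext (mem_centralizer_iff.mp (hcent ha) l hl))
      (fun hc => hnc ⟨⟨fun a b => Subtype.ext (congrArg (fun w : R => ((w : M) : G))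
        (mul_comm' (⟨⟨a, hPM a.2⟩, a.2⟩ : R) ⟨⟨b, hPM b.2⟩, b.2⟩))⟩⟩)
      (k := ⟨k, hkM⟩)
      (mem_centralizer_iff.mpr fun l hl =>
        Subtype.ext ((mem_centralizer_iff.mp (mem_inf.mp hl).2 k hkK).symm))
      (by rw [Subgroup.orderOf_mk]; exact h.coprime_of_mem hG hM hn hnc hKU hK1 hkK)
      (by rw [Subgroup.orderOf_mk]; exact hG.1.of_dvd_nat (_root_.orderOf_dvd_natCard k))
      (fun n hn' => by
        refine Subtype.ext ?_
        rw [SubmonoidClass.coe_pow, coe_one]
        refine h.free_on_rPart hG hM hn hnc hKU hK1 (K.pow_mem hkK n)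
          (mem_centralizer_iff.mpr fun y hy => ?_)
        have := congrArg M.subtype (mem_centralizer_iff.mp hn' ⟨y, hPM hy⟩ hy)
        simpa using this) with hd | hd
  · left
    intro e he
    obtain ⟨j, rfl⟩ := mem_zpowers_iff.mp (hk.ge he)
    rw [← zpow_natCast, ← zpow_mul, mul_comm, zpow_mul, zpow_natCast,
      orderOf_dvd_iff_pow_eq_one.mp (show orderOf k ∣ p - 1 by rwa [Subgroup.orderOf_mk] at hd),
      one_zpow]
  · exact Or.inr ⟨hcard, hko ▸ hd⟩

end Cfsg.Agent.OddLocal
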