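import Cfsg.Agent.OddLocal.SigmaTools
import Cfsg.Agent.S1412

/-!
The centraliser in a Sylow subgroup of a maximal elementary subgroup of order `p²`.
-/

set_option autoImplicit false
set_option linter.unusedSectionVars false
set_option linter.style.haveILetI false

namespace Cfsg.Agent.OddLocal

open Subgroup Cfsg
open scoped commutatorElement

universe u

variable {G : Type u} [Group G] [Finite G] {p : ℕ} [hp : Fact p.Prime]

/-- `C_S(A) = A C₁` with `C₁` cyclic. -/
theorem centralizer_split (hG : IsMinSimpleOddOrder G) {S : Sylow p G} {A : Subgroup G}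
    (hAS : A ≤ (S : Subgroup G)) (hA : IsElementaryAbelian p A) (hA2 : Nat.card A = p ^ 2)
    (hmax : ∀ B : Subgroup G, IsElementaryAbelian p B → A ≤ B → B = A)
    (hne : ¬ IsMulCommutative (S : Subgroup G)) :
    ∃ C₁ : Subgroup G, C₁ ≤ (S : Subgroup G) ⊓ centralizer (A : Set G) ∧ IsCyclic C₁ ∧
      (∀ x ∈ (S : Subgroup G) ⊓ centralizer (A : Set G), x ^ p ∈ C₁) ∧
      (∀ z ∈ C₁, z ^ p = 1 → ∀ s ∈ (S : Subgroup G), Commute z s) ∧
      IsMulCommutative ↥((S : Subgroup G) ⊓ centralizer (A : Set G)) := by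
  have hp2 : p ≠ 2 := by
    intro h
    have h1 : 2 ∣ Nat.card G :=
      h ▸ ((dvd_pow_self p two_ne_zero).trans (hA2.symm.dvd.trans (card_subgroup_dvd_card A)))
    exact absurd (hG.1.of_dvd_nat h1) (by decide)
  have hmem : ∀ x : G, x ^ p = 1 → x ∈ centralizer (A : Set G) → x ∈ A := fun x hx hxc => by
    have := hmax _ (isElementaryAbelian_sup_zpowers hA hx hxc) le_sup_left
    exact this ▸ mem_sup_right (mem_zpowers x)
  set C := (S : Subgroup G) ⊓ centralizer (A : Set G) with hC
  by_cases hr : PRankLE p 2 (S : Subgroup G)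
  · rcases Cfsg.Agent.S1412.result hG p S hr with h | ⟨P₁, P₂, hS, hcomm, -, -, hexp, hcyc, hΩ⟩
    · exact absurd h hne
    have hP₁S : P₁ ≤ (S : Subgroup G) := hS ▸ le_sup_left
    have hP₂S : P₂ ≤ (S : Subgroup G) := hS ▸ le_sup_right
    have h21 : P₂ ≤ centralizer (P₁ : Set G) := fun b hb =>
      mem_centralizer_iff.mpr fun a ha => hcomm a ha b hb
    have hz : ∀ z ∈ P₂, z ^ p = 1 → z ∈ P₁ ⊓ centralizer (P₁ : Set G) := fun z hz hzp =>
      hΩ ▸ subset_closure ⟨hz, hzp⟩
    have hdec : ∀ x ∈ (S : Subgroup G), ∃ a ∈ P₁, ∃ b ∈ P₂, a * b = x := fun x hx =>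
      (Coprime.mem_sup_of_le_normalizer (h21.trans (centralizer_le_normalizer _))).mp (hS.ge hx)
    have hpow : ∀ a ∈ P₁, a ^ p = 1 := fun a ha => by
      have := Monoid.pow_exponent_eq_one (G := P₁) ⟨a, ha⟩
      rw [hexp] at this
      exact congrArg Subtype.val this
    have hAP : A ≤ P₁ := by
      intro x hx
      obtain ⟨a, ha, b, hb, rfl⟩ := hdec x (hAS hx)
      have h := hA.2 _ hx
      rw [(show Commute a b from hcomm a ha b hb).mul_pow, hpow a ha, one_mul] at h
      exact P₁.mul_mem ha (hz b hb h).1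
    have hP₂C : P₂ ≤ C := le_inf hP₂S (h21.trans (centralizer_le (SetLike.coe_subset_coe.mpr hAP)))
    refine ⟨P₂, hP₂C, hcyc, ?_, ?_, ?_⟩
    · intro x hx
      obtain ⟨a, ha, b, hb, rfl⟩ := hdec x hx.1
      rw [(show Commute a b from hcomm a ha b hb).mul_pow, hpow a ha, one_mul]
      exact P₂.pow_mem hb p
    · intro z hzz hzp s hs
      obtain ⟨a, ha, b, hb, rfl⟩ := hdec s hs
      have hz' := hz z hzz hzp
      have h1 : Commute z a := (mem_centralizer_iff.mp hz'.2 a ha).symm
      have h2 : Commute z b := hcomm z hz'.1 b hb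
      exact h1.mul_right h2
    · have hle : C ≤ A ⊔ P₂ := by
        intro x hx
        obtain ⟨a, ha, b, hb, rfl⟩ := hdec x hx.1
        have hac : a ∈ centralizer (A : Set G) := by
          have h1 := (centralizer (A : Set G)).mul_mem hx.2
            ((centralizer (A : Set G)).inv_mem (hP₂C hb).2)
          rwa [mul_inv_cancel_right] at h1
        exact mul_mem_sup (hmem a (hpow a ha) hac) hb
      haveI := hA.1
      haveI := Fusion.isMulCommutative_sup_of_le_centralizer (A := A) (B := P₂) hA.1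
        (haveI := hcyc; inferInstance) (le_centralizer_iff.mp (hP₂C.trans inf_le_right))
      exact ⟨⟨fun a b => Subtype.ext (congrArg (fun z : ↥(A ⊔ P₂) => (z : G))
        (mul_comm' (⟨a, hle a.2⟩ : ↥(A ⊔ P₂)) ⟨b, hle b.2⟩))⟩⟩
  · set R := (S : Subgroup G) with hR
    set E : Subgroup R := A.subgroupOf R with hEdef
    have hEe : IsElementaryAbelian p E :=
      ⟨⟨⟨fun a b => Subtype.ext (Subtype.ext (Coprime.ea_comm hA a.2 b.2))⟩⟩,
        fun a ha => Subtype.ext (by simpa using hA.2 _ ha)⟩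
    have hE2 : Nat.card E = p ^ 2 := (Coprime.card_subgroupOf hAS).trans hA2
    have hmemE : ∀ x : R, x ^ p = 1 → x ∈ centralizer (E : Set R) → x ∈ E := fun x hx hxc => by
      refine hmem (x : G) (by simpa using congrArg Subtype.val hx) (mem_centralizer_iff.mpr ?_)
      exact fun a ha => congrArg Subtype.val (mem_centralizer_iff.mp hxc ⟨a, hAS ha⟩ ha)
    have hEmax : ∀ B : Subgroup R, IsElementaryAbelian p B → E ≤ B → B = E := fun B hB hle =>
      le_antisymm (fun b hb => hmemE b (hB.2 b hb) (mem_centralizer_iff.mpr fun e he =>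
        Coprime.ea_comm hB (hle he) hb)) hle
    obtain ⟨hnotT, hZp, -, hTc, hTi⟩ := maximal_elementary_two S.2 hp2 hr hEe hE2 hEmax
    set T := centralizer (secondOmega p R : Set R) with hT
    haveI := hTc
    set Z := centerOmega p R with hZ
    have hZT : Z ≤ T := fun z hz => mem_centralizer_iff.mpr fun w _ =>
      mem_center_iff.mp (mem_centerOmega_iff.mp hz).1 w
    have hZE : Z ≤ E := fun x hx => hmemE x (mem_centerOmega_iff.mp hx).2
      (mem_centralizer_iff.mpr fun e _ => mem_center_iff.mp (mem_centerOmega_iff.mp hx).1 e)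
    have hET : E ⊓ T = Z := by
      refine (eq_of_le_of_card_ge (le_inf hZE hZT) ?_).symm
      rw [hZp]
      obtain ⟨k, hk, hk'⟩ := (Nat.dvd_prime_pow hp.out).mp
        (hE2 ▸ card_dvd_of_le (inf_le_left : E ⊓ T ≤ E))
      rw [hk']
      rcases k with _ | _ | _ | k
      · simpa using hp.out.one_le
      · simp
      · refine absurd ?_ hnotT
        exact (eq_of_le_of_card_ge (inf_le_left : E ⊓ T ≤ E) (by rw [hk', hE2])).ge.trans inf_le_right
      · omega
    obtain ⟨e, he, heT⟩ := SetLike.not_le_iff_exists.mp hnotT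
    set C' : Subgroup R := T ⊓ centralizer (E : Set R) with hC'
    have hcyc : IsCyclic C' := RankTwo.isCyclic_of_omega_small hp2 (S.2.to_subgroup C') hZp.le
      fun x hx hxp => hET ▸ ⟨hmemE x hxp hx.2, hx.1⟩
    have hC'C : C'.map R.subtype ≤ C := by
      rintro _ ⟨x, hx, rfl⟩
      exact ⟨x.2, mem_centralizer_iff.mpr fun a ha =>
        congrArg Subtype.val (mem_centralizer_iff.mp hx.2 ⟨a, hAS ha⟩ ha)⟩
    have hlift : ∀ x (hx : x ∈ C), (⟨x, hx.1⟩ : R) ∈ centralizer (E : Set R) := fun x hx =>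
      mem_centralizer_iff.mpr fun a ha => Subtype.ext (mem_centralizer_iff.mp hx.2 (a : G) ha)
    refine ⟨C'.map R.subtype, hC'C, isCyclic_of_surjective
      (R.subtype.subgroupMap C') (R.subtype.subgroupMap_surjective C'), ?_, ?_, ?_⟩
    · intro x hx
      have h1 := T.pow_index_mem (⟨x, hx.1⟩ : R)
      rw [hTi] at h1
      exact ⟨(⟨x, hx.1⟩ : R) ^ p, ⟨h1, pow_mem (hlift x hx) p⟩, rfl⟩
    · rintro _ ⟨z, hz, rfl⟩ hzp s hs
      have h1 : z ∈ Z := hET ▸ ⟨hmemE z (Subtype.ext (by simpa using hzp)) hz.2, hz.1⟩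
      exact congrArg Subtype.val ((mem_center_iff.mp (mem_centerOmega_iff.mp h1).1 ⟨s, hs⟩).symm)
    · have hle : C ≤ A ⊔ C'.map R.subtype := by
        intro x hx
        have htop : T ⊔ zpowers e = ⊤ := by
          rw [← index_eq_one]
          have h1 := Subgroup.index_dvd_of_le (le_sup_left : T ≤ T ⊔ zpowers e)
          rw [hTi] at h1
          refine (hp.out.eq_one_or_self_of_dvd _ h1).resolve_right fun h2 => heT ?_
          have h3 := relIndex_mul_index (le_sup_left : T ≤ T ⊔ zpowers e)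
          rw [h2, hTi] at h3
          have h4 : T.relIndex (T ⊔ zpowers e) = 1 := by
            have := hp.out.pos
            exact (Nat.eq_of_mul_eq_mul_right this (by rw [h3, one_mul]))
          exact relIndex_eq_one.mp h4 (mem_sup_right (mem_zpowers e))
        obtain ⟨t, ht, w, hw, htw⟩ := (Coprime.mem_sup_of_le_normalizer (N := T)
          le_normalizer_of_normal).mp (htop.ge (mem_top (⟨x, hx.1⟩ : R)))
        obtain ⟨i, rfl⟩ := mem_zpowers_iff.mp hw
        have heC : e ^ i ∈ centralizer (E : Set R) :=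
          mem_centralizer_iff.mpr fun a ha => Coprime.ea_comm hEe ha (zpow_mem he i)
        have htC : t ∈ centralizer (E : Set R) := by
          have h1 := mul_mem (htw ▸ hlift x hx) (inv_mem heC)
          rwa [mul_inv_cancel_right] at h1
        have h2 : x = (t : G) * ((e ^ i : R) : G) := (congrArg Subtype.val htw).symm
        rw [h2]
        exact mul_mem (mem_sup_right ⟨t, ⟨ht, htC⟩, rfl⟩) (mem_sup_left (zpow_mem he i))
      haveI := Fusion.isMulCommutative_sup_of_le_centralizer (A := A) (B := C'.map R.subtype) hA.1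
        (haveI := isCyclic_of_surjective (R.subtype.subgroupMap C')
          (R.subtype.subgroupMap_surjective C'); inferInstance)
        (le_centralizer_iff.mp (hC'C.trans inf_le_right))
      exact ⟨⟨fun a b => Subtype.ext (congrArg (fun z : ↥(A ⊔ C'.map R.subtype) => (z : G))
        (mul_comm' (⟨a, hle a.2⟩ : ↥(A ⊔ C'.map R.subtype)) ⟨b, hle b.2⟩))⟩⟩

theorem isMulCommutative_inf_centralizer (hG : IsMinSimpleOddOrder G) {S : Sylow p G}
    {A : Subgroup G} (hAS : A ≤ (S : Subgroup G)) (hA : IsElementaryAbelian p A)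
    (hA2 : Nat.card A = p ^ 2)
    (hmax : ∀ B : Subgroup G, IsElementaryAbelian p B → A ≤ B → B = A) :
    IsMulCommutative ↥((S : Subgroup G) ⊓ centralizer (A : Set G)) := by
  by_cases hne : IsMulCommutative (S : Subgroup G)
  · exact ⟨⟨fun a b => Subtype.ext (congrArg (fun z : (S : Subgroup G) => (z : G))
      (mul_comm' (⟨a, a.2.1⟩ : (S : Subgroup G)) ⟨b, b.2.1⟩))⟩⟩
  obtain ⟨-, -, -, -, -, h⟩ := centralizer_split hG hAS hA hA2 hmax hne
  exact h

end Cfsg.Agent.OddLocal
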