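import Cfsg.Agent.OddLocal.TauTwoTools
import Cfsg.Agent.OddLocal.SigmaNormalizer
import Cfsg.Agent.OddLocal.SylowCentralizer
import Cfsg.Agent.OddLocal.UniquenessFitting
import Cfsg.Agent.Fusion.PGroup

/-!
BG 12.8 (b): `τ₂`-primes with nonabelian Sylow subgroups in `G`.
-/

set_option autoImplicit false
set_option linter.unusedSectionVars false
set_option linter.style.haveILetI false

namespace Cfsg.Agent.OddLocal

open Subgroup Cfsg
open scoped commutatorElement

universe u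

variable {G : Type u} [Group G] [Finite G] {p : ℕ} [hp : Fact p.Prime] {M A E : Subgroup G}

omit hp [Finite G] in
theorem mem_centralizer_zpowers {x y : G} (h : Commute x y) :
    y ∈ centralizer (zpowers x : Set G) := mem_centralizer_iff.mpr fun w hw => by
  obtain ⟨i, rfl⟩ := mem_zpowers_iff.mp hw
  exact (h.zpow_left i).eq

variable (hG : IsMinSimpleOddOrder G) (hM : IsCoatom M) (h : IsTauPair p M A)
include hG hM h

omit hp in
theorem IsTauPair.line_eq [Fact p.Prime] {x : G} (hx : x ∈ A) (hx1 : x ≠ 1) {X : Subgroup G}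
    (hX : Nat.card X = p) (hxX : x ∈ X) : zpowers x = X :=
  eq_of_le_of_card_ge (zpowers_le.mpr hxX)
    (by rw [Nat.card_zpowers, orderOf_eq_prime (h.elem.2 x hx) hx1, hX])

/-- Every subgroup of order `p` of a complement through `A` lies in `A`. -/
theorem IsTauPair.mem_of_mem_compl (hE : IsComplIn E (sigmaCore M) M) (hAE : A ≤ E) {x : G}
    (hxE : x ∈ E) (hxp : x ^ p = 1) : x ∈ A := by
  have hn := (h.isExceptional hG hM).le_normalizer_of_compl hG hM hE hAE
  have hxg : IsPGroup p (zpowers x) := by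
    obtain ⟨i, -, hi⟩ := (Nat.dvd_prime_pow hp.out).mp
      (orderOf_dvd_of_pow_eq_one (show x ^ p ^ 1 = 1 by rwa [pow_one]))
    exact IsPGroup.of_card (n := i) (by rw [Nat.card_zpowers, hi])
  have hK : IsPGroup p ↥(zpowers x ⊔ A) :=
    hxg.to_sup_of_normal_right' (Coprime.ea_isPGroup h.elem) (zpowers_le.mpr (hn hxE))
  have hc := comm_of_not_sigma hG hM h.not_sigma hK (sup_le (zpowers_le.mpr (hE.1 hxE)) h.le)
  exact h.mem_of_pow hG hM hxp
    (le_centralizer_of_isMulCommutative le_rfl le_sup_right hc (mem_sup_left (mem_zpowers x)))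

section Nonabelian

variable (hab : ∀ S : Sylow p G, ¬ IsMulCommutative (S : Subgroup G))
include hab

theorem IsTauPair.sylow_not_le (S : Sylow p G) : ¬ (S : Subgroup G) ≤ M := fun hle =>
  hab S (comm_of_not_sigma hG hM h.not_sigma S.2 hle)

/-- A line central in a Sylow subgroup acts without fixed points and has centraliser outside `M`. -/
theorem IsTauPair.central_line {S : Sylow p G} {z : G} (hz : z ∈ A) (hz1 : z ≠ 1)
    (hzc : ∀ s ∈ (S : Subgroup G), Commute z s) :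
    sigmaCore M ⊓ centralizer (zpowers z : Set G) = ⊥ ∧
      ¬ centralizer (zpowers z : Set G) ≤ M := by
  have hnot : ¬ centralizer (zpowers z : Set G) ≤ M := fun hle =>
    h.sylow_not_le hG hM hab S fun s hs => hle (mem_centralizer_zpowers (hzc s hs))
  refine ⟨?_, hnot⟩
  by_contra hne
  exact hnot (h.unique_centralizer hG hM (zpowers_le.mpr hz) hne (by rwa [Ne, zpowers_eq_bot])).1

/-- The lines of `A` off the centre of a Sylow subgroup are conjugate under `N_S(A)`. -/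
theorem IsTauPair.exists_transitive : ∃ (S : Sylow p G), A ≤ (S : Subgroup G) ∧
    ∀ u ∈ A, ∀ v ∈ A, (¬ ∀ s ∈ (S : Subgroup G), Commute u s) →
      (¬ ∀ s ∈ (S : Subgroup G), Commute v s) →
      ∃ k ∈ (S : Subgroup G) ⊓ normalizer (A : Set G),
        (zpowers u).map (MulAut.conj k).toMonoidHom = zpowers v := by
  obtain ⟨S, hAS⟩ := (Coprime.ea_isPGroup h.elem).exists_le_sylow
  refine ⟨S, hAS, ?_⟩
  set P := (S : Subgroup G) ⊓ centralizer (A : Set G) with hP
  have hPM : P ≤ M := inf_le_right.trans (h.cent_le hG hM)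
  have hAP : A ≤ P := le_inf hAS (Coprime.ea_le_centralizer h.elem)
  have hPS : P < (S : Subgroup G) := lt_of_le_of_ne inf_le_left fun e =>
    h.sylow_not_le hG hM hab S (e ▸ hPM)
  have hlt := card_lt_card_inf_normalizer S.2 hPS
  obtain ⟨g, hg, hgP⟩ := SetLike.not_le_iff_exists.mp
    (fun hle : normalizer (P : Set G) ⊓ (S : Subgroup G) ≤ P =>
      absurd (card_le_of_le hle) (not_le.mpr hlt))
  have hgA : g ∈ normalizer (A : Set G) := mem_normalizer_of_map_conj (eq_of_le_of_card_ge (by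
    rintro _ ⟨a, ha, rfl⟩
    have h1 : g * a * g⁻¹ ∈ P := (mem_normalizer_iff.mp hg.1 a).mp (hAP ha)
    exact h.mem_of_pow hG hM (by rw [← map_pow, h.elem.2 a ha, map_one]) h1.2)
    (card_map_conj _ _).ge)
  set R := (S : Subgroup G) ⊓ normalizer (A : Set G) with hR
  have hgR : g ∈ R := ⟨hg.2, hgA⟩
  have hRp : IsPGroup p R := S.2.to_le inf_le_left
  have hAR : A ≤ R := le_inf hAS Subgroup.le_normalizer
  haveI : (A.subgroupOf R).Normal := normal_subgroupOf_of_le_normalizer inf_le_right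
  have hAe' : IsElementaryAbelian p (A.subgroupOf R) :=
    ⟨⟨⟨fun a b => Subtype.ext (Subtype.ext (Coprime.ea_comm h.elem a.2 b.2))⟩⟩,
      fun a ha => Subtype.ext (by simpa using h.elem.2 _ ha)⟩
  obtain ⟨Z, hZA, hZc, hZp, e, he, hEeq, hcomm⟩ :=
    exists_center_line hRp hAe' ((Coprime.card_subgroupOf hAR).trans h.card)
  set Z₀ := Z.map R.subtype with hZ₀
  have hZ₀c : ∀ z ∈ Z₀, Commute g z := by
    rintro _ ⟨z, hz, rfl⟩
    exact congrArg Subtype.val (mem_center_iff.mp (hZc hz) ⟨g, hgR⟩)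
  have hZ₀p : Nat.card Z₀ = p := by
    rw [hZ₀, card_map_of_injective R.subtype_injective, hZp]
  have hZ₀A : Z₀ ≤ A := by
    rintro _ ⟨z, hz, rfl⟩
    exact hZA hz
  -- fixed points of `g` in `A`
  have hfix : ∀ u ∈ A, Commute g u → u ∈ Z₀ := by
    intro u hu hgu
    by_contra huZ
    refine hgP ⟨hg.2, ?_⟩
    have hK : A ≤ centralizer ({g} : Set G) := by
      have hle : Z₀ ⊔ zpowers u ≤ centralizer ({g} : Set G) :=
        sup_le (fun z hz => mem_centralizer_singleton_iff.mpr (hZ₀c z hz).eq.symm)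
          (zpowers_le.mpr (mem_centralizer_singleton_iff.mpr hgu.eq.symm))
      refine le_trans (eq_of_le_of_card_ge (sup_le hZ₀A (zpowers_le.mpr hu)) ?_).ge hle
      rw [card_sup_zpowers_of_not_mem (h.elem.2 u hu) (mem_centralizer_iff.mpr fun z hz =>
        Coprime.ea_comm h.elem (hZ₀A hz) hu) huZ, hZ₀p, h.card, pow_two]
    exact mem_centralizer_iff.mpr fun a ha => mem_centralizer_singleton_iff.mp (hK ha)
  intro u hu v hv hus hvs
  have hcent : ∀ u ∈ Z₀, ∀ s ∈ (S : Subgroup G), Commute u s := by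
    intro w hw s hs
    have hS1 : (S : Subgroup G) ≠ ⊥ := ne_bot_of_le_ne_bot
      (Coprime.ea_ne_bot two_ne_zero h.card.ge) hAS
    obtain ⟨z, hz, hz1⟩ := exists_mem_omegaCenter (Q := (S : Subgroup G)) S.2 hS1
    obtain ⟨hzS, hzp, hzc⟩ := mem_omegaCenter_iff.mp hz
    have hzA : z ∈ A := h.mem_of_pow hG hM hzp
      (mem_centralizer_iff.mpr fun a ha => (hzc a (hAS ha)).symm)
    have hzZ : z ∈ Z₀ := hfix z hzA (hzc g hg.2).symm
    have heq : zpowers z = Z₀ := h.line_eq hG hM hzA hz1 hZ₀p hzZ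
    rw [← heq] at hw
    obtain ⟨i, rfl⟩ := mem_zpowers_iff.mp hw
    exact (hzc s hs).zpow_left i
  have huZ : u ∉ Z₀ := fun hu' => hus (hcent u hu')
  have hvZ : v ∉ Z₀ := fun hv' => hvs (hcent v hv')
  have hc : ⁅g, u⁆ ∈ Z₀ := by
    have hu' : (⟨u, hAR hu⟩ : R) ∈ A.subgroupOf R := hu
    rw [hEeq] at hu'
    obtain ⟨z, hz, w, hw, hzw⟩ := (Coprime.mem_sup_of_le_normalizer (N := Z) (A := zpowers e)
      (by
        rw [zpowers_le]
        exact mem_normalizer_of_map_conj (eq_of_le_of_card_ge (by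
          rintro _ ⟨y, hy, rfl⟩
          change e * y * e⁻¹ ∈ Z
          rw [mem_center_iff.mp (hZc hy) e, mul_inv_cancel_right]
          exact hy) (card_map_conj _ _).ge))).mp hu'
    obtain ⟨i, rfl⟩ := mem_zpowers_iff.mp hw
    have hge := hcomm ⟨g, hgR⟩
    have hconj : (⟨g, hgR⟩ : R) * e * (⟨g, hgR⟩ : R)⁻¹ = ⁅(⟨g, hgR⟩ : R), e⁆ * e := by
      rw [commutatorElement_def, inv_mul_cancel_right]
    have hce : Commute ⁅(⟨g, hgR⟩ : R), e⁆ e := (mem_center_iff.mp (hZc hge) e).symm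
    refine ⟨⁅(⟨g, hgR⟩ : R), e⁆ ^ i, Z.zpow_mem hge i, ?_⟩
    have hgz : (⟨g, hgR⟩ : R) * z = z * (⟨g, hgR⟩ : R) := mem_center_iff.mp (hZc hz) _
    have hze : Commute z (⁅(⟨g, hgR⟩ : R), e⁆ ^ i) := mem_center_iff.mp (hZc (Z.zpow_mem hge i)) z
    have h1 : ⁅(⟨g, hgR⟩ : R), (⟨u, hAR hu⟩ : R)⁆ = ⁅(⟨g, hgR⟩ : R), e⁆ ^ i := by
      rw [← hzw, commutatorElement_def (⟨g, hgR⟩ : R) (z * e ^ i), mul_inv_rev]
      calc (⟨g, hgR⟩ : R) * (z * e ^ i) * (⟨g, hgR⟩ : R)⁻¹ * ((e ^ i)⁻¹ * z⁻¹)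
          = z * ((⟨g, hgR⟩ : R) * e ^ i * (⟨g, hgR⟩ : R)⁻¹) * (e ^ i)⁻¹ * z⁻¹ := by
            rw [← mul_assoc (⟨g, hgR⟩ : R), hgz]; simp [mul_assoc]
        _ = z * (⁅(⟨g, hgR⟩ : R), e⁆ ^ i * e ^ i) * (e ^ i)⁻¹ * z⁻¹ := by
            rw [← conj_zpow, hconj, hce.mul_zpow]
        _ = ⁅(⟨g, hgR⟩ : R), e⁆ ^ i := by
            rw [mul_assoc z, mul_inv_cancel_right, hze.eq, mul_inv_cancel_right]
    rw [← h1]
    simp [commutatorElement_def]
  set c := ⁅g, u⁆ with hcdef
  have hcu : Commute c u := Coprime.ea_comm h.elem (hZ₀A hc) hu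
  have hgc : Commute g c := hZ₀c c hc
  have hc1 : c ≠ 1 := fun e1 => huZ (hfix u hu (commutatorElement_eq_one_iff_mul_comm.mp e1))
  have hcz : zpowers c = Z₀ := h.line_eq hG hM (hZ₀A hc) hc1 hZ₀p hc
  have hsup : Z₀ ⊔ zpowers u = A := by
    refine eq_of_le_of_card_ge (sup_le hZ₀A (zpowers_le.mpr hu)) ?_
    rw [card_sup_zpowers_of_not_mem (h.elem.2 u hu) (mem_centralizer_iff.mpr fun z hz =>
      Coprime.ea_comm h.elem (hZ₀A hz) hu) huZ, hZ₀p, h.card, pow_two]
  have hv' : v ∈ Z₀ ⊔ zpowers u := hsup.symm ▸ hv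
  obtain ⟨z, hz, w, hw, hzw⟩ := (Coprime.mem_sup_of_le_normalizer (N := Z₀) (A := zpowers u)
    (zpowers_le.mpr (mem_normalizer_of_map_conj (eq_of_le_of_card_ge (by
      rintro _ ⟨y, hy, rfl⟩
      change u * y * u⁻¹ ∈ Z₀
      rw [Coprime.ea_comm h.elem hu (hZ₀A hy), mul_inv_cancel_right]
      exact hy) (card_map_conj _ _).ge)))).mp hv'
  obtain ⟨i, rfl⟩ := mem_zpowers_iff.mp hw
  have hw0 : u ^ i ≠ 1 := fun e1 => hvZ (by rw [← hzw, e1, mul_one]; exact hz)
  have hwu : zpowers (u ^ i) = zpowers u := eq_of_le_of_card_ge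
    (zpowers_le.mpr (zpow_mem (mem_zpowers u) i)) (by
      rw [Nat.card_zpowers, Nat.card_zpowers,
        orderOf_eq_prime (h.elem.2 _ (A.zpow_mem hu i)) hw0,
        orderOf_eq_prime (h.elem.2 u hu) fun e1 => huZ (e1 ▸ one_mem _)])
  have hconj : ∀ j : ℕ, g ^ j * u * (g ^ j)⁻¹ = c ^ j * u := by
    intro j
    induction j with
    | zero => simp
    | succ j ih =>
      calc g ^ (j + 1) * u * (g ^ (j + 1))⁻¹ = g * (g ^ j * u * (g ^ j)⁻¹) * g⁻¹ := by
            rw [pow_succ']; group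
        _ = g * c ^ j * g⁻¹ * (g * u * g⁻¹) := by rw [ih]; group
        _ = c ^ j * (c * u) := by
            rw [(hgc.pow_right j).eq, hcdef, commutatorElement_def]; group
        _ = c ^ (j + 1) * u := by rw [pow_succ, mul_assoc]
  -- find the power of `c` whose `i`-th power is `z`
  have hu0 : u ^ i ∈ zpowers u := zpow_mem (mem_zpowers u) i
  obtain ⟨n, hn⟩ : ∃ n : ℤ, (u ^ i) ^ n = u := mem_zpowers_iff.mp (hwu.symm ▸ mem_zpowers u)
  obtain ⟨j, hj⟩ : ∃ j : ℕ, c ^ j = z ^ n :=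
    mem_powers_iff_mem_zpowers.mpr (hcz.symm ▸ Z₀.zpow_mem hz n)
  refine ⟨g ^ j, R.pow_mem hgR j, ?_⟩
  rw [MonoidHom.map_zpowers]
  change zpowers (g ^ j * u * (g ^ j)⁻¹) = zpowers v
  have hvu : v ^ n = c ^ j * u := by
    rw [← hzw, (show Commute z (u ^ i) from
      (Coprime.ea_comm h.elem (hZ₀A hz) (A.zpow_mem hu i))).mul_zpow, hn, hj]
  refine eq_of_le_of_card_ge (zpowers_le.mpr ?_) ?_
  · rw [hconj, ← hvu]
    exact zpow_mem (mem_zpowers v) n
  · rw [Nat.card_zpowers, Nat.card_zpowers,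
      orderOf_eq_prime (h.elem.2 v hv) fun e1 => hvZ (e1 ▸ one_mem _),
      orderOf_eq_prime (h.elem.2 _ ((mem_normalizer_iff.mp (pow_mem hgA j) u).mp hu))
        fun e1 => huZ (by
          rw [show u = 1 from conj_eq_one_iff.mp e1]; exact one_mem _)]

/-- At most one line of `A` has fixed points on `M_σ`. -/
theorem IsTauPair.nonfpf_unique {u v : G} (hu : u ∈ A) (hv : v ∈ A) (hu1 : u ≠ 1) (hv1 : v ≠ 1)
    (hfu : sigmaCore M ⊓ centralizer (zpowers u : Set G) ≠ ⊥)
    (hfv : sigmaCore M ⊓ centralizer (zpowers v : Set G) ≠ ⊥) : zpowers u = zpowers v := by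
  obtain ⟨S, hAS, htr⟩ := h.exists_transitive hG hM hab
  obtain ⟨k, hk, hkuv⟩ := htr u hu v hv
    (fun hc => hfu (h.central_line hG hM hab hu hu1 hc).1)
    (fun hc => hfv (h.central_line hG hM hab hv hv1 hc).1)
  by_cases hkM : k ∈ M
  · have hkg : IsPGroup p (zpowers k) := S.2.to_le (zpowers_le.mpr hk.1)
    have hK : IsPGroup p ↥(zpowers k ⊔ A) := hkg.to_sup_of_normal_right'
      (Coprime.ea_isPGroup h.elem) (zpowers_le.mpr hk.2)
    have hc := comm_of_not_sigma hG hM h.not_sigma hK (sup_le (zpowers_le.mpr hkM) h.le)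
    have hku : k * u = u * k := congrArg (fun z : ↥(zpowers k ⊔ A) => (z : G))
      (@mul_comm' _ _ hc ⟨k, mem_sup_left (mem_zpowers k)⟩ ⟨u, mem_sup_right hu⟩)
    rw [← hkuv, MonoidHom.map_zpowers]
    congr 1
    change u = k * u * k⁻¹
    rw [hku, mul_inv_cancel_right]
  · exfalso
    obtain ⟨hCu, -⟩ := h.unique_centralizer hG hM (zpowers_le.mpr hu) hfu
      (by rwa [Ne, zpowers_eq_bot])
    obtain ⟨-, hCv⟩ := h.unique_centralizer hG hM (zpowers_le.mpr hv) hfv
      (by rwa [Ne, zpowers_eq_bot])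
    refine hkM (mem_of_map_conj_eq hG hM (hCv _ (isCoatom_map_conj hM k) ?_))
    rw [← hkuv]
    exact centralizer_map_conj_le hCu k

/-- BG 12.8 (b): the line `A ∩ C(M_σ)`. -/
theorem IsTauPair.nonabelian_structure :
    Nat.card ↥(A ⊓ centralizer (sigmaCore M : Set G)) = p ∧
      ∀ x ∈ A, x ≠ 1 → zpowers x ≠ A ⊓ centralizer (sigmaCore M : Set G) →
        sigmaCore M ⊓ centralizer (zpowers x : Set G) = ⊥ ∧
          ¬ centralizer (zpowers x : Set G) ≤ M := by
  set K := sigmaCore M with hKdef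
  set A₀ := A ⊓ centralizer (K : Set G) with hA₀
  obtain ⟨a, ha, ha1, hfa⟩ := h.exists_fixed hG hM le_rfl (sigmaCore_ne_bot hG hM)
    (h.le.trans (le_normalizer_sigmaCore M))
  have hfa' : K ⊓ centralizer (zpowers a : Set G) ≠ ⊥ := by
    rwa [zpowers_eq_closure, centralizer_closure]
  have hKa : K ≤ centralizer {a} := by
    haveI : IsMulCommutative A := h.elem.1
    refine le_trans (le_of_eq (Coprime.iSup_centralizer_eq (A := A) (h.not_isCyclic)
      (h.le.trans (le_normalizer_sigmaCore M)) (h.coprime_sigma hG hM le_rfl)).symm)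
      (iSup₂_le fun b hb => ?_)
    by_cases hfb : K ⊓ centralizer {b} = ⊥
    · rw [hfb]; exact bot_le
    have heq := h.nonfpf_unique hG hM hab ha hb.1 ha1 hb.2 hfa'
      (by rwa [zpowers_eq_closure, centralizer_closure])
    refine inf_le_right.trans (le_of_eq ?_)
    rw [← centralizer_closure {b}, ← zpowers_eq_closure, ← heq, zpowers_eq_closure,
      centralizer_closure]
  have haA₀ : a ∈ A₀ := ⟨ha, mem_centralizer_iff.mpr fun y hy =>
    mem_centralizer_singleton_iff.mp (hKa hy)⟩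
  have hne : A₀ ≠ A := fun e => sigmaCore_ne_bot hG hM (by
    rw [← le_bot_iff, ← h.fixed_eq_bot hG hM]
    exact le_inf le_rfl (le_centralizer_iff.mp (e ▸ (inf_le_right : A₀ ≤ _))))
  have hle : zpowers a ≤ A₀ := zpowers_le.mpr haA₀
  have hcard : Nat.card A₀ = p := by
    obtain ⟨i, hi, hic⟩ := (Nat.dvd_prime_pow hp.out).mp
      (h.card ▸ card_dvd_of_le (inf_le_left : A₀ ≤ A))
    interval_cases i
    · have h1 : A₀ = ⊥ := Subgroup.card_eq_one.mp (by rw [hic, pow_zero])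
      rw [h1, mem_bot] at haA₀
      exact absurd haA₀ ha1
    · rw [hic, pow_one]
    · exact absurd (eq_of_le_of_card_ge inf_le_left (by rw [hic, h.card])) hne
  refine ⟨hcard, fun x hx hx1 hxne => ?_⟩
  have hfx : K ⊓ centralizer (zpowers x : Set G) = ⊥ := by
    by_contra hne'
    refine hxne ?_
    rw [← h.nonfpf_unique hG hM hab ha hx ha1 hx1 hfa' hne']
    exact h.line_eq hG hM ha ha1 hcard haA₀
  refine ⟨hfx, fun hCx => ?_⟩
  obtain ⟨S, hAS, htr⟩ := h.exists_transitive hG hM hab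
  by_cases hcx : ∀ s ∈ (S : Subgroup G), Commute x s
  · exact (h.central_line hG hM hab hx hx1 hcx).2 hCx
  obtain ⟨k, hk, hkax⟩ := htr a ha x hx (fun hc => hfa' (h.central_line hG hM hab ha ha1 hc).1) hcx
  have hkM : k ∉ M := by
    intro hkM
    have hK : IsPGroup p ↥(zpowers k ⊔ A) := (S.2.to_le (zpowers_le.mpr hk.1) :
      IsPGroup p (zpowers k)).to_sup_of_normal_right'
      (Coprime.ea_isPGroup h.elem) (zpowers_le.mpr hk.2)
    have hc := comm_of_not_sigma hG hM h.not_sigma hK (sup_le (zpowers_le.mpr hkM) h.le)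
    have hka : k * a = a * k := congrArg (fun z : ↥(zpowers k ⊔ A) => (z : G))
      (@mul_comm' _ _ hc ⟨k, mem_sup_left (mem_zpowers k)⟩ ⟨a, mem_sup_right ha⟩)
    refine hxne ?_
    rw [← hkax, MonoidHom.map_zpowers]
    refine Eq.trans ?_ (h.line_eq hG hM ha ha1 hcard haA₀)
    congr 1
    change k * a * k⁻¹ = a
    rw [hka, mul_inv_cancel_right]
  set N := M.map (MulAut.conj k).toMonoidHom with hN
  have hNne : M ≠ N := fun e => hkM (mem_of_map_conj_eq hG hM e.symm)
  have hAN : A ≤ N := by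
    rw [← map_conj_eq_self_of_mem hk.2]
    exact map_mono h.le
  have h' : IsTauPair p N A := ⟨hAN, h.elem, h.card, by rw [hN, sigma_map_conj]; exact h.not_sigma⟩
  have hz := h'.inf_other_eq_bot hG (isCoatom_map_conj hM k) hM hNne h.le
  refine sigmaCore_ne_bot hG (isCoatom_map_conj hM k) (le_bot_iff.mp (hz ▸ le_inf le_rfl ?_))
  refine le_trans ?_ hCx
  rw [sigmaCore_map_conj hG hM, ← hkax]
  rintro _ ⟨y, hy, rfl⟩
  refine mem_centralizer_iff.mpr ?_
  rintro _ ⟨w, hw, rfl⟩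
  rw [← map_mul, ← map_mul]
  obtain ⟨i, rfl⟩ := mem_zpowers_iff.mp hw
  exact congrArg _ (((show Commute a y from
    (mem_centralizer_singleton_iff.mp (hKa hy)).symm).zpow_left i).eq)

/-- BG 12.8 (b): `F(M) = M_σ × (A ∩ C(M_σ))`. -/
theorem IsTauPair.fittingOf_eq (hE : IsComplIn E (sigmaCore M) M) (hAE : A ≤ E)
    (htau : ∀ q ∈ tau2 M, q = p) :
    fittingOf M = sigmaCore M ⊔ (A ⊓ centralizer (sigmaCore M : Set G)) := by
  set K := sigmaCore M with hKdef
  set A₀ := A ⊓ centralizer (K : Set G) with hA₀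
  obtain ⟨hcard, hline⟩ := h.nonabelian_structure hG hM hab
  have hn := (h.isExceptional hG hM).le_normalizer_of_compl hG hM hE hAE
  have hA₀K : K ≤ normalizer (A₀ : Set G) :=
    (le_centralizer_iff.mp (inf_le_right : A₀ ≤ centralizer (K : Set G))).trans
      (centralizer_le_normalizer _)
  have hA₀n : M ≤ normalizer (A₀ : Set G) := by
    intro m hm
    obtain ⟨e, he, k, hk, rfl⟩ := hE.2.2.2 m hm
    exact mul_mem (Coprime.le_normalizer_inf hn (Coprime.le_normalizer_centralizer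
      (hE.1.trans (le_normalizer_sigmaCore M))) he) (hA₀K hk)
  have hA₀c : IsMulCommutative A₀ := isMulCommutative_of_le inf_le_left h.elem.1
  haveI hA₀nil : Group.IsNilpotent A₀ := by
    letI : CommGroup A₀ := { mul_comm := fun a b => @mul_comm' _ _ hA₀c a b }
    exact CommGroup.isNilpotent
  have hFn := isNilpotent_fittingOf M
  have hFM : fittingOf M ≤ M := fittingOf_le M
  refine le_antisymm ?_ (sup_le (le_fittingOf_of_normal (sigmaCore_le M) (le_normalizer_sigmaCore M)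
    ((h.isExceptional hG hM).sigmaCore_nilpotent hG hM)) (le_fittingOf_of_normal
    (inf_le_left.trans h.le) hA₀n hA₀nil))
  refine Coprime.le_of_forall_sylow_le fun s hs => ?_
  haveI := Fact.mk hs
  obtain ⟨Y₀⟩ : Nonempty (Sylow s (fittingOf M)) := inferInstance
  refine ⟨Y₀, ?_⟩
  set Y := (Y₀ : Subgroup (fittingOf M)).map (fittingOf M).subtype with hY
  have hYs : IsPGroup s Y := Y₀.2.map _
  have hYM : Y ≤ M := (map_subtype_le _).trans hFM
  by_cases hsσ : s ∈ sigma M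
  · exact (le_sigmaCore_of_isPGroup hG hM hYM hYs hsσ).trans le_sup_left
  have hKF : K ≤ fittingOf M := le_fittingOf_of_normal (sigmaCore_le M) (le_normalizer_sigmaCore M)
    ((h.isExceptional hG hM).sigmaCore_nilpotent hG hM)
  have hKY : K ≤ centralizer (Y : Set G) := fun k hk => mem_centralizer_iff.mpr fun y hy => by
    obtain ⟨i, hi⟩ := hYs.exists_orderOf_eq_pow ⟨y, hy⟩
    rw [← orderOf_coe] at hi
    change orderOf y = s ^ i at hi
    refine (commute_of_mem hFn (hKF hk) ((map_subtype_le _) hy) ?_).eq.symm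
    rw [hi]
    refine (Nat.Coprime.pow_left i (hs.coprime_iff_not_dvd.mpr fun hd => hsσ ?_)).symm
    exact piNum_sigmaCore M s hs (hd.trans (Subgroup.orderOf_dvd_natCard K hk))
  have hYn : M ≤ normalizer (Y : Set G) := by
    haveI : (Y₀ : Subgroup (fittingOf M)).Normal :=
      (Group.isNilpotent_of_finite_tfae.out 0 3 rfl rfl).mp hFn s ‹_› Y₀
    haveI := Y₀.characteristic_of_normal inferInstance
    exact LocalStructure.le_normalizer_map_characteristic (le_normalizer_fittingOf M) _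
  have hYc := isCyclic_of_centralizes hG hM hYs hYM hYn hKY hsσ
  by_cases hY1 : Y = ⊥
  · rw [hY1]; exact bot_le
  have hsY : s ∣ Nat.card Y := by
    obtain ⟨r, hr, hrd⟩ := exists_prime_dvd_of_ne_bot hY1
    obtain ⟨j, hj⟩ := IsPGroup.iff_card.mp hYs
    rwa [← (Nat.prime_dvd_prime_iff_eq hr hs).mp (hr.dvd_of_dvd_pow (hj ▸ hrd))]
  obtain ⟨y₀, hy₀⟩ := exists_prime_orderOf_dvd_card' s hsY
  have hsp : s = p := by
    set L := zpowers (y₀ : G) with hL
    have hLc : Nat.card L = s := by rw [hL, Nat.card_zpowers, orderOf_coe, hy₀]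
    have hNL : normalizer (L : Set G) ≤ M := by
      have h1 : M ≤ normalizer (L : Set G) := hYn.trans
        (normalizer_le_normalizer_of_isCyclic hYc (zpowers_le.mpr y₀.2))
      rcases hM.le_iff.mp h1 with e | e
      · exact absurd e (ne_top_of_normal_ne_bot hG (by
          rw [hL, Ne, zpowers_eq_bot]; intro e1
          rw [← orderOf_eq_one_iff, orderOf_coe, hy₀] at e1; exact hs.ne_one e1)
          (ne_top_of_not_dvd hM (zpowers_le.mpr (hYM y₀.2))))
      · exact e.le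
    obtain ⟨⟨hr2, hr1⟩, -⟩ := rank_two_of_normalizer_le hG hM hsσ hLc hNL
    exact htau s ⟨hs, hsσ, hr2, hr1⟩
  subst hsp
  refine le_trans ?_ le_sup_right
  have hYA : IsPGroup s ↥(Y ⊔ A) :=
    hYs.to_sup_of_normal_left' (Coprime.ea_isPGroup h.elem) (h.le.trans hYn)
  have hc := comm_of_not_sigma hG hM h.not_sigma hYA (sup_le hYM h.le)
  have hYcA : Y ≤ centralizer (A : Set G) :=
    le_centralizer_of_isMulCommutative le_sup_left le_sup_right hc
  obtain ⟨S, hS⟩ := hYA.exists_le_sylow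
  obtain ⟨C₁, hC₁, hC₁c, hpow, hcen, -⟩ := centralizer_split hG (le_sup_right.trans hS) h.elem h.card
    (fun B hB hAB => h.maximal hG hM hB hAB) (hab S)
  intro y hy
  refine ⟨h.mem_of_pow hG hM ?_ (hYcA hy), le_centralizer_iff.mp hKY hy⟩
  by_contra hyp
  obtain ⟨i, hi⟩ := hYs.exists_orderOf_eq_pow ⟨y, hy⟩
  rw [← orderOf_coe] at hi
  change orderOf y = s ^ i at hi
  have hd : s ∣ orderOf (y ^ s) := by
    obtain ⟨j, -, hj⟩ := (Nat.dvd_prime_pow hs).mp (hi ▸ orderOf_pow_dvd s : orderOf (y ^ s) ∣ s ^ i)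
    rcases j with _ | j
    · exact absurd (orderOf_eq_one_iff.mp (by rw [hj, pow_zero])) hyp
    · rw [hj]; exact dvd_pow_self s j.succ_ne_zero
  set z := (y ^ s) ^ (orderOf (y ^ s) / s) with hz
  have hzo : orderOf z = s := orderOf_pow_orderOf_div (orderOf_pos _).ne' hd
  have hzp : z ^ s = 1 := by rw [← hzo, pow_orderOf_eq_one]
  have hzY : z ∈ Y := Y.pow_mem (Y.pow_mem hy s) _
  have hz1 : z ≠ 1 := fun e => hs.ne_one (by rw [← hzo, e, orderOf_one])
  have hzC : z ∈ C₁ := C₁.pow_mem (hpow y ⟨hS (mem_sup_left hy), hYcA hy⟩) _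
  have hzA : z ∈ A := h.mem_of_pow hG hM hzp (hYcA hzY)
  refine sigmaCore_ne_bot hG hM (le_bot_iff.mp ?_)
  rw [← (h.central_line hG hM hab hzA hz1 (hcen z hzC hzp)).1]
  refine le_inf le_rfl fun k hk => ?_
  rw [zpowers_eq_closure, centralizer_closure, mem_centralizer_singleton_iff]
  exact (mem_centralizer_iff.mp (hKY hk) z hzY).symm

end Nonabelian

end Cfsg.Agent.OddLocal
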