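import Cfsg.Agent.OddLocal.TauTwo

/-!
BG Theorem 12.5 and Corollary 12.6: the primes of `τ₂(M)`.
-/

set_option autoImplicit false
set_option linter.unusedSectionVars false
set_option linter.style.haveILetI false

namespace Cfsg.Agent.OddLocal

open Subgroup Cfsg
open scoped commutatorElement

universe u

variable {G : Type u} [Group G] [Finite G] {p : ℕ} [hp : Fact p.Prime] {M A : Subgroup G}

variable (hG : IsMinSimpleOddOrder G) (hM : IsCoatom M)
include hG hM

namespace IsTauPair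

variable (h : IsTauPair p M A)
include h

theorem cent_le : centralizer (A : Set G) ≤ M := centralizer_plane_le hG hM h.le h.elem h.card

theorem isExceptional : IsExceptional p M A := (h.exceptional hG hM).1

theorem fixed_eq_bot : sigmaCore M ⊓ centralizer (A : Set G) = ⊥ := by
  obtain ⟨P, hAP⟩ := exists_sylow_ge (Coprime.ea_isPGroup h.elem) h.le
  exact ((h.isExceptional hG hM).structure_of_sylow hG hM P hAP).2.2.1

theorem exists_fpf_line : ∃ A₁ : Subgroup G, A₁ ≤ A ∧ Nat.card A₁ = p ∧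
    sigmaCore M ⊓ centralizer (A₁ : Set G) = ⊥ := by
  obtain ⟨P, hAP⟩ := exists_sylow_ge (Coprime.ea_isPGroup h.elem) h.le
  obtain ⟨-, -, -, a, ha, -, -, ha1, -, hf, -⟩ :=
    (h.isExceptional hG hM).structure_of_sylow hG hM P hAP
  refine ⟨zpowers a, zpowers_le.mpr ha,
    by rw [Nat.card_zpowers, orderOf_eq_prime (h.elem.2 a ha) ha1], ?_⟩
  rwa [zpowers_eq_closure, centralizer_closure]

/-- BG 12.5 (e). -/
theorem inf_other_eq_bot {H : Subgroup G} (hH : IsCoatom H) (hne : H ≠ M) (hAH : A ≤ H) :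
    sigmaCore M ⊓ H = ⊥ := by
  by_cases hconj : ∃ g : G, H = M.map (MulAut.conj g).toMonoidHom
  · obtain ⟨g, hg⟩ := hconj
    have hgM : g ∉ M := fun hm => hne (by rw [hg, map_conj_eq_self_of_mem (Subgroup.le_normalizer hm)])
    rw [hg]
    exact h.sigmaCore_inf_conj hG hM (h.cent_le hG hM) hgM (hg ▸ hAH)
  push Not at hconj
  set D := sigmaCore M ⊓ H with hD
  by_contra hD1
  obtain ⟨q, hq, hqd⟩ := exists_prime_dvd_of_ne_bot hD1
  haveI := Fact.mk hq
  have hqσ : q ∈ sigma M := piNum_sigmaCore M q hq (hqd.trans (card_dvd_of_le inf_le_left))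
  have hqp : q ≠ p := fun e => h.not_sigma (e ▸ hqσ)
  have hAp := Coprime.ea_isPGroup h.elem
  have hAD : A ≤ normalizer (D : Set G) := Coprime.le_normalizer_inf
    (h.le.trans (le_normalizer_sigmaCore M)) (hAH.trans Subgroup.le_normalizer)
  obtain ⟨R, hR⟩ := Coprime.exists_invariant_sylow hAD (h.coprime_sigma hG hM inf_le_left)
    (Or.inl (Coprime.ea_isSolvable h.elem)) q
  set R' := (R : Subgroup D).map D.subtype with hR'
  have hR1 : R' ≠ ⊥ := by
    rw [hR', ne_eq, map_eq_bot_iff_of_injective _ D.subtype_injective]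
    exact R.ne_bot_of_dvd_card hqd
  have hR'p : IsPGroup q R' := R.2.map _
  have hR'K : R' ≤ sigmaCore M := (map_subtype_le _).trans inf_le_left
  have hR'H : R' ≤ H := (map_subtype_le _).trans inf_le_right
  have hnot : ¬ A ≤ centralizer (R' : Set G) := fun hc =>
    hR1 (le_bot_iff.mp ((h.fixed_eq_bot hG hM) ▸ le_inf hR'K (le_centralizer_iff.mp hc)))
  by_cases hpH : p ∈ sigma H
  · by_cases hqH : q ∈ sigma H
    · refine hnot (le_centralizer_of_sigma hG hH hpH hqH (fun hb => ?_) hqp hAp hAH hR'p hR'H hR)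
      obtain ⟨g, hg⟩ := conj_of_alpha_sigma hG hM hH hb.1 hqσ
      exact hconj g⁻¹ (by rw [hg, map_conj_inv_cancel])
    · have hAK : A ≤ sigmaCore H := le_sigmaCore_of_isPGroup hG hH hAH hAp hpH
      have h1 : ⁅R', A⁆ ≤ R' ⊓ sigmaCore H := by
        refine le_inf (Coprime.commutator_le_of_le_normalizer hR) ?_
        rw [commutator_le]
        intro r hr b hb
        rw [commutatorElement_def]
        exact (sigmaCore H).mul_mem ((mem_normalizer_iff.mp (le_normalizer_sigmaCore H (hR'H hr)) b).mp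
          (hAK hb)) ((sigmaCore H).inv_mem (hAK hb))
      have hbot : R' ⊓ sigmaCore H = ⊥ := by
        refine Coprime.inf_eq_bot_of_coprime ?_
        obtain ⟨k, hk⟩ := IsPGroup.iff_card.mp hR'p
        rw [hk]
        exact Nat.Coprime.pow_left k (hq.coprime_iff_not_dvd.mpr fun hd =>
          hqH (piNum_sigmaCore H q hq hd))
      rw [hbot, le_bot_iff, commutator_eq_bot_iff_le_centralizer] at h1
      exact hnot (le_centralizer_iff.mp h1)
  · have he := IsTauPair.isExceptional hG hH ⟨hAH, h.elem, h.card, hpH⟩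
    by_cases hqH : q ∈ sigma H
    · refine hne (he.eq_of_sigmaCore_meet hG hH hM h.le h.not_sigma ?_).symm
      exact ne_bot_of_le_ne_bot hR1
        (le_inf (le_sigmaCore_of_isPGroup hG hH hR'H hR'p hqH) hR'K)
    · exact hnot (he.le_centralizer_of_not_sigma hG hH hqp hqH hR'p hR'H hR)

/-- BG 12.6 (c). -/
theorem unique_centralizer {X : Subgroup G} (hXA : X ≤ A)
    (hX : sigmaCore M ⊓ centralizer (X : Set G) ≠ ⊥) (hX1 : X ≠ ⊥) :
    centralizer (X : Set G) ≤ M ∧
      ∀ L : Subgroup G, IsCoatom L → centralizer (X : Set G) ≤ L → L = M := by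
  have key : ∀ L : Subgroup G, IsCoatom L → centralizer (X : Set G) ≤ L → L = M := by
    intro L hL hle
    by_contra hne
    refine hX (le_bot_iff.mp ?_)
    rw [← h.inf_other_eq_bot hG hM hL hne
      (((Coprime.ea_le_centralizer h.elem).trans (centralizer_le (SetLike.coe_subset_coe.mpr hXA))).trans hle)]
    exact inf_le_inf_left _ hle
  refine ⟨?_, key⟩
  have htop : centralizer (X : Set G) ≠ ⊤ := fun e =>
    ne_top_of_normal_ne_bot hG hX1 (ne_top_of_not_dvd hM (hXA.trans h.le))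
      (top_le_iff.mp (e.ge.trans (centralizer_le_normalizer _)))
  obtain ⟨L, hL, hle⟩ := (IsCoatomic.eq_top_or_exists_le_coatom
    (centralizer (X : Set G))).resolve_left htop
  exact (key L hL hle) ▸ hle

end IsTauPair

theorem isTauPair_of_tau2 (hp2 : p ∈ tau2 M) (hA : A ≤ M ∧ IsElementaryAbelian p A ∧
    Nat.card A = p ^ 2) : IsTauPair p M A := ⟨hA.1, hA.2.1, hA.2.2, hp2.2.1⟩

/-- BG 12.5 (b). -/
theorem sylow_comm_of_tau2 (hp2 : p ∈ tau2 M) (P : Sylow p M) :
    IsMulCommutative ↥((P : Subgroup M).map M.subtype) ∧ ∃ A : Subgroup G,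
      A ≤ (P : Subgroup M).map M.subtype ∧ IsTauPair p M A := by
  obtain ⟨A₀, hA₀M, hA₀e, hA₀⟩ := exists_elementary_sq hG hM hp2.2.2.1 hp2.2.2.2
  obtain ⟨P₀, hAP₀⟩ := exists_sylow_ge (Coprime.ea_isPGroup hA₀e) hA₀M
  obtain ⟨m, hm⟩ := MulAction.exists_smul_eq M P₀ P
  set A := A₀.map (MulAut.conj (m : G)).toMonoidHom with hA
  have hAP : A ≤ (P : Subgroup M).map M.subtype := by
    rw [← hm, map_subtype_sylow_smul]
    exact map_mono hAP₀
  have h : IsTauPair p M A := ⟨map_conj_le_of_mem hA₀M m.2,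
    ⟨@Subgroup.map_isMulCommutative _ _ _ _ A₀ (MulAut.conj (m : G)).toMonoidHom hA₀e.1, by
      rintro _ ⟨x, hx, rfl⟩
      rw [← map_pow, hA₀e.2 x hx, map_one]⟩, by rw [hA, card_map_conj, hA₀], hp2.2.1⟩
  exact ⟨(h.isExceptional hG hM).sylow_comm hG hM P hAP, A, hAP, h⟩

end Cfsg.Agent.OddLocal
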