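import Cfsg.Agent.OddLocal.TauTwoNonabelian

/-!
BG 12.9 (Frobenius-type criterion): `τ₂`-elements of a complement and the abelian normal subgroup
containing all stabilisers.
-/

set_option autoImplicit false
set_option linter.unusedSectionVars false
set_option linter.style.haveILetI false

namespace Cfsg.Agent.OddLocal

open Subgroup Cfsg
open scoped commutatorElement

universe u

variable {G : Type u} [Group G] [Finite G] {p : ℕ} [hp : Fact p.Prime] {M A E : Subgroup G}

/-- Elements of `τ₁ ∪ τ₃`-order of `E` act without fixed points on `M_σ`. -/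
def FreeOutsideTau2 (M E : Subgroup G) : Prop :=
  ∀ e ∈ E, e ≠ 1 → (∀ p : ℕ, p.Prime → p ∣ orderOf e → p ∈ tau1 M ∪ tau3 M) →
    sigmaCore M ⊓ centralizer ({e} : Set G) = ⊥

/-- Every `τ₂`-prime has abelian Sylow subgroups in `G`. -/
def AbelianTau2 (M : Subgroup G) : Prop :=
  ∀ (r : ℕ) [Fact r.Prime], r ∈ tau2 M → ∀ S : Sylow r G, IsMulCommutative (S : Subgroup G)

/-- The subgroup generated by the `τ₂`-elements of prime-power order of `E`. -/
def tau2Part (M E : Subgroup G) : Subgroup G :=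
  closure {x | x ∈ E ∧ ∃ r : ℕ, r.Prime ∧ r ∈ tau2 M ∧ ∃ k : ℕ, x ^ r ^ k = 1}

omit hp in
theorem tau2Part_le (M E : Subgroup G) : tau2Part M E ≤ E :=
  (closure_le _).mpr fun _ hx => hx.1

omit hp [Finite G] in
theorem tau2Part_normal (M E : Subgroup G) : E ≤ normalizer (tau2Part M E : Set G) := by
  have key : ∀ e ∈ E, ∀ y ∈ tau2Part M E, e * y * e⁻¹ ∈ tau2Part M E := by
    intro e he y hy
    induction hy using closure_induction with
    | mem x hx =>
      obtain ⟨hxE, r, hr, hr2, k, hk⟩ := hx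
      exact subset_closure ⟨E.mul_mem (E.mul_mem he hxE) (E.inv_mem he), r, hr, hr2, k,
        by rw [conj_pow, hk, mul_one, mul_inv_cancel]⟩
    | one => simp
    | mul a b _ _ ha hb => simpa [mul_assoc] using mul_mem ha hb
    | inv a _ ha => simpa [mul_assoc] using inv_mem ha
  intro e he
  refine mem_normalizer_iff.mpr fun y => ⟨key e he y, fun hy => ?_⟩
  have h := key e⁻¹ (E.inv_mem he) _ hy
  simpa [mul_assoc] using h

variable (hG : IsMinSimpleOddOrder G) (hM : IsCoatom M) (hE : IsComplIn E (sigmaCore M) M)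
include hG hM hE

omit hp in
/-- The primes of an element of `E` with fixed points on `M_σ` lie in `τ₂(M)`. -/
theorem tau2_of_fixed (hfr : FreeOutsideTau2 M E) {e x : G} (he : e ∈ E) (hx : x ∈ sigmaCore M)
    (hx1 : x ≠ 1) (hex : Commute e x) {r : ℕ} (hr : r.Prime) (hd : r ∣ orderOf e) :
    r ∈ tau2 M := by
  haveI := Fact.mk hr
  by_contra hr2
  set z := e ^ (orderOf e / r) with hz
  have hzo : orderOf z = r := orderOf_pow_orderOf_div (orderOf_pos e).ne' hd
  have hrE : r ∣ Nat.card E := hd.trans (Subgroup.orderOf_dvd_natCard E he)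
  have h13 : r ∈ tau1 M ∪ tau3 M := by
    rcases tau_cases hG hM hE hrE with h | h | h
    exacts [Or.inl h, absurd h hr2, Or.inr h]
  have hfix := hfr z (E.pow_mem he _) (fun e1 => hr.ne_one (by rw [← hzo, e1, orderOf_one]))
    fun s hs hsd => by rwa [(Nat.prime_dvd_prime_iff_eq hs hr).mp (hzo ▸ hsd)]
  exact hx1 ((eq_bot_iff_forall _).mp hfix x
    ⟨hx, mem_centralizer_singleton_iff.mpr (hex.pow_left _).eq.symm⟩)

/-- A Sylow subgroup at a `τ₂`-prime with abelian Sylow subgroups in `G` is normal in `E`. -/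
theorem tau2_sylow_normal (hab : AbelianTau2 M) (hp2 : p ∈ tau2 M) (T : Sylow p E) :
    (T : Subgroup E).Normal := by
  obtain ⟨A, hAE, h⟩ := exists_plane_in_compl hG hM hE hp2
  have hn := (h.isExceptional hG hM).le_normalizer_of_compl hG hM hE hAE
  set C := E ⊓ centralizer (A : Set G) with hC
  have hCn : E ≤ normalizer (C : Set G) :=
    Coprime.le_normalizer_inf Subgroup.le_normalizer (Coprime.le_normalizer_centralizer hn)
  set F := fittingOf C with hF
  have hFC : F ≤ C := fittingOf_le C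
  have hFn : E ≤ normalizer (F : Set G) := by
    exact LocalStructure.le_normalizer_map_characteristic hCn _
  have hFnil := isNilpotent_fittingOf C
  set P := (T : Subgroup E).map E.subtype with hP
  have hPp : IsPGroup p P := T.2.map _
  have hPE : P ≤ E := map_subtype_le _
  -- `A ≤ P`
  have hAP : A ≤ P := by
    haveI : (A.comap E.subtype).Normal := normal_subgroupOf_of_le_normalizer hn
    have h1 := ((Coprime.ea_isPGroup h.elem).comap_of_injective E.subtype
      E.subtype_injective).le_sylow_of_normal T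
    intro a ha
    exact ⟨⟨a, hAE ha⟩, h1 (show (⟨a, hAE ha⟩ : E) ∈ A.subgroupOf E from ha), rfl⟩
  have hPc := comm_of_not_sigma hG hM h.not_sigma hPp (hPE.trans hE.1)
  have hPC : P ≤ C := le_inf hPE (le_centralizer_of_isMulCommutative le_rfl hAP hPc)
  have hPF : P ≤ centralizer (F : Set G) := by
    rw [le_centralizer_iff]
    refine Coprime.le_of_forall_sylow_le fun q hq => ?_
    haveI := Fact.mk hq
    obtain ⟨R₀⟩ : Nonempty (Sylow q F) := inferInstance
    refine ⟨R₀, ?_⟩
    set R := (R₀ : Subgroup F).map F.subtype with hR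
    have hRE : R ≤ E := (map_subtype_le _).trans (hFC.trans inf_le_left)
    have hRn : E ≤ normalizer (R : Set G) := by
      haveI : (R₀ : Subgroup F).Normal :=
        (Group.isNilpotent_of_finite_tfae.out 0 3 rfl rfl).mp hFnil q ‹_› R₀
      haveI := R₀.characteristic_of_normal inferInstance
      exact LocalStructure.le_normalizer_map_characteristic hFn _
    rw [le_centralizer_iff]
    intro x hx
    by_cases hqp : q = p
    · subst hqp
      have hsup : IsPGroup q ↥(P ⊔ R) :=
        hPp.to_sup_of_normal_right' (R₀.2.map _) (hPE.trans hRn)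
      exact le_centralizer_of_isMulCommutative le_sup_left le_sup_right
        (comm_of_not_sigma hG hM h.not_sigma hsup ((sup_le hPE hRE).trans hE.1)) hx
    · obtain ⟨k, hk⟩ := hPp ⟨x, hx⟩
      exact centralizes_of_normalizes hG hM hE h hAE (fun S => hab p hp2 S) hqp hRE (R₀.2.map _)
        ((map_subtype_le _).trans (hFC.trans inf_le_right)) (hPE hx) (congrArg Subtype.val hk)
        (hRn (hPE hx))
  have hPleF : P ≤ F := by
    haveI : Group.IsSolvable C := Coprime.isSolvable_of_le (inf_le_left.trans hE.1)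
      (isSolvable_coatom hG hM)
    intro x hx
    have h1 : (⟨x, hPC hx⟩ : C) ∈ centralizer (fittingSubgroup C : Set C) :=
      mem_centralizer_iff.mpr fun y hy =>
        Subtype.ext (mem_centralizer_iff.mp (hPF hx) (y : G) ⟨y, hy, rfl⟩)
    exact ⟨_, Core.centralizer_fittingSubgroup_le h1, rfl⟩
  obtain ⟨R₀, hPR⟩ := exists_sylow_ge hPp hPleF
  set R := (R₀ : Subgroup F).map F.subtype with hR
  have hRE : R ≤ E := (map_subtype_le _).trans (hFC.trans inf_le_left)
  have hTR : (T : Subgroup E) = R.subgroupOf E := by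
    refine (T.3 ((R₀.2.map F.subtype).comap_of_injective E.subtype E.subtype_injective) ?_).symm
    intro x hx
    exact hPR (mem_map_of_mem E.subtype hx)
  rw [hTR]
  haveI : (R₀ : Subgroup F).Normal :=
    (Group.isNilpotent_of_finite_tfae.out 0 3 rfl rfl).mp hFnil p ‹_› R₀
  haveI := R₀.characteristic_of_normal inferInstance
  exact normal_subgroupOf_of_le_normalizer (LocalStructure.le_normalizer_map_characteristic hFn _)

/-- Two elements of `E` of `τ₂`-prime-power order commute. -/
theorem tau2_commute (hab : AbelianTau2 M) (hp2 : p ∈ tau2 M) {q : ℕ} [hq : Fact q.Prime]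
    (hq2 : q ∈ tau2 M) {x y : G} (hxE : x ∈ E) (hyE : y ∈ E) {k l : ℕ} (hx : x ^ p ^ k = 1)
    (hy : y ^ q ^ l = 1) : Commute x y := by
  have hmem : ∀ (s : ℕ) [Fact s.Prime], s ∈ tau2 M → ∀ (T : Sylow s E) (z : E),
      (∃ j : ℕ, (z : G) ^ s ^ j = 1) → z ∈ (T : Subgroup E) := by
    rintro s _ hs T z ⟨j, hj⟩
    haveI := tau2_sylow_normal hG hM hE hab hs T
    obtain ⟨i, -, hi⟩ := (Nat.dvd_prime_pow (Fact.out : s.Prime)).mp (orderOf_dvd_of_pow_eq_one hj)
    have hz : IsPGroup s (zpowers z) :=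
      IsPGroup.of_card (n := i) (by rw [Nat.card_zpowers, ← orderOf_coe, hi])
    obtain ⟨U, hU⟩ := hz.exists_le_sylow
    obtain ⟨g, hg⟩ := MulAction.exists_smul_eq E T U
    rw [← hg, Sylow.smul_eq_of_normal] at hU
    exact hU (mem_zpowers z)
  obtain ⟨T⟩ : Nonempty (Sylow p E) := inferInstance
  have hxT := hmem p hp2 T ⟨x, hxE⟩ ⟨k, hx⟩
  by_cases hqp : q = p
  · subst hqp
    have hc := comm_of_not_sigma hG hM hp2.2.1 (T.2.map E.subtype) ((map_subtype_le _).trans hE.1)
    exact congrArg (fun z : (T : Subgroup E).map E.subtype => (z : G))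
      (@mul_comm' _ _ hc ⟨x, ⟨x, hxE⟩, hxT, rfl⟩ ⟨y, ⟨y, hyE⟩, hmem q hq2 T ⟨y, hyE⟩ ⟨l, hy⟩, rfl⟩)
  · obtain ⟨U⟩ : Nonempty (Sylow q E) := inferInstance
    haveI := tau2_sylow_normal hG hM hE hab hp2 T
    haveI := tau2_sylow_normal hG hM hE hab hq2 U
    have h1 := Subgroup.commute_of_normal_of_disjoint (T : Subgroup E) (U : Subgroup E)
      inferInstance inferInstance (IsPGroup.disjoint_of_ne p q (Ne.symm hqp) _ _ T.2 U.2)
      ⟨x, hxE⟩ ⟨y, hyE⟩ hxT (hmem q hq2 U ⟨y, hyE⟩ ⟨l, hy⟩)
    exact congrArg Subtype.val h1.eq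

omit hp in
theorem tau2Part_comm (hab : AbelianTau2 M) : IsMulCommutative (tau2Part M E) := by
  refine Subgroup.isMulCommutative_closure ?_
  rintro x ⟨hxE, r, hr, hr2, k, hk⟩ y ⟨hyE, s, hs, hs2, l, hl⟩
  haveI := Fact.mk hr
  haveI := Fact.mk hs
  exact tau2_commute hG hM hE hab hr2 hs2 hxE hyE hk hl

omit hp in
/-- Stabilisers of nonidentity elements of `M_σ` lie in the `τ₂`-part. -/
theorem mem_tau2Part_of_fixed (hfr : FreeOutsideTau2 M E) {e x : G} (he : e ∈ E)
    (hx : x ∈ sigmaCore M) (hx1 : x ≠ 1) (hex : Commute e x) : e ∈ tau2Part M E :=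
  mem_of_prime_power_parts fun r _ y hy hrd hk => subset_closure
    ⟨(zpowers_le.mpr he) hy, r, Fact.out, tau2_of_fixed hG hM hE hfr he hx hx1 hex Fact.out hrd, hk⟩

/-- The nonabelian case: stabilisers lie in `A ∩ C(M_σ)`. -/
theorem mem_line_of_fixed (hfr : FreeOutsideTau2 M E) (h : IsTauPair p M A) (hAE : A ≤ E)
    (hab : ∀ S : Sylow p G, ¬ IsMulCommutative (S : Subgroup G))
    (htau : ∀ q ∈ tau2 M, q = p) {e x : G} (he : e ∈ E) (hx : x ∈ sigmaCore M) (hx1 : x ≠ 1)
    (hex : Commute e x) : e ∈ A ⊓ centralizer (sigmaCore M : Set G) := by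
  by_cases he1 : e = 1
  · rw [he1]; exact one_mem _
  obtain ⟨hcard, hline⟩ := h.nonabelian_structure hG hM hab
  have hn := (h.isExceptional hG hM).le_normalizer_of_compl hG hM hE hAE
  have heg : IsPGroup p (zpowers e) := isPGroup_of_forall_prime fun r hr hd => by
    rw [Nat.card_zpowers] at hd
    exact htau r (tau2_of_fixed hG hM hE hfr he hx hx1 hex hr hd)
  have hK : IsPGroup p ↥(zpowers e ⊔ A) :=
    heg.to_sup_of_normal_right' (Coprime.ea_isPGroup h.elem) (zpowers_le.mpr (hn he))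
  have hc := comm_of_not_sigma hG hM h.not_sigma hK (sup_le (zpowers_le.mpr (hE.1 he)) h.le)
  have hec : e ∈ centralizer (A : Set G) :=
    le_centralizer_of_isMulCommutative le_rfl le_sup_right hc (mem_sup_left (mem_zpowers e))
  obtain ⟨S, hS⟩ := hK.exists_le_sylow
  obtain ⟨C₁, -, -, hpow, hcen, -⟩ := centralizer_split hG (le_sup_right.trans hS) h.elem h.card
    (fun B hB hAB => h.maximal hG hM hB hAB) (hab S)
  have hfix : ∀ z ∈ zpowers e, sigmaCore M ⊓ centralizer (zpowers z : Set G) ≠ ⊥ := by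
    intro z hz hbot
    obtain ⟨i, rfl⟩ := mem_zpowers_iff.mp hz
    exact hx1 ((eq_bot_iff_forall _).mp hbot x ⟨hx, mem_centralizer_zpowers (hex.zpow_left i)⟩)
  have hep : e ^ p = 1 := by
    by_contra hep
    obtain ⟨i, hi⟩ := heg.exists_orderOf_eq_pow ⟨e, mem_zpowers e⟩
    rw [← orderOf_coe] at hi
    change orderOf e = p ^ i at hi
    have hd : p ∣ orderOf (e ^ p) := by
      obtain ⟨j, -, hj⟩ := (Nat.dvd_prime_pow hp.out).mp
        (hi ▸ orderOf_pow_dvd p : orderOf (e ^ p) ∣ p ^ i)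
      rcases j with _ | j
      · exact absurd (orderOf_eq_one_iff.mp (by rw [hj, pow_zero])) hep
      · rw [hj]; exact dvd_pow_self p j.succ_ne_zero
    set z := (e ^ p) ^ (orderOf (e ^ p) / p) with hz
    have hzo : orderOf z = p := orderOf_pow_orderOf_div (orderOf_pos _).ne' hd
    have hzp : z ^ p = 1 := by rw [← hzo, pow_orderOf_eq_one]
    have hz1 : z ≠ 1 := fun e1 => hp.out.ne_one (by rw [← hzo, e1, orderOf_one])
    have hzC : z ∈ C₁ := C₁.pow_mem (hpow e ⟨hS (mem_sup_left (mem_zpowers e)), hec⟩) _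
    have hzA : z ∈ A := h.mem_of_pow hG hM hzp
      ((centralizer (A : Set G)).pow_mem ((centralizer (A : Set G)).pow_mem hec p) _)
    exact hfix z (pow_mem (pow_mem (mem_zpowers e) p) _)
      (h.central_line hG hM hab hzA hz1 (hcen z hzC hzp)).1
  have heA : e ∈ A := h.mem_of_pow hG hM hep hec
  by_contra hne
  exact hfix e (mem_zpowers e) (hline e heA he1 fun heq => hne (heq ▸ mem_zpowers e)).1

omit hp in
/-- BG 12.9: an abelian normal subgroup of `E` contains every stabiliser. -/
theorem exists_abelian_stabilizer (hfr : FreeOutsideTau2 M E) :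
    ∃ A₀ : Subgroup G, A₀ ≤ E ∧ E ≤ normalizer (A₀ : Set G) ∧ IsMulCommutative A₀ ∧
      ∀ x ∈ sigmaCore M, x ≠ 1 → E ⊓ centralizer ({x} : Set G) ≤ A₀ := by
  by_cases hab : AbelianTau2 M
  · exact ⟨tau2Part M E, tau2Part_le M E, tau2Part_normal M E, tau2Part_comm hG hM hE hab,
      fun x hx hx1 e he => mem_tau2Part_of_fixed hG hM hE hfr he.1 hx hx1
        (mem_centralizer_singleton_iff.mp he.2)⟩
  unfold AbelianTau2 at hab
  push Not at hab
  obtain ⟨p, hp, hp2, S₀, hS₀⟩ := hab
  have hnab : ∀ S : Sylow p G, ¬ IsMulCommutative (S : Subgroup G) := fun S hc => hS₀ (by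
    obtain ⟨g, hg⟩ := MulAction.exists_smul_eq G S S₀
    rw [← hg, Sylow.coe_subgroup_smul]
    exact @Subgroup.map_isMulCommutative _ _ _ _ (S : Subgroup G) _ hc)
  have htau : ∀ q ∈ tau2 M, q = p := by
    intro q hq
    by_contra hqp
    have : Fact q.Prime := ⟨hq.1⟩
    exact hS₀ (sylow_comm_of_two hG hM hp2 hq hqp S₀)
  obtain ⟨A, hAE, h⟩ := exists_plane_in_compl hG hM hE hp2
  have hn := (h.isExceptional hG hM).le_normalizer_of_compl hG hM hE hAE
  exact ⟨A ⊓ centralizer (sigmaCore M : Set G), inf_le_left.trans hAE,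
    Coprime.le_normalizer_inf hn
      (Coprime.le_normalizer_centralizer (hE.1.trans (le_normalizer_sigmaCore M))),
    isMulCommutative_of_le inf_le_left h.elem.1,
    fun x hx hx1 e he => mem_line_of_fixed hG hM hE hfr h hAE hnab htau he.1 hx hx1
      (mem_centralizer_singleton_iff.mp he.2)⟩

end Cfsg.Agent.OddLocal
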