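import Cfsg.Agent.OddLocal.Exceptional
import Cfsg.Agent.FixedPointFree.Prime

/-!
An automorphism of prime order with fixed points inside a central subgroup.
-/

set_option autoImplicit false
set_option linter.style.haveILetI false

namespace Cfsg.Agent.OddLocal

open Subgroup Cfsg
open scoped commutatorElement

universe u

variable {G : Type u} [Group G] [Finite G]

/-- If `c` has prime order and fixes only elements of the central subgroup `Z`, then elements of
coprime order of `F` commute modulo `Z`. -/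
theorem commutator_mem_of_fpf_mod {t : ℕ} (ht : t.Prime) {F Z : Subgroup G} {c : G} (hc : c ^ t = 1)
    (hcF : c ∈ normalizer (F : Set G)) (hZF : Z ≤ F) (hZ : F ≤ centralizer (Z : Set G))
    (hcZ : c ∈ centralizer (Z : Set G)) (hcop : t.Coprime (Nat.card Z))
    (hsolv : Group.IsSolvable F) (hfix : F ⊓ centralizer ({c} : Set G) ≤ Z)
    {a b : G} (ha : a ∈ F) (hb : b ∈ F) (hab : (orderOf a).Coprime (orderOf b)) :
    ⁅a, b⁆ ∈ Z := by
  set X := F ⊔ zpowers c with hX
  have hXC : X ≤ centralizer (Z : Set G) := sup_le hZ (zpowers_le.mpr hcZ)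
  haveI : (Z.subgroupOf X).Normal := normal_subgroupOf_of_le_normalizer
    (hXC.trans (centralizer_le_normalizer _))
  set f := QuotientGroup.mk' (Z.subgroupOf X) with hf
  have hker : ∀ x : X, f x = 1 ↔ (x : G) ∈ Z := fun x => by
    rw [hf, ← MonoidHom.mem_ker, QuotientGroup.ker_mk', mem_subgroupOf]
  set c' : X := ⟨c, mem_sup_right (mem_zpowers c)⟩ with hc'
  set F' := (F.subgroupOf X).map f with hF'
  have hsolv' : Group.IsSolvable F' := by
    haveI : Group.IsSolvable (F.subgroupOf X) := Coprime.isSolvable_subgroupOf _ hsolv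
    exact Group.isSolvable_of_surjective ((f.subgroupMap_surjective (F.subgroupOf X)))
  have hnorm : f c' ∈ normalizer (F' : Set _) := by
    refine mem_normalizer_of_map_conj (eq_of_le_of_card_ge ?_ (by rw [card_map_conj]))
    rintro _ ⟨_, ⟨x, hx, rfl⟩, rfl⟩
    exact ⟨c' * x * c'⁻¹, (mem_normalizer_iff.mp hcF (x : G)).mp hx, by simp⟩
  have hfix' : F' ⊓ centralizer ({f c'} : Set _) = ⊥ := by
    rw [eq_bot_iff]
    rintro _ ⟨⟨x, hx, rfl⟩, hxc⟩
    have h1 := mem_centralizer_singleton_iff.mp hxc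
    have h2 : f (x * c' * x⁻¹ * c'⁻¹) = 1 := by
      simp only [map_mul, map_inv]
      rw [h1]
      group
    rw [hker] at h2
    change (x : G) * c * (x : G)⁻¹ * c⁻¹ ∈ Z at h2
    set z := (x : G) * c * (x : G)⁻¹ * c⁻¹ with hz
    have hzc : Commute z c := mem_centralizer_iff.mp hcZ z h2
    have h3 : (z * c) ^ t = 1 := by
      rw [hz, inv_mul_cancel_right, conj_pow, hc]
      group
    rw [hzc.mul_pow, hc, mul_one] at h3
    have hz1 : z = 1 := orderOf_eq_one_iff.mp (Nat.dvd_one.mp (hcop ▸ Nat.dvd_gcd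
      (orderOf_dvd_of_pow_eq_one h3) (Subgroup.orderOf_dvd_natCard Z h2)))
    rw [hz, mul_inv_eq_one, mul_inv_eq_iff_eq_mul] at hz1
    rw [mem_bot, hker]
    exact hfix ⟨hx, mem_centralizer_singleton_iff.mpr hz1⟩
  have hnil := FixedPointFree.isNilpotent_of_fpf ht (L := F') (c := f c')
    (by rw [← map_pow, show c' ^ t = 1 from Subtype.ext hc, map_one]) hnorm hsolv' hfix'
  set a' : X := ⟨a, mem_sup_left ha⟩ with ha'
  set b' : X := ⟨b, mem_sup_left hb⟩ with hb'
  have hab' : (orderOf (f a')).Coprime (orderOf (f b')) := by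
    refine (hab.coprime_dvd_left ?_).coprime_dvd_right ?_
    · exact (orderOf_map_dvd f a').trans (by rw [← Subgroup.orderOf_coe])
    · exact (orderOf_map_dvd f b').trans (by rw [← Subgroup.orderOf_coe])
  have h1 : f ⁅a', b'⁆ = 1 := by
    rw [map_commutatorElement, commutatorElement_eq_one_iff_mul_comm]
    exact commute_of_mem hnil (mem_map_of_mem f ha) (mem_map_of_mem f hb) hab'
  rwa [hker] at h1

end Cfsg.Agent.OddLocal
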