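import Cfsg.Agent.OddLocal.KappaOutside
import Cfsg.Agent.OddLocal.FpfModCentral

/-!
BG 14.12: if `C(x) ≤ N` with `κ(N) ≠ ∅` for `x ∈ M_σ` with `C(x) ⊄ M`, then `M` is a Frobenius group
with cyclic complement.
-/

set_option autoImplicit false
set_option linter.unusedSectionVars false
set_option linter.style.haveILetI false

namespace Cfsg.Agent.OddLocal

open Subgroup Cfsg
open Cfsg.Agent.WielandtFixed (fixCard order_formula)
open scoped commutatorElement

universe u

variable {G : Type u} [Group G] [Finite G] {M N L D E K U : Subgroup G}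

variable (hG : IsMinSimpleOddOrder G) (hM : IsCoatom M)
include hG hM

/-- A fixed point free subgroup normalised by a fixed point free element of prime order of a
complement centralises `M_σ`. -/
theorem fpf_centralizes (hE : IsComplIn E (sigmaCore M) M) {v : G} (hv : v ∈ E)
    (hvp : (orderOf v).Prime) (hv0 : sigmaCore M ⊓ centralizer ({v} : Set G) = ⊥) {X : Subgroup G}
    (hX : X ≤ E) (hXn : v ∈ normalizer (X : Set G))
    (hfree : X ⊓ centralizer ({v} : Set G) = ⊥) : X ≤ centralizer (sigmaCore M : Set G) := by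
  have hXM : X ≤ normalizer (sigmaCore M : Set G) :=
    (hX.trans hE.1).trans (le_normalizer_sigmaCore M)
  set N := X ⊔ sigmaCore M with hN
  have hnN : v ∈ normalizer (N : Set G) := mem_normalizer_of_map_conj (by
    rw [hN, Subgroup.map_sup, map_conj_eq_self_of_mem hXn,
      map_conj_eq_self_of_mem (le_normalizer_sigmaCore M (hE.1 hv))])
  have hfixN : N ⊓ centralizer ({v} : Set G) = ⊥ := by
    rw [eq_bot_iff]
    rintro z ⟨hz, hzy⟩
    obtain ⟨s, hs, x, hx, rfl⟩ := (Coprime.mem_sup_of_le_normalizer (N := sigmaCore M) (A := X)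
      hXM).mp (show z ∈ sigmaCore M ⊔ X by rwa [sup_comm])
    have h1 : x * (x⁻¹ * s * x) = s * x := by group
    have hs' : x⁻¹ * s * x ∈ sigmaCore M := by
      simpa using (mem_normalizer_iff.mp (hXM (X.inv_mem hx)) s).mp hs
    obtain ⟨hxy, hsy⟩ := commute_components hE (hX hx) hs' hv
      (show Commute (x * (x⁻¹ * s * x)) v by
        rw [h1]; exact mem_centralizer_singleton_iff.mp hzy)
    have hx1 : x = 1 := mem_bot.mp (hfree ▸ ⟨hx, mem_centralizer_of_commute hxy⟩)
    have hs1 : x⁻¹ * s * x = 1 := mem_bot.mp (hv0 ▸ ⟨hs', mem_centralizer_of_commute hsy⟩)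
    rw [← h1, hs1, hx1, mul_one]
    exact one_mem _
  have hnil : Group.IsNilpotent N := FixedPointFree.isNilpotent_of_fpf hvp (c := v)
    (pow_orderOf_eq_one v) hnN
    (Coprime.isSolvable_of_le (sup_le (hX.trans hE.1) (sigmaCore_le M)) (isSolvable_coatom hG hM))
    hfixN
  intro x hx
  refine mem_centralizer_iff.mpr fun s hs => (commute_of_mem hnil (mem_sup_right hs)
    (mem_sup_left hx) ?_).eq
  exact ((compl_coprime hG hM hE).symm.coprime_dvd_left
    (Subgroup.orderOf_dvd_natCard _ hs)).coprime_dvd_right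
    (Subgroup.orderOf_dvd_natCard _ (hX hx))

/-- A standard factorisation inside a given complement. -/
theorem exists_decomp_in_compl (hE : IsComplIn E (sigmaCore M) M) (hK : IsPiHallOf (kappa M) K M)
    (hK1 : K ≠ ⊥) (hKE : K ≤ E) :
    ∃ U : Subgroup G, IsSigmaDecomposition M K U ∧ U ⊔ K = E := by
  obtain ⟨-, -, ⟨U, hUE, hUn, hUK, -, hU, -⟩, -⟩ := kappa_structure hG hM hE hK hK1 hKE
  have hKn : K ≤ normalizer (sigmaCore M : Set G) := hK.1.trans (le_normalizer_sigmaCore M)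
  refine ⟨U, ⟨(kappa_pair hG hM hK hK1).1, hK,
    ⟨hUE.trans hE.1, sup_le hK.1 (sigmaCore_le M), ?_, fun m hm => ?_⟩, hKE.trans hUn⟩,
    le_antisymm (sup_le hUE hKE) hUK⟩
  · refine Coprime.inf_eq_bot_of_coprime (Nat.coprime_of_dvd fun s hs h1 h2 => ?_)
    rcases hs.dvd_mul.mp (h2.trans (sup_comm K (sigmaCore M) ▸ card_sup_dvd_mul hKn)) with h | h
    · exact (hU.2.1 s hs h1).2.2 (piNum_sigmaCore M s hs h)
    · exact (hU.2.1 s hs h1).2.1 (hK.2.1 s hs h)
  · obtain ⟨a, ha, b, hb, rfl⟩ := hE.2.2.2 m hm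
    obtain ⟨u, hu, k, hk, rfl⟩ :=
      (Coprime.mem_sup_of_le_normalizer (hKE.trans hUn)).mp (hUK ha)
    exact ⟨u, hu, k * b, mul_mem (mem_sup_left hk) (mem_sup_right hb), by group⟩

theorem isPiHallOf_derived (h : IsSigmaDecomposition M K U) (hK1 : K ≠ ⊥) :
    IsPiHallOf {q | q ∉ kappa M} ⁅M, M⁆ M := by
  obtain ⟨-, hUp⟩ := sigmaDecomposition_compl hG hM h
  have hV := derived_eq hG hM h hK1
  have hVn : M ≤ normalizer ((U ⊔ sigmaCore M : Subgroup G) : Set G) := kappa_decomp_normal hG hM h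
  refine ⟨commutator_le_self M, fun q hq hd hc => ?_, fun q hq hqκ hd => ?_⟩
  · rw [hV, sup_comm] at hd
    rcases hq.dvd_mul.mp (hd.trans (card_sup_dvd_mul (h.compl.1.trans (le_normalizer_sigmaCore M))))
      with h1 | h1
    · exact hc.2.2.1 (piNum_sigmaCore M q hq h1)
    · exact (hUp q hq h1).1 hc
  · rw [hV] at hd
    have h1 := Coprime.card_mul_relIndex_of_le
      (le_sup_left : U ⊔ sigmaCore M ≤ U ⊔ sigmaCore M ⊔ K)
    have h2 : (U ⊔ sigmaCore M).relIndex (U ⊔ sigmaCore M ⊔ K) ∣ Nat.card K :=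
      Nat.dvd_of_mul_dvd_mul_left Nat.card_pos (h1 ▸ card_sup_dvd_mul (h.hall.1.trans hVn))
    rw [kappa_decomp_sup hG hM h] at h2
    exact hqκ (h.hall.2.1 q hq (hd.trans h2))

variable (hN : IsCoatom N) (h : IsSigmaDecomposition N K U) (hK1 : K ≠ ⊥) (hU1 : U ≠ ⊥)
  (hL : IsCoatom L) (hKst : K = kStar L (kStar N K)) (hKH : IsPiHallOf (kappa L) (kStar N K) L)
  {r : ℕ} [Fact r.Prime] (hr : r ∣ Nat.card U) (R : Sylow r U)
  (hNR : normalizer (((R : Subgroup U).map U.subtype : Subgroup G) : Set G) ≤ M)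
  {P : Subgroup G} (hP : IsTauPair r N P) (hPM : P ≤ sigmaCore M)
include hN h hK1 hU1 hL hKst hKH hr hNR hP hPM

theorem support_setting :
    IsComplIn (M ⊓ L) (sigmaCore M) M ∧ K ≤ M ⊓ L ∧ M ⊓ L ≤ centralizer (K : Set G) ∧
      (∀ s : ℕ, s ∉ kappa M) ∧ (∀ g : G, M ≠ L.map (MulAut.conj g).toMonoidHom) := by
  obtain ⟨-, hKle, -, hncN, hncL⟩ := over_normalizer hG hN h hK1 hU1 hL hKst hKH hM hr R hNR
  obtain ⟨hc, -⟩ := inf_partner_compl hG hN h hK1 hU1 hL hKst hKH hM hr R hNR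
  have hKL : K ≤ M ⊓ L := le_inf hKle (hKst.le.trans (inf_le_left.trans (sigmaCore_le L)))
  exact ⟨hc, hKL, outside_compl_le hG hN h hK1 hU1 hL hKst hKH hM hKle hncN hncL hc hKL,
    outside_kappa_empty hG hN h hK1 hU1 hL hKst hKH hM hKle hncN hncL, hncL⟩

/-- No `τ₂(M)`-prime equals `|K|`. -/
theorem support_not_tau2_card : Nat.card K ∉ tau2 M := by
  intro h2
  obtain ⟨hc, hKD, hDC, -, hncL⟩ :=
    support_setting hG hM hN h hK1 hU1 hL hKst hKH hr R hNR hP hPM
  obtain ⟨-, hKle, -, hncN, -⟩ := over_normalizer hG hN h hK1 hU1 hL hKst hKH hM hr R hNR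
  have hp := card_kappa_prime hG hN h hK1 hU1
  haveI := Fact.mk hp
  have hs1 := IsMember.kStar_ne_bot hG (⟨hN, h.hall, hK1, rfl⟩ : IsMember (K ⊔ kStar N K) N K)
  obtain ⟨y, hy, hy1, hyq, hyK⟩ := exists_generator_of_card (P := K) (p := Nat.card K) rfl
  obtain ⟨hCy, -⟩ := outside_centralizer hG hN h hK1 hU1 hL hKst hKH hy hy1
  obtain ⟨B, hBD, hB⟩ := exists_plane_in_compl hG hM hc h2
  have hqL : Nat.card K ∈ sigma L := piNum_sigmaCore L _ hp
    (card_dvd_of_le (hKst.le.trans inf_le_left))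
  have hBC : B ≤ centralizer ({y} : Set G) := (hBD.trans hDC).trans
    (centralizer_le (Set.singleton_subset_iff.mpr hy))
  have hab : ∀ S : Sylow (Nat.card K) G, ¬ IsMulCommutative (S : Subgroup G) := by
    intro S hS
    obtain ⟨T, hT⟩ := (Coprime.ea_isPGroup hB.elem).exists_le_sylow
    obtain ⟨g, hg⟩ := MulAction.exists_smul_eq G S T
    haveI : IsMulCommutative (T : Subgroup G) := by
      rw [← hg, Sylow.coe_subgroup_smul]
      exact Subgroup.map_isMulCommutative _ _
    have hTM : (T : Subgroup G) ≤ M :=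
      (le_centralizer_of_isMulCommutative le_rfl hT inferInstance).trans (hB.cent_le hG hM)
    have hyB : y ∈ B := hB.mem_of_mem_compl hG hM hc hBD (hKD hy) hyq
    have hTL : (T : Subgroup G) ≤ L := fun t ht => hCy (mem_centralizer_singleton_iff.mpr
      (setLike_mul_comm ht (hT hyB)))
    have hTσ := sylow_le_sigmaCore hG hL hTL hqL
    obtain ⟨hu, -⟩ := kappa_fixed_sylow hG hL hKH hs1 (card_dvd_of_le hKst.le) (T.subtype hTσ)
    rw [Sylow.coe_subtype, map_subgroupOf_eq_of_le hTσ] at hu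
    exact hncL 1 (by rw [map_conj_eq_self_of_mem (one_mem _)]
                     exact (hu.unique ⟨hL, hTL⟩ ⟨hM, hTM⟩).symm)
  obtain ⟨hA₀, -⟩ := hB.nonabelian_structure hG hM hab
  obtain ⟨a, ha, ha1, haq, -⟩ := exists_generator_of_card
    (P := B ⊓ centralizer (sigmaCore M : Set G)) hA₀
  have haN : a ∈ N := hP.cent_le hG hN (centralizer_le (SetLike.coe_subset_coe.mpr hPM) ha.2)
  have haW : zpowers a ≤ K ⊔ kStar N K := by
    rw [zpowers_le, ← kappa_inf_centralizer hG hN h.hall hK1 hy hy1]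
    exact ⟨haN, hBC ha.1⟩
  have hao : orderOf a = Nat.card K := orderOf_eq_prime haq ha1
  have haK : a ∈ K := mem_of_piNum_not_sigma hG hN h.hall haW
    (piNum_of_card_prime (by rw [Nat.card_zpowers, hao]) hp
      (h.hall.2.1 _ hp dvd_rfl).2.2.1) (mem_zpowers a)
  refine sigmaCore_ne_bot hG hM (le_bot_iff.mp ?_)
  rw [← outside_fixed_eq_bot hG hN h hK1 hU1 hL hKst hKH hM hKle hncN
    (over_normalizer hG hN h hK1 hU1 hL hKst hKH hM hr R hNR).2.2.2.2 haK ha1]
  exact le_inf le_rfl fun x hx => mem_centralizer_singleton_iff.mpr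
    (mem_centralizer_iff.mp ha.2 x hx)

/-- BG 14.12: `τ₂(M) = ∅`. -/
theorem support_tau2_empty : ∀ s : ℕ, s ∉ tau2 M := by
  intro s h2
  haveI : Fact s.Prime := ⟨h2.1⟩
  have hs : s.Prime := h2.1
  obtain ⟨hc, hKD, hDC, -, hncL⟩ :=
    support_setting hG hM hN h hK1 hU1 hL hKst hKH hr R hNR hP hPM
  have hsq : s ≠ Nat.card K := fun e =>
    support_not_tau2_card hG hM hN h hK1 hU1 hL hKst hKH hr R hNR hP hPM (e ▸ h2)
  have hp := card_kappa_prime hG hN h hK1 hU1
  haveI := Fact.mk hp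
  set q := Nat.card K with hqdef
  have hs1 := IsMember.kStar_ne_bot hG (⟨hN, h.hall, hK1, rfl⟩ : IsMember (K ⊔ kStar N K) N K)
  obtain ⟨y, hy, hy1, hyq, hyK⟩ := exists_generator_of_card (P := K) (p := q) rfl
  have hyL : y ∈ sigmaCore L := (hKst.le hy).1
  obtain ⟨B, hBD, hB⟩ := exists_plane_in_compl hG hM hc h2
  have hBL : B ≤ L := hBD.trans inf_le_right
  have hBK : B ≤ centralizer (K : Set G) := hBD.trans hDC
  obtain ⟨b, hb, hb1, hfb⟩ := hB.exists_fixed hG hM le_rfl (sigmaCore_ne_bot hG hM)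
    (hB.le.trans (le_normalizer_sigmaCore M))
  obtain ⟨hCb', hub⟩ := hB.unique_centralizer hG hM (zpowers_le.mpr hb)
    (by rwa [centralizer_zpowers]) (by rwa [Ne, zpowers_eq_bot])
  rw [centralizer_zpowers] at hCb' hub
  have hbo : orderOf b = s := orderOf_eq_prime (hB.elem.2 b hb) hb1
  have hLM : L ≠ M := fun e => hncL 1 (by rw [map_conj_eq_self_of_mem (one_mem _), e])
  have hsL : s ∈ sigma L := by
    by_contra hsL
    rcases Cfsg.Agent.S1432.result hG L hL y hyL hy1 b
        ⟨hBL hb, centralizer_le (Set.singleton_subset_iff.mpr hy) (hBK hb)⟩ hb1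
        (fun l hl hd => by
          rw [hbo] at hd
          rwa [(Nat.prime_dvd_prime_iff_eq hl hs).mp hd]) with ⟨hκ, -⟩ | ⟨-, -, hCbL, -⟩
    · have hsκ := hκ s hs (dvd_of_eq hbo.symm)
      exact not_pRankLE_of_elementary (k := 1) hBL hB.elem hB.card.ge
        ((kappa_tau13 hG hL hsκ).elim (·.2.2.2.2) (·.2.2.2))
    · exact hLM (hub L hL hCbL)
  have hsβ : s ∉ beta L := fun hc' =>
    not_isIdealPrime_of_not_sigma hG hM h2.2.1 h2.2.2.1 h2.2.2.2 hc'.2
  have hqL : q ∈ sigma L := piNum_sigmaCore L q hp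
    ((dvd_of_eq hqdef).trans (card_dvd_of_le (hKst.le.trans inf_le_left)))
  have hbσ : b ∈ sigmaCore L := le_sigmaCore_of_isPGroup hG hL
    (zpowers_le.mpr (hBL hb)) (isPGroup_of_card_prime (by rw [Nat.card_zpowers, hbo])) hsL
    (mem_zpowers b)
  by_cases hqβ : q ∈ beta L
  swap
  · obtain ⟨-, -, -, ⟨H₀, hH₀, hH₀n⟩, -⟩ := Cfsg.Agent.S1414.result hG L hL
    obtain ⟨Sq⟩ : Nonempty (Sylow q H₀) := inferInstance
    obtain ⟨Ss⟩ : Nonempty (Sylow s H₀) := inferInstance
    obtain ⟨Sq', hSq⟩ := exists_sylow_of_relIndex hH₀.1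
      (hH₀.2.2 q hp ⟨hp, hqβ⟩) Sq
    obtain ⟨Ss', hSs⟩ := exists_sylow_of_relIndex hH₀.1
      (hH₀.2.2 s hs ⟨hs, hsβ⟩) Ss
    obtain ⟨T, hT⟩ := exists_sylow_ge (M := sigmaCore L)
      (isPGroup_of_card_prime (P := zpowers b) (by rw [Nat.card_zpowers, hbo]))
      (zpowers_le.mpr hbσ)
    obtain ⟨l, hl⟩ := MulAction.exists_smul_eq ↥(sigmaCore L) T Ss'
    have hbl : (l : G) * b * (l : G)⁻¹ ∈ (Ss : Subgroup H₀).map H₀.subtype := by
      rw [← hSs, ← hl, map_subtype_sylow_smul]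
      exact mem_map_of_mem (MulAut.conj (l : G)).toMonoidHom (hT (mem_zpowers b))
    set S := (Sq : Subgroup H₀).map H₀.subtype with hS
    have hSC : S ≤ centralizer ({(l : G) * b * (l : G)⁻¹} : Set G) := by
      intro x hx
      refine mem_centralizer_singleton_iff.mpr
        (commute_of_mem hH₀n (map_subtype_le _ hx) (map_subtype_le _ hbl) ?_).eq
      obtain ⟨i, hi⟩ := (Sq.2.map H₀.subtype).exists_orderOf_eq_pow ⟨x, hx⟩
      rw [← orderOf_coe] at hi
      change orderOf x = q ^ i at hi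
      rw [hi, show (l : G) * b * (l : G)⁻¹ = MulAut.conj (l : G) b from rfl, MulEquiv.orderOf_eq,
        hbo]
      exact (((Nat.coprime_primes hp hs).mpr (Ne.symm hsq))).pow_left i
    have hlL : (l : G) ∈ L := sigmaCore_le L l.2
    have hSM : S ≤ M.map (MulAut.conj (l : G)).toMonoidHom := by
      intro x hx
      rw [mem_map_conj_iff]
      refine hCb' (mem_centralizer_singleton_iff.mpr ?_)
      have h1 := mem_centralizer_singleton_iff.mp (hSC hx)
      calc (l : G)⁻¹ * x * (l : G) * b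
          = (l : G)⁻¹ * (x * ((l : G) * b * (l : G)⁻¹)) * (l : G) := by group
        _ = (l : G)⁻¹ * ((l : G) * b * (l : G)⁻¹ * x) * (l : G) := by rw [h1]
        _ = b * ((l : G)⁻¹ * x * (l : G)) := by group
    obtain ⟨hu, -⟩ := kappa_fixed_sylow hG hL hKH hs1
      ((dvd_of_eq hqdef).trans (card_dvd_of_le hKst.le)) Sq'
    rw [hSq] at hu
    have he := hu.unique ⟨hL, (map_subtype_le _).trans (hH₀.1.trans (sigmaCore_le L))⟩
      ⟨isCoatom_map_conj hM (l : G), hSM⟩
    have he' := congrArg (fun H => H.map (MulAut.conj (l : G)⁻¹).toMonoidHom) he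
    simp only [map_conj_inv_cancel] at he'
    exact hncL (l : G)⁻¹ he'.symm
  -- the case `q ∈ β(M*)`
  obtain ⟨hXhall, hXG, -⟩ := Cfsg.Agent.S1414.result hG L hL
  set X := piCoreOf (beta L) L with hX
  obtain ⟨t, ht, htK⟩ := exists_prime_dvd_of_ne_bot hs1
  haveI := Fact.mk ht
  obtain ⟨⟨w, hw⟩, hwo⟩ := exists_prime_orderOf_dvd_card' t htK
  rw [← orderOf_coe] at hwo
  change orderOf w = t at hwo
  have hw1 : w ≠ 1 := fun e => ht.ne_one (by rw [← hwo, e, orderOf_one])
  have hwL : w ∈ L := hKH.1 hw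
  have htσ : t ∉ sigma L := (hKH.2.1 t ht htK).2.2.1
  set J := sigmaCore L ⊓ centralizer (K : Set G) with hJ
  have hwc : w ∈ centralizer (K : Set G) := hw.2
  have hwJ : zpowers w ≤ normalizer (J : Set G) :=
    Coprime.le_normalizer_inf ((zpowers_le.mpr hwL).trans (le_normalizer_sigmaCore L))
      ((zpowers_le.mpr hwc).trans Subgroup.le_normalizer)
  have hwcard : Nat.card (zpowers w) = t := by rw [Nat.card_zpowers, hwo]
  have hcopJ : (Nat.card (zpowers w)).Coprime (Nat.card J) := by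
    rw [hwcard]
    exact ht.coprime_iff_not_dvd.mpr fun hd =>
      htσ (piNum_sigmaCore L t ht (hd.trans (card_dvd_of_le inf_le_left)))
  obtain ⟨T₀, hT₀⟩ := Coprime.exists_invariant_sylow hwJ hcopJ
    (Or.inr (Coprime.isSolvable_of_le (inf_le_left.trans (sigmaCore_le L))
      (isSolvable_coatom hG hL))) s
  set T := (T₀ : Subgroup J).map J.subtype with hT
  have hTJ : T ≤ J := map_subtype_le _
  have hTs : IsPGroup s T := T₀.2.map _
  have hBJ : B ≤ J := le_inf (le_sigmaCore_of_isPGroup hG hL hBL (Coprime.ea_isPGroup hB.elem) hsL)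
    hBK
  obtain ⟨T₁, hT₁⟩ := exists_sylow_ge (M := J) (Coprime.ea_isPGroup hB.elem) hBJ
  obtain ⟨j, hj⟩ := MulAction.exists_smul_eq J T₁ T₀
  have hBjT : B.map (MulAut.conj (j : G)).toMonoidHom ≤ T := by
    rw [hT, ← hj, map_subtype_sylow_smul]
    exact map_mono hT₁
  have hTK : T ≤ centralizer (K : Set G) := hTJ.trans inf_le_right
  obtain ⟨E₁, hE₁, hKE₁⟩ := exists_compl_ge_of_not_sigma hG hL hKH.1
    (fun l hl hd => (hKH.2.1 l hl hd).2.2.1)
  obtain ⟨-, hfix, -, -⟩ := kappa_structure hG hL hE₁ hKH hs1 hKE₁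
  have hfixw : ∀ {e : G}, e ∈ zpowers w → e ≠ 1 →
      sigmaCore L ⊓ centralizer ({e} : Set G) = K := fun {e} he he1 => by
    exact (hfix e ((zpowers_le.mpr hw) he) he1).trans hKst.symm
  have hTbot : T ⊓ K = ⊥ := Coprime.inf_eq_bot_of_coprime (by
    obtain ⟨i, hi⟩ := IsPGroup.iff_card.mp hTs
    rw [hi, ← hqdef]
    exact ((Nat.coprime_primes hs hp).mpr hsq).pow_left i)
  have hTE : T ⊓ zpowers w = ⊥ := Coprime.inf_eq_bot_of_coprime
    (hcopJ.symm.coprime_dvd_left (card_dvd_of_le hTJ))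
  have hTX : T ⊔ zpowers w ≤ normalizer (X : Set G) :=
    (sup_le (hTJ.trans (inf_le_left.trans (sigmaCore_le L))) (zpowers_le.mpr hwL)).trans
      (le_normalizer_piCoreOf _ _)
  have hXsol : Group.IsSolvable X :=
    Coprime.isSolvable_of_le (piCoreOf_le _ _) (isSolvable_coatom hG hL)
  have hcopX : (Nat.card ↥(T ⊔ zpowers w)).Coprime (Nat.card X) := by
    refine Nat.coprime_of_dvd fun l hl h1 h3 => ?_
    have hlβ := piNum_piCoreOf (beta L) L l hl h3
    rcases hl.dvd_mul.mp (h1.trans (card_sup_dvd_mul hT₀)) with h4 | h4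
    · obtain ⟨i, hi⟩ := IsPGroup.iff_card.mp hTs
      rw [(Nat.prime_dvd_prime_iff_eq hl hs).mp (hl.dvd_of_dvd_pow (hi ▸ h4))] at hlβ
      exact hsβ hlβ
    · rw [hwcard] at h4
      rw [(Nat.prime_dvd_prime_iff_eq hl ht).mp h4] at hlβ
      exact htσ (alpha_subset_sigma hG hL hlβ.1)
  obtain ⟨Q₀, hQ₀⟩ := Coprime.exists_invariant_sylow hTX hcopX (Or.inr hXsol) q
  set Q := (Q₀ : Subgroup X).map X.subtype with hQ
  have hQX : Q ≤ X := map_subtype_le _
  have hQσ : Q ≤ sigmaCore L := le_sigmaCore_of_isPGroup hG hL (hQX.trans (piCoreOf_le _ _))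
    (Q₀.2.map _) hqL
  have key := order_formula (Nat.card Q) G T (zpowers w) Q rfl hTE
    (fun e he u hu => (mem_normalizer_iff.mp (hT₀ he) u).mp hu)
    (fun e he he1 u hu hc' => mem_bot.mp (hTbot ▸ ⟨hu, hfixw he he1 ▸
      (⟨hTJ.trans inf_le_left hu, mem_centralizer_singleton_iff.mpr hc'.symm⟩ :
        u ∈ sigmaCore L ⊓ centralizer ({e} : Set G))⟩))
    (fun x hx z hz => (mem_normalizer_iff.mp (hQ₀ hx) z).mp hz)
    (Coprime.isSolvable_of_le hQX hXsol)
    (hcopX.symm.coprime_dvd_left (card_dvd_of_le hQX))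
  have heq : Q ⊓ centralizer ((T ⊔ zpowers w : Subgroup G) : Set G) =
      Q ⊓ centralizer (zpowers w : Set G) := by
    refine le_antisymm (inf_le_inf_left _ (centralizer_le (SetLike.coe_subset_coe.mpr le_sup_right)))
      (le_inf inf_le_left ?_)
    rw [centralizer_sup_eq]
    refine le_inf ?_ inf_le_right
    refine le_trans ?_ (le_centralizer_iff.mp hTK)
    rw [centralizer_zpowers, ← hfixw (mem_zpowers w) hw1]
    exact inf_le_inf_right _ hQσ
  simp only [fixCard] at key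
  rw [heq] at key
  have hQT : Q ≤ centralizer (T : Set G) :=
    (eq_of_le_of_card_ge inf_le_left (Nat.eq_of_mul_eq_mul_left (pow_pos Nat.card_pos _) key).le).ge.trans
      inf_le_right
  have hQM : Q ≤ M.map (MulAut.conj (j : G)).toMonoidHom :=
    (hQT.trans (centralizer_le (SetLike.coe_subset_coe.mpr hBjT))).trans
      (centralizer_map_conj_le (hB.cent_le hG hM) j)
  obtain ⟨E₀, -, hE₀e, hE₀3⟩ := exists_elementary_of_not_pRankLE hqβ.1.2
  obtain ⟨T₂, hT₂⟩ := (Coprime.ea_isPGroup hE₀e).exists_le_sylow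
  obtain ⟨Q₁, hQ₁⟩ := exists_sylow_of_relIndex (le_top : X ≤ ⊤)
    (fun hd => hXG.2 q hp hqβ (by rwa [relIndex_top_right] at hd)) Q₀
  have hQ₁' : ∃ S : Sylow q G, (S : Subgroup G) = Q := by
    refine ⟨Sylow.ofCard Q ?_, Sylow.coe_ofCard _ _⟩
    rw [hQ, ← hQ₁, card_map_of_injective (Subgroup.subtype_injective _), Q₁.card_eq_multiplicity,
      Subgroup.card_top]
  obtain ⟨S, hSQ⟩ := hQ₁'
  obtain ⟨g, hg⟩ := MulAction.exists_smul_eq G T₂ S
  have hE₀Q : E₀.map (MulAut.conj g).toMonoidHom ≤ M.map (MulAut.conj (j : G)).toMonoidHom := by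
    refine le_trans ?_ hQM
    rw [← hSQ, ← hg, Sylow.coe_subgroup_smul]
    exact map_mono hT₂
  have hrk : ¬ PRankLE q 2 ↥(M.map (MulAut.conj (j : G)).toMonoidHom) :=
    not_pRankLE_of_elementary hE₀Q (isElementaryAbelian_map hE₀e g) (by rwa [card_map_conj])
  have hqσM := alpha_subset_sigma hG (isCoatom_map_conj hM (j : G)) ⟨hp, hrk⟩
  rw [sigma_map_conj] at hqσM
  exact compl_prime_not_sigma hG hM hc hp (hqdef ▸ card_dvd_of_le hKD) hqσM

/-- BG 14.12: the complement `M ∩ M*` acts without fixed points on `M_σ`. -/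
theorem support_fpf {e : G} (he : e ∈ M ⊓ L) (he1 : e ≠ 1) :
    sigmaCore M ⊓ centralizer ({e} : Set G) = ⊥ := by
  by_contra hne
  obtain ⟨hc, -, -, hκ, -⟩ := support_setting hG hM hN h hK1 hU1 hL hKst hKH hr R hNR hP hPM
  obtain ⟨p, hp, hpd⟩ := Nat.exists_prime_and_dvd (mt orderOf_eq_one_iff.mp he1)
  haveI := Fact.mk hp
  set v := e ^ (orderOf e / p) with hv
  have hvo : orderOf v = p := orderOf_pow_orderOf_div (orderOf_pos e).ne' hpd
  have hvD : v ∈ M ⊓ L := pow_mem he _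
  have hfix : sigmaCore M ⊓ centralizer (zpowers v : Set G) ≠ ⊥ := by
    rw [centralizer_zpowers]
    refine ne_bot_of_le_ne_bot hne (inf_le_inf_left _ fun x hx => ?_)
    exact mem_centralizer_of_commute
      ((show Commute x e from mem_centralizer_singleton_iff.mp hx).pow_right _)
  have hvc : Nat.card (zpowers v) = p := by rw [Nat.card_zpowers, hvo]
  rcases tau_cases hG hM hc (hvo ▸ Subgroup.orderOf_dvd_natCard _ hvD) with h1 | h2 | h3
  · exact hκ p (kappa_of_fixed hG hM (Or.inl h1) hvc (zpowers_le.mpr hvD.1) hfix)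
  · exact support_tau2_empty hG hM hN h hK1 hU1 hL hKst hKH hr R hNR hP hPM p h2
  · exact hκ p (kappa_of_fixed hG hM (Or.inr h3) hvc (zpowers_le.mpr hvD.1) hfix)

/-- BG 14.12: the complement `M ∩ M*` is cyclic. -/
theorem support_cyclic : IsCyclic ↥(M ⊓ L) := by
  obtain ⟨hc, hKD, hDC, -, -⟩ := support_setting hG hM hN h hK1 hU1 hL hKst hKH hr R hNR hP hPM
  have hτ := support_tau2_empty hG hM hN h hK1 hU1 hL hKst hKH hr R hNR hP hPM
  have hq := card_kappa_prime hG hN h hK1 hU1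
  haveI := Fact.mk hq
  set D := M ⊓ L with hD
  have hDs : Group.IsSolvable D := Coprime.isSolvable_of_le hc.1 (isSolvable_coatom hG hM)
  obtain ⟨E₁, hE₁, -⟩ := exists_hall_ge (π := tau1 M) hDs (bot_le : (⊥ : Subgroup G) ≤ D)
    (fun l hl hd => absurd (card_bot (G := G) ▸ hd) hl.not_dvd_one)
  obtain ⟨E₃, hE₃, -⟩ := exists_hall_ge (π := tau3 M) hDs (bot_le : (⊥ : Subgroup G) ≤ D)
    (fun l hl hd => absurd (card_bot (G := G) ▸ hd) hl.not_dvd_one)
  haveI := tau1_hall_cyclic hG hM hc hE₁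
  haveI := tau3_hall_cyclic hG hM hc hE₃
  have hn₃ := tau3_hall_normal hG hM hc hE₃
  have hs1 := IsMember.kStar_ne_bot hG (⟨hN, h.hall, hK1, rfl⟩ : IsMember (K ⊔ kStar N K) N K)
  obtain ⟨V, hV⟩ := (Cfsg.Agent.S1352.result hG L hL _
    (kappa_pair hG hN h.hall hK1).2.1 hKH).1
  have hLhall := isPiHallOf_derived hG hL hV hs1
  have hLn : L ≤ normalizer ((⁅L, L⁆ : Subgroup G) : Set G) := by
    rw [derived_eq hG hL hV hs1]
    exact kappa_decomp_normal hG hL hV
  -- `E₁` centralises `E₃`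
  have hcomm : E₁ ≤ centralizer (E₃ : Set G) := by
    refine Coprime.le_of_forall_sylow_le fun t ht => ?_
    haveI := Fact.mk ht
    obtain ⟨T₀⟩ : Nonempty (Sylow t E₁) := inferInstance
    refine ⟨T₀, le_centralizer_iff.mp (Coprime.le_of_forall_sylow_le fun s hs => ?_)⟩
    haveI := Fact.mk hs
    obtain ⟨S₀⟩ : Nonempty (Sylow s E₃) := inferInstance
    refine ⟨S₀, le_centralizer_iff.mp ?_⟩
    set T := (T₀ : Subgroup E₁).map E₁.subtype with hT
    set S := (S₀ : Subgroup E₃).map E₃.subtype with hS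
    have hTE : T ≤ E₁ := map_subtype_le _
    have hSE : S ≤ E₃ := map_subtype_le _
    have hTD : T ≤ D := hTE.trans hE₁.1
    have hSD : S ≤ D := hSE.trans hE₃.1
    by_cases hS1 : S = ⊥
    · intro x _
      rw [hS1, mem_centralizer_iff]
      intro z hz
      rw [mem_bot.mp hz, one_mul, mul_one]
    by_cases hT1 : T = ⊥
    · rw [hT1]; exact bot_le
    haveI hTc : IsCyclic T := isCyclic_of_le inferInstance hTE
    haveI hSc : IsCyclic S := isCyclic_of_le inferInstance hSE
    haveI : IsMulCommutative S := inferInstance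
    have hTS : T ≤ normalizer (S : Set G) :=
      (hTD.trans hn₃).trans (normalizer_le_normalizer_of_isCyclic inferInstance hSE)
    have hprime : ∀ {X : Subgroup G} {l : ℕ}, l.Prime → IsPGroup l X → X ≠ ⊥ → l ∣ Nat.card X := by
      intro X l hl hX hX1
      haveI := Fact.mk hl
      obtain ⟨i, hi⟩ := IsPGroup.iff_card.mp hX
      rcases Nat.eq_zero_or_pos i with h0 | h0
      · exact absurd (card_eq_one.mp (by rw [hi, h0, pow_zero])) hX1
      · exact hi ▸ dvd_pow_self l h0.ne'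
    have hTp : IsPGroup t T := T₀.2.map _
    have hSp : IsPGroup s S := S₀.2.map _
    have ht1 : t ∈ tau1 M := hE₁.2.1 t ht ((hprime ht hTp hT1).trans (card_dvd_of_le hTE))
    have hs3 : s ∈ tau3 M := hE₃.2.1 s hs ((hprime hs hSp hS1).trans (card_dvd_of_le hSE))
    have hts : t ≠ s := fun e => ht1.2.2.2.1 (e ▸ hs3.2.2.1)
    have hcopTS : (Nat.card T).Coprime (Nat.card S) := by
      obtain ⟨i, hi⟩ := IsPGroup.iff_card.mp hTp
      obtain ⟨k, hk⟩ := IsPGroup.iff_card.mp hSp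
      rw [hi, hk]
      exact Nat.Coprime.pow _ _ ((Nat.coprime_primes ht hs).mpr hts)
    obtain ⟨a, ha⟩ := T.isCyclic_iff_exists_zpowers_eq_top.mp hTc
    have haT : a ∈ T := ha ▸ mem_zpowers a
    have hline : ∀ {v : G}, v ∈ S → (orderOf v).Prime → ∀ z ∈ S, (orderOf z).Prime →
        zpowers z = zpowers v := by
      intro v hv hvp z hz hzp
      have ho : ∀ {u : G}, u ∈ S → (orderOf u).Prime → orderOf u = s := by
        intro u hu hup
        obtain ⟨i, hi⟩ := hSp.exists_orderOf_eq_pow ⟨u, hu⟩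
        rw [← orderOf_coe] at hi
        exact (Nat.prime_dvd_prime_iff_eq hup hs).mp (hup.dvd_of_dvd_pow (dvd_of_eq hi))
      exact eq_of_card_eq_of_isCyclic hSc (zpowers_le.mpr hz) (zpowers_le.mpr hv)
        (by rw [Nat.card_zpowers, Nat.card_zpowers, ho hz hzp, ho hv hvp])
    -- a fixed point of `x` on `S` spreads to `S`
    have hspread : ∀ {x : G}, x ∈ T → S ⊓ centralizer ({x} : Set G) ≠ ⊥ →
        zpowers x ≤ centralizer (S : Set G) := by
      intro x hx hne
      obtain ⟨l, hl, hld⟩ := exists_prime_dvd_of_ne_bot hne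
      haveI := Fact.mk hl
      obtain ⟨⟨v, hv⟩, hvo⟩ := exists_prime_orderOf_dvd_card' l hld
      rw [← orderOf_coe] at hvo
      change orderOf v = l at hvo
      refine Coprime.le_centralizer_of_fixes_prime_order
        ((zpowers_le.mpr hx).trans hTS)
        (hcopTS.coprime_dvd_left (card_dvd_of_le (zpowers_le.mpr hx))) fun z hz hzp c hc' => ?_
      have hzv : z ∈ zpowers v := hline hv.1 (hvo ▸ hl) z hz hzp ▸ mem_zpowers z
      obtain ⟨i, rfl⟩ := mem_zpowers_iff.mp hzv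
      obtain ⟨k, rfl⟩ := mem_zpowers_iff.mp hc'
      exact (((show Commute x v from (mem_centralizer_singleton_iff.mp hv.2).symm).zpow_left k).zpow_right i).eq
    by_cases hfree : S ⊓ centralizer ({a} : Set G) = ⊥
    swap
    · rw [← ha]
      exact hspread haT hfree
    exfalso
    have hSle : S ≤ ⁅L, L⁆ := (le_commutator_of_free haT (hTS haT) hfree).trans
      (commutator_mono (hSD.trans inf_le_right) (hTD.trans inf_le_right))
    have hbotSK : K ⊓ S = ⊥ := by
      by_contra hne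
      refine hne (le_bot_iff.mp (le_trans ?_ hfree.le))
      exact le_inf inf_le_right fun x hx => mem_centralizer_singleton_iff.mpr
        (mem_centralizer_iff.mp (hDC (hTD haT)) x hx.1)
    by_cases htκ : t ∈ kappa L
    · -- `t ∈ κ(M*)`
      obtain ⟨v, hvT, -, hv1, hvc⟩ := exists_zpowers_card (r := t) hTp hT1
      rw [Nat.card_zpowers] at hvc
      have hvD : v ∈ D := hTD hvT
      have hvS : zpowers v ≤ centralizer (S : Set G) := by
        refine hspread hvT fun e => ?_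
        obtain ⟨z, hz, hz1⟩ := exists_mem_ne_one _ hS1
        refine sigmaCore_ne_bot hG hM (le_bot_iff.mp
          (support_fpf hG hM hN h hK1 hU1 hL hKst hKH hr R hNR hP hPM (hSD hz) hz1 ▸
            le_inf le_rfl fun x hx => mem_centralizer_singleton_iff.mpr ?_))
        exact mem_centralizer_iff.mp ((fpf_centralizes hG hM hc hvD (hvc ▸ ht)
          (support_fpf hG hM hN h hK1 hU1 hL hKst hKH hr R hNR hP hPM hvD hv1) hSD
          (hTS hvT) e) hz) x hx
      obtain ⟨m, hm, hle⟩ := exists_conj_le_of_relIndex (π := kappa L) (isSolvable_coatom hG hL)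
        hKH.1 hKH.2.2 (zpowers_le.mpr hvD.2)
        (piNum_of_card_prime (by rw [Nat.card_zpowers, hvc]) ht htκ)
      have hv' : m * v * m⁻¹ ∈ kStar N K :=
        hle (mem_map_of_mem (MulAut.conj m).toMonoidHom (mem_zpowers v))
      have hW : ∀ {x : G}, x ∈ L → Commute x v →
          m * x * m⁻¹ ∈ kStar N K ⊔ kStar L (kStar N K) := by
        intro x hx hxv
        rw [← kappa_inf_centralizer hG hL hKH hs1 hv' (fun e => hv1 (conj_eq_one_iff.mp e))]
        exact ⟨L.mul_mem (L.mul_mem hm hx) (L.inv_mem hm),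
          mem_centralizer_of_commute (hxv.map (MulAut.conj m).toMonoidHom)⟩
      obtain ⟨z, hz, hz1⟩ := exists_mem_ne_one _ hS1
      have hzv : Commute z v := (mem_centralizer_iff.mp (hvS (mem_zpowers v)) z hz)
      have hav : Commute a v := setLike_mul_comm haT hvT
      haveI := kappa_W_comm hG hL hKH hs1
      have hc2 : Commute (m * z * m⁻¹) (m * a * m⁻¹) :=
        setLike_mul_comm (hW (hSD hz).2 hzv) (hW (hTD haT).2 hav)
      refine hz1 (mem_bot.mp (hfree ▸ ⟨hz, mem_centralizer_singleton_iff.mpr ?_⟩))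
      have h4 := hc2.eq
      calc z * a = m⁻¹ * (m * z * m⁻¹ * (m * a * m⁻¹)) * m := by group
        _ = m⁻¹ * (m * a * m⁻¹ * (m * z * m⁻¹)) * m := by rw [h4]
        _ = a * z := by group
    -- `t ∉ κ(M*)`
    set F := ⁅L, L⁆ ⊓ centralizer (K : Set G) with hF
    have haF : a ∈ F := by
      refine ⟨mem_of_isPiHallOf_normal hLhall hLn (X := zpowers a)
        (zpowers_le.mpr (hTD haT).2) (fun l hl hd => ?_) (mem_zpowers a), hDC (hTD haT)⟩
      rw [ha] at hd
      obtain ⟨i, hi⟩ := IsPGroup.iff_card.mp hTp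
      rw [(Nat.prime_dvd_prime_iff_eq hl ht).mp (hl.dvd_of_dvd_pow (hi ▸ hd))]
      exact htκ
    obtain ⟨u, hu, hup⟩ := exists_prime_dvd_of_ne_bot hs1
    haveI := Fact.mk hu
    obtain ⟨⟨w, hw⟩, hwo⟩ := exists_prime_orderOf_dvd_card' u hup
    rw [← orderOf_coe] at hwo
    change orderOf w = u at hwo
    have hw1 : w ≠ 1 := fun e => hu.ne_one (by rw [← hwo, e, orderOf_one])
    have hwK : w ∈ centralizer (K : Set G) := hw.2
    have hKF : K ≤ F := le_inf
      (hKst.le.trans (inf_le_left.trans (sigmaCore_le_derived hG hL))) (by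
        haveI := h.cyclic
        exact le_centralizer_of_isMulCommutative le_rfl le_rfl inferInstance)
    have hfixF : F ⊓ centralizer ({w} : Set G) ≤ K := by
      rintro x ⟨⟨hxd, -⟩, hxw⟩
      have hxW : zpowers x ≤ kStar N K ⊔ kStar L (kStar N K) := by
        rw [zpowers_le, ← kappa_inf_centralizer hG hL hKH hs1 hw hw1]
        exact ⟨commutator_le_self L hxd, hxw⟩
      obtain ⟨k, hk, l, hl, rfl⟩ := (Coprime.mem_sup_of_le_normalizer (N := kStar N K)
        (A := kStar L (kStar N K))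
        (inf_le_right.trans (centralizer_le_normalizer _))).mp (hxW (mem_zpowers x))
      have hl' : l ∈ ⁅L, L⁆ := sigmaCore_le_derived hG hL hl.1
      have hk' : k ∈ ⁅L, L⁆ := (Subgroup.mul_mem_cancel_right _ hl').mp hxd
      have hk1 : k = 1 := by
        refine orderOf_eq_one_iff.mp ?_
        by_contra hne
        obtain ⟨l', hl1, hl2⟩ := Nat.exists_prime_and_dvd hne
        exact hLhall.2.1 l' hl1 (hl2.trans (Subgroup.orderOf_dvd_natCard _ hk'))
          (hKH.2.1 l' hl1 (hl2.trans (Subgroup.orderOf_dvd_natCard _ hk)))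
      rw [hk1, one_mul]
      exact hKst.ge hl
    have hmod := fun {x : G} (hx : x ∈ S) => commutator_mem_of_fpf_mod hu (F := F) (Z := K) (c := w)
      (by rw [← hwo, pow_orderOf_eq_one])
      (Coprime.le_normalizer_inf ((zpowers_le.mpr (hKH.1 hw)).trans hLn)
        ((zpowers_le.mpr hwK).trans Subgroup.le_normalizer) (mem_zpowers w))
      hKF (le_centralizer_iff.mp inf_le_right |> fun h' => le_centralizer_iff.mp h') hwK
      ((hu.coprime_iff_not_dvd).mpr fun hd => by
        have := (kappa_kStar_coprime hG hN h.hall)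
        exact hu.ne_one (Nat.dvd_one.mp (this ▸ Nat.dvd_gcd hd hup)))
      (Coprime.isSolvable_of_le (inf_le_left.trans (commutator_le_self L))
        (isSolvable_coatom hG hL))
      hfixF (a := x) (b := a) ⟨hSle hx, hDC (hSD hx)⟩ haF (by
        exact (hcopTS.symm.coprime_dvd_left (Subgroup.orderOf_dvd_natCard _ hx)).coprime_dvd_right
          (Subgroup.orderOf_dvd_natCard _ haT))
    obtain ⟨z, hz, hz1⟩ := exists_mem_ne_one _ hS1
    have h4 : ⁅z, a⁆ ∈ K ⊓ S := by
      refine ⟨hmod hz, ?_⟩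
      rw [commutatorElement_def, mul_assoc, mul_assoc, ← mul_assoc a]
      exact S.mul_mem hz ((mem_normalizer_iff.mp (hTS haT) _).mp (S.inv_mem hz))
    rw [hbotSK, mem_bot, commutatorElement_eq_one_iff_mul_comm] at h4
    exact hz1 (mem_bot.mp (hfree ▸ ⟨hz, mem_centralizer_singleton_iff.mpr h4⟩))
  -- `D` is abelian
  set A := E₃ ⊔ E₁ with hA
  have hAc : IsMulCommutative A := by
    have hself : ∀ x ∈ A, x ∈ centralizer (A : Set G) := by
      intro x hx
      rw [hA, centralizer_sup_eq]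
      have h1 : A ≤ centralizer (E₃ : Set G) := sup_le
        (le_centralizer_of_isMulCommutative le_rfl le_rfl inferInstance) hcomm
      have h3 : A ≤ centralizer (E₁ : Set G) := sup_le (le_centralizer_iff.mp hcomm)
        (le_centralizer_of_isMulCommutative le_rfl le_rfl inferInstance)
      exact ⟨h1 hx, h3 hx⟩
    exact ⟨⟨fun x z => Subtype.ext (mem_centralizer_iff.mp (hself z z.2) x x.2)⟩⟩
  have hDA : D ≤ A := by
    refine Coprime.le_of_forall_sylow_le fun s hs => ?_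
    haveI := Fact.mk hs
    by_cases hsd : s ∣ Nat.card D
    · rcases tau_cases hG hM hc hsd with h1 | h2 | h3
      · obtain ⟨S⟩ : Nonempty (Sylow s E₁) := inferInstance
        obtain ⟨S', hS'⟩ := exists_sylow_of_relIndex hE₁.1 (hE₁.2.2 s hs h1) S
        exact ⟨S', hS' ▸ (map_subtype_le _).trans le_sup_right⟩
      · exact absurd h2 (hτ s)
      · obtain ⟨S⟩ : Nonempty (Sylow s E₃) := inferInstance
        obtain ⟨S', hS'⟩ := exists_sylow_of_relIndex hE₃.1 (hE₃.2.2 s hs h3) S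
        exact ⟨S', hS' ▸ (map_subtype_le _).trans le_sup_left⟩
    · obtain ⟨S⟩ : Nonempty (Sylow s D) := inferInstance
      refine ⟨S, ?_⟩
      have h1 : (S : Subgroup D) = ⊥ := by
        rw [← card_eq_one, S.card_eq_multiplicity, Nat.factorization_eq_zero_of_not_dvd hsd,
          pow_zero]
      rw [h1, Subgroup.map_bot]
      exact bot_le
  haveI := isMulCommutative_of_le hDA hAc
  haveI : Group.IsNilpotent D := by
    letI : CommGroup D := { mul_comm := fun x z => mul_comm' x z }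
    exact CommGroup.isNilpotent
  haveI := compl_isZGroup hG hM hc (le_refl D) fun l hl hd => by
    haveI := Fact.mk hl
    rcases tau_cases hG hM hc hd with h1 | h2 | h3
    · exact h1.2.2.2.2
    · exact absurd h2 (hτ l)
    · exact h3.2.2.2
  infer_instance

omit hN h hK1 hU1 hL hKst hKH hr hNR hP hPM in
/-- A fixed point free complement of `M_σ` is a Frobenius complement. -/
theorem isFrobeniusComplement_of_fpf (hD : IsComplIn D (sigmaCore M) M) (hD1 : D ≠ ⊥)
    (hfpf : ∀ e ∈ D, e ≠ 1 → sigmaCore M ⊓ centralizer ({e} : Set G) = ⊥) :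
    IsFrobeniusComplement (D.subgroupOf M) := by
  refine Core.isFrobeniusComplement_of_malnormal ?_ ?_ ?_
  · intro e
    refine hD1 (le_bot_iff.mp fun x hx => ?_)
    have h1 : (⟨x, hD.1 hx⟩ : M) ∈ D.subgroupOf M := hx
    rw [e, mem_bot] at h1
    exact congrArg Subtype.val h1
  · intro e
    refine sigmaCore_ne_bot hG hM (le_bot_iff.mp ?_)
    rw [← hD.2.2.1]
    refine le_inf (fun x hx => ?_) le_rfl
    rw [subgroupOf_eq_top] at e
    exact e (sigmaCore_le M hx)
  · intro g hg x hx hgx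
    by_contra hx1
    have hx' : (x : G) ∈ D := hx
    obtain ⟨d, hd, b, hb, hgdb⟩ := hD.2.2.2 (g : G) g.2
    have hgx' : (g : G) * x * (g : G)⁻¹ ∈ D := hgx
    rw [hgdb] at hgx'
    have h1 : b * x * b⁻¹ ∈ D := by
      have h2 := D.mul_mem (D.mul_mem (D.inv_mem hd) hgx') hd
      rwa [show d⁻¹ * (d * b * x * (d * b)⁻¹) * d = b * x * b⁻¹ by group] at h2
    have h2 : b * x * b⁻¹ * (x : G)⁻¹ ∈ D ⊓ sigmaCore M := by
      refine ⟨D.mul_mem h1 (D.inv_mem hx'), ?_⟩
      have h3 := (mem_normalizer_iff.mp (le_normalizer_sigmaCore M (hD.1 hx')) b⁻¹).mp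
        ((sigmaCore M).inv_mem hb)
      simpa [mul_assoc] using (sigmaCore M).mul_mem hb h3
    rw [hD.2.2.1, mem_bot, mul_inv_eq_one, mul_inv_eq_iff_eq_mul] at h2
    have hb1 : b = 1 := mem_bot.mp (hfpf x hx' (fun e => hx1 (Subtype.ext e)) ▸
      ⟨hb, mem_centralizer_singleton_iff.mpr h2⟩)
    rw [hb1, mul_one] at hgdb
    exact hg (show (g : G) ∈ D from hgdb ▸ hd)

end Cfsg.Agent.OddLocal
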