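import Cfsg.Agent.OddLocal.KappaStructure

/-!
The standard factorisation `M = K U M_σ`.
-/

set_option autoImplicit false
set_option linter.unusedSectionVars false
set_option linter.style.haveILetI false

namespace Cfsg.Agent.OddLocal

open Subgroup Cfsg
open scoped commutatorElement

universe u

variable {G : Type u} [Group G] [Finite G] {M K U : Subgroup G}

variable (hG : IsMinSimpleOddOrder G) (hM : IsCoatom M)
include hG hM

theorem kappa_subgroup_coprime (hK : IsPiHallOf (kappa M) K M) :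
    (Nat.card K).Coprime (Nat.card (sigmaCore M)) :=
  Nat.coprime_of_dvd fun s hs h1 h2 => (hK.2.1 s hs h1).2.2.1 (piNum_sigmaCore M s hs h2)

theorem sigmaDecomposition_compl (h : IsSigmaDecomposition M K U) :
    IsComplIn (U ⊔ K) (sigmaCore M) M ∧
      ∀ s : ℕ, s.Prime → s ∣ Nat.card U → s ∉ kappa M ∧ s ∉ sigma M := by
  obtain ⟨hUM, hWM, hdis, hmul⟩ := h.compl
  have hKM : K ≤ M := h.hall.1
  have hcop := kappa_subgroup_coprime hG hM h.hall
  have hKn : K ≤ normalizer (sigmaCore M : Set G) := hKM.trans (le_normalizer_sigmaCore M)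
  have hcard : Nat.card U * Nat.card ↥(K ⊔ sigmaCore M) = Nat.card M := IsComplIn.card_mul h.compl
  rw [sup_comm, Coprime.card_sup_eq_mul hKn
    (Coprime.inf_eq_bot_of_coprime hcop.symm)] at hcard
  have hUp : ∀ s : ℕ, s.Prime → s ∣ Nat.card U → s ∉ kappa M ∧ s ∉ sigma M := by
    intro s hs hd
    refine ⟨fun hc => h.hall.2.2 s hs hc ?_, fun hc => (isPiHallOf_sigmaCore hG hM).2.2 s hs hc ?_⟩
    · have h1 := Coprime.card_mul_relIndex_of_le hKM
      rw [← hcard, Nat.mul_comm (Nat.card (sigmaCore M)), Nat.mul_left_comm,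
        Nat.mul_left_cancel_iff Nat.card_pos] at h1
      rw [h1]
      exact hd.trans (Dvd.intro _ rfl)
    · have h1 := Coprime.card_mul_relIndex_of_le (sigmaCore_le M)
      rw [← hcard, Nat.mul_left_comm, Nat.mul_left_cancel_iff Nat.card_pos] at h1
      rw [h1]
      exact hd.trans (Dvd.intro _ rfl)
  refine ⟨⟨sup_le hUM hKM, sigmaCore_le M, ?_, fun m hm => ?_⟩, hUp⟩
  · refine Coprime.inf_eq_bot_of_coprime (Nat.coprime_of_dvd fun s hs h1 h2 => ?_)
    rcases hs.dvd_mul.mp (h1.trans (card_sup_dvd_mul h.normal)) with h3 | h3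
    · exact (hUp s hs h3).2 (piNum_sigmaCore M s hs h2)
    · exact (h.hall.2.1 s hs h3).2.2.1 (piNum_sigmaCore M s hs h2)
  · obtain ⟨u, hu, w, hw, rfl⟩ := hmul m hm
    rw [sup_comm] at hw
    obtain ⟨s, hs, k, hk, rfl⟩ := (Coprime.mem_sup_of_le_normalizer hKn).mp hw
    refine ⟨u * k, mul_mem (mem_sup_left hu) (mem_sup_right hk), k⁻¹ * s * k, ?_, by group⟩
    simpa using (mem_normalizer_iff.mp (hKn (inv_mem hk)) s).mp hs

/-- `U M_σ` is a normal Hall `κ(M)'`-subgroup of `M`. -/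
theorem sigmaDecomposition_hall (h : IsSigmaDecomposition M K U) :
    IsPiHallOf {s | s ∉ kappa M} (U ⊔ sigmaCore M) M ∧
      M ≤ normalizer ((U ⊔ sigmaCore M : Subgroup G) : Set G) := by
  obtain ⟨hE, hUp⟩ := sigmaDecomposition_compl hG hM h
  have hUn : U ≤ normalizer (sigmaCore M : Set G) :=
    h.compl.1.trans (le_normalizer_sigmaCore M)
  have hle : U ⊔ sigmaCore M ≤ M := sup_le h.compl.1 (sigmaCore_le M)
  refine ⟨⟨hle, fun s hs hd hκ => ?_, fun s hs hsκ hd => ?_⟩, fun m hm => ?_⟩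
  · rcases hs.dvd_mul.mp (hd.trans (sup_comm (sigmaCore M) U ▸ card_sup_dvd_mul hUn)) with h1 | h1
    · exact hκ.2.2.1 (piNum_sigmaCore M s hs h1)
    · exact (hUp s hs h1).1 hκ
  · have hUσ : (Nat.card (sigmaCore M)).Coprime (Nat.card U) :=
      Nat.coprime_of_dvd fun q hq h1 h2 => (hUp q hq h2).2 (piNum_sigmaCore M q hq h1)
    have hUK : (Nat.card U).Coprime (Nat.card K) :=
      Nat.coprime_of_dvd fun q hq h1 h2 => (hUp q hq h1).1 (h.hall.2.1 q hq h2)
    have hc : Nat.card ↥(U ⊔ K) = Nat.card U * Nat.card K :=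
      Coprime.card_sup_eq_mul h.normal (Coprime.inf_eq_bot_of_coprime hUK)
    have h1 := Coprime.card_mul_relIndex_of_le hle
    rw [← compl_card hE, hc, sup_comm U (sigmaCore M),
      Coprime.card_sup_eq_mul hUn (Coprime.inf_eq_bot_of_coprime hUσ),
      show Nat.card U * Nat.card K * Nat.card (sigmaCore M) =
        Nat.card (sigmaCore M) * Nat.card U * Nat.card K by ring,
      Nat.mul_left_cancel_iff (Nat.mul_pos Nat.card_pos Nat.card_pos)] at h1
    rw [sup_comm] at hd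
    exact hsκ (h.hall.2.1 s hs (h1 ▸ hd))
  · obtain ⟨a, ha, b, hb, rfl⟩ := hE.2.2.2 m hm
    refine mul_mem ?_ (Subgroup.le_normalizer (mem_sup_right hb))
    refine mem_normalizer_of_map_conj ?_
    rw [Subgroup.map_sup, map_conj_eq_self_of_mem (sup_le Subgroup.le_normalizer h.normal ha),
      map_conj_eq_self_of_mem (le_normalizer_sigmaCore M (hE.1 ha))]

/-- The factor `U` of a standard factorisation with `K ≠ 1`. -/
theorem sigmaDecomposition_structure (h : IsSigmaDecomposition M K U) (hK1 : K ≠ ⊥) :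
    IsMulCommutative U ∧ U ⊔ K ≤ normalizer (U : Set G) ∧
      ∀ k ∈ K, k ≠ 1 → U ⊓ centralizer ({k} : Set G) = ⊥ := by
  obtain ⟨hE, hUp⟩ := sigmaDecomposition_compl hG hM h
  obtain ⟨-, -, ⟨U₀, hU₀E, hn, -, hc, hH, hfree⟩, -⟩ :=
    kappa_structure hG hM hE h.hall hK1 le_sup_right
  have hle : U ≤ U₀ := by
    refine mem_of_isPiHallOf_normal (M := U ⊔ K) ⟨hU₀E, hH.2.1, fun s hs hπ hd => hH.2.2 s hs hπ
      (hd.trans (Dvd.intro _ (relIndex_mul_relIndex U₀ (U ⊔ K) M hU₀E hE.1)))⟩ hn le_sup_left ?_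
    exact fun s hs hd => ⟨hs, hUp s hs hd⟩
  exact ⟨isMulCommutative_of_le hle hc, sup_le Subgroup.le_normalizer h.normal,
    fun k hk hk1 => le_bot_iff.mp (hfree k hk hk1 ▸ inf_le_inf_right _ hle)⟩

end Cfsg.Agent.OddLocal
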