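import Cfsg.Agent.OddLocal.SigmaNormalizer

/-!
BG 12.14: `σ(M)`-subgroups are conjugate into `M_σ`.
-/

set_option autoImplicit false
set_option linter.unusedSectionVars false
set_option linter.style.haveILetI false

namespace Cfsg.Agent.OddLocal

open Subgroup Cfsg
open scoped commutatorElement

universe u

variable {G : Type u} [Group G] [Finite G] {p : ℕ} [hp : Fact p.Prime] {M : Subgroup G}

omit hp in
/-- If `L ≤ K` has index prime to `π`, every `π`-subgroup of the solvable `K` is conjugate into `L`. -/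
theorem exists_conj_le_of_relIndex {π : Set ℕ} {K L U : Subgroup G} (hK : Group.IsSolvable K)
    (hLK : L ≤ K) (hidx : ∀ r : ℕ, r.Prime → r ∈ π → ¬ r ∣ L.relIndex K) (hUK : U ≤ K)
    (hU : PiNum π U) : ∃ k ∈ K, U.map (MulAut.conj k).toMonoidHom ≤ L := by
  obtain ⟨H₀, hH₀⟩ := Coprime.exists_isPiHallOf (Coprime.isSolvable_of_le hLK hK) π
  have hH₀K : IsPiHallOf π H₀ K := by
    refine ⟨hH₀.1.trans hLK, hH₀.2.1, fun r hr hrπ hd => ?_⟩
    rw [← relIndex_mul_relIndex H₀ L K hH₀.1 hLK] at hd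
    exact (hr.dvd_mul.mp hd).elim (hH₀.2.2 r hr hrπ) (hidx r hr hrπ)
  obtain ⟨H₁, hH₁, -, hUH₁⟩ := Coprime.exists_le_invariant_hall (A := (⊥ : Subgroup G)) (K := K)
    bot_le (by rw [card_bot]; exact Nat.coprime_one_left _) hK hUK bot_le (π := π) hU
  obtain ⟨k, hk, hkH⟩ := Coprime.exists_conj_isPiHallOf hK hH₁ hH₀K
  refine ⟨k, hk, (map_mono hUH₁).trans (le_trans (le_of_eq ?_) hH₀.1)⟩
  rw [← hkH]
  rfl

variable (hG : IsMinSimpleOddOrder G) (hM : IsCoatom M)
include hG hM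

/-- `M = M_β N_M(S)` for a Sylow subgroup at a prime of `σ(M) \ β(M)`. -/
theorem le_betaCore_sup_normalizer (hpM : p ∈ sigma M) (hpβ : p ∉ beta M) (S : Sylow p G)
    (hSM : (S : Subgroup G) ≤ M) :
    M ≤ piCoreOf (beta M) M ⊔ (M ⊓ normalizer ((S : Subgroup G) : Set G)) := by
  obtain ⟨hHall, -, ⟨H₀, hH₀, hH₀n⟩, -⟩ := Cfsg.Agent.S1414.result hG M hM
  set B := piCoreOf (beta M) M with hB
  have hBn : M ≤ normalizer (B : Set G) := le_normalizer_piCoreOf _ _
  set D := ⁅M, M⁆ with hD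
  have hDM : D ≤ M := commutator_le_self M
  have hSD : (S : Subgroup G) ≤ D := by
    have h1 := sylow_le_commutator_of_sigma hG hM hpM (S.subtype hSM)
    rwa [Sylow.coe_subtype, map_subgroupOf_eq_of_le hSM] at h1
  haveI hMs := isSolvable_coatom hG hM
  have hDs : Group.IsSolvable D := Coprime.isSolvable_of_le hDM hMs
  obtain ⟨H₁, hH₁, -, hSH₁⟩ := Coprime.exists_le_invariant_hall (A := (⊥ : Subgroup G)) (K := D)
    bot_le (by rw [card_bot]; exact Nat.coprime_one_left _) hDs hSD bot_le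
    (π := {r | r.Prime ∧ r ∉ beta M}) (fun r hr hd => by
      obtain ⟨j, hj⟩ := IsPGroup.iff_card.mp S.2
      rw [(Nat.prime_dvd_prime_iff_eq hr hp.out).mp (hr.dvd_of_dvd_pow (hj ▸ hd))]
      exact ⟨hp.out, hpβ⟩)
  have hH₁n : Group.IsNilpotent H₁ := by
    obtain ⟨d, -, hd⟩ := Coprime.exists_conj_isPiHallOf hDs hH₀ hH₁
    rw [← hd]
    exact Group.nilpotent_of_mulEquiv (H₀.equivSMul (MulAut.conj d))
  have hH₁N : H₁ ≤ normalizer ((S : Subgroup G) : Set G) := by
    haveI : ((S.subtype hSH₁ : Sylow p H₁) : Subgroup H₁).Normal :=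
      (Group.isNilpotent_of_finite_tfae.out 0 3 rfl rfl).mp hH₁n p hp _
    intro h hh
    refine mem_normalizer_of_map_conj ?_
    refine eq_of_le_of_card_ge ?_ (card_map_conj _ _).ge
    rintro _ ⟨s, hs, rfl⟩
    have h1 := Subgroup.Normal.conj_mem (H := ((S.subtype hSH₁ : Sylow p H₁) : Subgroup H₁)) ‹_›
      ⟨s, hSH₁ hs⟩ (by rw [Sylow.coe_subtype, mem_subgroupOf]; exact hs) ⟨h, hh⟩
    simpa [Sylow.coe_subtype, mem_subgroupOf] using h1
  haveI : (B.subgroupOf M).Normal := normal_subgroupOf_of_le_normalizer hBn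
  have hDle : D ≤ B ⊔ H₁ := by
    refine Coprime.le_of_forall_sylow_le fun r hr => ?_
    haveI := Fact.mk hr
    by_cases hrβ : r ∈ beta M
    · obtain ⟨R⟩ : Nonempty (Sylow r D) := inferInstance
      refine ⟨R, le_trans ?_ le_sup_left⟩
      have h1 := Core.le_of_coprime_index (H := ((R : Subgroup D).map D.subtype).subgroupOf M)
        (N := B.subgroupOf M) (by
          obtain ⟨j, hj⟩ := IsPGroup.iff_card.mp (R.2.map D.subtype)
          rw [Coprime.card_subgroupOf ((map_subtype_le _).trans hDM), hj]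
          exact (hr.coprime_iff_not_dvd.mpr (hHall.2.2 r hr hrβ)).pow_left j)
      intro x hx
      exact h1 (show (⟨x, ((map_subtype_le _).trans hDM) hx⟩ : M) ∈
        ((R : Subgroup D).map D.subtype).subgroupOf M from hx)
    · obtain ⟨R⟩ : Nonempty (Sylow r H₁) := inferInstance
      have hle : (R : Subgroup H₁).map H₁.subtype ≤ D := (map_subtype_le _).trans hH₁.1
      have hc : Nat.card ↥(((R : Subgroup H₁).map H₁.subtype).subgroupOf D) =
          r ^ (Nat.card D).factorization r := by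
        have h1 := Coprime.card_mul_relIndex_of_le hH₁.1
        rw [Coprime.card_subgroupOf hle, card_map_of_injective H₁.subtype_injective,
          R.card_eq_multiplicity, ← h1, Nat.factorization_mul Nat.card_pos.ne'
            (fun e => by rw [e, mul_zero] at h1; exact Nat.card_pos.ne h1), Finsupp.add_apply,
          Nat.factorization_eq_zero_of_not_dvd (hH₁.2.2 r hr ⟨hr, hrβ⟩), add_zero]
      refine ⟨Sylow.ofCard _ hc, ?_⟩
      rw [Sylow.coe_ofCard, map_subgroupOf_eq_of_le hle]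
      exact (map_subtype_le _).trans le_sup_right
  haveI : (D.subgroupOf M).Normal := normal_subgroupOf_of_le_normalizer fun m hm =>
    mem_normalizer_of_map_conj (by
      rw [hD, map_commutator, map_conj_eq_self_of_mem (Subgroup.le_normalizer hm)])
  have hfr := Sylow.normalizer_sup_eq_top' (N := D.subgroupOf M) (S.subtype hSM) (by
    intro x hx
    rw [Sylow.coe_subtype, mem_subgroupOf] at hx
    exact mem_subgroupOf.mpr (hSD hx))
  have hsub : (normalizer ((S.subtype hSM : Sylow p M) : Set M) ⊔ D.subgroupOf M).map M.subtype ≤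
      B ⊔ (M ⊓ normalizer ((S : Subgroup G) : Set G)) := by
    rw [Subgroup.map_sup, sup_le_iff]
    refine ⟨le_trans (le_inf (map_subtype_le _) ?_) le_sup_right, ?_⟩
    · refine (Subgroup.le_normalizer_map _).trans (le_of_eq ?_)
      rw [Sylow.coe_subtype, map_subgroupOf_eq_of_le hSM]
    · rw [map_subgroupOf_eq_of_le hDM]
      exact hDle.trans (sup_le le_sup_left
        ((le_inf (hH₁.1.trans hDM) hH₁N).trans le_sup_right))
  intro m hm
  refine hsub ⟨⟨m, hm⟩, ?_, rfl⟩
  rw [hfr]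
  exact mem_top _

/-- The step of BG 12.14: `X ≤ M` normal in the `σ(M)`-subgroup `Y`. -/
theorem exists_conj_le_of_normal (hσ : p ∈ sigma M) {X Y : Subgroup G} (hXp : IsPGroup p X)
    (hX1 : X ≠ ⊥) (hXM : X ≤ M) (hYX : Y ≤ normalizer (X : Set G)) (hY : PiNum (sigma M) Y) :
    ∃ g : G, Y.map (MulAut.conj g).toMonoidHom ≤ M := by
  by_cases hNM : normalizer (X : Set G) ≤ M
  · exact ⟨1, by rw [map_conj_eq_self_of_mem (one_mem _)]; exact hYX.trans hNM⟩
  obtain ⟨H, hH, hNX⟩ := (eq_top_or_exists_le_coatom (normalizer (X : Set G))).resolve_left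
    (ne_top_of_normal_ne_bot hG hX1 (ne_top_of_not_dvd hM hXM))
  have hne : H ≠ M := fun e => hNM (e ▸ hNX)
  have hXH : X ≤ H := Subgroup.le_normalizer.trans hNX
  have hYH : Y ≤ H := hYX.trans hNX
  obtain ⟨S, hXS⟩ := exists_sylow_ge hXp (le_inf hXM hXH)
  obtain ⟨hnc, hNS, T, hT⟩ := sigma_normalizer_other hG hM hσ hXp hX1 hXM hH hne hNX S hXS
  set R := (S : Subgroup ↥(M ⊓ H)).map (M ⊓ H).subtype with hR
  have hRM : R ≤ M := (map_subtype_le _).trans inf_le_left
  have hRH : R ≤ H := (map_subtype_le _).trans inf_le_right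
  have hαdisj : ∀ r : ℕ, r.Prime → r ∈ alpha H → r ∉ sigma M := fun r hr ha hs => by
    haveI := Fact.mk hr
    obtain ⟨g, hg⟩ := conj_of_alpha_sigma hG hM hH ha hs
    refine hnc g⁻¹ ?_
    rw [hg, map_conj_inv_cancel]
  haveI hHs := isSolvable_coatom hG hH
  by_cases hpH : p ∈ sigma H
  · obtain ⟨S', hS'⟩ := sigma_sylow hpH T
    rw [hT] at hS'
    have hS'H : (S' : Subgroup G) ≤ H := hS' ▸ hRH
    have hle := le_betaCore_sup_normalizer hG hH hpH (fun hb => hαdisj p hp.out hb.1 hσ) S' hS'H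
    set B := piCoreOf (beta H) H with hB
    set L := H ⊓ normalizer ((S' : Subgroup G) : Set G) with hL
    have hLH : L ≤ H := inf_le_left
    obtain ⟨k, -, hk⟩ := exists_conj_le_of_relIndex (π := sigma M) (L := L) hHs hLH (fun r hr hrσ hd => by
      have hsup : H = B ⊔ L := le_antisymm hle (sup_le (piCoreOf_le _ _) hLH)
      have h1 : L.relIndex H ∣ Nat.card B := by
        have h2 := Core.card_sup_dvd_of_le_normalizer (X := B) (C := L)
          (hLH.trans (le_normalizer_piCoreOf _ _))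
        rw [← hsup, ← Coprime.card_mul_relIndex_of_le hLH, mul_comm (Nat.card B)] at h2
        exact Nat.dvd_of_mul_dvd_mul_left Nat.card_pos h2
      exact hαdisj r hr ((piNum_piCoreOf (beta H) H) r hr (hd.trans h1)).1 hrσ) hYH hY
    exact ⟨k, hk.trans (inf_le_right.trans (hS' ▸ hNS))⟩
  by_cases hc : IsCyclic R
  · exfalso
    refine hpH ⟨hp.out, ?_, T, ?_⟩
    · obtain ⟨r, hr, hrd⟩ := exists_prime_dvd_of_ne_bot (ne_bot_of_le_ne_bot hX1 hXS)
      obtain ⟨j, hj⟩ := IsPGroup.iff_card.mp (S.2.map (M ⊓ H).subtype)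
      rw [← (Nat.prime_dvd_prime_iff_eq hr hp.out).mp (hr.dvd_of_dvd_pow (hj ▸ hrd))]
      exact hrd.trans (card_dvd_of_le hRH)
    · rw [hT]
      exact (normalizer_le_normalizer_of_isCyclic hc hXS).trans hNX
  have hp2 : p ≠ 2 := by
    intro e
    exact absurd (hG.1.of_dvd_nat (hσ.2.1.trans (card_subgroup_dvd_card M))) (by rw [e]; decide)
  obtain ⟨A₀, -, hA₀e, hA₀2⟩ :=
    Fusion.exists_normal_elementary_card_sq hp2 (S.2.map (M ⊓ H).subtype) hc
  set A := A₀.map R.subtype with hA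
  have hAe : IsElementaryAbelian p A := Thompson.ea_map hA₀e _
  have hA2 : Nat.card A = p ^ 2 := by
    rw [hA, card_map_of_injective R.subtype_injective, hA₀2]
  have hAR : A ≤ R := map_subtype_le _
  have hAp := Coprime.ea_isPGroup hAe
  have h : IsTauPair p H A := ⟨hAR.trans hRH, hAe, hA2, hpH⟩
  obtain ⟨E, hE, hAE⟩ := exists_compl_ge hG hH hAp h.le hpH
  have hEM : E ≤ M := ((h.isExceptional hG hH).le_normalizer_of_compl hG hH hE hAE).trans
    (normalizer_le_of_not_isCyclic hG hM hσ hAp (hAR.trans hRM) h.not_isCyclic)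
  have hr2 : PRankLE p 2 H := by
    by_contra hc2
    exact hpH (alpha_subset_sigma hG hH ⟨hp.out, hc2⟩)
  have hr1 : ¬ PRankLE p 1 H := fun h1 =>
    not_pRankLE_of_elementary (k := 1) h.le hAe hA2.ge h1
  have hpid : ¬ IsIdealPrime p G := not_isIdealPrime_of_not_sigma hG hH hpH hr2 hr1
  have hdisj : ∀ r : ℕ, r.Prime → r ∈ sigma M → r ∉ sigma H := by
    intro r hr hrM hrH
    haveI := Fact.mk hr
    have hrp : r ≠ p := fun e => hpH (e ▸ hrH)
    have hrβ : r ∉ beta M := by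
      intro hb
      obtain ⟨g, hg⟩ := conj_of_alpha_sigma hG hH hM hb.1 hrH
      exact hnc g hg
    obtain ⟨-, -, -, ⟨N, hN, hNn⟩, -⟩ := Cfsg.Agent.S1414.result hG M hM
    have hsyl : ∀ (s : ℕ) [Fact s.Prime], s ∈ sigma M → s ∉ beta M →
        ∃ T : Sylow s G, (T : Subgroup G) ≤ N := by
      intro s _ hsσ hsβ
      obtain ⟨R₁⟩ : Nonempty (Sylow s N) := inferInstance
      have hle : (R₁ : Subgroup N).map N.subtype ≤ sigmaCore M := (map_subtype_le _).trans hN.1
      have hc : Nat.card ↥(((R₁ : Subgroup N).map N.subtype).subgroupOf (sigmaCore M)) =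
          s ^ (Nat.card (sigmaCore M)).factorization s := by
        have h1 := Coprime.card_mul_relIndex_of_le hN.1
        rw [Coprime.card_subgroupOf hle, card_map_of_injective N.subtype_injective,
          R₁.card_eq_multiplicity, ← h1, Nat.factorization_mul Nat.card_pos.ne'
            (fun e => by rw [e, mul_zero] at h1; exact Nat.card_pos.ne h1), Finsupp.add_apply,
          Nat.factorization_eq_zero_of_not_dvd (hN.2.2 s Fact.out ⟨Fact.out, hsβ⟩), add_zero]
      obtain ⟨T, hT⟩ := sylow_of_sigmaCore hG hM hsσ (Sylow.ofCard _ hc)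
      rw [Sylow.coe_ofCard, map_subgroupOf_eq_of_le hle] at hT
      exact ⟨T, hT ▸ map_subtype_le _⟩
    obtain ⟨P₁, hP₁⟩ := hsyl p hσ fun hb => hpid hb.2
    obtain ⟨R₁, hR₁⟩ := hsyl r hrM hrβ
    obtain ⟨P₂, hAP₂⟩ := hAp.exists_le_sylow
    obtain ⟨g, hg⟩ := MulAction.exists_smul_eq G P₁ P₂
    set R₂ := g • R₁ with hR₂
    have hR₂c : (R₂ : Subgroup G) ≤ centralizer (A : Set G) := by
      intro y hy
      rw [hR₂, Sylow.coe_subgroup_smul] at hy
      obtain ⟨y₀, hy₀, rfl⟩ := hy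
      refine mem_centralizer_iff.mpr fun a ha => ?_
      have ha' := hAP₂ ha
      rw [← hg, Sylow.coe_subgroup_smul] at ha'
      obtain ⟨a₀, ha₀, rfl⟩ := ha'
      have hcm : a₀ * y₀ = y₀ * a₀ := by
        obtain ⟨i, hi⟩ := P₁.2.exists_orderOf_eq_pow ⟨a₀, ha₀⟩
        obtain ⟨j, hj⟩ := R₁.2.exists_orderOf_eq_pow ⟨y₀, hy₀⟩
        rw [← orderOf_coe] at hi hj
        exact commute_of_mem hNn (hP₁ ha₀) (hR₁ hy₀) (by
          rw [hi, hj]
          exact (((Nat.coprime_primes hp.out hr).mpr hrp.symm).pow_left i).pow_right j)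
      simp only [MulDistribMulAction.toMonoidEnd_apply, MulDistribMulAction.toMonoidHom_apply]
      rw [← smul_mul', hcm, smul_mul']
    have hR₂H : (R₂ : Subgroup G) ≤ H := hR₂c.trans (h.cent_le hG hH)
    have h1 : (R₂ : Subgroup G) ≤ sigmaCore H ⊓ centralizer (A : Set G) :=
      le_inf (sylow_le_sigmaCore hG hH hR₂H hrH) hR₂c
    rw [h.fixed_eq_bot hG hH] at h1
    exact sylow_ne_bot_of_sigma hG hH R₂ hrH (le_bot_iff.mp h1)
  obtain ⟨k, -, hk⟩ := exists_conj_le_of_relIndex (π := sigma M) (L := E) hHs hE.1 (fun r hr hrσ hd => by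
    have h1 := Coprime.card_mul_relIndex_of_le hE.1
    rw [← compl_card hE] at h1
    rw [Nat.eq_of_mul_eq_mul_left Nat.card_pos h1] at hd
    exact hdisj r hr hrσ (piNum_sigmaCore H r hr hd)) hYH hY
  exact ⟨k, hk.trans hEM⟩

omit hp in
/-- BG 12.14. -/
theorem exists_conj_le_sigmaCore {Y : Subgroup G} (hY1 : Y ≠ ⊥) (hY : PiNum (sigma M) Y) :
    ∃ g : G, Y.map (MulAut.conj g).toMonoidHom ≤ sigmaCore M := by
  have htop : Y ≠ ⊤ := by
    intro e
    apply hM.1
    refine eq_top_of_le_card _ (Nat.le_of_dvd Nat.card_pos (Nat.dvd_of_primeFactorsList_subperm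
      Nat.card_pos.ne' ?_))
    rw [List.subperm_ext_iff]
    intro r hr
    have hrp := Nat.prime_of_mem_primeFactorsList hr
    haveI := Fact.mk hrp
    have hrσ : r ∈ sigma M := hY r hrp (by
      rw [e, Subgroup.card_top]; exact Nat.dvd_of_mem_primeFactorsList hr)
    obtain ⟨S, hS⟩ := exists_sylow_of_sigma hrσ
    rw [Nat.primeFactorsList_count_eq, Nat.primeFactorsList_count_eq,
      ← hrp.pow_dvd_iff_le_factorization Nat.card_pos.ne', ← S.card_eq_multiplicity]
    exact card_dvd_of_le hS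
  obtain ⟨q, hq, X, hXY, hX1, hXq, hn⟩ := Coprime.exists_normal_pSubgroup_le (A := (⊥ : Subgroup G))
    bot_le (hG.2.2.2 Y htop) hY1
  haveI := Fact.mk hq
  have hqσ : q ∈ sigma M := by
    obtain ⟨r, hr, hrd⟩ := exists_prime_dvd_of_ne_bot hX1
    obtain ⟨j, hj⟩ := IsPGroup.iff_card.mp hXq
    rw [← (Nat.prime_dvd_prime_iff_eq hr hq).mp (hr.dvd_of_dvd_pow (hj ▸ hrd))]
    exact hY r hr (hrd.trans (card_dvd_of_le hXY))
  obtain ⟨T, hT⟩ := hXq.exists_le_sylow
  obtain ⟨S, hS⟩ := exists_sylow_of_sigma hqσ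
  obtain ⟨g, hg⟩ := MulAction.exists_smul_eq G T S
  obtain ⟨k, hk⟩ := exists_conj_le_of_normal hG hM hqσ
    (X := X.map (MulAut.conj g).toMonoidHom) (Y := Y.map (MulAut.conj g).toMonoidHom)
    (isPGroup_map_conj hXq g)
    (fun e => hX1 ((Subgroup.map_eq_bot_iff_of_injective _ (MulAut.conj g).injective).mp e))
    ((map_mono hT).trans (le_trans (le_of_eq (by rw [← hg]; rfl)) hS))
    ((map_mono (le_sup_left.trans hn)).trans (Subgroup.le_normalizer_map _))
    (fun r hr hd => hY r hr (by rwa [card_map_conj] at hd))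
  rw [map_conj_map_conj] at hk
  exact ⟨k * g, le_sigmaCore hG hM hk fun r hr hd => hY r hr (by rwa [card_map_conj] at hd)⟩

end Cfsg.Agent.OddLocal
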