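import Cfsg.Agent.OddLocal.SupportKappa
import Cfsg.Agent.OddLocal.SupportSigma
import Cfsg.Agent.OddLocal.KappaTwo
import Cfsg.Agent.S1352
import Cfsg.Agent.S1376
import Cfsg.Agent.S1414
import Cfsg.Agent.S1425

/-!
BG 14.13 (a): if a prime of `σ(N)` divides `|M|`, where `N` contains the centraliser of an element
of `M_σ` that leaves `M`, then `κ(M) = ∅` and `τ₂(M) = ∅`.
-/

set_option autoImplicit false
set_option linter.unusedSectionVars false
set_option linter.style.haveILetI false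

namespace Cfsg.Agent.OddLocal

open Subgroup Cfsg
open scoped commutatorElement

universe u

variable {G : Type u} [Group G] [Finite G] {M N : Subgroup G}

variable (hG : IsMinSimpleOddOrder G) (hM : IsCoatom M)
include hG hM

theorem kappa_subset_map_conj (g : G) : kappa M ⊆ kappa (M.map (MulAut.conj g).toMonoidHom) := by
  rintro p ⟨hp, hd, hσ, hP⟩
  haveI := Fact.mk hp
  refine ⟨hp, by rwa [card_map_conj], by rwa [sigma_map_conj], fun P => ?_⟩
  set e := M.equivMapOfInjective (MulAut.conj g).toMonoidHom (MulAut.conj g).injective with he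
  set Q : Sylow p M := P.comapOfInjective e.toMonoidHom e.injective
    (by rw [MonoidHom.range_eq_top.mpr e.surjective]; exact le_top) with hQ
  obtain ⟨hc, x, hx, hx1, y, hy, hy1, hxy⟩ := hP Q
  have hQP : (Q : Subgroup M).map e.toMonoidHom = (P : Subgroup _) := by
    exact map_comap_eq_self_of_surjective (f := e.toMonoidHom) e.surjective _
  refine ⟨?_, e x, hQP ▸ mem_map_of_mem e.toMonoidHom hx, fun h => hx1 ?_,
    MulAut.conj g y, ?_, fun h => hy1 ?_, ?_⟩
  · rw [← hQP]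
    exact isCyclic_of_surjective _ (equivMapOfInjective _ e.toMonoidHom e.injective).surjective
  · exact e.injective (h.trans (map_one e).symm)
  · rw [sigmaCore_map_conj hG hM]
    exact mem_map_of_mem (MulAut.conj g).toMonoidHom hy
  · exact (MulAut.conj g).injective (h.trans (map_one _).symm)
  · change MulAut.conj g (x : G) * MulAut.conj g y = MulAut.conj g y * MulAut.conj g (x : G)
    rw [← map_mul, hxy, map_mul]

/-- BG 10.8 (e), used for a coprime action: if a `q`-subgroup of `M` acts nontrivially on a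
`p`-subgroup and `p ∉ β(M)`, then `q ≤ p`. -/
theorem prime_le_of_not_centralizes {p q : ℕ} [hpf : Fact p.Prime] [hqf : Fact q.Prime]
    (hpM : p ∣ Nat.card M) (hp : p ∉ beta M) {X P : Subgroup G} (hX : IsPGroup q X) (hXM : X ≤ M)
    (hP : IsPGroup p P) (hPM : P ≤ M) (hn : X ≤ normalizer (P : Set G))
    (hne : ¬ X ≤ centralizer (P : Set G)) : q ≤ p := by
  obtain ⟨-, -, h⟩ := (Cfsg.Agent.S1414.result hG M hM).2.2.2.2 p hpf.out hpM hp
  by_contra hlt
  refine hne fun x hx => ?_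
  set C := pPrimeCore p ↥M with hC
  have hxC : (⟨x, hXM hx⟩ : M) ∈ C := by
    rw [← QuotientGroup.eq_one_iff]
    by_contra h1
    obtain ⟨l, hl, hld⟩ := Nat.exists_prime_and_dvd (mt orderOf_eq_one_iff.mp h1)
    have hli : l ∣ C.index := hld.trans (_root_.orderOf_dvd_natCard _)
    have hlx : l ∣ orderOf x := by
      refine hld.trans ?_
      rw [← Subgroup.orderOf_mk x (hXM hx)]
      exact orderOf_map_dvd (QuotientGroup.mk' C) _
    obtain ⟨i, hi⟩ := hX.exists_orderOf_eq_pow ⟨x, hx⟩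
    rw [Subgroup.orderOf_mk] at hi
    exact hlt ((Nat.prime_dvd_prime_iff_eq hl hqf.out).mp (hl.dvd_of_dvd_pow (hi ▸ hlx)) ▸
      h l hl hli)
  refine mem_centralizer_iff.mpr fun s hs => ?_
  have h1 : x * s * x⁻¹ * s⁻¹ ∈ P := P.mul_mem ((mem_normalizer_iff.mp (hn hx) s).mp hs)
    (P.inv_mem hs)
  have h2 : (⟨x, hXM hx⟩ : M) * ⟨s, hPM hs⟩ * (⟨x, hXM hx⟩)⁻¹ * (⟨s, hPM hs⟩)⁻¹ ∈ C := by
    rw [mul_assoc, mul_assoc]
    refine C.mul_mem hxC ?_
    rw [← mul_assoc]
    exact (pPrimeCore_normal p M).conj_mem _ (C.inv_mem hxC) _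
  obtain ⟨i, hi⟩ := hP.exists_orderOf_eq_pow ⟨_, h1⟩
  rw [Subgroup.orderOf_mk] at hi
  have h3 : x * s * x⁻¹ * s⁻¹ = 1 := by
    by_contra h4
    obtain ⟨l, hl, hld⟩ := Nat.exists_prime_and_dvd (mt orderOf_eq_one_iff.mp h4)
    have hlC : l ∣ Nat.card C := by
      refine hld.trans ?_
      have := Subgroup.orderOf_dvd_natCard C h2
      rw [← Subgroup.orderOf_coe] at this
      exact this
    rw [(Nat.prime_dvd_prime_iff_eq hl hpf.out).mp (hl.dvd_of_dvd_pow (hi ▸ hld))] at hlC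
    exact Core.not_dvd_card_pPrimeCore hlC
  calc s * x = (x * s * x⁻¹) * x := by rw [mul_inv_eq_one.mp h3]
    _ = x * s := by group

variable {x : G}

theorem exists_compl_sigmaCore' : ∃ E : Subgroup G, IsComplIn E (sigmaCore M) M := by
  obtain ⟨E, hE, -⟩ := exists_compl_ge_of_not_sigma hG hM (bot_le : (⊥ : Subgroup G) ≤ M)
    (fun r hr hd => absurd (card_bot (G := G) ▸ hd) hr.not_dvd_one)
  exact ⟨E, hE⟩

/-- A fixed point free `q`-subgroup of `M` has `q < p` for `p ∈ σ(M) - β(M)`. -/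
theorem lt_of_fpf {p q : ℕ} [Fact p.Prime] [Fact q.Prime] (hpσ : p ∈ sigma M) (hpβ : p ∉ beta M)
    (hqσ : q ∉ sigma M) {X : Subgroup G} (hXq : IsPGroup q X) (hXM : X ≤ M)
    (hfix : sigmaCore M ⊓ centralizer (X : Set G) = ⊥) : q < p := by
  refine lt_of_le_of_ne ?_ fun e => hqσ (e ▸ hpσ)
  obtain ⟨P₀, hP₀⟩ := Coprime.exists_invariant_sylow (hXM.trans (le_normalizer_sigmaCore M))
    (Nat.coprime_of_dvd fun l hl h1 h3 => by
      obtain ⟨i, hi⟩ := IsPGroup.iff_card.mp hXq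
      exact hqσ ((Nat.prime_dvd_prime_iff_eq hl Fact.out).mp (hl.dvd_of_dvd_pow (hi ▸ h1)) ▸
        piNum_sigmaCore M l hl h3))
    (Or.inr (Coprime.isSolvable_of_le (sigmaCore_le M) (isSolvable_coatom hG hM))) p
  refine prime_le_of_not_centralizes hG hM hpσ.2.1 hpβ hXq hXM (P₀.2.map _)
    ((map_subtype_le _).trans (sigmaCore_le M)) hP₀ fun hc => ?_
  refine P₀.ne_bot_of_dvd_card ?_ ?_
  · refine (Nat.Prime.dvd_mul Fact.out).mp ?_ |>.resolve_right
      ((isPiHallOf_sigmaCore hG hM).2.2 p Fact.out hpσ)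
    rw [Coprime.card_mul_relIndex_of_le (sigmaCore_le M)]
    exact hpσ.2.1
  have h1 : (P₀ : Subgroup (sigmaCore M)).map (sigmaCore M).subtype = ⊥ :=
    le_bot_iff.mp (hfix ▸ le_inf (map_subtype_le _) (le_centralizer_iff.mp hc))
  exact (map_eq_bot_iff_of_injective _ (sigmaCore M).subtype_injective).mp h1

/-- For `p ∈ τ₂(N)` and `q ∈ σ(N) - β(N)` one has `p < q`. -/
theorem lt_of_fpf_beta {p q : ℕ} [Fact p.Prime] [Fact q.Prime] {B : Subgroup G}
    (hB : IsTauPair p M B) (hpσ : p ∉ sigma M) (hqσ : q ∈ sigma M) (hqβ : q ∉ beta M) : p < q :=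
  lt_of_fpf hG hM hqσ hqβ hpσ (Coprime.ea_isPGroup hB.elem) hB.le (hB.fixed_eq_bot hG hM)

/-- BG 14.13 (a). -/
theorem support_sigma_dvd (hx : x ∈ sigmaCore M) (hx1 : x ≠ 1)
    (hxM : ¬ centralizer ({x} : Set G) ≤ M) (hN : IsCoatom N)
    (hxN : centralizer ({x} : Set G) ≤ N) {q : ℕ} (hqN : q ∈ sigma N) (hqM : q ∣ Nat.card M) :
    kappa M = ∅ ∧ tau2 M = ∅ := by
  obtain ⟨N', hN', -, -, huniq, h2, hMN, -, -⟩ := exists_support hG hM hx hx1 hxM
  obtain rfl : N = N' := huniq N hN hxN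
  haveI := Fact.mk hqN.1
  obtain ⟨p, hp, hpd⟩ := Nat.exists_prime_and_dvd (mt orderOf_eq_one_iff.mp hx1)
  haveI := Fact.mk hp
  have hp2 := h2 p hp hpd
  have hpσM : p ∈ sigma M :=
    piNum_sigmaCore M p hp (hpd.trans (Subgroup.orderOf_dvd_natCard _ hx))
  have hncN : ∀ {s : ℕ}, s ∈ sigma M → s ∈ sigma N → False := fun {s} hsM hsN => by
    haveI := Fact.mk hsM.1
    obtain ⟨g, hg⟩ := exists_conj_of_sigma_inter hG hM hN hsM hsN
    exact hp2.2.1 (by rw [hg, sigma_map_conj]; exact hpσM)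
  have hqσ : q ∉ sigma M := fun h => hncN h hqN
  have hqp : q ≠ p := fun e => hp2.2.1 (e ▸ hqN)
  obtain ⟨B, hBD, hB⟩ := exists_plane_in_compl hG hN hMN hp2
  have hBM : B ≤ M := hBD.trans inf_le_left
  have hBσ : B ≤ sigmaCore M :=
    le_sigmaCore_of_isPGroup hG hM hBM (Coprime.ea_isPGroup hB.elem) hpσM
  have hpβ : p ∉ beta M := fun hc =>
    not_isIdealPrime_of_not_sigma hG hN hp2.2.1 hp2.2.2.1 hp2.2.2.2 hc.2
  -- `κ(M) = ∅`
  have hκ : ∀ s : ℕ, s ∉ kappa M := by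
    intro s hs
    obtain ⟨E, hE⟩ := exists_compl_sigmaCore' hG hM
    obtain ⟨K, hK, -, -⟩ := exists_kappa_hall hG hM hE (bot_le : (⊥ : Subgroup G) ≤ E)
      (fun l hl hd => absurd (card_bot (G := G) ▸ hd) hl.not_dvd_one)
    have hK1 : K ≠ ⊥ := fun e => hK.2.2 s hs.1 hs (by rw [e, relIndex_bot_left]; exact hs.2.1)
    obtain ⟨hKc, -, -, L, hmem, hKst, -⟩ := kappa_pair hG hM hK hK1
    obtain ⟨U, h⟩ := (Cfsg.Agent.S1352.result hG M hM K hKc hK).1
    have hU : U = ⊥ := by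
      by_contra hU1
      exact hxM (centralizer_le_of_P2 hG hM h hK1 hU1 hx hx1)
    obtain ⟨hUK, -⟩ := sigmaDecomposition_compl hG hM h
    have hqK : q ∣ Nat.card K := by
      have := (dvd_compl_iff hG hM hUK).mpr ⟨hqM, hqσ⟩
      rwa [hU, bot_sup_eq] at this
    have hqL : q ∈ sigma L :=
      piNum_sigmaCore L q hqN.1 (hqK.trans (card_dvd_of_le (hKst.symm.le.trans inf_le_left)))
    obtain ⟨g, hg⟩ := exists_conj_of_sigma_inter hG hmem.1 hN hqL hqN
    obtain ⟨t, ht, htK⟩ := exists_prime_dvd_of_ne_bot hmem.2.2.1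
    have hkN : (kappa N).Nonempty :=
      ⟨t, hg ▸ kappa_subset_map_conj hG hmem.1 g (hmem.2.1.2.1 t ht htK)⟩
    have := (Cfsg.Agent.S1376.result hG M hM x hx hx1 hxM N hN hxN hkN).1
    rw [this] at hs
    exact hs
  refine ⟨Set.eq_empty_of_forall_notMem hκ, Set.eq_empty_of_forall_notMem fun r hr => ?_⟩
  have hlt : ∀ {t : ℕ} [Fact t.Prime], t ∉ sigma M → ∀ {X : Subgroup G}, IsPGroup t X → X ≤ M →
      sigmaCore M ⊓ centralizer (X : Set G) = ⊥ → t < p := by
    intro t _ ht X hXq hXM hfix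
    exact lt_of_fpf hG hM hpσM hpβ ht hXq hXM hfix
  have hgt : ∀ {t : ℕ} [Fact t.Prime], t ∈ sigma N → t ∉ beta N → p < t := by
    intro t _ ht hb
    exact lt_of_fpf_beta hG hN hB hp2.2.1 ht hb
  -- `σ(N)` meets no prime of `τ₂(M)`
  have hstep : ∀ {s : ℕ}, s ∈ tau2 M → s ∈ sigma N → False := by
    intro s hs2 hsN
    haveI := Fact.mk hs2.1
    obtain ⟨E, hE⟩ := exists_compl_sigmaCore' hG hM
    obtain ⟨A, hAE, hA⟩ := exists_plane_in_compl hG hM hE hs2
    have h1 := hlt hs2.2.1 (Coprime.ea_isPGroup hA.elem) hA.le (hA.fixed_eq_bot hG hM)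
    have h3 := hgt hsN fun hc =>
      not_isIdealPrime_of_not_sigma hG hM hs2.2.1 hs2.2.2.1 hs2.2.2.2 hc.2
    omega
  haveI := Fact.mk hr.1
  obtain ⟨⟨w₀, hw₀⟩, hw₀o⟩ := exists_prime_orderOf_dvd_card' q hqM
  rw [← orderOf_coe] at hw₀o
  change orderOf w₀ = q at hw₀o
  have hwc : Nat.card (zpowers w₀) = q := by rw [Nat.card_zpowers, hw₀o]
  obtain ⟨E, hE, hwE⟩ := exists_compl_ge_of_not_sigma hG hM (zpowers_le.mpr hw₀)
    (fun l hl hd => (Nat.prime_dvd_prime_iff_eq hl hqN.1).mp (hwc ▸ hd) ▸ hqσ)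
  have hwE' : w₀ ∈ E := hwE (mem_zpowers w₀)
  have h13 : q ∈ tau1 M ∪ tau3 M := by
    rcases tau_cases hG hM hE ((dvd_of_eq hwc.symm).trans (card_dvd_of_le hwE)) with h | h | h
    · exact Or.inl h
    · exact (hstep h hqN).elim
    · exact Or.inr h
  have hfix : sigmaCore M ⊓ centralizer (zpowers w₀ : Set G) = ⊥ := by
    by_contra hne
    exact hκ q (kappa_of_fixed hG hM h13 hwc (zpowers_le.mpr hw₀) hne)
  have hfix' : sigmaCore M ⊓ centralizer ({w₀} : Set G) = ⊥ := by rwa [centralizer_zpowers] at hfix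
  have hqβ : q ∈ beta N := by
    by_contra hc
    have h1 := hlt hqσ (isPGroup_of_card_prime hwc) (zpowers_le.mpr hw₀) hfix
    have h3 := hgt hqN hc
    omega
  have hw1 : w₀ ≠ 1 := fun e => hqN.1.ne_one (by rw [← hw₀o, e, orderOf_one])
  obtain ⟨g, hg⟩ := Cfsg.Agent.S1425.result hG N hN (zpowers w₀) (by rwa [Ne, zpowers_eq_bot])
    (fun l hl hd => (Nat.prime_dvd_prime_iff_eq hl hqN.1).mp (hwc ▸ hd) ▸ hqN)
  set y := MulAut.conj g w₀ with hy
  have hyσ : y ∈ sigmaCore N := hg (mem_map_of_mem _ (mem_zpowers w₀))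
  have hy1 : y ≠ 1 := fun e => hw1 ((MulAut.conj g).injective (e.trans (map_one _).symm))
  have hyo : y ^ q = 1 := by rw [hy, ← map_pow, ← hw₀o, pow_orderOf_eq_one, map_one]
  obtain ⟨hCy, -⟩ := unique_centralizer_line hG hN hqN (sigmaCore_le N hyσ) hy1 hyo (Or.inl hqβ)
  have hpush : ∀ {a : G}, Commute a w₀ → MulAut.conj g a ∈ N := fun {a} ha =>
    hCy (mem_centralizer_of_commute (ha.map (MulAut.conj g).toMonoidHom))
  obtain ⟨A, hAE, hA⟩ := exists_plane_in_compl hG hM hE hr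
  have hrN : r ∉ sigma N := fun hc => hstep hr hc
  have hrp : r ≠ p := fun e => hr.2.1 (e ▸ hpσM)
  have hrcyc : PRankLE r 1 ↥N := by
    by_contra hne
    have hr3 : PRankLE r 2 ↥N := by
      by_contra hc
      exact hrN (alpha_subset_sigma hG hN ⟨hr.1, hc⟩)
    have hrN2 : r ∈ tau2 N := ⟨hr.1, hrN, hr3, hne⟩
    obtain ⟨A', hA'D, hA'⟩ := exists_plane_in_compl hG hN hMN hrN2
    have hc := le_centralizer_of_pair hG hN hrp hMN hB hA' hBD hA'D
    have hA'' : IsTauPair r M A' :=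
      isTauPair_of_tau2 hG hM hr ⟨hA'D.trans inf_le_left, hA'.elem, hA'.card⟩
    have hbot : B = ⊥ := le_bot_iff.mp
      (hA''.fixed_eq_bot hG hM ▸ le_inf hBσ (le_centralizer_iff.mp hc))
    exact hp.ne_one (by
      have := hB.card
      rw [hbot, card_bot] at this
      exact (Nat.pow_eq_one.mp this.symm).resolve_right two_ne_zero)
  have hnA := (hA.isExceptional hG hM).le_normalizer_of_compl hG hM hE hAE
  haveI := hA.elem.1
  have hwn : zpowers w₀ ≤ normalizer (A : Set G) := zpowers_le.mpr (hnA hwE')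
  have hcop : (Nat.card (zpowers w₀)).Coprime (Nat.card A) := by
    rw [hwc, hA.card]
    exact ((Nat.coprime_primes hqN.1 hr.1).mpr fun e => hrN (e ▸ hqN)).pow_right 2
  -- a fixed line
  have hfA : A ⊓ centralizer ({w₀} : Set G) ≠ ⊥ := by
    intro e
    refine sigmaCore_ne_bot hG hM (le_bot_iff.mp (hA.fixed_eq_bot hG hM ▸ le_inf le_rfl
      (le_centralizer_iff.mp ?_)))
    exact fpf_centralizes hG hM hE hwE' (hw₀o ▸ hqN.1) hfix' hAE (hnA hwE') e
  obtain ⟨a, ⟨haA, haC⟩, ha1⟩ := exists_mem_ne_one _ hfA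
  -- a moved line
  set A₀ := ⁅A, zpowers w₀⁆ with hA₀
  have hA₀A : A₀ ≤ A := Coprime.commutator_le_of_le_normalizer hwn
  have hA₀1 : A₀ ≠ ⊥ := by
    intro e
    rw [hA₀, commutator_eq_bot_iff_le_centralizer] at e
    have hAN : A.map (MulAut.conj g).toMonoidHom ≤ N := by
      rintro _ ⟨b, hb, rfl⟩
      exact hpush (mem_centralizer_singleton_iff.mp
        ((centralizer_zpowers w₀).le (e hb)))
    exact not_pRankLE_of_elementary (k := 1) hAN (isElementaryAbelian_map hA.elem g)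
      (by rw [card_map_conj, hA.card]) hrcyc
  have hA₀c : A₀ ≤ centralizer (sigmaCore M : Set G) :=
    fpf_centralizes hG hM hE hwE' (hw₀o ▸ hqN.1) hfix' (hA₀A.trans hAE)
      (Coprime.le_normalizer_commutator (mem_sup_right (mem_zpowers w₀))) (by
        rw [eq_bot_iff, ← Coprime.centralizer_inf_commutator_eq_bot hwn hcop, centralizer_zpowers]
        exact le_inf (inf_le_inf_right _ hA₀A) inf_le_left)
  obtain ⟨b, hb, hb1⟩ := exists_mem_ne_one _ hA₀1
  have hbC : ∀ s ∈ sigmaCore M, Commute b s := fun s hs =>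
    (mem_centralizer_iff.mp (hA₀c hb) s hs).symm
  have hbN : b ∈ N := hxN (mem_centralizer_of_commute (hbC x hx))
  have hCb : centralizer ({b} : Set G) ≤ M := by
    rw [← centralizer_zpowers]
    refine (hA.unique_centralizer hG hM (zpowers_le.mpr (hA₀A hb)) ?_
      (by rwa [Ne, zpowers_eq_bot])).1
    refine ne_bot_of_le_ne_bot (sigmaCore_ne_bot hG hM) (le_inf le_rfl fun s hs => ?_)
    rw [centralizer_zpowers]
    exact mem_centralizer_of_commute (hbC s hs).symm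
  have hbN0 : sigmaCore N ⊓ centralizer ({b} : Set G) = ⊥ := by
    rw [eq_bot_iff, ← hMN.2.2.1]
    exact fun s hs => ⟨⟨hCb hs.2, sigmaCore_le N hs.1⟩, hs.1⟩
  have haN : MulAut.conj g a ∈ N := hpush (mem_centralizer_singleton_iff.mp haC)
  have hbo : orderOf b = r := orderOf_eq_prime (hA.elem.2 b (hA₀A hb)) hb1
  have hao : orderOf (MulAut.conj g a) = r := by
    rw [MulEquiv.orderOf_eq, orderOf_eq_prime (hA.elem.2 a haA) ha1]
  obtain ⟨T₁, hT₁⟩ := exists_sylow_ge (M := N)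
    (isPGroup_of_card_prime (P := zpowers b) (by rw [Nat.card_zpowers, hbo])) (zpowers_le.mpr hbN)
  obtain ⟨T₂, hT₂⟩ := exists_sylow_ge (M := N)
    (isPGroup_of_card_prime (P := zpowers (MulAut.conj g a)) (by rw [Nat.card_zpowers, hao]))
    (zpowers_le.mpr haN)
  obtain ⟨n, hn⟩ := MulAction.exists_smul_eq N T₁ T₂
  haveI hTc : IsCyclic ↥((T₂ : Subgroup N).map N.subtype) :=
    isCyclic_of_rankLE_one_odd hG.1 (T₂.2.map _) (map_subtype_le _) hrcyc
  have heq : (zpowers b).map (MulAut.conj (n : G)).toMonoidHom = zpowers (MulAut.conj g a) := by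
    refine eq_of_card_eq_of_isCyclic hTc ?_ hT₂
      (by rw [card_map_conj, Nat.card_zpowers, Nat.card_zpowers, hbo, hao])
    rw [← hn, map_subtype_sylow_smul]
    exact map_mono hT₁
  obtain ⟨c, hc, hca⟩ := heq.ge (mem_zpowers (MulAut.conj g a))
  obtain ⟨i, rfl⟩ := mem_zpowers_iff.mp hc
  change MulAut.conj (n : G) (b ^ i) = MulAut.conj g a at hca
  have hay : Commute (MulAut.conj g a) y :=
    (show Commute a w₀ from mem_centralizer_singleton_iff.mp haC).map (MulAut.conj g).toMonoidHom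
  set z := (n : G)⁻¹ * y * n with hz
  have hzσ : z ∈ sigmaCore N := by
    simpa [hz] using (mem_normalizer_iff.mp
      (le_normalizer_sigmaCore N (N.inv_mem n.2)) y).mp hyσ
  have hzb : Commute z (b ^ i) := by
    have h1 : b ^ i = (n : G)⁻¹ * MulAut.conj g a * n := by
      rw [← hca]; simp [mul_assoc]
    rw [h1, hz]
    have := hay.eq
    calc (n : G)⁻¹ * y * n * ((n : G)⁻¹ * MulAut.conj g a * n)
        = (n : G)⁻¹ * (y * MulAut.conj g a) * n := by group
      _ = (n : G)⁻¹ * (MulAut.conj g a * y) * n := by rw [this]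
      _ = (n : G)⁻¹ * MulAut.conj g a * n * ((n : G)⁻¹ * y * n) := by group
  have hbi : b ∈ zpowers (b ^ i) := by
    have h1 : zpowers (b ^ i) = zpowers b := by
      refine eq_of_le_of_card_ge (zpowers_le.mpr (zpow_mem (mem_zpowers b) i)) ?_
      rw [Nat.card_zpowers, Nat.card_zpowers, hbo, ← hao, ← hca, MulEquiv.orderOf_eq]
    exact h1 ▸ mem_zpowers b
  obtain ⟨j, hj⟩ := mem_zpowers_iff.mp hbi
  have hzb' : Commute z b := hj ▸ hzb.zpow_right j
  have hz1 : z = 1 := mem_bot.mp (hbN0 ▸ ⟨hzσ, mem_centralizer_of_commute hzb'⟩)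
  refine hy1 ?_
  calc y = (n : G) * z * (n : G)⁻¹ := by rw [hz]; group
    _ = 1 := by rw [hz1]; group

end Cfsg.Agent.OddLocal
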