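import Cfsg.Agent.OddLocal.CNSolvable

/-!
Fixed-point-free complements in groups with nilpotent centralisers.
-/

set_option autoImplicit false

namespace Cfsg.Agent.OddLocal.CN

open Subgroup
open scoped commutatorElement

universe u

variable {G : Type u} [Group G] [Finite G]

/-- `E` acts fixed-point-freely on the nontrivial abelian subgroup `V`. -/
structure FPF (E V : Subgroup G) : Prop where
  abelian : IsMulCommutative V
  ne_bot : V ≠ ⊥
  norm : E ≤ normalizer (V : Set G)
  cop : (Nat.card E).Coprime (Nat.card V)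
  free : ∀ e ∈ E, e ≠ 1 → V ⊓ centralizer ({e} : Set G) = ⊥

variable {E V : Subgroup G}

theorem FPF.commute_of_normalize (h : FPF E V) {b c : G} {q r : ℕ} (hq : q.Prime) (hr : r.Prime)
    (hb : b ∈ E) (hc : c ∈ E) (hbo : orderOf b = q) (hco : orderOf c = r)
    (hn : c ∈ normalizer (zpowers b : Set G)) : Commute c b := by
  have := Fact.mk hq
  have := h.abelian
  by_contra hcomm
  have hc1 : c ≠ 1 := fun e => hr.one_lt.ne (by rw [← hco, e, orderOf_one])
  have hb1 : b ≠ 1 := fun e => hq.one_lt.ne (by rw [← hbo, e, orderOf_one])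
  have hfix : zpowers b ⊓ centralizer ({c} : Set G) = ⊥ := by
    have hcard : Nat.card (zpowers b) = q := by rw [Nat.card_zpowers, hbo]
    rcases (Nat.dvd_prime hq).mp (hcard ▸ card_dvd_of_le
      (inf_le_left : zpowers b ⊓ centralizer ({c} : Set G) ≤ zpowers b)) with h1 | h1
    · exact card_eq_one.mp h1
    · have heq := eq_of_le_of_card_ge
        (inf_le_left : zpowers b ⊓ centralizer ({c} : Set G) ≤ zpowers b) (by rw [h1, hcard])
      exact absurd (mem_centralizer_singleton_iff.mp (heq.ge (mem_zpowers b)).2).symm hcomm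
  have hX := FixedPointFree.le_centralizer_of_frobenius hr (c := c)
    (by rw [← hco, pow_orderOf_eq_one]) (U := V) (X := zpowers b)
    ((zpowers_le.mpr hb).trans h.norm) (h.norm hc) hn
    (h.cop.coprime_dvd_left (card_dvd_of_le (zpowers_le.mpr hb))) (h.free c hc hc1) hfix
  refine h.ne_bot (eq_bot_iff.mpr fun v hv => ?_)
  rw [← h.free b hb hb1]
  exact ⟨hv, mem_centralizer_singleton_iff.mpr
    (mem_centralizer_iff.mp (hX (mem_zpowers b)) v hv)⟩

/-- Commuting elements of the same prime order generate the same subgroup. -/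
theorem FPF.mem_zpowers_of_commute (h : FPF E V) {a b : G} {q : ℕ} (hq : q.Prime)
    (ha : a ∈ E) (hb : b ∈ E) (hao : orderOf a = q) (hbo : orderOf b = q) (hab : Commute a b) :
    b ∈ zpowers a := by
  have := Fact.mk hq
  have := h.abelian
  by_contra hnot
  set A := zpowers a ⊔ zpowers b with hA
  have hea : Cfsg.IsElementaryAbelian q A := Thompson.ea_sup
    (Thompson.ea_zpowers (by rw [← hao, pow_orderOf_eq_one]))
    (Thompson.ea_zpowers (by rw [← hbo, pow_orderOf_eq_one]))
    (zpowers_le.mpr (by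
      rw [FixedPointFree.centralizer_zpowers]
      exact mem_centralizer_singleton_iff.mpr hab))
  have hAE : A ≤ E := sup_le (zpowers_le.mpr ha) (zpowers_le.mpr hb)
  obtain ⟨k, hk⟩ := IsPGroup.iff_card.mp (Thompson.ea_isPGroup hea)
  have hlt : q < Nat.card A := by
    rw [← hao, ← Nat.card_zpowers]
    refine lt_of_le_of_ne (card_le_of_le le_sup_left) fun e => hnot ?_
    rw [eq_of_le_of_card_ge (le_sup_left : zpowers a ≤ A) e.ge]
    exact mem_sup_right (mem_zpowers b)
  have h2 : q ^ 2 ≤ Nat.card A := by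
    rw [hk] at hlt ⊢
    refine Nat.pow_le_pow_right hq.pos ?_
    by_contra hk2
    interval_cases k <;> simp at hlt
    exact absurd hlt (by have := hq.two_le; omega)
  have := hea.1
  have hgen := Coprime.iSup_centralizer_eq (Coprime.ea_not_isCyclic hea h2) (hAE.trans h.norm)
    (h.cop.coprime_dvd_left (card_dvd_of_le hAE))
  exact h.ne_bot (hgen ▸ iSup₂_eq_bot.mpr fun x hx => h.free x (hAE hx.1) hx.2)

theorem FPF.involution_unique (h : FPF E V) {s t : G} (hs : s ∈ E) (ht : t ∈ E)
    (hso : orderOf s = 2) (hto : orderOf t = 2) : s = t := by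
  have hinv : ∀ e ∈ E, orderOf e = 2 → ∀ v ∈ V, e * v * e⁻¹ = v⁻¹ := by
    intro e he heo v hv
    have he1 : e ≠ 1 := fun hh => by rw [hh, orderOf_one] at heo; omega
    have hw : e * v * e⁻¹ ∈ V := (mem_normalizer_iff.mp (h.norm he) v).mp hv
    have hee : e * e = 1 := by rw [← pow_two, ← heo, pow_orderOf_eq_one]
    have hcomm : v * (e * v * e⁻¹) = (e * v * e⁻¹) * v :=
      congrArg Subtype.val (h.abelian.is_comm.comm ⟨v, hv⟩ ⟨_, hw⟩)
    have hfix : v * (e * v * e⁻¹) ∈ V ⊓ centralizer ({e} : Set G) := by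
      refine ⟨V.mul_mem hv hw, mem_centralizer_singleton_iff.mpr ?_⟩
      have hei : e⁻¹ = e := inv_eq_of_mul_eq_one_right hee
      calc v * (e * v * e⁻¹) * e = v * e * v := by group
        _ = e * ((e * v * e⁻¹) * v) := by
          rw [hei, ← mul_assoc e, ← mul_assoc e, ← mul_assoc e, hee, one_mul]
        _ = e * (v * (e * v * e⁻¹)) := by rw [hcomm]
    rw [h.free e he he1, Subgroup.mem_bot] at hfix
    exact eq_inv_of_mul_eq_one_right hfix
  by_contra hne
  have hst : s * t⁻¹ ≠ 1 := fun e => hne (mul_inv_eq_one.mp e)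
  refine h.ne_bot (eq_bot_iff.mpr fun v hv => ?_)
  rw [← h.free _ (E.mul_mem hs (E.inv_mem ht)) hst]
  refine ⟨hv, mem_centralizer_singleton_iff.mpr ?_⟩
  have h1 : t⁻¹ * v * t = v⁻¹ := by
    have := hinv t ht hto v⁻¹ (V.inv_mem hv)
    rw [inv_inv] at this
    calc t⁻¹ * v * t = t⁻¹ * (t * v⁻¹ * t⁻¹) * t := by rw [this]
      _ = v⁻¹ := by group
  have h2 := hinv s hs hso v⁻¹ (V.inv_mem hv)
  rw [inv_inv] at h2
  have h3 : (s * t⁻¹) * v * (s * t⁻¹)⁻¹ = v := by
    calc (s * t⁻¹) * v * (s * t⁻¹)⁻¹ = s * (t⁻¹ * v * t) * s⁻¹ := by group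
      _ = v := by rw [h1, h2]
  exact (mul_inv_eq_iff_eq_mul.mp h3).symm

/-- A fixed-point-free CN-group is nilpotent. -/
theorem FPF.isNilpotent (h : FPF E V) (hCN : Cfsg.IsCNGroup G) : Group.IsNilpotent E := by
  rcases eq_or_ne E ⊥ with rfl | hE1
  · infer_instance
  by_cases hodd : Odd (Nat.card E)
  swap
  · rw [Nat.not_odd_iff_even, even_iff_two_dvd] at hodd
    obtain ⟨t, ht⟩ := exists_prime_orderOf_dvd_card' (G := E) 2 hodd
    rw [← Subgroup.orderOf_coe] at ht
    have ht1 : (t : G) ≠ 1 := fun e => by rw [e, orderOf_one] at ht; omega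
    refine Core.isNilpotent_mono (hCN t ht1) fun e he => mem_centralizer_singleton_iff.mpr ?_
    have h2 : orderOf (e * t * e⁻¹) = 2 := by
      rw [← MulAut.conj_apply, MulEquiv.orderOf_eq, ht]
    have := h.involution_unique (E.mul_mem (E.mul_mem he t.2) (E.inv_mem he)) t.2 h2 ht
    exact mul_inv_eq_iff_eq_mul.mp this
  have hsolv : Group.IsSolvable E :=
    isSolvable_of_isCNGroup (Nat.card E) E rfl hodd (isCNGroup_subgroup hCN E)
  obtain ⟨M, hMn, hMc, -, hM1⟩ := Coprime.exists_minimal_normal_abelian (⊤ : Subgroup E)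
    (fun e => hE1 (by rw [← range_subtype E, MonoidHom.range_eq_map, e, Subgroup.map_bot]))
    (inferInstance)
  obtain ⟨q, hq, hqd⟩ := Nat.exists_prime_and_dvd (show Nat.card M ≠ 1 from
    fun e => hM1 (card_eq_one.mp e))
  have := Fact.mk hq
  obtain ⟨b', hb⟩ := exists_prime_orderOf_dvd_card' q hqd
  set b : G := ((b' : E) : G) with hbdef
  have hbo : orderOf b = q := by rw [hbdef, Subgroup.orderOf_coe, Subgroup.orderOf_coe, hb]
  have hbE : b ∈ E := (b' : E).2
  have hb1 : b ≠ 1 := fun e => hq.one_lt.ne (by rw [← hbo, e, orderOf_one])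
  -- `⟨b⟩` is normalised by `E`
  have hbn : ∀ e ∈ E, e * b * e⁻¹ ∈ zpowers b := by
    intro e he
    have hm : (⟨e, he⟩ : E) * (b' : E) * (⟨e, he⟩ : E)⁻¹ ∈ M := hMn.conj_mem _ b'.2 _
    refine h.mem_zpowers_of_commute hq hbE (E.mul_mem (E.mul_mem he hbE) (E.inv_mem he)) hbo
      (by rw [← MulAut.conj_apply, MulEquiv.orderOf_eq, hbo]) ?_
    exact congrArg (fun z : M => ((z : E) : G)) (hMc.is_comm.comm b' ⟨_, hm⟩)
  have hnorm : ∀ e ∈ E, e ∈ normalizer (zpowers b : Set G) := by
    intro e he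
    refine Coprime.mem_normalizer_of_conj_smul_eq (eq_of_le_of_card_ge ?_ ?_)
    · rw [Coprime.conj_smul_eq_map, MonoidHom.map_zpowers]
      exact zpowers_le.mpr (hbn e he)
    · rw [Coprime.card_conj_smul]
  -- and so centralised
  set φ : E →* MulAut (zpowers b) :=
    (zpowers b).normalizerMonoidHom.comp (inclusion fun e he => hnorm e he) with hφ
  have hker : ∀ e : E, φ e = 1 → Commute (e : G) b := by
    intro e he
    have := congrArg Subtype.val (MulEquiv.congr_fun he ⟨b, mem_zpowers b⟩)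
    exact mul_inv_eq_iff_eq_mul.mp this
  suffices hall : ∀ e : E, φ e = 1 from
    Core.isNilpotent_mono (hCN b hb1) fun e he =>
      mem_centralizer_singleton_iff.mpr (hker ⟨e, he⟩ (hall ⟨e, he⟩))
  -- it suffices to treat elements of prime power order
  suffices hpp : ∀ (r : ℕ), r.Prime → ∀ e : E, IsPGroup r (zpowers e) → φ e = 1 by
    have htop : φ.ker = ⊤ := by
      rw [eq_top_iff]
      refine Coprime.le_of_forall_sylow_le fun r hr => ⟨default, fun e he => ?_⟩
      exact hpp r hr e (zpowers_primePow _ he)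
    exact fun e => MonoidHom.mem_ker.mp (htop ▸ mem_top e)
  intro r hr e he
  have := Fact.mk hr
  obtain ⟨k, hk⟩ := IsPGroup.iff_card.mp he
  rw [Nat.card_zpowers] at hk
  rcases eq_or_ne r q with rfl | hrq
  · have hd : orderOf (φ e) ∣ r - 1 := by
      rw [← card_mulAut_prime hq (show Nat.card (zpowers b) = r by rw [Nat.card_zpowers, hbo])]
      exact _root_.orderOf_dvd_natCard (φ e)
    have hd2 : orderOf (φ e) ∣ r ^ k := hk ▸ orderOf_map_dvd φ e
    refine orderOf_eq_one_iff.mp (Nat.eq_one_of_dvd_coprimes ?_ hd2 hd)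
    exact Nat.Coprime.pow_left k ((Nat.Prime.coprime_iff_not_dvd hr).mpr
      (Nat.not_dvd_of_pos_of_lt (by have := hr.two_le; omega) (by have := hr.two_le; omega)))
  · rcases Nat.eq_zero_or_pos k with rfl | hk0
    · rw [pow_zero] at hk
      rw [orderOf_eq_one_iff.mp hk, map_one]
    set c : G := (e : G) ^ r ^ (k - 1) with hcdef
    have hke : orderOf (e : G) = r ^ k := by rw [Subgroup.orderOf_coe, hk]
    have hco : orderOf c = r := by
      rw [hcdef, orderOf_pow' _ (pow_ne_zero _ hr.ne_zero), hke,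
        Nat.gcd_eq_right (pow_dvd_pow r (Nat.sub_le k 1)), Nat.pow_div (Nat.sub_le k 1) hr.pos,
        show k - (k - 1) = 1 by omega, pow_one]
    have hcE : c ∈ E := E.pow_mem e.2 _
    have hc1 : c ≠ 1 := fun h0 => hr.one_lt.ne (by rw [← hco, h0, orderOf_one])
    have hcb := h.commute_of_normalize hq hr hbE hcE hbo hco (hnorm c hcE)
    have heb : Commute (e : G) b := commute_of_mem (hCN c hc1)
      (mem_centralizer_singleton_iff.mpr ((Commute.refl (e : G)).pow_right _))
      (mem_centralizer_singleton_iff.mpr hcb.symm)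
      (by rw [hke, hbo]; exact ((Nat.coprime_primes hr hq).mpr hrq).pow_left k)
    refine MulEquiv.ext fun x => Subtype.ext ?_
    obtain ⟨j, hj⟩ := mem_zpowers_iff.mp x.2
    show (e : G) * x * (e : G)⁻¹ = x
    rw [← hj, (heb.zpow_right j).eq, mul_inv_cancel_right]

/-- The Sylow subgroups of a nilpotent fixed-point-free group are cyclic or quaternion. -/
theorem FPF.sylow_cyclic_or_quaternion (h : FPF E V) {q : ℕ} [hq : Fact q.Prime] (Q : Sylow q E) :
    IsCyclic (Q : Subgroup E) ∨ (q = 2 ∧ ∃ k : ℕ, 1 ≤ k ∧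
      Nonempty ((Q : Subgroup E) ≃* QuaternionGroup (2 ^ k))) := by
  refine Fusion.cyclic_or_quaternion_of_unique Q.2 fun H K hH hK => ?_
  have : Nontrivial (Q : Subgroup E) := by
    rw [← Finite.one_lt_card_iff_nontrivial]
    exact hq.out.one_lt.trans_le (le_of_eq_of_le hH.symm (card_le_card_group H))
  obtain ⟨n, hn, hcen⟩ := IsPGroup.nontrivial_iff_card (Q.2.to_subgroup
    (center (Q : Subgroup E))) |>.mp Q.2.center_nontrivial
  obtain ⟨z, hz⟩ := exists_prime_orderOf_dvd_card' (G := center (Q : Subgroup E)) q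
    (by rw [hcen]; exact dvd_pow_self q hn.ne')
  have main : ∀ H : Subgroup (Q : Subgroup E), Nat.card H = q → H = zpowers (z : (Q : Subgroup E)) := by
    intro H hH
    obtain ⟨u, hu⟩ := exists_prime_orderOf_dvd_card' (G := H) q (dvd_of_eq hH.symm)
    have huz : Commute (u : (Q : Subgroup E)) z := mem_center_iff.mp z.2 u
    have hmem : (((u : (Q : Subgroup E)) : E) : G) ∈ zpowers (((z : (Q : Subgroup E)) : E) : G) :=
      h.mem_zpowers_of_commute hq.out ((z : (Q : Subgroup E)) : E).2
        ((u : (Q : Subgroup E)) : E).2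
        (by simp only [Subgroup.orderOf_coe]; exact hz) (by simp only [Subgroup.orderOf_coe]; exact hu)
        (congrArg (fun w : (Q : Subgroup E) => ((w : E) : G)) huz.symm.eq)
    obtain ⟨i, hi⟩ := mem_zpowers_iff.mp hmem
    have hu' : (u : (Q : Subgroup E)) ∈ zpowers (z : (Q : Subgroup E)) :=
      mem_zpowers_iff.mpr ⟨i, by
        apply Subtype.ext; apply Subtype.ext
        simpa using hi⟩
    have e1 : zpowers (u : (Q : Subgroup E)) = H := eq_of_le_of_card_ge (zpowers_le.mpr u.2)
      (by rw [hH, Nat.card_zpowers, Subgroup.orderOf_coe, hu])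
    rw [← e1]
    exact eq_of_le_of_card_ge (zpowers_le.mpr hu')
      (by rw [Nat.card_zpowers, Nat.card_zpowers, Subgroup.orderOf_coe, hz, Subgroup.orderOf_coe, hu])
  rw [main H hH, main K hK]

/-- An odd order nilpotent fixed-point-free group is cyclic. -/
theorem FPF.isCyclic (h : FPF E V) (hnil : Group.IsNilpotent E) (hodd : Odd (Nat.card E)) :
    IsCyclic E := by
  have : IsZGroup E := by
    refine ⟨fun r hr Q => ?_⟩
    have := Fact.mk hr
    refine (h.sylow_cyclic_or_quaternion Q).resolve_right ?_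
    rintro ⟨rfl, k, -, ⟨e⟩⟩
    have h2 : 2 ∣ Nat.card E := by
      refine dvd_trans ?_ (Q : Subgroup E).card_subgroup_dvd_card
      rw [Nat.card_congr e.toEquiv, Nat.card_eq_fintype_card, QuaternionGroup.card]
      exact dvd_mul_of_dvd_left (by norm_num) _
    exact (Nat.not_even_iff_odd.mpr hodd) (even_iff_two_dvd.mpr h2)
  infer_instance

end Cfsg.Agent.OddLocal.CN
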