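import Cfsg.Agent.OddLocal.Exceptional
import Cfsg.Agent.OddLocal.PrimeActionFitting
import Cfsg.Agent.OddLocal.UniquenessFitting
import Cfsg.Agent.OddLocal.TransOvergroup
import Cfsg.Agent.OddLocal.SigmaComplement
import Cfsg.Agent.S1442
import Cfsg.Agent.HSub.Supersolvable

/-!
BG §11, Theorem 11.7: `A` is normal in a complement to `M_σ`.
-/

set_option autoImplicit false
set_option linter.unusedSectionVars false
set_option linter.style.haveILetI false

namespace Cfsg.Agent.OddLocal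

open Subgroup Cfsg
open scoped commutatorElement

universe u

variable {G : Type u} [Group G] [Finite G] {p : ℕ} [hp : Fact p.Prime] {M A : Subgroup G}

omit hp in
/-- Commutators of operators on a cyclic group act trivially. -/
theorem commutator_le_centralizer_of_isCyclic {T X Y : Subgroup G} (hT : IsCyclic T)
    (hX : X ≤ normalizer (T : Set G)) (hY : Y ≤ normalizer (T : Set G)) :
    ⁅X, Y⁆ ≤ centralizer (T : Set G) := by
  obtain ⟨⟨t, htT⟩, ht⟩ := hT.exists_generator
  have hgen : ∀ v ∈ T, ∃ i : ℤ, t ^ i = v := fun v hv => by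
    obtain ⟨i, hi⟩ := mem_zpowers_iff.mp (ht ⟨v, hv⟩)
    exact ⟨i, by simpa using congrArg Subtype.val hi⟩
  rw [commutator_le]
  intro x hx y hy
  obtain ⟨i, hi⟩ := hgen _ ((mem_normalizer_iff.mp (hX hx) t).mp htT)
  obtain ⟨j, hj⟩ := hgen _ ((mem_normalizer_iff.mp (hY hy) t).mp htT)
  have h1 : x * y * t * (x * y)⁻¹ = y * x * t * (y * x)⁻¹ := by
    calc x * y * t * (x * y)⁻¹ = x * (y * t * y⁻¹) * x⁻¹ := by group
      _ = (x * t * x⁻¹) ^ j := by rw [← hj, conj_zpow]
      _ = (y * t * y⁻¹) ^ i := by rw [← hi, ← hj, ← zpow_mul, ← zpow_mul, mul_comm]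
      _ = y * (x * t * x⁻¹) * y⁻¹ := by rw [conj_zpow, hi]
      _ = y * x * t * (y * x)⁻¹ := by group
  rw [mem_centralizer_iff]
  intro v hv
  obtain ⟨k, rfl⟩ := hgen v hv
  refine (((show Commute ⁅x, y⁆ t from ?_).zpow_right k).symm).eq
  calc ⁅x, y⁆ * t = x * y * (x⁻¹ * y⁻¹ * t * (y * x)) * (y * x)⁻¹ := by
        rw [commutatorElement_def]; group
    _ = t * ⁅x, y⁆ := by
      rw [commutatorElement_def]
      calc x * y * (x⁻¹ * y⁻¹ * t * (y * x)) * (y * x)⁻¹
          = x * y * (x⁻¹ * y⁻¹) * t := by group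
        _ = t * (x * y * x⁻¹ * y⁻¹) := by
          have h2 : (y * x)⁻¹ * (x * y) * t * ((y * x)⁻¹ * (x * y))⁻¹ = t := by
            calc (y * x)⁻¹ * (x * y) * t * ((y * x)⁻¹ * (x * y))⁻¹
                = (y * x)⁻¹ * (x * y * t * (x * y)⁻¹) * (y * x) := by group
              _ = t := by rw [h1]; group
          have h3 : Commute (x * y * x⁻¹ * y⁻¹) (y * x * t * (y * x)⁻¹) := by
            refine (show (x * y * x⁻¹ * y⁻¹) * (y * x * t * (y * x)⁻¹) =
              (y * x * t * (y * x)⁻¹) * (x * y * x⁻¹ * y⁻¹) from ?_)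
            calc (x * y * x⁻¹ * y⁻¹) * (y * x * t * (y * x)⁻¹)
                = x * y * t * (x * y)⁻¹ * (x * y * x⁻¹ * y⁻¹) := by group
              _ = (y * x * t * (y * x)⁻¹) * (x * y * x⁻¹ * y⁻¹) := by rw [h1]
          obtain ⟨m, hm⟩ : ∃ m : ℤ, (y * x * t * (y * x)⁻¹) ^ m = t := by
            obtain ⟨m, hm⟩ := hgen _ ((mem_normalizer_iff.mp
              (inv_mem (mul_mem (hY hy) (hX hx))) t).mp htT)
            refine ⟨m, ?_⟩
            rw [conj_zpow, hm]
            group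
          have h4 := h3.zpow_right m
          rw [hm] at h4
          rw [← h4.eq]
          group

variable (hG : IsMinSimpleOddOrder G) (hM : IsCoatom M)
include hG hM

omit hp in
theorem sigma_compl_nilpotent_le {r : ℕ} [Fact r.Prime] (hn : Group.IsNilpotent (sigmaCore M))
    {X : Subgroup G} (h : ∀ (q : ℕ) [Fact q.Prime] (S : Sylow q G), q ∈ sigma M →
      (S : Subgroup G) ≤ sigmaCore M → M ≤ normalizer ((S : Subgroup G) : Set G) →
      X ≤ centralizer ((S : Subgroup G) : Set G)) :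
    X ≤ centralizer (sigmaCore M : Set G) := by
  rw [le_centralizer_iff]
  refine Coprime.le_of_forall_sylow_le fun q hq => ?_
  haveI := Fact.mk hq
  by_cases hqσ : q ∈ sigma M
  · obtain ⟨S, hS, hSn⟩ := exists_normal_sylow hG hM hn hqσ
    obtain ⟨P⟩ : Nonempty (Sylow q ↥(sigmaCore M)) := inferInstance
    refine ⟨P, ?_⟩
    have hle : (P : Subgroup ↥(sigmaCore M)).map (sigmaCore M).subtype ≤ (S : Subgroup G) :=
      le_sylow_of_normal hG hM (hS.trans (sigmaCore_le M)) hSn (P.2.map _)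
        ((map_subtype_le _).trans (sigmaCore_le M))
    exact hle.trans (le_centralizer_iff.mp (h q S hqσ hS hSn))
  · obtain ⟨P⟩ : Nonempty (Sylow q ↥(sigmaCore M)) := inferInstance
    refine ⟨P, fun x hx => ?_⟩
    obtain ⟨y, hy, rfl⟩ := hx
    have h1 : y = 1 := by
      rw [← orderOf_eq_one_iff]
      obtain ⟨k, hk⟩ := P.2.exists_orderOf_eq_pow ⟨y, hy⟩
      rw [← orderOf_coe] at hk
      rcases k with _ | k
      · simpa using hk
      · exact absurd (piNum_sigmaCore M q hq
          ((hk ▸ dvd_pow_self q k.succ_ne_zero).trans (_root_.orderOf_dvd_natCard y))) hqσ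
    rw [h1, map_one]
    exact one_mem _

/-- A normal `s`-subgroup centralising `M_σ` is cyclic, for `s ∉ σ(M)`. -/
theorem isCyclic_of_centralizes {T : Subgroup G} (hT : IsPGroup p T) (hTM : T ≤ M)
    (hMT : M ≤ normalizer (T : Set G)) (hTc : sigmaCore M ≤ centralizer (T : Set G))
    (hpσ : p ∉ sigma M) : IsCyclic T := by
  by_contra hnc
  have hT1 : T ≠ ⊥ := fun e => hnc (by subst e; infer_instance)
  have hp2 : p ≠ 2 := by
    obtain ⟨r, hr, hrd⟩ := exists_prime_dvd_of_ne_bot hT1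
    obtain ⟨k, hk⟩ := IsPGroup.iff_card.mp hT
    have hrp : r = p := (Nat.prime_dvd_prime_iff_eq hr hp.out).mp (hr.dvd_of_dvd_pow (hk ▸ hrd))
    intro e
    have h1 : 2 ∣ Nat.card G := e ▸ hrp ▸ hrd.trans (card_subgroup_dvd_card T)
    exact absurd (hG.1.of_dvd_nat h1) (by decide)
  have hσ1 := sigmaCore_ne_bot hG hM
  set Z := omegaCenter p T with hZdef
  have hZT : Z ≤ T := omegaCenter_le
  have hMZ : M ≤ normalizer (Z : Set G) := hMT.trans normalizer_le_normalizer_omegaCenter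
  have hZne : Z ≠ ⊥ := by
    obtain ⟨z, hz, hz1⟩ := exists_mem_omegaCenter hT hT1
    exact fun e => hz1 (by rwa [← hZdef, e, mem_bot] at hz)
  have hZg : IsPGroup p Z := hT.to_le hZT
  have hNZ : normalizer (Z : Set G) = M :=
    normalizer_eq_of_coatom hG hM hZne (ne_top_of_not_dvd hM (hZT.trans hTM)) hMZ
  obtain ⟨k, hk⟩ := IsPGroup.iff_card.mp hZg
  rcases k with _ | _ | k
  · exact hZne (card_eq_one.mp (by simpa using hk))
  · -- a normal line
    obtain ⟨A', -, hA'e, hA'c⟩ := Fusion.exists_normal_elementary_card_sq hp2 hT hnc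
    set A := A'.map T.subtype with hAdef
    have hAT : A ≤ T := map_subtype_le _
    have hAe : IsElementaryAbelian p A :=
      ⟨@Subgroup.map_isMulCommutative _ _ _ _ A' T.subtype hA'e.1, by
        rintro _ ⟨x, hx, rfl⟩
        rw [← map_pow, hA'e.2 x hx, map_one]⟩
    have hpair : IsTauPair p M A := ⟨hAT.trans hTM, hAe,
      by rw [hAdef, card_map_of_injective T.subtype_injective, hA'c], hpσ⟩
    have hZA : Z ≤ A := fun z hz => hpair.mem_of_pow hG hM (mem_omegaCenter_iff.mp hz).2.1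
      (mem_centralizer_iff.mpr fun a ha => ((mem_omegaCenter_iff.mp hz).2.2 a (hAT ha)).symm)
    have hexc : IsExceptional p M A := ⟨hpair, Z, hZA, by simpa using hk, hNZ.le⟩
    obtain ⟨P, hAP⟩ := exists_sylow_ge (Coprime.ea_isPGroup hAe) hpair.le
    obtain ⟨-, -, h3, -⟩ := hexc.structure_of_sylow hG hM P hAP
    refine hσ1 (le_bot_iff.mp (h3 ▸ le_inf le_rfl (hTc.trans (centralizer_le ?_))))
    exact SetLike.coe_subset_coe.mpr hAT
  · -- an invariant plane
    have hZe : IsElementaryAbelian p Z := omegaCenter_elementary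
    have hZ2 : Nat.card Z = p ^ 2 := by
      rcases k with _ | k
      · exact hk
      refine absurd (?_ : p ∈ alpha M) fun hα => hpσ (alpha_subset_sigma hG hM hα)
      refine ⟨hp.out, fun hr => not_pRankLE_of_elementary (k := 2) (hZT.trans hTM) hZe ?_ hr⟩
      rw [hk]
      exact Nat.pow_le_pow_right hp.out.pos (by omega)
    have hpair : IsTauPair p M Z := ⟨hZT.trans hTM, hZe, hZ2, hpσ⟩
    have hCM : centralizer (Z : Set G) ≤ M := (centralizer_le_normalizer _).trans hNZ.le
    obtain ⟨P, hZP⟩ := exists_sylow_ge (Coprime.ea_isPGroup hZe) hpair.le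
    obtain ⟨n, hn, hnM⟩ := exists_not_mem_normalizer hG hM hpair.dvd_card hpσ P
    set R := (P : Subgroup M).map M.subtype with hR
    obtain ⟨q, hq⟩ := sigma_nonempty hG hM
    haveI := Fact.mk hq.1
    have hqp : q ≠ p := fun e => hpσ (e ▸ hq)
    have hRK : R ≤ normalizer (sigmaCore M : Set G) := (map_subtype_le _).trans (le_normalizer_sigmaCore M)
    have hcop : (Nat.card R).Coprime (Nat.card (sigmaCore M)) := by
      refine coprime_card_of_piNum ?_ (piNum_sigmaCore M)
      intro r hr hd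
      obtain ⟨j, hj⟩ := IsPGroup.iff_card.mp (P.2.map M.subtype : IsPGroup p R)
      rw [(Nat.prime_dvd_prime_iff_eq hr hp.out).mp (hr.dvd_of_dvd_pow (hj ▸ hd))]
      exact hpσ
    haveI : Group.IsSolvable R := Coprime.isSolvable_of_le (map_subtype_le _) (isSolvable_coatom hG hM)
    obtain ⟨Q, hQ⟩ := Coprime.exists_invariant_sylow hRK hcop (Or.inl inferInstance) q
    obtain ⟨S, hS⟩ := sylow_of_sigmaCore hG hM hq Q
    have hSK : (S : Subgroup G) ≤ sigmaCore M := hS.le.trans (map_subtype_le _)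
    set S₂ := MulAut.conj n • S with hS₂def
    have hS₂ : (S₂ : Subgroup G) = (S : Subgroup G).map (MulAut.conj n).toMonoidHom := by
      rw [hS₂def]; rfl
    have hA₂ : Z ≤ normalizer ((S₂ : Subgroup G) : Set G) := by
      intro a ha
      refine mem_normalizer_of_map_conj ?_
      have h0 : n⁻¹ * a * n ∈ R := (mem_normalizer_iff''.mp hn a).mp (hZP ha)
      have h1 := map_conj_eq_self_of_mem ((hS ▸ hQ) h0)
      calc (S₂ : Subgroup G).map (MulAut.conj a).toMonoidHom
          = ((S : Subgroup G).map (MulAut.conj (n⁻¹ * a * n)).toMonoidHom).map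
              (MulAut.conj n).toMonoidHom := by
            rw [hS₂, map_conj_map_conj, map_conj_map_conj]
            congr 3
            group
        _ = (S₂ : Subgroup G) := by rw [h1, hS₂]
    have hZn : Z ≤ M.map (MulAut.conj n).toMonoidHom :=
      hZP.trans ((map_conj_eq_self_of_mem hn).ge.trans (map_mono (map_subtype_le _)))
    have hpair' : IsTauPair p (M.map (MulAut.conj n).toMonoidHom) Z :=
      ⟨hZn, hZe, hZ2, by rwa [sigma_map_conj]⟩
    obtain ⟨a, ha, ha1, hafix⟩ := hpair'.exists_fixed hG (isCoatom_map_conj hM n)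
      (X := (S₂ : Subgroup G)) (by
        rw [hS₂, sigmaCore_map_conj hG hM]
        exact map_mono hSK) (sylow_ne_bot_of_sigma hG hM S₂ hq) hA₂
    rcases hpair.eq_bot_of_meet hG hM hCM hq hnM (S₁ := S) (S₂ := S₂)
      (hSK.trans (sigmaCore_le M)) (hS₂.le.trans (map_mono (hSK.trans (sigmaCore_le M))))
      (hZP.trans (hS ▸ hQ)) hA₂ (H := centralizer {a}) (centralizer_ne_top hG ha1)
      (fun b hb => mem_centralizer_singleton_iff.mpr (Coprime.ea_comm hZe hb ha)) with e | e
    · refine sylow_ne_bot_of_sigma hG hM S hq (le_bot_iff.mp (e ▸ le_inf ?_ le_rfl))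
      intro x hx
      exact mem_centralizer_singleton_iff.mpr
        (mem_centralizer_iff.mp (hTc (hSK hx)) a (hZT ha)).symm
    · exact hafix (by rw [inf_comm]; exact e)

omit hp in
/-- The normal `σ(M)'`-part of `C_M(M_σ)`. -/
theorem fitting_sigmaCompl_isCyclic {q : ℕ} [Fact q.Prime] :
    IsCyclic ↥(rPart q (fittingOf (piCoreOf (sigma M)ᶜ (M ⊓ centralizer (sigmaCore M : Set G))))) ∧
      M ≤ normalizer (rPart q (fittingOf
        (piCoreOf (sigma M)ᶜ (M ⊓ centralizer (sigmaCore M : Set G)))) : Set G) := by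
  set D := M ⊓ centralizer (sigmaCore M : Set G) with hD
  set D₀ := piCoreOf (sigma M)ᶜ D with hD₀
  set T := rPart q (fittingOf D₀) with hT
  have hMC : M ≤ normalizer (centralizer (sigmaCore M : Set G) : Set G) :=
    Coprime.le_normalizer_centralizer (le_normalizer_sigmaCore M)
  have hMD : M ≤ normalizer (D : Set G) := Coprime.le_normalizer_inf Subgroup.le_normalizer hMC
  haveI : (piCore (sigma M)ᶜ D).Characteristic := piCore_characteristic _
  have hMD₀ : M ≤ normalizer (D₀ : Set G) :=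
    LocalStructure.le_normalizer_map_characteristic hMD _
  have hMT : M ≤ normalizer (T : Set G) :=
    le_normalizer_rPart (LocalStructure.le_normalizer_map_characteristic hMD₀ _)
  refine ⟨?_, hMT⟩
  by_cases hT1 : T = ⊥
  · rw [hT1]; infer_instance
  have hTD₀ : T ≤ D₀ := rPart_le.trans (map_subtype_le _)
  refine isCyclic_of_centralizes hG hM isPGroup_rPart
    (hTD₀.trans ((piCoreOf_le _ _).trans inf_le_left)) hMT
    (le_centralizer_iff.mp (hTD₀.trans ((piCoreOf_le _ _).trans inf_le_right))) fun hqσ => ?_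
  obtain ⟨r, hr, hrd⟩ := exists_prime_dvd_of_ne_bot hT1
  obtain ⟨k, hk⟩ := IsPGroup.iff_card.mp (isPGroup_rPart : IsPGroup q T)
  have hrq := (Nat.prime_dvd_prime_iff_eq hr Fact.out).mp (hr.dvd_of_dvd_pow (hk ▸ hrd))
  exact piNum_piCoreOf (sigma M)ᶜ D r hr (hrd.trans (card_dvd_of_le hTD₀)) (hrq ▸ hqσ)

omit hp in
/-- A `q`-subgroup of `C_M(M_σ)`, `q ∉ σ(M)`, lies in its `σ(M)'`-core. -/
theorem le_compl_core {q : ℕ} [hq : Fact q.Prime] (hqσ : q ∉ sigma M) {R : Subgroup G}
    (hRq : IsPGroup q R) (hRD : R ≤ M ⊓ centralizer (sigmaCore M : Set G)) :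
    R ≤ piCoreOf (sigma M)ᶜ (M ⊓ centralizer (sigmaCore M : Set G)) := by
  set D := M ⊓ centralizer (sigmaCore M : Set G) with hD
  set D₀ := piCoreOf (sigma M)ᶜ D with hD₀
  set Z := sigmaCore M ⊓ D with hZdef
  have hZD : Z ≤ D := inf_le_right
  haveI : (Z.subgroupOf D).Normal := normal_subgroupOf_of_le_normalizer
    (Coprime.le_normalizer_inf (inf_le_left.trans (le_normalizer_sigmaCore M)) Subgroup.le_normalizer)
  have hidx : ∀ r : ℕ, r.Prime → r ∣ (Z.subgroupOf D).index → r ∉ sigma M := by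
    intro r hr hd hrσ
    have h1 : (sigmaCore M ⊓ D).relIndex D = (sigmaCore M).relIndex D := inf_relIndex_right _ _
    have h2 : r ∣ (sigmaCore M).relIndex D := h1 ▸ hd
    haveI : ((sigmaCore M).subgroupOf M).Normal :=
      normal_subgroupOf_of_le_normalizer (le_normalizer_sigmaCore M)
    refine (isPiHallOf_sigmaCore hG hM).2.2 r hr hrσ (h2.trans ?_)
    rw [← relIndex_subgroupOf (K := D) (L := M) inf_le_left]
    exact relIndex_dvd_index_of_normal _ _
  have hcop : Nat.Coprime (Nat.card (Z.subgroupOf D)) (Z.subgroupOf D).index :=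
    Nat.coprime_of_dvd fun r hr h1 h2 => hidx r hr h2 (piNum_sigmaCore M r hr
      (h1.trans ((Coprime.card_subgroupOf hZD).dvd.trans (card_dvd_of_le inf_le_left))))
  obtain ⟨K, hK⟩ := exists_right_complement'_of_coprime hcop
  haveI hKn : K.Normal := by
    refine ⟨fun k hk d => ?_⟩
    obtain ⟨⟨⟨z, hz⟩, ⟨l, hl⟩⟩, rfl⟩ := hK.2 d
    have hcen : Commute z (l * k * l⁻¹) := Subtype.ext
      (mem_centralizer_iff.mp ((l * k * l⁻¹ : D).2.2) (z : G) (mem_subgroupOf.mp hz).1)
    change z * l * k * (z * l)⁻¹ ∈ K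
    rw [show z * l * k * (z * l)⁻¹ = z * (l * k * l⁻¹) * z⁻¹ by group, hcen.eq, mul_inv_cancel_right]
    exact K.mul_mem (K.mul_mem hl hk) (K.inv_mem hl)
  have hKσ : PiNum (sigma M)ᶜ (K.map D.subtype) := by
    intro r hr hd
    rw [card_map_of_injective D.subtype_injective, ← hK.symm.index_eq_card] at hd
    exact hidx r hr hd
  have hle : K.map D.subtype ≤ D₀ := le_piCoreOf (map_subtype_le _) (by
    intro d hd
    rw [mem_normalizer_iff]
    intro x
    constructor
    · rintro ⟨k, hk, rfl⟩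
      exact ⟨⟨d, hd⟩ * k * ⟨d, hd⟩⁻¹, hKn.conj_mem k hk _, rfl⟩
    · rintro ⟨k, hk, hkx⟩
      refine ⟨⟨d, hd⟩⁻¹ * k * ⟨d, hd⟩, by simpa using hKn.conj_mem k hk (⟨d, hd⟩ : D)⁻¹, ?_⟩
      change d⁻¹ * (k : G) * d = x
      rw [show (k : G) = d * x * d⁻¹ from hkx]
      group) hKσ
  intro x hx
  refine hle ⟨⟨x, hRD hx⟩, ?_, rfl⟩
  change (⟨x, hRD hx⟩ : D) ∈ K
  rw [← QuotientGroup.eq_one_iff, ← orderOf_eq_one_iff]
  obtain ⟨k, hk⟩ := hRq.exists_orderOf_eq_pow ⟨x, hx⟩
  rw [← orderOf_coe] at hk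
  refine Nat.eq_one_of_dvd_coprimes (((hq.out.coprime_iff_not_dvd.mpr ?_)).pow_left k)
    (hk ▸ ((orderOf_map_dvd (QuotientGroup.mk' K) _).trans (orderOf_coe _).symm.dvd))
    (_root_.orderOf_dvd_natCard _)
  rw [← index_eq_card, hK.index_eq_card]
  intro hd
  exact hqσ (piNum_sigmaCore M q hq.out
    (hd.trans ((Coprime.card_subgroupOf hZD).dvd.trans (card_dvd_of_le inf_le_left))))

namespace IsExceptional

variable (h : IsExceptional p M A)
include h

/-- `[R, A]` lies in a cyclic normal subgroup of `M`, for invariant `q`-subgroups `R`. -/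
theorem commutator_le_cyclic {q : ℕ} [hq : Fact q.Prime] (hqσ : q ∉ sigma M) (hqp : q ≠ p)
    {R : Subgroup G} (hR : IsPGroup q R) (hRM : R ≤ M) (hAR : A ≤ normalizer (R : Set G)) :
    ⁅R, A⁆ ≤ rPart q (fittingOf (piCoreOf (sigma M)ᶜ (M ⊓ centralizer (sigmaCore M : Set G)))) := by
  by_cases hR1 : R = ⊥
  · rw [hR1, commutator_bot_left]; exact bot_le
  obtain ⟨P, hAP⟩ := exists_sylow_ge (Coprime.ea_isPGroup h.elem) h.le
  obtain ⟨-, -, -, a₁, ha₁, a₂, ha₂, -, hgen, hf₁, hf₂⟩ := h.structure_of_sylow hG hM P hAP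
  have hnil := h.sigmaCore_nilpotent hG hM
  have hq2 : q ≠ 2 := by
    obtain ⟨r, hr, hrd⟩ := exists_prime_dvd_of_ne_bot hR1
    obtain ⟨k, hk⟩ := IsPGroup.iff_card.mp hR
    have hrq := (Nat.prime_dvd_prime_iff_eq hr hq.out).mp (hr.dvd_of_dvd_pow (hk ▸ hrd))
    intro e
    have h1 : 2 ∣ Nat.card G := e ▸ hrq ▸ hrd.trans (card_subgroup_dvd_card R)
    exact absurd (hG.1.of_dvd_nat h1) (by decide)
  set C := centralizer (sigmaCore M : Set G) with hC
  have hMC : M ≤ normalizer (C : Set G) :=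
    Coprime.le_normalizer_centralizer (le_normalizer_sigmaCore M)
  -- each fixed-point-free line gives commutators centralising `M_σ`
  have key : ∀ a ∈ A, sigmaCore M ⊓ centralizer {a} = ⊥ → ⁅R, zpowers a⁆ ≤ C := by
    intro a ha hfa
    refine sigma_compl_nilpotent_le (r := q) hG hM hnil fun r _ S hrσ hS hSn => ?_
    have hrq : q ≠ r := fun e => hqσ (e ▸ hrσ)
    have hrp : p ≠ r := fun e => h.not_sigma (e ▸ hrσ)
    exact PrimeActionFitting.commutator_le_centralizer_pgroup (p := r) (q := q) (s := p) hp.out hq2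
      (h.toIsTauPair.p_ne_two hG) hrq hrp hqp.symm (h.elem.2 a ha) S.2 (hSn (h.le ha)) hR (hAR ha)
      (hRM.trans hSn) (le_bot_iff.mp (hfa ▸ inf_le_inf_right _ hS))
  have hRAC : ⁅R, A⁆ ≤ C := by
    set N := normalizer (C : Set G) with hN
    haveI : (C.subgroupOf N).Normal := inferInstanceAs (C.subgroupOf (normalizer (C : Set G))).Normal
    set f := QuotientGroup.mk' (C.subgroupOf N)
    have hRN : R ≤ N := hRM.trans hMC
    have hAN : A ≤ N := h.le.trans hMC
    have hsub : A ≤ ((centralizer (f '' (R.subgroupOf N : Set N))).comap f).map N.subtype := by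
      rw [← hgen]
      refine sup_le ?_ ?_ <;> rw [zpowers_le]
      · refine ⟨⟨a₁, hAN ha₁⟩, mem_centralizer_iff.mpr ?_, rfl⟩
        rintro _ ⟨r, hr, rfl⟩
        rw [← commutatorElement_eq_one_iff_mul_comm, ← map_commutatorElement]
        exact (QuotientGroup.eq_one_iff _).mpr
          (key a₁ ha₁ hf₁ (commutator_mem_commutator hr (mem_zpowers a₁)) :)
      · refine ⟨⟨a₂, hAN ha₂⟩, mem_centralizer_iff.mpr ?_, rfl⟩
        rintro _ ⟨r, hr, rfl⟩
        rw [← commutatorElement_eq_one_iff_mul_comm, ← map_commutatorElement]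
        exact (QuotientGroup.eq_one_iff _).mpr
          (key a₂ ha₂ hf₂ (commutator_mem_commutator hr (mem_zpowers a₂)) :)
    rw [commutator_le]
    intro r hr a ha
    obtain ⟨b, hb, hba⟩ := hsub ha
    have h1 := mem_centralizer_iff.mp hb (f ⟨r, hRN hr⟩) ⟨⟨r, hRN hr⟩, hr, rfl⟩
    rw [← commutatorElement_eq_one_iff_mul_comm, ← map_commutatorElement] at h1
    have h2 := (QuotientGroup.eq_one_iff _).mp h1
    rw [mem_subgroupOf, show ((⁅(⟨r, hRN hr⟩ : N), b⁆ : N) : G) = ⁅r, a⁆ by rw [← hba]; rfl] at h2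
    exact h2
  set R₁ := ⁅R, A⁆ with hR₁
  have hR₁R : R₁ ≤ R := Coprime.commutator_le_of_le_normalizer hAR
  have hR₁q : IsPGroup q R₁ := hR.to_le hR₁R
  set D := M ⊓ C with hD
  have hR₁D : R₁ ≤ D := le_inf (hR₁R.trans hRM) hRAC
  set D₀ := piCoreOf (sigma M)ᶜ D with hD₀
  have hR₁D₀ : R₁ ≤ D₀ := le_compl_core hG hM hqσ hR₁q hR₁D
  -- it centralises the Fitting subgroup
  have hAM := h.le
  have hR₁N : A ≤ normalizer (R₁ : Set G) := normalizer_commutator_ge_right R A
  have hcopA : (Nat.card A).Coprime (Nat.card R) := by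
    obtain ⟨k, hk⟩ := IsPGroup.iff_card.mp hR
    rw [hk, h.card]
    exact (((Nat.coprime_primes hp.out hq.out).mpr hqp.symm).pow_left 2).pow_right k
  have hidem : ⁅R₁, A⁆ = R₁ := Coprime.commutator_commutator_eq hAR hcopA
    (Or.inl (Coprime.ea_isSolvable h.elem))
  have hfit : R₁ ≤ centralizer (fittingOf D₀ : Set G) := by
    rw [le_centralizer_iff]
    refine (le_iSup_rPart (isNilpotent_fittingOf D₀)).trans (iSup_le fun s => ?_)
    haveI := Fact.mk s.2
    rw [le_centralizer_iff, ← hidem]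
    obtain ⟨hc, hn⟩ := fitting_sigmaCompl_isCyclic (q := (s : ℕ)) hG hM
    exact commutator_le_centralizer_of_isCyclic hc ((hR₁R.trans hRM).trans hn) (hAM.trans hn)
  have hsol : Group.IsSolvable D₀ :=
    Coprime.isSolvable_of_le ((piCoreOf_le _ _).trans inf_le_left) (isSolvable_coatom hG hM)
  exact le_rPart_of_isPGroup (isNilpotent_fittingOf D₀)
    ((le_inf hR₁D₀ hfit).trans (inf_centralizer_fittingOf_le hsol)) hR₁q

/-- BG Theorem 11.7. -/
theorem le_normalizer_of_compl {E : Subgroup G} (hE : IsComplIn E (sigmaCore M) M) (hAE : A ≤ E) :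
    E ≤ normalizer (A : Set G) := by
  have hEM : E ≤ M := hE.1
  haveI : Group.IsSolvable E := Coprime.isSolvable_of_le hEM (isSolvable_coatom hG hM)
  have hAp := Coprime.ea_isPGroup h.elem
  obtain ⟨PE, hPE⟩ := exists_sylow_ge hAp hAE
  obtain ⟨P, hP⟩ := compl_sylow_exists hG hM hE PE h.not_sigma
  have hAP : A ≤ (P : Subgroup M).map M.subtype := hP ▸ hPE
  obtain ⟨hΩ, hnorm, -, -⟩ := h.structure_of_sylow hG hM P hAP
  set W := pPrimeCore p E with hW
  suffices hcW : A ≤ centralizer (W.map E.subtype : Set G) by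
    intro e he
    have hr : PRankLE p 2 ↥(PE : Subgroup E) := pRankLE_of_injective
      ((inclusion hEM).comp (PE : Subgroup E).subtype)
      ((inclusion_injective hEM).comp (PE : Subgroup E).subtype_injective) (by
        by_contra hc
        exact h.not_sigma (alpha_subset_sigma hG hM ⟨hp.out, hc⟩))
    obtain ⟨d, hd, n, hn, hen⟩ := exists_core_mul_normalizer
      (hG.1.of_dvd_nat (card_subgroup_dvd_card E)) PE hr (⟨e, he⟩ : E)
    have hnA : (n : G) ∈ normalizer (A : Set G) := by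
      refine hnorm ?_
      rw [hP, mem_normalizer_iff]
      intro x
      constructor
      · rintro ⟨y, hy, rfl⟩
        exact ⟨n * y * n⁻¹, (mem_normalizer_iff.mp hn y).mp hy, rfl⟩
      · rintro ⟨y, hy, hyx⟩
        refine ⟨n⁻¹ * y * n, (mem_normalizer_iff''.mp hn y).mp hy, ?_⟩
        change (n : G)⁻¹ * (y : G) * n = x
        rw [show (y : G) = n * x * (n : G)⁻¹ from hyx]
        group
    have hdA : (d : G) ∈ normalizer (A : Set G) :=
      centralizer_le_normalizer _ (le_centralizer_iff.mp hcW (mem_map_of_mem _ hd))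
    rw [show e = (d : G) * n from congrArg Subtype.val hen]
    exact mul_mem hdA hnA
  -- a prime of `W` not centralised by `A`
  have hWn : A ≤ normalizer (W.map E.subtype : Set G) :=
    hAE.trans (LocalStructure.le_normalizer_map_characteristic Subgroup.le_normalizer _)
  have hcopW : (Nat.card A).Coprime (Nat.card (W.map E.subtype)) := by
    rw [h.card, card_map_of_injective E.subtype_injective]
    exact (Core.coprime_card_pPrimeCore).symm.pow_left 2
  have hsolA : Group.IsSolvable A := Coprime.ea_isSolvable h.elem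
  rw [le_centralizer_iff]
  refine Coprime.le_of_forall_sylow_le fun q hq => ?_
  haveI := Fact.mk hq
  obtain ⟨Qs, hQs⟩ := Coprime.exists_invariant_sylow hWn hcopW (Or.inl hsolA) q
  refine ⟨Qs, ?_⟩
  rw [le_centralizer_iff]
  set Q := (Qs : Subgroup ↥(W.map E.subtype)).map (W.map E.subtype).subtype with hQdef
  have hQp : IsPGroup q Q := Qs.2.map _
  have hQE : Q ≤ E := (map_subtype_le _).trans (map_subtype_le _)
  by_contra hne
  have hQ1 : Q ≠ ⊥ := fun e => hne (by
    rw [e]
    intro a _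
    simp [mem_centralizer_iff])
  have hqd : q ∣ Nat.card Q := by
    obtain ⟨r, hr, hrd⟩ := exists_prime_dvd_of_ne_bot hQ1
    obtain ⟨k, hk⟩ := IsPGroup.iff_card.mp hQp
    rwa [← (Nat.prime_dvd_prime_iff_eq hr hq).mp (hr.dvd_of_dvd_pow (hk ▸ hrd))]
  have hqp : q ≠ p := by
    intro e
    subst e
    have h1 := hqd.trans (card_dvd_of_le (map_subtype_le _ : Q ≤ W.map E.subtype))
    rw [card_map_of_injective E.subtype_injective] at h1
    exact (hq.coprime_iff_not_dvd.mp Core.coprime_card_pPrimeCore.symm) h1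
  have hqσ : q ∉ sigma M := compl_prime_not_sigma hG hM hE hq (hqd.trans (card_dvd_of_le hQE))
  obtain ⟨hTc, hMT⟩ := fitting_sigmaCompl_isCyclic (q := q) hG hM
  set T := rPart q (fittingOf (piCoreOf (sigma M)ᶜ (M ⊓ centralizer (sigmaCore M : Set G)))) with hT
  have hTp : IsPGroup q T := isPGroup_rPart
  have hTM : T ≤ M := rPart_le.trans ((map_subtype_le _).trans ((piCoreOf_le _ _).trans inf_le_left))
  have hcopT : ∀ X : Subgroup G, IsPGroup q X → (Nat.card A).Coprime (Nat.card X) := by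
    intro X hX
    obtain ⟨k, hk⟩ := IsPGroup.iff_card.mp hX
    rw [hk, h.card]
    exact (((Nat.coprime_primes hp.out hq).mpr hqp.symm).pow_left 2).pow_right k
  -- a line of `T` moved by `A`
  have hnT : ¬ A ≤ centralizer (T : Set G) := by
    intro hc
    refine hne ?_
    rw [le_centralizer_iff, ← commutator_eq_bot_iff_le_centralizer,
      ← Coprime.commutator_commutator_eq hQs (hcopT Q hQp) (Or.inl hsolA),
      commutator_eq_bot_iff_le_centralizer]
    exact (h.commutator_le_cyclic hG hM hqσ hqp hQp (hQE.trans hEM) hQs).trans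
      (le_centralizer_iff.mp hc)
  haveI := hTc
  obtain ⟨t, htT, hto, hnt⟩ :
      ∃ t ∈ T, orderOf t = q ∧ ¬ A ≤ centralizer ({t} : Set G) := by
    by_contra hno
    push Not at hno
    refine hnT (Coprime.le_centralizer_of_fixes_prime_order (h.le.trans hMT) (hcopT T hTp) ?_)
    intro v hv hvp a ha
    obtain ⟨k, hk⟩ := hTp.exists_orderOf_eq_pow ⟨v, hv⟩
    rw [← orderOf_coe] at hk
    change orderOf v = q ^ k at hk
    have hvq : orderOf v = q := (Nat.prime_dvd_prime_iff_eq hvp hq).mp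
      (hvp.dvd_of_dvd_pow hk.dvd)
    exact mem_centralizer_singleton_iff.mp (hno v hv hvq ha)
  set T₀ := zpowers t with hT₀
  have hT₀c : Nat.card T₀ = q := by rw [hT₀, Nat.card_zpowers, hto]
  have hT₀T : T₀ ≤ T := zpowers_le.mpr htT
  have hMT₀ : M ≤ normalizer (T₀ : Set G) := fun m hm => mem_normalizer_of_map_conj
    (HSub.subgroup_eq_of_card_eq hTc ((map_mono hT₀T).trans
      (map_conj_eq_self_of_mem (hMT hm)).le) hT₀T (card_map_conj _ _))
  have hT₀ne : T₀ ≠ ⊥ := fun e => by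
    rw [e, card_bot] at hT₀c
    exact hq.ne_one hT₀c.symm
  have hT₀M : T₀ ≤ M := hT₀T.trans hTM
  have hNT₀ : normalizer (T₀ : Set G) = M :=
    normalizer_eq_of_coatom hG hM hT₀ne (ne_top_of_not_dvd hM hT₀M) hMT₀
  obtain ⟨-, Aq, hAqe, hAqc, hT₀Aq⟩ := rank_two_of_normalizer_le hG hM hqσ hT₀c hNT₀.le
  have hAqM : Aq ≤ M := ((Coprime.ea_le_centralizer hAqe).trans (centralizer_le
    (SetLike.coe_subset_coe.mpr hT₀Aq))).trans ((centralizer_le_normalizer _).trans hNT₀.le)
  -- `p < q`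
  have hpq : p < q := by
    obtain ⟨a, ha, hat⟩ := SetLike.not_le_iff_exists.mp hnt
    obtain ⟨k, hk⟩ : ∃ k : ℤ, t ^ k = a * t * a⁻¹ :=
      mem_zpowers_iff.mp ((mem_normalizer_iff.mp (hMT₀ (h.le ha)) t).mp (mem_zpowers t))
    have hiter : ∀ i : ℕ, a ^ i * t * (a ^ i)⁻¹ = t ^ k ^ i := by
      intro i
      induction i with
      | zero => simp
      | succ i ih =>
        calc a ^ (i + 1) * t * (a ^ (i + 1))⁻¹ = a * (a ^ i * t * (a ^ i)⁻¹) * a⁻¹ := by
              rw [pow_succ']; group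
          _ = (a * t * a⁻¹) ^ (k ^ i) := by rw [ih, conj_zpow]
          _ = t ^ k ^ (i + 1) := by rw [← hk, ← zpow_mul, pow_succ']
    have h1 := hiter p
    rw [h.elem.2 a ha, one_mul, inv_one, mul_one] at h1
    have h2 : ((k : ZMod q)) ^ p = 1 := by
      have h3 : (q : ℤ) ∣ k ^ p - 1 := by
        rw [← hto]
        refine orderOf_dvd_iff_zpow_eq_one.mpr ?_
        rw [zpow_sub, ← h1, zpow_one, mul_inv_cancel]
      have := (ZMod.intCast_zmod_eq_zero_iff_dvd _ _).mpr h3
      push_cast at this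
      exact sub_eq_zero.mp this
    have h4 : ((k : ZMod q)) ≠ 1 := by
      intro e
      refine hat (mem_centralizer_singleton_iff.mpr ?_)
      have h3 : (q : ℤ) ∣ k - 1 := (ZMod.intCast_zmod_eq_zero_iff_dvd _ _).mp (by
        push_cast; rw [e, sub_self])
      rw [← hto, orderOf_dvd_iff_zpow_eq_one, zpow_sub, zpow_one, mul_inv_eq_one] at h3
      rw [h3] at hk
      calc a * t = a * t * a⁻¹ * a := by group
        _ = t * a := by rw [← hk]
    have hk0 : (k : ZMod q) ≠ 0 := fun e => by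
      rw [e, zero_pow hp.out.ne_zero] at h2
      exact zero_ne_one h2
    have h5 : orderOf (k : ZMod q) = p := orderOf_eq_prime h2 h4
    have h6 : p ∣ q - 1 := h5 ▸ ZMod.orderOf_dvd_card_sub_one hk0
    have := Nat.le_of_dvd (Nat.sub_pos_of_lt hq.one_lt) h6
    omega
  -- an invariant Sylow `q`-subgroup of `E`
  obtain ⟨Sq, hASq⟩ : ∃ Sq : Sylow q E, A ≤ normalizer ((Sq : Subgroup E).map E.subtype : Set G) := by
    obtain ⟨H₀, hH₀⟩ := Coprime.exists_isPiHallOf (K := E) inferInstance {r | r = p ∨ r = q}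
    obtain ⟨P₀⟩ : Nonempty (Sylow p H₀) := inferInstance
    have hH₀E : H₀ ≤ E := hH₀.1
    have hmulr : ∀ (r : ℕ) [Fact r.Prime], (r = p ∨ r = q) → ∀ X : Sylow r H₀,
        ∃ Y : Sylow r E, (Y : Subgroup E).map E.subtype = (X : Subgroup H₀).map H₀.subtype := by
      intro r _ hrπ X
      have hle : (X : Subgroup H₀).map H₀.subtype ≤ E := (map_subtype_le _).trans hH₀E
      have hc : Nat.card ↥(((X : Subgroup H₀).map H₀.subtype).subgroupOf E) =
          r ^ (Nat.card E).factorization r := by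
        rw [Coprime.card_subgroupOf hle, card_map_of_injective H₀.subtype_injective,
          X.card_eq_multiplicity, ← Coprime.card_mul_relIndex_of_le hH₀E,
          Nat.factorization_mul Nat.card_pos.ne' (fun h0 => (Nat.card_pos (α := E)).ne'
            (by rw [← Coprime.card_mul_relIndex_of_le hH₀E, h0, mul_zero])), Finsupp.add_apply,
          Nat.factorization_eq_zero_of_not_dvd (hH₀.2.2 r Fact.out hrπ), add_zero]
      exact ⟨Sylow.ofCard _ hc, by rw [Sylow.coe_ofCard, map_subgroupOf_eq_of_le hle]⟩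
    obtain ⟨Y, hY⟩ := hmulr p (Or.inl rfl) P₀
    obtain ⟨e, he⟩ := MulAction.exists_smul_eq E Y PE
    haveI : Group.IsSolvable H₀ := Coprime.isSolvable_of_le hH₀E inferInstance
    have hpH : p ∣ Nat.card H₀ := by
      by_contra hc
      have h1 : p ∣ Nat.card E :=
        ((dvd_pow_self p two_ne_zero).trans h.card.symm.dvd).trans (card_dvd_of_le hAE)
      rw [← Coprime.card_mul_relIndex_of_le hH₀E] at h1
      exact hH₀.2.2 p hp.out (Or.inl rfl) ((hp.out.dvd_mul.mp h1).resolve_left hc)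
    have hr : PRankLE p 2 ↥(P₀ : Subgroup H₀) := pRankLE_of_injective
      ((inclusion (hH₀E.trans hEM)).comp (P₀ : Subgroup H₀).subtype)
      ((inclusion_injective (hH₀E.trans hEM)).comp (P₀ : Subgroup H₀).subtype_injective) (by
        by_contra hc
        exact h.not_sigma (alpha_subset_sigma hG hM ⟨hp.out, hc⟩))
    obtain ⟨-, hnpc, -⟩ := Cfsg.Agent.S1455.result (G := H₀)
      (hG.1.of_dvd_nat (card_subgroup_dvd_card H₀)) p hpH P₀ (Or.inl hr) (fun h => absurd hr h)
    have hcompl := hnpc (Or.inr fun r hr hd => by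
      rcases hH₀.2.1 r hr hd with e | e <;> omega)
    set N := pResidual p H₀ with hN
    have hNq : IsPGroup q N := by
      refine isPGroup_of_forall_prime fun r hr hd => ?_
      rcases hH₀.2.1 r hr (hd.trans (card_subgroup_dvd_card N)) with e | e
      · exfalso
        exact (hp.out.coprime_iff_not_dvd.mp
          (Fusion.coprime_card_pResidual_of_hasNormalPComplement hcompl).symm) (by rw [e] at hd; exact hd)
      · exact e
    obtain ⟨X, hX⟩ := hNq.exists_le_sylow
    have hXN : (X : Subgroup H₀) = N := le_antisymm (fun x hx => Fusion.mem_pResidual_of_coprime (by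
      obtain ⟨k, hk⟩ := X.2.exists_orderOf_eq_pow ⟨x, hx⟩
      rw [← orderOf_coe] at hk
      exact hk ▸ ((Nat.coprime_primes hq hp.out).mpr hqp).pow_left k)) hX
    obtain ⟨Y', hY'⟩ := hmulr q (Or.inr rfl) X
    refine ⟨e • Y', ?_⟩
    have hH₀N : H₀ ≤ normalizer ((Y' : Subgroup E).map E.subtype : Set G) := by
      haveI : N.Characteristic := Fusion.pResidual_characteristic
      rw [hY', hXN]
      exact LocalStructure.le_normalizer_map_characteristic (Q := H₀) Subgroup.le_normalizer _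
    have hconj : ∀ (r : ℕ) (Z : Sylow r E), ((e • Z : Sylow r E) : Subgroup E).map E.subtype =
        ((Z : Subgroup E).map E.subtype).map (MulAut.conj (e : G)).toMonoidHom := by
      intro r Z
      rw [Sylow.coe_subgroup_smul]
      ext x
      constructor
      · rintro ⟨_, ⟨y, hy, rfl⟩, rfl⟩
        exact ⟨_, ⟨y, hy, rfl⟩, rfl⟩
      · rintro ⟨_, ⟨y, hy, rfl⟩, rfl⟩
        exact ⟨_, ⟨y, hy, rfl⟩, rfl⟩
    intro a ha
    have h1 : (e : G)⁻¹ * a * e ∈ H₀ := by
      have h2 : a ∈ (PE : Subgroup E).map E.subtype := hPE ha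
      rw [← he, hconj, mem_map_conj_iff, hY] at h2
      exact map_subtype_le _ h2
    refine mem_normalizer_of_map_conj ?_
    rw [hconj, map_conj_map_conj]
    conv_rhs => rw [← map_conj_eq_self_of_mem (hH₀N h1), map_conj_map_conj]
    congr 3
    group
  set SqG := (Sq : Subgroup E).map E.subtype with hSqG
  obtain ⟨PM, hPM⟩ := compl_sylow_exists hG hM hE Sq hqσ
  have hSqp : IsPGroup q SqG := Sq.2.map _
  have hSqM : SqG ≤ M := (map_subtype_le _).trans hEM
  obtain ⟨Aq', hAq'S, hAq'⟩ : ∃ Aq' : Subgroup G, Aq' ≤ SqG ∧ IsExceptional q M Aq' := by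
    obtain ⟨P', hP'⟩ := exists_sylow_ge (Coprime.ea_isPGroup hAqe) hAqM
    obtain ⟨m, hm⟩ := MulAction.exists_smul_eq M P' PM
    refine ⟨Aq.map (MulAut.conj (m : G)).toMonoidHom, ?_,
      ⟨⟨map_conj_le_of_mem hAqM m.2, ⟨@Subgroup.map_isMulCommutative _ _ _ _ Aq
        (MulAut.conj (m : G)).toMonoidHom hAqe.1, by
          rintro _ ⟨x, hx, rfl⟩
          rw [← map_pow, hAqe.2 x hx, map_one]⟩,
        by rw [card_map_conj, hAqc], hqσ⟩, T₀, ?_, hT₀c, hNT₀.le⟩⟩
    · refine le_trans ?_ hPM.le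
      rw [← hm, map_subtype_sylow_smul]
      exact map_mono hP'
    · exact (map_conj_eq_self_of_mem (hMT₀ m.2)).ge.trans (map_mono hT₀Aq)
  obtain ⟨hΩq, hnormq, -, -⟩ := hAq'.structure_of_sylow hG hM PM (hPM.symm ▸ hAq'S)
  rw [hPM] at hΩq hnormq
  have hSqcomm : IsMulCommutative ↥SqG := by
    have := hAq'.sylow_comm hG hM PM (hPM.symm ▸ hAq'S)
    rwa [hPM] at this
  have hSqA : ⁅SqG, A⁆ ≤ T := h.commutator_le_cyclic hG hM hqσ hqp hSqp hSqM hASq
  -- `A` fixes an element of order `q` of `S_q`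
  obtain ⟨l, ⟨hlS, hlA⟩, hlo⟩ : ∃ l : G, l ∈ SqG ⊓ centralizer (A : Set G) ∧ orderOf l = q := by
    by_contra hno
    push Not at hno
    have hbot : SqG ⊓ centralizer (A : Set G) = ⊥ := by
      by_contra hb
      obtain ⟨r, hr, hrd⟩ := exists_prime_dvd_of_ne_bot hb
      haveI := Fact.mk hr
      obtain ⟨x, hx⟩ := exists_prime_orderOf_dvd_card' r hrd
      obtain ⟨k, hk⟩ := IsPGroup.iff_card.mp (hSqp.to_le (inf_le_left :
        SqG ⊓ centralizer (A : Set G) ≤ SqG))
      have hrq := (Nat.prime_dvd_prime_iff_eq hr hq).mp (hr.dvd_of_dvd_pow (hk ▸ hrd))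
      exact hno x x.2 (by rw [Subgroup.orderOf_coe, hx, hrq])
    have h1 := Coprime.commutator_sup_centralizer hASq (hcopT SqG hSqp) (Or.inl hsolA)
    rw [hbot, sup_bot_eq] at h1
    exact hAq'.toIsTauPair.not_isCyclic
      (isCyclic_of_le hTc (hAq'S.trans (h1.ge.trans hSqA)))
  have hl1 : l ≠ 1 := fun e => by rw [e, orderOf_one] at hlo; exact hq.ne_one hlo.symm
  -- the line of `A` centralising `t`
  obtain ⟨a₀, ha₀, ha₀1, ha₀t⟩ : ∃ a₀ ∈ A, a₀ ≠ 1 ∧ a₀ * t = t * a₀ := by
    by_contra hno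
    push Not at hno
    haveI := h.elem.1
    refine hT₀ne (le_bot_iff.mp ?_)
    rw [← Coprime.iSup_centralizer_eq h.toIsTauPair.not_isCyclic (h.le.trans hMT₀)
      (hcopT T₀ (hTp.to_le hT₀T))]
    refine iSup₂_le fun a ha x hx => ?_
    by_contra hx1
    have hx1' : x ≠ 1 := fun e => hx1 (e ▸ one_mem _)
    have hgen : zpowers x = T₀ := eq_of_le_of_card_ge (zpowers_le.mpr hx.1) (by
      rw [hT₀c, Nat.card_zpowers]
      exact ((hq.eq_one_or_self_of_dvd _ (hT₀c ▸ Subgroup.orderOf_dvd_natCard _ hx.1)).resolve_left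
        fun e => hx1' (orderOf_eq_one_iff.mp e)).ge)
    obtain ⟨i, hi⟩ := mem_zpowers_iff.mp (hgen.ge (mem_zpowers t))
    refine hno a ha.1 ha.2 ?_
    rw [← hi]
    exact ((show Commute x a from mem_centralizer_singleton_iff.mp hx.2).zpow_left i).eq.symm
  set X₀ := zpowers a₀ with hX₀
  have hX₀A : X₀ ≤ A := zpowers_le.mpr ha₀
  have hX₀c : Nat.card X₀ = p := by
    rw [hX₀, Nat.card_zpowers, orderOf_eq_prime (h.elem.2 a₀ ha₀) ha₀1]
  have hX₀ne : X₀ ≠ ⊥ := fun e => by rw [e, card_bot] at hX₀c; exact hp.out.ne_one hX₀c.symm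
  have hX₀top : X₀ ≠ ⊤ := ne_top_of_not_dvd hM (hX₀A.trans h.le)
  obtain ⟨H, hH, hNH⟩ := (IsCoatomic.eq_top_or_exists_le_coatom
    (normalizer (X₀ : Set G))).resolve_left (ne_top_of_normal_ne_bot hG hX₀ne hX₀top)
  have hCH : centralizer (X₀ : Set G) ≤ H := (centralizer_le_normalizer _).trans hNH
  have hAH : A ≤ H := (Coprime.ea_le_centralizer h.elem).trans
    ((centralizer_le (SetLike.coe_subset_coe.mpr hX₀A)).trans hCH)
  have hCX₀ : ∀ x : G, x * a₀ = a₀ * x → x ∈ centralizer (X₀ : Set G) := fun x hx => by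
    rw [hX₀, zpowers_eq_closure, centralizer_closure, mem_centralizer_singleton_iff]
    exact hx
  have htH : t ∈ H := hCH (hCX₀ t ha₀t.symm)
  have hT₀H : T₀ ≤ H := zpowers_le.mpr htH
  have hT₀A : ⁅T₀, A⁆ = T₀ := by
    have hc : (Nat.card A).Coprime (Nat.card T₀) := hcopT T₀ (hTp.to_le hT₀T)
    refine eq_of_le_of_card_ge (Coprime.commutator_le_of_le_normalizer (h.le.trans hMT₀)) ?_
    rcases (hT₀c ▸ hq).eq_one_or_self_of_dvd _
      (card_dvd_of_le (Coprime.commutator_le_of_le_normalizer (h.le.trans hMT₀))) with e | e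
    · refine absurd ?_ hnt
      rw [card_eq_one, commutator_eq_bot_iff_le_centralizer, le_centralizer_iff] at e
      rwa [← centralizer_closure, ← zpowers_eq_closure]
    · exact e.ge
  have hT₀q : IsPGroup q T₀ := hTp.to_le hT₀T
  have hqβ : q ∉ beta H := fun hb =>
    not_isIdealPrime_of_not_sigma hG hM hqσ
      (by by_contra hc; exact hqσ (alpha_subset_sigma hG hM ⟨hq, hc⟩))
      (fun hr => not_pRankLE_of_elementary (k := 1) hAqM hAqe hAqc.ge hr) hb.2
  have hpH : p ∉ sigma H := by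
    intro hpH
    have hAK : A ≤ sigmaCore H := le_sigmaCore_of_isPGroup hG hH hAH hAp hpH
    have hqH : q ∈ sigma H := by
      refine piNum_sigmaCore H q hq (hT₀c ▸ card_dvd_of_le ?_)
      rw [← hT₀A, commutator_le]
      intro x hx a ha
      rw [commutatorElement_def]
      exact (sigmaCore H).mul_mem ((mem_normalizer_iff.mp
        (le_normalizer_sigmaCore H (hT₀H hx)) a).mp (hAK ha)) ((sigmaCore H).inv_mem (hAK ha))
    have h1 := le_centralizer_of_sigma hG hH hpH hqH hqβ hqp hAp hAH hT₀q hT₀H (h.le.trans hMT₀)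
    exact hnt (by rwa [← centralizer_closure, ← zpowers_eq_closure])
  have hexc : IsExceptional p H A := ⟨⟨hAH, h.elem, h.card, hpH⟩, X₀, hX₀A, hX₀c, hNH⟩
  -- `a₀` centralises `S_q`
  have hSqX : SqG ≤ centralizer (X₀ : Set G) := by
    have h1 := Coprime.commutator_sup_centralizer hASq (hcopT SqG hSqp) (Or.inl hsolA)
    rw [← h1]
    refine sup_le (hSqA.trans ?_) (inf_le_right.trans (centralizer_le (SetLike.coe_subset_coe.mpr hX₀A)))
    rw [le_centralizer_iff]
    refine Coprime.le_centralizer_of_fixes_prime_order ((hX₀A.trans h.le).trans hMT)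
      ((hcopT T hTp).coprime_dvd_left (card_dvd_of_le hX₀A)) ?_
    intro v hv hvp x hx
    have hv' : zpowers v = T₀ := by
      refine HSub.subgroup_eq_of_card_eq hTc (zpowers_le.mpr hv) hT₀T ?_
      rw [hT₀c, Nat.card_zpowers]
      obtain ⟨k, hk⟩ := hTp.exists_orderOf_eq_pow ⟨v, hv⟩
      rw [← orderOf_coe] at hk
      change orderOf v = q ^ k at hk
      exact (Nat.prime_dvd_prime_iff_eq hvp hq).mp (hvp.dvd_of_dvd_pow hk.dvd)
    obtain ⟨i, rfl⟩ := mem_zpowers_iff.mp (hv'.le (mem_zpowers v))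
    obtain ⟨j, rfl⟩ := mem_zpowers_iff.mp hx
    exact (((show Commute a₀ t from ha₀t).zpow_left j).zpow_right i).eq
  have hqH : q ∉ sigma H := by
    intro hqH
    obtain ⟨P', hP'⟩ := exists_sylow_ge hAp hAH
    obtain ⟨-, -, h3, -⟩ := hexc.structure_of_sylow hG hH P' hP'
    have : l ∈ sigmaCore H ⊓ centralizer (A : Set G) :=
      ⟨le_sigmaCore_of_isPGroup hG hH (hSqX.trans hCH) hSqp hqH hlS, hlA⟩
    rw [h3, mem_bot] at this
    exact hl1 this
  -- a maximal invariant `q`-subgroup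
  obtain ⟨Ss, hSs, hSqSs⟩ := exists_max_ge (A := A) hSqp hASq
  have hSsp : IsPGroup q Ss := isPGroup_of_singleton hSs.1.2.1
  have htSq : t ∈ SqG := by
    haveI : (T₀.subgroupOf M).Normal := normal_subgroupOf_of_le_normalizer hMT₀
    haveI : (T₀.comap M.subtype).Normal := normal_subgroupOf_of_le_normalizer hMT₀
    have h1 : T₀.subgroupOf M ≤ (PM : Subgroup M) :=
      (hT₀q.comap_of_injective M.subtype M.subtype_injective).le_sylow_of_normal PM
    rw [hSqG, ← hPM]
    exact map_mono h1 ((map_subgroupOf_eq_of_le hT₀M).ge (mem_zpowers t))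
  have hSsM : Ss ⊓ M = SqG := by
    refine le_antisymm ?_ (le_inf hSqSs hSqM)
    have h1 : (PM : Subgroup M) ≤ (Ss ⊓ M).subgroupOf M := fun x hx =>
      (le_inf hSqSs hSqM) (hPM.le (mem_map_of_mem _ hx))
    have h2 := PM.3 ((hSsp.to_le inf_le_left).comap_of_injective M.subtype M.subtype_injective) h1
    rw [hSqG, ← hPM, ← h2]
    exact (map_subgroupOf_eq_of_le inf_le_right).ge
  have hX₀Ss : X₀ ≤ centralizer (Ss : Set G) := by
    refine Cfsg.Agent.S1442.result Ss X₀ hSsp.isNilpotent (hX₀A.trans hSs.1.2.2)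
      ((hcopT Ss hSsp).coprime_dvd_left (card_dvd_of_le hX₀A)) ?_
    refine le_trans ?_ (le_inf hSqSs hSqX)
    refine le_trans (inf_le_inf_left Ss (centralizer_le (SetLike.coe_subset_coe.mpr
      (le_inf hSqSs hSqX)))) ?_
    rw [← hSsM]
    refine inf_le_inf_left Ss ?_
    refine le_trans (fun x hx => ?_) ((centralizer_le_normalizer _).trans hNT₀.le)
    rw [hT₀, zpowers_eq_closure, centralizer_closure, mem_centralizer_singleton_iff]
    exact (mem_centralizer_iff.mp hx t (hSsM.symm ▸ htSq)).symm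
  have hSsH : Ss ≤ H := (le_centralizer_iff.mp hX₀Ss).trans hCH
  -- hence `H = M`
  have hHM : H = M := by
    obtain ⟨hc', hHT'⟩ := fitting_sigmaCompl_isCyclic (q := q) hG hH
    set T' := rPart q (fittingOf (piCoreOf (sigma H)ᶜ (H ⊓ centralizer (sigmaCore H : Set G))))
      with hT'
    have hT₀T' : T₀ ≤ T' := hT₀A ▸ (commutator_mono (zpowers_le.mpr (hSqSs htSq)) le_rfl).trans
      (hexc.commutator_le_cyclic hG hH hqH hqp hSsp hSsH hSs.1.2.2)
    have hHT₀ : H ≤ normalizer (T₀ : Set G) := fun m hm => mem_normalizer_of_map_conj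
      (HSub.subgroup_eq_of_card_eq hc' ((map_mono hT₀T').trans
        (map_conj_eq_self_of_mem (hHT' hm)).le) hT₀T' (card_map_conj _ _))
    exact ((hH.le_iff_eq hM.1).mp (hHT₀.trans hNT₀.le)).symm
  have hSsSq : Ss = SqG := by rw [← hSsM, inf_eq_left.mpr (hHM ▸ hSsH)]
  -- transitivity
  obtain ⟨PA, hPA⟩ := exists_sylow_ge hAp h.le
  obtain ⟨g, hg, hgM⟩ := exists_not_mem_normalizer hG hM h.toIsTauPair.dvd_card h.not_sigma PA
  obtain ⟨-, hnormA, -, -⟩ := h.structure_of_sylow hG hM PA hPA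
  have hgA : g ∈ normalizer (A : Set G) := hnormA hg
  have hqA : ¬ q ∣ Nat.card A := h.toIsTauPair.not_dvd hq hqp
  have hqC : q ∣ Nat.card (centralizer (A : Set G)) := hlo ▸ Subgroup.orderOf_dvd_natCard _ hlA
  obtain ⟨k, hk, hkS⟩ := linked_of_rank_two hG (h.toIsTauPair.trans_hyp hG hM) hqA
    h.toIsTauPair.not_rankLE_center hqC hSs (conj_mem_maxInv_of_normalizer hSs hgA)
  have hkC : k ∈ centralizer (A : Set G) := piCoreOf_le _ _ hk
  have hn : k⁻¹ * g ∈ normalizer (SqG : Set G) := by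
    refine mem_normalizer_of_map_conj ?_
    rw [Coprime.conj_smul_eq_map, hSsSq] at hkS
    rw [← map_conj_map_conj, hkS, map_conj_inv_cancel]
  have hnA : k⁻¹ * g ∈ normalizer (A : Set G) :=
    mul_mem (inv_mem (centralizer_le_normalizer _ hkC)) hgA
  refine hgM ?_
  have hnM : k⁻¹ * g ∈ M := by
    rw [← hNT₀]
    refine mem_normalizer_of_map_conj ?_
    have hle : T₀ ≤ ⁅SqG, A⁆ := hT₀A ▸ commutator_mono (zpowers_le.mpr htSq) le_rfl
    refine HSub.subgroup_eq_of_card_eq hTc ?_ hT₀T (card_map_conj _ _)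
    refine ((map_mono hle).trans ?_).trans hSqA
    rw [map_commutator, map_conj_eq_self_of_mem hn, map_conj_eq_self_of_mem hnA]
  have := M.mul_mem (h.cent_le hkC) hnM
  rwa [mul_inv_cancel_left] at this

end IsExceptional

end Cfsg.Agent.OddLocal
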