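import Cfsg.Agent.OddLocal.FittingChain
import Cfsg.Agent.OddLocal.UStructure
import Cfsg.Agent.OddLocal.ExceptionalNormal
import Cfsg.Agent.OddLocal.SupportKappa

/-!
# `M'' ≤ F(M) = C_M(M_F) M_F` (BG 15.4 and 15.6, first parts)
-/

namespace Cfsg.Agent.OddLocal

open Subgroup
open scoped commutatorElement

universe u

variable {G : Type u} [Group G] [Finite G] {M K U : Subgroup G}

/-- If `ab` centralises `Q` and `a`, `b` have coprime orders then `b` centralises `Q`. -/
theorem mem_centralizer_of_coprime_mul {Q : Subgroup G} {a b : G} (ha : a ∈ normalizer (Q : Set G))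
    (hb : b ∈ normalizer (Q : Set G)) (hab : a * b ∈ centralizer (Q : Set G))
    (hcop : (orderOf a).Coprime (orderOf b)) : b ∈ centralizer (Q : Set G) := by
  set φ := NilpotentPrimeAction.conjHom (le_refl (normalizer (Q : Set G))) with hφ
  have h1 : φ ⟨a, ha⟩ * φ ⟨b, hb⟩ = 1 := by
    rw [← map_mul, hφ, NilpotentPrimeAction.conjHom_eq_one]
    exact hab
  have h2 : φ ⟨b, hb⟩ = 1 := by
    rw [← orderOf_eq_one_iff]
    refine Nat.eq_one_of_dvd_coprimes hcop ?_ ?_
    · rw [← orderOf_inv, ← eq_inv_of_mul_eq_one_left h1]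
      exact (orderOf_map_dvd φ _).trans (dvd_of_eq (orderOf_coe _).symm)
    · exact (orderOf_map_dvd φ _).trans (dvd_of_eq (orderOf_coe _).symm)
  rwa [hφ, NilpotentPrimeAction.conjHom_eq_one] at h2

theorem le_normalizer_commutator_of {M A B : Subgroup G} (hA : M ≤ normalizer (A : Set G))
    (hB : M ≤ normalizer (B : Set G)) : M ≤ normalizer ((⁅A, B⁆ : Subgroup G) : Set G) := fun g hg =>
  mem_normalizer_of_map_conj (by
    rw [map_commutator, map_conj_eq_self_of_mem (hA hg), map_conj_eq_self_of_mem (hB hg)])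

theorem le_normalizer_inf_centralizer (M : Subgroup G) {N : Subgroup G}
    (hN : M ≤ normalizer (N : Set G)) :
    M ≤ normalizer ((M ⊓ centralizer (N : Set G) : Subgroup G) : Set G) :=
  Coprime.le_normalizer_inf Subgroup.le_normalizer (Coprime.le_normalizer_centralizer hN)

theorem le_normalizer_fittingHallOf (M : Subgroup G) : M ≤ normalizer (fittingHallOf M : Set G) := by
  refine (normal_subgroupOf_iff_le_normalizer (fittingHallOf_le M)).1 ?_
  rw [fittingHallOf, subgroupOf, comap_map_eq_self_of_injective M.subtype_injective]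
  infer_instance

theorem fittingHallOf_nilpotent (M : Subgroup G) : Group.IsNilpotent (fittingHallOf M) :=
  Core.isNilpotent_map (Core.isNilpotent_mono Core.fittingSubgroup_isNilpotent (sSup_le fun N hN => by have := hN.1; exact Core.le_fittingSubgroup hN.2.1)) _

theorem fittingHallOf_le_fittingOf (M : Subgroup G) : fittingHallOf M ≤ fittingOf M :=
  le_fittingOf_of_normal (fittingHallOf_le M) (le_normalizer_fittingHallOf M)
    (fittingHallOf_nilpotent M)

/-- `F(M) ≤ C_M(M_F) M_F` in any finite group. -/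
theorem fittingOf_le_sup (M : Subgroup G) :
    fittingOf M ≤ (M ⊓ centralizer (fittingHallOf M : Set G)) ⊔ fittingHallOf M := by
  intro x hx
  refine mem_of_prime_power_parts fun r _ y hy _ hyr => ?_
  have hyF : y ∈ fittingOf M := zpowers_le.2 hx hy
  obtain ⟨k, hk⟩ := hyr
  obtain ⟨j, -, hj⟩ := (Nat.dvd_prime_pow (Fact.out : r.Prime)).1 (orderOf_dvd_of_pow_eq_one hk)
  by_cases hr : r ∣ Nat.card (fittingHallOf M)
  · refine mem_sup_right ?_
    haveI : ((fittingHallOf M).subgroupOf M).Normal :=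
      normal_subgroupOf_of_le_normalizer (le_normalizer_fittingHallOf M)
    set f := QuotientGroup.mk' ((fittingHallOf M).subgroupOf M) with hf
    have h1 : f ⟨y, fittingOf_le M hyF⟩ = 1 := by
      rw [← orderOf_eq_one_iff]
      refine Nat.eq_one_of_dvd_coprimes (k := orderOf (f ⟨y, fittingOf_le M hyF⟩))
        (a := r ^ j) (b := (fittingHall M).index) ?_ ?_ ?_
      · refine Nat.Coprime.pow_left j ((Nat.Prime.coprime_iff_not_dvd Fact.out).2 fun hd => ?_)
        exact Nat.not_coprime_of_dvd_of_dvd (Fact.out : r.Prime).one_lt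
          (card_fittingHallOf M ▸ hr) hd (coprime_fittingHall M)
      · rw [← hj]
        exact (orderOf_map_dvd f _).trans (dvd_of_eq (orderOf_coe _).symm)
      · refine (_root_.orderOf_dvd_natCard _).trans (dvd_of_eq ?_)
        rw [← index_eq_card, fittingHallOf, subgroupOf,
          comap_map_eq_self_of_injective M.subtype_injective]
    rwa [hf, QuotientGroup.mk'_apply, QuotientGroup.eq_one_iff, mem_subgroupOf] at h1
  · refine mem_sup_left (mem_inf.2 ⟨fittingOf_le M hyF, mem_centralizer_iff.2 fun z hz => ?_⟩)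
    refine commute_of_mem (isNilpotent_fittingOf M) (fittingHallOf_le_fittingOf M hz) hyF ?_
    rw [hj]
    refine Nat.Coprime.pow_right j (Nat.Coprime.symm ((Nat.Prime.coprime_iff_not_dvd Fact.out).2 ?_))
    exact fun hd => hr (hd.trans (Subgroup.orderOf_dvd_natCard _ hz))

/-- `F(M) = C_M(M_F) M_F` as soon as `C_M(M_F)` is nilpotent. -/
theorem fittingOf_eq_sup {M : Subgroup G}
    (hn : Group.IsNilpotent ↥(M ⊓ centralizer (fittingHallOf M : Set G))) :
    fittingOf M = (M ⊓ centralizer (fittingHallOf M : Set G)) ⊔ fittingHallOf M :=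
  le_antisymm (fittingOf_le_sup M) (sup_le (le_fittingOf_of_normal inf_le_left
    (le_normalizer_inf_centralizer M (le_normalizer_fittingHallOf M)) hn)
    (fittingHallOf_le_fittingOf M))

/-- A product of two commuting nilpotent subgroups is nilpotent. -/
theorem isNilpotent_sup {A B : Subgroup G} (hA : Group.IsNilpotent A) (hB : Group.IsNilpotent B)
    (h : B ≤ centralizer (A : Set G)) : Group.IsNilpotent ↥(A ⊔ B) := by
  refine Core.isNilpotent_mono (isNilpotent_fittingOf (A ⊔ B)) (sup_le ?_ ?_)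
  · exact le_fittingOf_of_normal le_sup_left
      (sup_le Subgroup.le_normalizer (h.trans (centralizer_le_normalizer _))) hA
  · exact le_fittingOf_of_normal le_sup_right
      (sup_le ((le_centralizer_iff.1 h).trans (centralizer_le_normalizer _))
        Subgroup.le_normalizer) hB

/-! ### The non-nilpotent case -/

namespace CoreData

variable (h : CoreData M K)

include h

/-- An element of `M` centralising `Q` lies in `M_σ`. -/
theorem inf_centralizer_le_sigmaCore :
    M ⊓ centralizer (coreSylow M K : Set G) ≤ sigmaCore M := by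
  intro x hx
  obtain ⟨hxM, hxC⟩ := mem_inf.1 hx
  obtain ⟨s, hs, k, hk, rfl⟩ :=
    (Coprime.mem_sup_of_le_normalizer h.le_normalizer_core).1 (h.sup_eq.ge hxM)
  by_contra hno
  have hk1 : k ≠ 1 := fun e => hno (by rw [e, mul_one]; exact hs)
  have hkC := mem_centralizer_of_coprime_mul (le_normalizer_coreSylow M K (sigmaCore_le M hs))
    (le_normalizer_coreSylow M K (h.le_M hk)) hxC
    ((h.coprime.symm.coprime_dvd_left (Subgroup.orderOf_dvd_natCard _ hs)).coprime_dvd_right
      (Subgroup.orderOf_dvd_natCard _ hk))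
  have hle : coreSylow M K ≤ kStar M K := by
    rw [← h.coreSylow_inf_centralizer hk hk1]
    exact le_inf le_rfl fun y hy => mem_centralizer_singleton_iff.2 (mem_centralizer_iff.1 hkC y hy)
  obtain ⟨D, hD, hKD⟩ := h.exists_compl
  have h1 := h.card_eq_pow hD hKD le_rfl h.ne_bot
  have h2 : Nat.card (kStar M K) ^ Nat.card K ∣ Nat.card (kStar M K) ^ 1 := by
    rw [pow_one]
    exact (dvd_mul_left _ _).trans (h1.symm.dvd.trans (card_dvd_of_le hle))
  exact h.card_K_prime.one_lt.not_ge ((Nat.pow_dvd_pow_iff_le_right h.prime.one_lt).1 h2)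

/-- `M_σ ∩ C(Q)` lies in the nilpotent group `Q (D ∩ C(Q))`. -/
theorem sigmaCore_inf_centralizer_le {D : Subgroup G}
    (hD : IsComplIn (coreSylow M K) D (sigmaCore M)) :
    sigmaCore M ⊓ centralizer (coreSylow M K : Set G) ≤
      coreSylow M K ⊔ (D ⊓ centralizer (coreSylow M K : Set G)) := by
  have := Fact.mk h.prime
  intro x hx
  obtain ⟨hxs, hxC⟩ := mem_inf.1 hx
  obtain ⟨a, ha, b, hb, rfl⟩ := hD.2.2.2 x hxs
  refine mul_mem_sup ha (mem_inf.2 ⟨hb, mem_centralizer_of_coprime_mul
    (Subgroup.le_normalizer ha) (h.le_normalizer_coreSylow' hD.2.1 hb) hxC ?_⟩)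
  refine Nat.coprime_of_dvd fun r hr h1 h2 => (h.compl_facts hD).2.1 ?_
  rw [← mem_singleton_of_isPGroup (coreSylow_isPGroup h) r hr
    (h1.trans (Subgroup.orderOf_dvd_natCard _ ha))]
  exact h2.trans (Subgroup.orderOf_dvd_natCard _ hb)

theorem coreT_nilpotent {D : Subgroup G} (hD : IsComplIn (coreSylow M K) D (sigmaCore M)) :
    Group.IsNilpotent ↥(coreSylow M K ⊔ (D ⊓ centralizer (coreSylow M K : Set G))) :=
  isNilpotent_sup h.coreSylow_nilpotent
    (Core.isNilpotent_mono (h.compl_facts hD).1 inf_le_left) inf_le_right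

theorem centralizer_nilpotent :
    Group.IsNilpotent ↥(M ⊓ centralizer (fittingHallOf M : Set G)) := by
  obtain ⟨D, hD, -⟩ := h.exists_compl
  refine Core.isNilpotent_mono (h.coreT_nilpotent hD) (le_trans ?_ (h.sigmaCore_inf_centralizer_le hD))
  have h1 : M ⊓ centralizer (fittingHallOf M : Set G) ≤ M ⊓ centralizer (coreSylow M K : Set G) :=
    inf_le_inf le_rfl (centralizer_le h.coreSylow_le_fittingHallOf)
  exact le_inf (h1.trans h.inf_centralizer_le_sigmaCore) (h1.trans inf_le_right)

theorem second_derived_le : ⁅⁅M, M⁆, ⁅M, M⁆⁆ ≤ fittingOf M := by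
  obtain ⟨D, hD, hKD⟩ := h.exists_compl
  rw [h.derived]
  have hle : ⁅sigmaCore M, sigmaCore M⁆ ≤
      coreSylow M K ⊔ (D ⊓ centralizer (coreSylow M K : Set G)) :=
    (commutator_le_sup_of_eq ((sigmaCore_le M).trans (le_normalizer_coreSylow M K))
      (h.sigmaCore_eq_sup hD)).trans
        (sup_le_sup le_rfl (le_inf (commutator_le_self D) (h.compl_derived_le hD hKD)))
  exact le_fittingOf_of_normal ((commutator_le_self _).trans (sigmaCore_le M))
    (le_normalizer_commutator_of (le_normalizer_sigmaCore M) (le_normalizer_sigmaCore M))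
    (Core.isNilpotent_mono (h.coreT_nilpotent hD) hle)

theorem fittingOf_le_sigmaCore : fittingOf M ≤ sigmaCore M :=
  (fittingOf_le_sup M).trans (sup_le
    ((inf_le_inf le_rfl (centralizer_le h.coreSylow_le_fittingHallOf)).trans
      h.inf_centralizer_le_sigmaCore)
    ((map_mono (le_refl _)).trans (fittingHallOf_le_sigmaCore h.minSimple h.coatom)))

end CoreData

/-! ### The nilpotent case -/

variable (hG : IsMinSimpleOddOrder G) (hM : IsCoatom M)
include hG hM

/-- `M_σ` is not cyclic when `κ(M)` is nonempty. -/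
theorem sigmaCore_not_isCyclic (h : IsSigmaDecomposition M K U) (hK1 : K ≠ ⊥) :
    ¬ IsCyclic (sigmaCore M) := by
  intro hc
  have hU := (sigmaDecomposition_structure hG hM h hK1).1
  have hMd : ⁅M, M⁆ = U ⊔ sigmaCore M := derived_eq hG hM h hK1
  have hUC : U ≤ centralizer (sigmaCore M : Set G) := le_trans
    (le_sup_left.trans hMd.ge) (commutator_le_centralizer_of_isCyclic hc
      (le_normalizer_sigmaCore M) (le_normalizer_sigmaCore M))
  have hab : IsMulCommutative ↥(U ⊔ sigmaCore M) := by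
    have hσc : IsMulCommutative (sigmaCore M) := hc.isMulCommutative
    rw [← le_centralizer_iff_isMulCommutative]
    refine sup_le ?_ ?_ <;> rw [le_centralizer_iff] <;> refine sup_le ?_ ?_
    · exact le_centralizer_iff_isMulCommutative.2 hU
    · rw [le_centralizer_iff]; exact hUC
    · exact hUC
    · exact le_centralizer_iff_isMulCommutative.2 hσc
  have h1 := kStar_le_derived hG hM h hK1
  rw [hMd, show ⁅U ⊔ sigmaCore M, U ⊔ sigmaCore M⁆ = (⊥ : Subgroup G) from
    commutator_eq_bot_iff_le_centralizer.2 (le_centralizer_iff_isMulCommutative.2 hab)] at h1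
  exact IsMember.kStar_ne_bot hG (⟨hM, h.hall, hK1, rfl⟩ : IsMember (K ⊔ kStar M K) M K)
    (le_bot_iff.1 h1)

/-- No element of prime order in `κ(M)` centralises `M_σ`. -/
theorem not_centralizes_of_kappa {r : ℕ} [Fact r.Prime] (hr : r ∈ kappa M) {y : G} (hy : y ∈ M)
    (hyo : orderOf y = r) : ¬ sigmaCore M ≤ centralizer ({y} : Set G) := by
  intro hc
  obtain ⟨E, hE, hyE⟩ := exists_compl_ge_of_not_sigma hG hM (X := zpowers y) (zpowers_le.2 hy)
    (fun s hs hd => by
      rw [Nat.card_zpowers, hyo] at hd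
      rw [(Nat.prime_dvd_prime_iff_eq hs Fact.out).1 hd]
      exact hr.2.2.1)
  obtain ⟨K, hK, hyK, hKE⟩ := exists_kappa_hall hG hM hE hyE (fun s hs hd => by
    rw [Nat.card_zpowers, hyo] at hd
    rw [(Nat.prime_dvd_prime_iff_eq hs Fact.out).1 hd]
    exact hr)
  have hy1 : y ≠ 1 := fun e => (Fact.out : r.Prime).one_lt.ne (by rw [← hyo, e, orderOf_one])
  have hK1 : K ≠ ⊥ := fun e => hy1 (mem_bot.1 (e ▸ hyK (mem_zpowers y)))
  obtain ⟨U, hU, -⟩ := exists_decomp_in_compl hG hM hE hK hK1 hKE
  have hle : sigmaCore M ≤ K ⊔ kStar M K := by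
    rw [← kappa_inf_centralizer hG hM hK hK1 (hyK (mem_zpowers y)) hy1]
    exact le_inf (sigmaCore_le M) hc
  have hle' := mem_kStar_of_piNum hG hM hK hle (piNum_sigmaCore M)
  haveI := (kappa_pair hG hM hK hK1).2.1
  exact sigmaCore_not_isCyclic hG hM hU hK1 (Subgroup.isCyclic_of_le hle')

/-- `C_M(M_σ) ≤ M_σ × (U ∩ C(M_σ))`. -/
theorem inf_centralizer_sigmaCore_le (h : IsSigmaDecomposition M K U) :
    M ⊓ centralizer (sigmaCore M : Set G) ≤
      sigmaCore M ⊔ (U ⊓ centralizer (sigmaCore M : Set G)) := by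
  obtain ⟨hE, hUp⟩ := sigmaDecomposition_compl hG hM h
  intro x hx
  obtain ⟨hxM, hxC⟩ := mem_inf.1 hx
  obtain ⟨e, he, s, hs, rfl⟩ := hE.2.2.2 x hxM
  have hsN : s ∈ normalizer (sigmaCore M : Set G) := le_normalizer_sigmaCore M (sigmaCore_le M hs)
  have heN : e ∈ normalizer (sigmaCore M : Set G) := le_normalizer_sigmaCore M (hE.1 he)
  have hcop : (orderOf e).Coprime (orderOf s) :=
    ((compl_coprime hG hM hE).coprime_dvd_left (Subgroup.orderOf_dvd_natCard _ he)).coprime_dvd_right
      (Subgroup.orderOf_dvd_natCard _ hs)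
  have hsC := mem_centralizer_of_coprime_mul heN hsN hxC hcop
  have heC : e ∈ centralizer (sigmaCore M : Set G) := by simpa using mul_mem hxC (inv_mem hsC)
  suffices heU : e ∈ U by
    rw [sup_comm]; exact mul_mem_sup (mem_inf.2 ⟨heU, heC⟩) hs
  obtain ⟨u, hu, k, hk, hek⟩ := (Coprime.mem_sup_of_le_normalizer h.normal).1 he
  haveI : (U.subgroupOf (U ⊔ K)).Normal :=
    normal_subgroupOf_of_le_normalizer (sup_le Subgroup.le_normalizer h.normal)
  set f := QuotientGroup.mk' (U.subgroupOf (U ⊔ K)) with hf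
  have h1 : f ⟨e, he⟩ = f ⟨k, mem_sup_right hk⟩ := by
    have : f ⟨u, mem_sup_left hu⟩ = 1 := by
      rw [hf, QuotientGroup.mk'_apply, QuotientGroup.eq_one_iff, mem_subgroupOf]; exact hu
    rw [show (⟨e, he⟩ : ↥(U ⊔ K)) = ⟨u, mem_sup_left hu⟩ * ⟨k, mem_sup_right hk⟩ from
      Subtype.ext hek.symm, map_mul, this, one_mul]
  have h2 : f ⟨e, he⟩ = 1 := by
    rw [← orderOf_eq_one_iff]
    refine Nat.eq_one_of_dvd_coprimes (a := orderOf k) (b := orderOf e) ?_ ?_ ?_
    · refine Nat.coprime_of_dvd fun r hr h1' h2' => ?_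
      haveI := Fact.mk hr
      have hrκ := h.hall.2.1 r hr (h1'.trans (Subgroup.orderOf_dvd_natCard _ hk))
      refine not_centralizes_of_kappa hG hM hrκ (pow_mem (hE.1 he) (orderOf e / r))
        (orderOf_pow_orderOf_div (orderOf_pos e).ne' h2') fun y hy => ?_
      exact mem_centralizer_singleton_iff.2
        (mem_centralizer_iff.1 (pow_mem heC (orderOf e / r)) y hy)
    · rw [h1]
      exact (orderOf_map_dvd f _).trans (dvd_of_eq (orderOf_coe _).symm)
    · exact (orderOf_map_dvd f _).trans (dvd_of_eq (orderOf_coe _).symm)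
  rwa [hf, QuotientGroup.mk'_apply, QuotientGroup.eq_one_iff, mem_subgroupOf] at h2

theorem U_inf_centralizer_comm (h : IsSigmaDecomposition M K U) :
    IsMulCommutative ↥(U ⊓ centralizer (sigmaCore M : Set G)) := by
  obtain ⟨A, hA, hle⟩ := exists_comm_stabilizer_U hG hM h
  obtain ⟨x, hx, hx1⟩ := (bot_or_exists_ne_one _).resolve_left (sigmaCore_ne_bot hG hM)
  exact isMulCommutative_of_le
    ((inf_le_inf le_rfl (centralizer_le (by simpa using hx))).trans (hle x hx hx1)) hA

theorem centralizer_fittingHallOf_nilpotent :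
    Group.IsNilpotent ↥(M ⊓ centralizer (fittingHallOf M : Set G)) := by
  obtain ⟨K, U, h⟩ := exists_decomposition hG hM
  by_cases hn : Group.IsNilpotent (sigmaCore M)
  · rw [fittingHallOf_eq_of_nilpotent hG hM hn]
    refine Core.isNilpotent_mono (isNilpotent_sup hn ?_ inf_le_right)
      (inf_centralizer_sigmaCore_le hG hM h)
    haveI := U_inf_centralizer_comm hG hM h
    letI : CommGroup ↥(U ⊓ centralizer (sigmaCore M : Set G)) :=
      { mul_comm := fun a b => mul_comm' a b }
    exact CommGroup.isNilpotent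
  · exact (coreData_of_not_nilpotent hG hM h hn).2.centralizer_nilpotent

theorem second_derived_le_fittingOf : ⁅⁅M, M⁆, ⁅M, M⁆⁆ ≤ fittingOf M := by
  by_cases hn : Group.IsNilpotent (sigmaCore M)
  · obtain ⟨E, hE⟩ := exists_compl_sigmaCore hG hM
    have hEc : IsMulCommutative ↥⁅E, E⁆ := comm_of_nilpotent hG hM
      ((commutator_le_self E).trans hE.1) (compl_commutator_nilpotent hG hM hE)
      fun r hr hd => compl_prime_not_sigma hG hM hE hr (hd.trans (card_dvd_of_le (commutator_le_self E)))
    have h1 : ⁅M, M⁆ ≤ sigmaCore M ⊔ ⁅E, E⁆ := commutator_le_sup_of_eq (le_normalizer_sigmaCore M)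
      ((le_sup_of_isComplIn hE).trans (sup_comm E (sigmaCore M)))
    exact ((commutator_mono h1 h1).trans (commutator_sup_le
      ((commutator_le_self E).trans (hE.1.trans (le_normalizer_sigmaCore M))) hEc)).trans
        (sigmaCore_le_fittingOf hG hM hn)
  · obtain ⟨K, U, h⟩ := exists_decomposition hG hM
    exact (coreData_of_not_nilpotent hG hM h hn).2.second_derived_le

theorem fittingOf_le_derived (hκ : (kappa M).Nonempty) : fittingOf M ≤ ⁅M, M⁆ := by
  obtain ⟨K, U, h⟩ := exists_decomposition hG hM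
  by_cases hn : Group.IsNilpotent (sigmaCore M)
  · have hK1 : K ≠ ⊥ := by
      obtain ⟨r, hr⟩ := hκ
      intro e
      have := h.hall.2.2 r hr.1 hr
      rw [e, relIndex_bot_left] at this
      exact this hr.2.1
    refine (fittingOf_le_sup M).trans ?_
    rw [fittingHallOf_eq_of_nilpotent hG hM hn, derived_eq hG hM h hK1]
    exact sup_le ((inf_centralizer_sigmaCore_le hG hM h).trans
      (sup_le le_sup_right (inf_le_left.trans le_sup_left))) le_sup_right
  · obtain ⟨-, hc⟩ := coreData_of_not_nilpotent hG hM h hn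
    exact hc.fittingOf_le_sigmaCore.trans (sigmaCore_le_derived hG hM)

end Cfsg.Agent.OddLocal
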