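import Cfsg.Agent.OddLocal.UniquenessTheorem
import Cfsg.Agent.Fusion.Frattini
import Cfsg.Agent.Fusion.Transfer
import Cfsg.Agent.S1455

/-!
The primes `σ(M)`: fusion control (BG Theorem 10.1) and `P ≤ M'`.
-/

set_option autoImplicit false
set_option linter.unusedSectionVars false
set_option linter.style.haveILetI false

namespace Cfsg.Agent.OddLocal

open Subgroup Cfsg
open scoped commutatorElement

universe u

variable {G : Type u} [Group G] [Finite G] {p : ℕ} [hp : Fact p.Prime]

theorem mem_map_conj_iff {X : Subgroup G} {g y : G} :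
    y ∈ X.map (MulAut.conj g).toMonoidHom ↔ g⁻¹ * y * g ∈ X := by
  constructor
  · rintro ⟨x, hx, rfl⟩
    simpa [mul_assoc] using hx
  · exact fun h => ⟨g⁻¹ * y * g, h, by simp [mul_assoc]⟩

theorem card_map_conj (X : Subgroup G) (g : G) :
    Nat.card (X.map (MulAut.conj g).toMonoidHom) = Nat.card X :=
  card_map_of_injective (MulAut.conj g).injective

theorem map_conj_map_conj (X : Subgroup G) (g h : G) :
    (X.map (MulAut.conj h).toMonoidHom).map (MulAut.conj g).toMonoidHom =
      X.map (MulAut.conj (g * h)).toMonoidHom := by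
  ext y
  rw [mem_map_conj_iff, mem_map_conj_iff, mem_map_conj_iff, mul_inv_rev]
  simp [mul_assoc]

theorem map_conj_eq_self_of_mem {X : Subgroup G} {n : G} (hn : n ∈ normalizer (X : Set G)) :
    X.map (MulAut.conj n).toMonoidHom = X := by
  refine le_antisymm ?_ fun x hx => ?_
  · rintro _ ⟨x, hx, rfl⟩
    exact (mem_normalizer_iff.mp hn x).mp hx
  · rw [mem_map_conj_iff]
    exact (mem_normalizer_iff.mp hn _).mpr (by simpa [mul_assoc] using hx)

theorem mem_normalizer_of_map_conj {X : Subgroup G} {n : G}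
    (h : X.map (MulAut.conj n).toMonoidHom = X) : n ∈ normalizer (X : Set G) :=
  mem_normalizer_iff.mpr fun x => ⟨fun hx => h ▸ mem_map_of_mem _ hx, fun hx => by
    rw [← h, mem_map_conj_iff] at hx
    simpa [mul_assoc] using hx⟩

theorem map_conj_le_of_mem {X M : Subgroup G} (hXM : X ≤ M) {m : G} (hm : m ∈ M) :
    X.map (MulAut.conj m).toMonoidHom ≤ M := fun y hy => by
  have h1 := mul_mem (mul_mem hm (hXM (mem_map_conj_iff.mp hy))) (inv_mem hm)
  simpa [mul_assoc] using h1

theorem isPGroup_map_conj {X : Subgroup G} (hX : IsPGroup p X) (g : G) :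
    IsPGroup p (X.map (MulAut.conj g).toMonoidHom) := hX.map _

theorem commutator_eq_top_of_minSimple (hG : IsMinSimpleOddOrder G) : commutator G = ⊤ := by
  haveI := hG.2.1
  rcases (inferInstance : (commutator G).Normal).eq_bot_or_eq_top with h | h
  · exfalso
    have hc : center G = ⊤ := by
      rw [eq_top_iff]
      intro x _
      rw [mem_center_iff]
      intro y
      refine commutatorElement_eq_one_iff_mul_comm.mp ?_
      rw [← mem_bot, ← h]
      exact commutator_mem_commutator (mem_top y) (mem_top x)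
    rw [center_eq_bot_of_minSimple hG] at hc
    exact bot_ne_top hc
  · exact h

theorem map_subtype_sylow_smul {M : Subgroup G} (m : M) (P : Sylow p M) :
    ((m • P : Sylow p M) : Subgroup M).map M.subtype =
      ((P : Subgroup M).map M.subtype).map (MulAut.conj (m : G)).toMonoidHom := by
  rw [Sylow.coe_subgroup_smul]
  ext x
  constructor
  · rintro ⟨_, ⟨b, hb, rfl⟩, rfl⟩
    exact ⟨b, ⟨b, hb, rfl⟩, rfl⟩
  · rintro ⟨_, ⟨b, hb, rfl⟩, rfl⟩
    exact ⟨_, ⟨b, hb, rfl⟩, rfl⟩

section Sigma

variable {M : Subgroup G}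

/-- For `p ∈ σ(M)` the normaliser of every Sylow `p`-subgroup of `M` lies in `M`. -/
theorem sigma_normalizer_le (hσ : p ∈ sigma M) (P : Sylow p M) :
    normalizer (((P : Subgroup M).map M.subtype : Subgroup G) : Set G) ≤ M := by
  obtain ⟨-, -, P₀, hP₀⟩ := hσ
  obtain ⟨m, hm⟩ := MulAction.exists_smul_eq M P₀ P
  subst hm
  intro n hn
  have hPe := map_subtype_sylow_smul m P₀
  rw [hPe] at hn
  set R := (P₀ : Subgroup M).map M.subtype
  have h1 : (m : G)⁻¹ * n * m ∈ normalizer (R : Set G) := by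
    refine mem_normalizer_of_map_conj ?_
    have h2 := map_conj_eq_self_of_mem hn
    rw [map_conj_map_conj] at h2
    rw [mul_assoc, ← map_conj_map_conj, h2, map_conj_map_conj, inv_mul_cancel]
    ext x
    rw [mem_map_conj_iff]
    simp
  have h3 := mul_mem (mul_mem m.2 (hP₀ h1)) (inv_mem m.2)
  simpa [mul_assoc] using h3

/-- For `p ∈ σ(M)` the Sylow `p`-subgroups of `M` are Sylow subgroups of `G`. -/
theorem sigma_sylow (hσ : p ∈ sigma M) (P : Sylow p M) :
    ∃ S : Sylow p G, (S : Subgroup G) = (P : Subgroup M).map M.subtype := by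
  set R := (P : Subgroup M).map M.subtype with hR
  obtain ⟨S, hRS⟩ := (P.2.map M.subtype : IsPGroup p R).exists_le_sylow
  refine ⟨S, le_antisymm ?_ hRS⟩
  by_contra hne
  haveI : Group.IsNilpotent (S : Subgroup G) := S.2.isNilpotent
  have hlt : R < normalizer (R : Set G) ⊓ (S : Subgroup G) :=
    lt_normalizer_inf (lt_of_le_not_ge hRS hne)
  set T := normalizer (R : Set G) ⊓ (S : Subgroup G)
  have hTM : T ≤ M := inf_le_left.trans (sigma_normalizer_le hσ P)
  have h1 : (P : Subgroup M) ≤ T.subgroupOf M := fun x hx => hlt.le (mem_map_of_mem _ hx)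
  have h2 := P.3 ((S.2.to_le inf_le_right).comap_of_injective M.subtype M.subtype_injective) h1
  refine hlt.ne ?_
  rw [hR, ← h2]
  exact map_subgroupOf_eq_of_le hTM

theorem exists_sylow_of_sigma (hσ : p ∈ sigma M) : ∃ S : Sylow p G, (S : Subgroup G) ≤ M := by
  obtain ⟨P⟩ : Nonempty (Sylow p M) := inferInstance
  obtain ⟨S, hS⟩ := sigma_sylow hσ P
  exact ⟨S, hS ▸ map_subtype_le _⟩

/-- A `p`-subgroup of `M` strictly smaller than a Sylow subgroup is strictly contained in the Sylow
subgroups of its normaliser in `M`. -/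
theorem exists_sylow_gt {Y : Subgroup G} (hYM : Y ≤ M) (hY : IsPGroup p Y) (P : Sylow p M)
    (hlt : Nat.card Y < Nat.card P) (Q : Sylow p ↥(M ⊓ normalizer (Y : Set G))) :
    Y < (Q : Subgroup ↥(M ⊓ normalizer (Y : Set G))).map (Subgroup.subtype _) := by
  revert Q
  set N := M ⊓ normalizer (Y : Set G) with hN
  intro Q
  have hYN : Y ≤ N := le_inf hYM Subgroup.le_normalizer
  haveI : (Y.subgroupOf N).Normal :=
    (normal_subgroupOf_iff_le_normalizer hYN).mpr inf_le_right
  have hle : Y ≤ (Q : Subgroup N).map N.subtype := by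
    rw [← map_subgroupOf_eq_of_le hYN]
    exact map_mono ((Core.le_pCore (N := Y.subgroupOf N) (hY.comap_of_injective N.subtype N.subtype_injective)).trans
      (Core.pCore_le_sylow Q))
  refine lt_of_le_of_ne hle fun heq => ?_
  obtain ⟨P', hYP'⟩ := (hY.comap_of_injective M.subtype M.subtype_injective).exists_le_sylow
  have hP'c : Nat.card P' = Nat.card P := Sylow.card_eq_multiplicity P' ▸
    (Sylow.card_eq_multiplicity P).symm
  set R := (P' : Subgroup M).map M.subtype with hR
  have hYR : Y < R := by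
    refine lt_of_le_of_ne ?_ fun h => ?_
    · rw [← map_subgroupOf_eq_of_le hYM]
      exact map_mono hYP'
    · rw [h, hR, card_map_of_injective M.subtype_injective] at hlt
      exact hlt.ne hP'c
  haveI : Group.IsNilpotent R := (P'.2.map M.subtype).isNilpotent
  have hlt2 : Y < normalizer (Y : Set G) ⊓ R := lt_normalizer_inf hYR
  set T := normalizer (Y : Set G) ⊓ R with hT
  have hTN : T ≤ N := le_inf (inf_le_right.trans (map_subtype_le _)) inf_le_left
  have hTp : IsPGroup p T := (P'.2.map M.subtype).to_le inf_le_right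
  obtain ⟨Q', hTQ'⟩ := (hTp.comap_of_injective N.subtype N.subtype_injective).exists_le_sylow
  have h1 : Nat.card T ≤ Nat.card Q := by
    rw [Sylow.card_eq_multiplicity Q, ← Sylow.card_eq_multiplicity Q',
      ← Coprime.card_subgroupOf hTN]
    exact Nat.le_of_dvd Nat.card_pos (card_dvd_of_le hTQ')
  have h2 := Core.card_lt_of_lt hlt2
  rw [heq, card_map_of_injective N.subtype_injective] at h2
  exact absurd h1 (not_le.mpr h2)

/-- Solvable groups of odd order whose `p`-rank is at most two factor as `O_{p'} N(P)`. -/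
theorem exists_core_mul_normalizer {N : Type u} [Group N] [Finite N] [Group.IsSolvable N]
    (hodd : Odd (Nat.card N)) (P : Sylow p N) (hr : PRankLE p 2 ↥(P : Subgroup N)) (g : N) :
    ∃ d ∈ pPrimeCore p N, ∃ n ∈ normalizer ((P : Subgroup N) : Set N), g = d * n := by
  by_cases hpN : p ∣ Nat.card N
  · obtain ⟨-, -, -, -, -, hidx⟩ :=
      Cfsg.Agent.S1455.result hodd p hpN P (Or.inl hr) (fun h => absurd hr h)
    haveI : (pPrimePCore p N).Normal := @Subgroup.normal_of_characteristic _ _ _
      Coprime.pPrimePCore_characteristic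
    have hle : (P : Subgroup N) ≤ pPrimePCore p N := by
      refine Core.le_of_coprime_index ?_
      obtain ⟨k, hk⟩ := IsPGroup.iff_card.mp P.2
      rw [hk]
      exact (hidx.symm.pow_left k)
    obtain ⟨d, hd, n, hn, he⟩ := Fusion.exists_pPrimeCore_mul P g
    rw [inf_eq_left.mpr hle] at hn
    exact ⟨d, hd, n, hn, he⟩
  · refine ⟨g, ?_, 1, one_mem _, (mul_one g).symm⟩
    rw [Core.pPrimeCore_eq_top ((hp.out.coprime_iff_not_dvd.mpr hpN).symm)]
    exact mem_top g

variable (hG : IsMinSimpleOddOrder G)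
include hG

/-- Elementary subgroups of order `p ^ 3` in `M` force `p ∈ σ(M)`. -/
theorem alpha_subset_sigma (hM : IsCoatom M) : alpha M ⊆ sigma M := by
  rintro q ⟨hq, hr⟩
  haveI := Fact.mk hq
  obtain ⟨E, hEM, hEe, hE3⟩ := exists_elementary_of_not_pRankLE hr
  obtain ⟨P, hEP⟩ :=
    ((Coprime.ea_isPGroup hEe).comap_of_injective M.subtype M.subtype_injective).exists_le_sylow
  set R := (P : Subgroup M).map M.subtype with hR
  have hER : E ≤ R := by
    rw [← map_subgroupOf_eq_of_le hEM]
    exact map_mono hEP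
  have hEne : E ≠ ⊥ := Coprime.ea_ne_bot three_ne_zero hE3
  have hRtop : R ≠ ⊤ := fun h => hM.1 (top_le_iff.mp (h.symm.le.trans (map_subtype_le _)))
  refine ⟨hq, ?_, P, le_of_unique (inUniqueMaximal_of_elementary_three hG hEe hE3) hM hEM
    (hER.trans Subgroup.le_normalizer)
    (ne_top_of_normal_ne_bot hG (ne_bot_of_le_ne_bot hEne hER) hRtop)⟩
  obtain ⟨j, hj⟩ := IsPGroup.iff_card.mp (Coprime.ea_isPGroup hEe)
  have hj0 : j ≠ 0 := fun h => hEne (Subgroup.card_eq_one.mp (by rw [hj, h, pow_zero]))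
  exact ((dvd_pow_self q hj0).trans hj.symm.dvd).trans (card_dvd_of_le hEM)

/-- BG Theorem 10.1, strengthened by the Sylow statement used in its induction. -/
theorem fusion_and_sylow (hM : IsCoatom M) (hσ : p ∈ sigma M) : ∀ (k : ℕ) (X : Subgroup G),
    Nat.card G - Nat.card X = k → IsPGroup p X → X ≠ ⊥ → X ≤ M →
    (∀ g : G, X.map (MulAut.conj g).toMonoidHom ≤ M →
      ∃ m ∈ M, ∃ c ∈ centralizer (X : Set G), g = m * c) ∧
    ∀ T : Subgroup G, IsPGroup p T → T ≤ normalizer (X : Set G) →
      ∃ v ∈ normalizer (X : Set G), T.map (MulAut.conj v).toMonoidHom ≤ M := by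
  intro k
  induction k using Nat.strong_induction_on with
  | _ k ih =>
  intro X hk hXp hX1 hXM
  obtain ⟨P⟩ : Nonempty (Sylow p M) := inferInstance
  have hrec : ∀ Y : Subgroup G, Nat.card X < Nat.card Y → IsPGroup p Y → Y ≤ M →
      (∀ g : G, Y.map (MulAut.conj g).toMonoidHom ≤ M →
        ∃ m ∈ M, ∃ c ∈ centralizer (Y : Set G), g = m * c) ∧
      ∀ T : Subgroup G, IsPGroup p T → T ≤ normalizer (Y : Set G) →
        ∃ v ∈ normalizer (Y : Set G), T.map (MulAut.conj v).toMonoidHom ≤ M := by
    intro Y hlt hY hYM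
    refine ih _ ?_ Y rfl hY (fun h => ?_) hYM
    · have h1 : Nat.card Y ≤ Nat.card G :=
        Nat.le_of_dvd Nat.card_pos (Subgroup.card_subgroup_dvd_card Y)
      omega
    · rw [h, card_bot] at hlt
      exact absurd hlt (not_lt.mpr Nat.card_pos)
  -- Sylow subgroups
  by_cases hcard : Nat.card P ≤ Nat.card X
  · obtain ⟨P', hXP'⟩ := (hXp.comap_of_injective M.subtype M.subtype_injective).exists_le_sylow
    have hXe : X = (P' : Subgroup M).map M.subtype := by
      refine eq_of_le_of_card_ge ?_ ?_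
      · rw [← map_subgroupOf_eq_of_le hXM]
        exact map_mono hXP'
      · rw [card_map_of_injective M.subtype_injective, Sylow.card_eq_multiplicity P',
          ← Sylow.card_eq_multiplicity P]
        exact hcard
    have hNX : normalizer (X : Set G) ≤ M := hXe ▸ sigma_normalizer_le hσ P'
    refine ⟨fun g hg => ?_, fun T _ hT => ⟨1, one_mem _, ?_⟩⟩
    · set Y := X.map (MulAut.conj g).toMonoidHom with hY
      obtain ⟨Q, hYQ⟩ :=
        ((isPGroup_map_conj hXp g).comap_of_injective M.subtype M.subtype_injective).exists_le_sylow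
      have hYe : Y = (Q : Subgroup M).map M.subtype := by
        refine eq_of_le_of_card_ge ?_ ?_
        · rw [← map_subgroupOf_eq_of_le hg]
          exact map_mono hYQ
        · rw [card_map_of_injective M.subtype_injective, Sylow.card_eq_multiplicity Q,
            ← Sylow.card_eq_multiplicity P, card_map_conj]
          exact hcard
      obtain ⟨m, hm⟩ := MulAction.exists_smul_eq M P' Q
      have hYm : Y = X.map (MulAut.conj (m : G)).toMonoidHom := by
        rw [hYe, ← hm, hXe, map_subtype_sylow_smul]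
      have hn : (m : G)⁻¹ * g ∈ normalizer (X : Set G) := by
        refine mem_normalizer_of_map_conj ?_
        rw [← map_conj_map_conj, ← hY, hYm, map_conj_map_conj, inv_mul_cancel]
        ext x
        rw [mem_map_conj_iff]
        simp
      refine ⟨g, ?_, 1, one_mem _, (mul_one g).symm⟩
      have h1 := mul_mem m.2 (hNX hn)
      rwa [mul_inv_cancel_left] at h1
    · exact fun y hy => hNX (hT (by simpa using mem_map_conj_iff.mp hy))
  rw [not_le] at hcard
  set N := normalizer (X : Set G) with hN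
  have hXtop : X ≠ ⊤ := fun h => hM.1 (top_le_iff.mp (h ▸ hXM))
  have hNtop : N ≠ ⊤ := ne_top_of_normal_ne_bot hG hX1 hXtop
  haveI : Group.IsSolvable N := hG.2.2.2 N hNtop
  obtain ⟨Q⟩ : Nonempty (Sylow p ↥(M ⊓ N)) := inferInstance
  set Qm := (Q : Subgroup ↥(M ⊓ N)).map (M ⊓ N).subtype with hQm
  have hXQ : X < Qm := exists_sylow_gt hXM hXp P hcard Q
  have hQmM : Qm ≤ M := (map_subtype_le _).trans inf_le_left
  have hQmN : Qm ≤ N := (map_subtype_le _).trans inf_le_right
  have hQmp : IsPGroup p Qm := Q.2.map _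
  obtain ⟨hfusQ, hsylQ⟩ := hrec Qm (Core.card_lt_of_lt hXQ) hQmp hQmM
  have hCX : centralizer (Qm : Set G) ≤ centralizer (X : Set G) :=
    centralizer_le (SetLike.coe_subset_coe.mpr hXQ.le)
  -- `Qm` is a maximal `p`-subgroup of `N`
  have hmax : ∀ T : Subgroup G, IsPGroup p T → T ≤ N → Qm ≤ T → T ≤ Qm := by
    intro T hT hTN hQT
    by_contra hne
    haveI : Group.IsNilpotent T := hT.isNilpotent
    have hlt : Qm < normalizer (Qm : Set G) ⊓ T := lt_normalizer_inf (lt_of_le_not_ge hQT hne)
    set T' := normalizer (Qm : Set G) ⊓ T with hT'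
    have hT'p : IsPGroup p T' := hT.to_le inf_le_right
    obtain ⟨v, hv, hvM⟩ := hsylQ T' hT'p inf_le_left
    obtain ⟨m, hm, c, hc, rfl⟩ := hfusQ v (by rw [map_conj_eq_self_of_mem hv]; exact hQmM)
    have hcN : c ∈ N := centralizer_le_normalizer _ (hCX hc)
    have hcT : T'.map (MulAut.conj c).toMonoidHom ≤ M ⊓ N := by
      refine le_inf (fun y hy => ?_) (map_conj_le_of_mem (inf_le_right.trans hTN) hcN)
      have h1 : m * y * m⁻¹ ∈ M := hvM (by
        rw [mem_map_conj_iff] at hy ⊢
        simpa [mul_assoc] using hy)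
      have h2 := mul_mem (mul_mem (inv_mem hm) h1) hm
      simpa [mul_assoc] using h2
    obtain ⟨Q', hQ'⟩ := ((isPGroup_map_conj hT'p c).comap_of_injective (M ⊓ N).subtype
      (M ⊓ N).subtype_injective).exists_le_sylow
    have h3 : Nat.card T' ≤ Nat.card Qm := by
      rw [hQm, card_map_of_injective (M ⊓ N).subtype_injective, Sylow.card_eq_multiplicity Q,
        ← Sylow.card_eq_multiplicity Q', ← card_map_conj T' c, ← Coprime.card_subgroupOf hcT]
      exact Nat.le_of_dvd Nat.card_pos (card_dvd_of_le hQ')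
    exact absurd h3 (not_le.mpr (Core.card_lt_of_lt hlt))
  have hQN : ∃ S : Sylow p N, (S : Subgroup N) = Qm.subgroupOf N := by
    obtain ⟨S, hS⟩ := (hQmp.comap_of_injective N.subtype N.subtype_injective).exists_le_sylow
    refine ⟨S, le_antisymm ?_ hS⟩
    have h1 := hmax ((S : Subgroup N).map N.subtype) (S.2.map _) (map_subtype_le _) (by
      rw [← map_subgroupOf_eq_of_le hQmN]; exact map_mono hS)
    intro x hx
    exact h1 (mem_map_of_mem _ hx)
  obtain ⟨S, hS⟩ := hQN
  -- every element of `N` factors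
  have hfac : ∀ x ∈ N, ∃ m ∈ M, ∃ c ∈ centralizer (X : Set G), x = m * c := by
    intro x hx
    by_cases hr : PRankLE p 2 ↥(S : Subgroup N)
    · have hNodd : Odd (Nat.card N) := hG.1.of_dvd_nat (Subgroup.card_subgroup_dvd_card N)
      obtain ⟨d, hd, n, hn, hdn⟩ := exists_core_mul_normalizer hNodd S hr ⟨x, hx⟩
      have hnQ : (n : G) ∈ normalizer (Qm : Set G) := by
        rw [← map_subgroupOf_eq_of_le hQmN, ← hS]
        refine mem_normalizer_iff.mpr fun y => ⟨?_, ?_⟩
        · rintro ⟨a, ha, rfl⟩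
          exact ⟨n * a * n⁻¹, (mem_normalizer_iff.mp hn a).mp ha, rfl⟩
        · rintro ⟨a, ha, hae⟩
          have hy : y = ((n⁻¹ * a * n : N) : G) := by
            simp only [Subgroup.coe_mul, Subgroup.coe_inv]
            rw [show (a : G) = n * y * (n : G)⁻¹ from hae]
            group
          rw [hy]
          exact mem_map_of_mem N.subtype ((mem_normalizer_iff.mp hn (n⁻¹ * a * n)).mpr (by
            rw [show n * (n⁻¹ * a * n) * n⁻¹ = a by group]
            exact ha))
      obtain ⟨m, hm, c, hc, hnmc⟩ := hfusQ n (by rw [map_conj_eq_self_of_mem hnQ]; exact hQmM)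
      have hmN : m ∈ N := by
        have h1 : m = n * c⁻¹ := by rw [hnmc, mul_inv_cancel_right]
        rw [h1]
        exact mul_mem n.2 (inv_mem (centralizer_le_normalizer _ (hCX hc)))
      have hdC : (d : G) ∈ centralizer (X : Set G) := by
        haveI : (X.subgroupOf N).Normal :=
          (normal_subgroupOf_iff_le_normalizer Subgroup.le_normalizer).mpr le_rfl
        refine mem_centralizer_iff.mpr fun y hy => ?_
        have hyN : y ∈ N := Subgroup.le_normalizer hy
        obtain ⟨j, hj⟩ := IsPGroup.iff_card.mp hXp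
        have h1 := Core.commute_of_coprime (H := X.subgroupOf N) (K := pPrimeCore p N) (by
          rw [Coprime.card_subgroupOf Subgroup.le_normalizer, hj]
          exact (Core.coprime_card_pPrimeCore.pow_right j).symm) (x := ⟨y, hyN⟩) hy hd
        exact congrArg Subtype.val h1.eq
      refine ⟨m, hm, m⁻¹ * d * m * c, mul_mem ?_ (hCX hc), ?_⟩
      · refine mem_centralizer_iff.mpr fun y hy => ?_
        have h1 : m * y * m⁻¹ ∈ X := (mem_normalizer_iff.mp hmN y).mp hy
        calc y * (m⁻¹ * d * m) = m⁻¹ * ((m * y * m⁻¹) * d) * m := by group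
          _ = m⁻¹ * (d * (m * y * m⁻¹)) * m := by rw [mem_centralizer_iff.mp hdC _ h1]
          _ = m⁻¹ * d * m * y := by group
      · rw [show x = (d : G) * n from congrArg Subtype.val hdn, hnmc]
        group
    · obtain ⟨E, hES, hEe, hE3⟩ := exists_elementary_of_not_pRankLE hr
      have hEe' : IsElementaryAbelian p (E.map N.subtype) := ⟨by
          haveI := hEe.1
          exact Subgroup.map_isMulCommutative E _, by
          rintro _ ⟨e, he, rfl⟩
          rw [← map_pow, hEe.2 e he, map_one]⟩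
      have hEQ : E.map N.subtype ≤ Qm := by
        rw [← map_subgroupOf_eq_of_le hQmN, ← hS]
        exact map_mono hES
      refine ⟨x, le_of_unique (inUniqueMaximal_of_elementary_three hG hEe' (by
        rwa [card_map_of_injective N.subtype_injective])) hM (hEQ.trans hQmM)
        (map_subtype_le _) hNtop hx, 1, one_mem _, (mul_one x).symm⟩
  -- conjugating `p`-subgroups of `N` into `M`
  have hsyl : ∀ T : Subgroup G, IsPGroup p T → T ≤ N →
      ∃ v ∈ N, T.map (MulAut.conj v).toMonoidHom ≤ Qm := by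
    intro T hT hTN
    obtain ⟨S', hS'⟩ := (hT.comap_of_injective N.subtype N.subtype_injective).exists_le_sylow
    obtain ⟨v, hv⟩ := MulAction.exists_smul_eq N S' S
    refine ⟨v, v.2, ?_⟩
    rintro _ ⟨t, ht, rfl⟩
    have h1 : v * (⟨t, hTN ht⟩ : N) * v⁻¹ ∈ (S : Subgroup N) := by
      rw [← hv, Sylow.coe_subgroup_smul]
      exact ⟨⟨t, hTN ht⟩, hS' ht, rfl⟩
    rw [hS] at h1
    exact h1
  refine ⟨fun g hg => ?_, fun T hT hTN => ?_⟩
  · set Y := X.map (MulAut.conj g).toMonoidHom with hY
    obtain ⟨QY⟩ : Nonempty (Sylow p ↥(M ⊓ normalizer (Y : Set G))) := inferInstance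
    set QYm := (QY : Subgroup ↥(M ⊓ normalizer (Y : Set G))).map
      (M ⊓ normalizer (Y : Set G)).subtype with hQYm
    have hYlt : Y < QYm :=
      exists_sylow_gt hg (isPGroup_map_conj hXp g) P (by rwa [card_map_conj]) QY
    have hQYp : IsPGroup p QYm := QY.2.map _
    obtain ⟨hfusY, -⟩ := hrec QYm (by
      rw [← card_map_conj X g]; exact Core.card_lt_of_lt hYlt) hQYp
      ((map_subtype_le _).trans inf_le_left)
    have hTN : QYm.map (MulAut.conj g⁻¹).toMonoidHom ≤ N := by
      intro t ht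
      rw [mem_map_conj_iff, inv_inv] at ht
      have h1 : g * t * g⁻¹ ∈ normalizer (Y : Set G) := ((map_subtype_le _).trans inf_le_right) ht
      refine mem_normalizer_of_map_conj ?_
      have h2 := map_conj_eq_self_of_mem h1
      rw [hY, map_conj_map_conj] at h2
      calc X.map (MulAut.conj t).toMonoidHom
          = (X.map (MulAut.conj (g * t * g⁻¹ * g)).toMonoidHom).map
              (MulAut.conj g⁻¹).toMonoidHom := by
            rw [map_conj_map_conj]; congr 3; group
        _ = (X.map (MulAut.conj g).toMonoidHom).map (MulAut.conj g⁻¹).toMonoidHom := by rw [h2]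
        _ = X := by
            rw [map_conj_map_conj, inv_mul_cancel]
            ext y
            rw [mem_map_conj_iff]
            simp
    obtain ⟨v, hv, hvQ⟩ := hsyl _ (isPGroup_map_conj hQYp g⁻¹) hTN
    rw [map_conj_map_conj] at hvQ
    obtain ⟨m, hm, c, hc, hvg⟩ := hfusY (v * g⁻¹) (hvQ.trans hQmM)
    have hcY : c ∈ centralizer (Y : Set G) :=
      centralizer_le (SetLike.coe_subset_coe.mpr hYlt.le) hc
    obtain ⟨m₁, hm₁, c₁, hc₁, rfl⟩ := hfac v hv
    refine ⟨m⁻¹ * m₁, mul_mem (inv_mem hm) hm₁, c₁ * (g⁻¹ * c⁻¹ * g), mul_mem hc₁ ?_, ?_⟩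
    · refine mem_centralizer_iff.mpr fun y hy => ?_
      have h1 := mem_centralizer_iff.mp (inv_mem hcY) (g * y * g⁻¹) ⟨y, hy, rfl⟩
      calc y * (g⁻¹ * c⁻¹ * g) = g⁻¹ * ((g * y * g⁻¹) * c⁻¹) * g := by group
        _ = g⁻¹ * (c⁻¹ * (g * y * g⁻¹)) * g := by rw [h1]
        _ = g⁻¹ * c⁻¹ * g * y := by group
    · calc g = m⁻¹ * (m * c) * g * (g⁻¹ * c⁻¹ * g) := by group
        _ = m⁻¹ * (m₁ * c₁ * g⁻¹) * g * (g⁻¹ * c⁻¹ * g) := by rw [hvg]
        _ = _ := by group
  · obtain ⟨v, hv, hvQ⟩ := hsyl T hT hTN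
    exact ⟨v, hv, hvQ.trans hQmM⟩

/-- BG Theorem 10.1 (a). -/
theorem fusion_of_sigma (hM : IsCoatom M) (hσ : p ∈ sigma M) {X : Subgroup G} (hXp : IsPGroup p X)
    (hX1 : X ≠ ⊥) (hXM : X ≤ M) {g : G} (hg : X.map (MulAut.conj g).toMonoidHom ≤ M) :
    ∃ m ∈ M, ∃ c ∈ centralizer (X : Set G), g = m * c :=
  (fusion_and_sylow hG hM hσ _ X rfl hXp hX1 hXM).1 g hg

/-- For `p ∈ σ(M)`, Sylow `p`-subgroups of `M` lie in `M'`. -/
theorem sylow_le_commutator_of_sigma (hM : IsCoatom M) (hσ : p ∈ sigma M) (P : Sylow p M) :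
    (P : Subgroup M).map M.subtype ≤ ⁅M, M⁆ := by
  obtain ⟨S, hS⟩ := sigma_sylow hσ P
  have hSM : (S : Subgroup G) ≤ M := hS ▸ map_subtype_le _
  have h := Fusion.focalSubgroup_le_commutator_of_controls S M hSM (fun x hx g hg => by
    by_cases hx1 : x = 1
    · exact ⟨1, one_mem _, by simp [hx1]⟩
    obtain ⟨m, hm, c, hc, rfl⟩ := fusion_of_sigma hG hM hσ (X := zpowers x)
      (S.2.to_le (zpowers_le.mpr hx)) (by rwa [Ne, zpowers_eq_bot]) ((zpowers_le.mpr hx).trans hSM)
      (g := g) (by
        rw [MonoidHom.map_zpowers, zpowers_le]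
        exact hSM hg)
    refine ⟨m, hm, ?_⟩
    have hcx : x * c = c * x := mem_centralizer_iff.mp hc x (mem_zpowers x)
    calc m * x * m⁻¹ = m * (x * c) * c⁻¹ * m⁻¹ := by group
      _ = m * (c * x) * c⁻¹ * m⁻¹ := by rw [hcx]
      _ = m * c * x * (m * c)⁻¹ := by group)
  rw [← hS]
  intro x hx
  have h1 : x ∈ commutator G ⊓ (S : Subgroup G) :=
    ⟨by rw [commutator_eq_top_of_minSimple hG]; exact mem_top x, hx⟩
  rw [commutator_inf_eq_focalSubgroup S] at h1
  exact (h h1).1

end Sigma

end Cfsg.Agent.OddLocal
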