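import Cfsg.Agent.OddLocal.KappaFamily
import Cfsg.Agent.S1429

/-!
BG 14.7: the partner of a maximal subgroup with `κ(M) ≠ ∅`.
-/

set_option autoImplicit false
set_option linter.unusedSectionVars false
set_option linter.style.haveILetI false

namespace Cfsg.Agent.OddLocal

open Subgroup Cfsg

universe u

variable {G : Type u} [Group G] [Finite G] {M L H H' K K' W : Subgroup G}

/-- Two commuting cyclic subgroups of coprime orders generate a cyclic subgroup. -/
theorem isCyclic_sup_of_coprime {A B : Subgroup G} (hA : IsCyclic A) (hB : IsCyclic B)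
    (hAB : A ≤ centralizer (B : Set G)) (h : (Nat.card A).Coprime (Nat.card B)) :
    IsCyclic ↥(A ⊔ B) := by
  obtain ⟨a, rfl⟩ := A.isCyclic_iff_exists_zpowers_eq_top.mp hA
  obtain ⟨b, rfl⟩ := B.isCyclic_iff_exists_zpowers_eq_top.mp hB
  rw [Nat.card_zpowers, Nat.card_zpowers] at h
  have hcomm : Commute a b := (mem_centralizer_iff.mp (hAB (mem_zpowers a)) b (mem_zpowers b)).symm
  have e : zpowers a ⊔ zpowers b = zpowers (a * b) := by
    refine le_antisymm (sup_le (zpowers_le.mpr ?_) (zpowers_le.mpr ?_))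
      (zpowers_le.mpr (mul_mem (mem_sup_left (mem_zpowers a)) (mem_sup_right (mem_zpowers b))))
    · obtain ⟨k, hk⟩ := exists_pow_eq_self_of_coprime h.symm
      have h2 : (a * b) ^ orderOf b = a ^ orderOf b := by
        rw [hcomm.mul_pow, pow_orderOf_eq_one, mul_one]
      have h3 := pow_mem (pow_mem (mem_zpowers (a * b)) (orderOf b)) k
      rwa [h2, hk] at h3
    · obtain ⟨k, hk⟩ := exists_pow_eq_self_of_coprime h
      have h2 : (a * b) ^ orderOf a = b ^ orderOf a := by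
        rw [hcomm.mul_pow, pow_orderOf_eq_one, one_mul]
      have h3 := pow_mem (pow_mem (mem_zpowers (a * b)) (orderOf a)) k
      rwa [h2, hk] at h3
  rw [e]
  infer_instance

variable (hG : IsMinSimpleOddOrder G) (hM : IsCoatom M)
include hG hM

/-- `|K|` and `|K*|` are coprime. -/
theorem kappa_kStar_coprime (hK : IsPiHallOf (kappa M) K M) :
    (Nat.card K).Coprime (Nat.card (kStar M K)) :=
  (kappa_subgroup_coprime hG hM hK).coprime_dvd_right (card_dvd_of_le inf_le_left)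

/-- A maximal subgroup with a prime outside `σ ∪ κ` has a cyclic `K`, of prime order. -/
theorem kappa_prime_of_not_P1 (hK : IsPiHallOf (kappa M) K M) (hK1 : K ≠ ⊥) {q : ℕ}
    (hq : q.Prime) (hqM : q ∣ Nat.card M) (hqσ : q ∉ sigma M) (hqκ : q ∉ kappa M) :
    (Nat.card K).Prime := by
  haveI := Fact.mk hq
  obtain ⟨E, hE, hKE⟩ := exists_compl_ge_of_not_sigma hG hM hK.1
    (fun s hs hd => (hK.2.1 s hs hd).2.2.1)
  have hqE : q ∣ Nat.card E := (dvd_compl_iff hG hM hE).mpr ⟨hqM, hqσ⟩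
  -- no prime of `κ(M)` lies in `τ₃(M)`
  have hκ1 : ∀ s ∈ kappa M, s ∈ tau1 M := by
    intro s hs
    haveI := Fact.mk hs.1
    refine (kappa_tau13 hG hM hs).resolve_right fun h3 => hqκ ?_
    obtain ⟨⟨w, hwM⟩, hw⟩ := exists_prime_orderOf_dvd_card' s hs.2.1
    rw [← orderOf_coe] at hw
    change orderOf w = s at hw
    obtain ⟨m, hm, hle⟩ := exists_conj_le_of_relIndex (π := {l | l ∉ sigma M})
      (isSolvable_coatom hG hM) hE.1 (compl_isPiHallOf hG hM hE).2.2 (zpowers_le.mpr hwM)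
      (piNum_of_card_prime (by rw [Nat.card_zpowers, hw]) Fact.out h3.2.1)
    set V := (zpowers w).map (MulAut.conj m).toMonoidHom with hVdef
    have hV : Nat.card V = s := by rw [hVdef, card_map_conj, Nat.card_zpowers, hw]
    have hfix := fixed_ne_bot_of_kappa hG hM hs hV (hle.trans hE.1)
    obtain ⟨htau2, -, hCE⟩ := all_fix_of_tau3 hG hM hE h3 hV hle hfix
    obtain ⟨⟨z, hzE⟩, hz⟩ := exists_prime_orderOf_dvd_card' q hqE
    rw [← orderOf_coe] at hz
    change orderOf z = q at hz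
    refine kappa_of_fixed hG hM (P := zpowers z) ?_ (by rw [Nat.card_zpowers, hz])
      (zpowers_le.mpr (hE.1 hzE)) fun e => hfix (le_bot_iff.mp (hCE ▸ e ▸ inf_le_inf_left _
        (centralizer_le (SetLike.coe_subset_coe.mpr (zpowers_le.mpr hzE)))))
    rcases tau_cases hG hM hE hqE with h | h | h
    · exact Or.inl h
    · exact absurd h (htau2 q)
    · exact Or.inr h
  obtain ⟨E₁, hE₁, hKE₁⟩ := exists_hall_ge (π := tau1 M)
    (Coprime.isSolvable_of_le hE.1 (isSolvable_coatom hG hM)) hKE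
    (fun s hs hd => hκ1 s (hK.2.1 s hs hd))
  have hKc : IsCyclic K := isCyclic_of_le (tau1_hall_cyclic hG hM hE hE₁) hKE₁
  obtain ⟨U, hU⟩ := (Cfsg.Agent.S1352.result hG M hM K hKc hK).1
  refine card_kappa_prime hG hM hU hK1 fun hU1 => hqκ ?_
  obtain ⟨hE', -⟩ := sigmaDecomposition_compl hG hM hU
  refine hK.2.1 q hq ?_
  have h1 : q ∣ Nat.card ↥(U ⊔ K) := (dvd_compl_iff hG hM hE').mpr ⟨hqM, hqσ⟩
  rwa [hU1, bot_sup_eq] at h1

omit hM in
theorem IsMember.ne_of_dvd (h : IsMember W H K) (_h' : IsMember W H' K') {q : ℕ} (hq : q.Prime)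
    (hd : q ∣ Nat.card K) (hd' : q ∣ Nat.card (kStar H' K')) : H' ≠ H := fun e =>
  (h.2.1.2.1 q hq hd).2.2.1
    (e ▸ piNum_sigmaCore H' q hq (hd'.trans (card_dvd_of_le inf_le_left)))

omit hM in
/-- BG 14.7: there are exactly two members, with cyclic `K` and `K*`, one of them of prime order. -/
theorem IsMember.exists_pair (h₀ : IsMember W M K) :
    ∃ H K' L : Subgroup G, IsMember W H K' ∧ IsMember W L (kStar H K') ∧
      kStar L (kStar H K') = K' ∧ IsCyclic K' ∧ IsCyclic (kStar H K') ∧ (Nat.card K').Prime ∧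
      ∀ X K'' : Subgroup G, IsMember W X K'' →
        (X = H ∧ K'' = K') ∨ (X = L ∧ K'' = kStar H K') := by
  obtain ⟨H, K', h, r, hr, hrH, hrσ, hrκ⟩ := h₀.exists_not_P1 hG
  have hpr := kappa_prime_of_not_P1 hG h.1 h.2.1 h.2.2.1 hr hrH hrσ hrκ
  haveI := Fact.mk hpr
  set q := Nat.card K' with hq
  obtain ⟨L, K₁, hL, hK₁, hK₁1, hqL, heq, hqd⟩ :=
    exists_partner hG h.1 h.2.1 h.2.2.1 (p := q) (dvd_refl _)
  have h' : IsMember W L K₁ := ⟨hL, hK₁, hK₁1, heq.trans h.2.2.2⟩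
  have hne : L ≠ H := h.ne_of_dvd hG h' hpr (dvd_refl _) hqd
  have hσd : ∀ s : ℕ, s ∈ sigma L → s ∉ sigma H := fun s h1 h2 =>
    hne (IsMember.eq_of_sigma hG h h' h2 h1).1
  have hLK : kStar L K₁ ≤ K' := mem_of_piNum_not_sigma hG h.1 h.2.1
    (le_sup_right.trans heq.le) fun s hs hd =>
      hσd s (piNum_sigmaCore L s hs (hd.trans (card_dvd_of_le inf_le_left)))
  have hLK' : kStar L K₁ = K' := eq_of_le_of_card_ge hLK (Nat.le_of_dvd Nat.card_pos hqd)
  have hK₁eq : K₁ = kStar H K' := by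
    refine le_antisymm ?_ ?_
    · refine mem_kStar_of_piNum hG h.1 h.2.1 (le_sup_left.trans heq.le) fun s hs hd => ?_
      have hsW : s ∣ Nat.card W := hd.trans (card_dvd_of_le (h'.2.2.2 ▸ le_sup_left))
      rw [← h.2.2.2, kappa_W_card hG h.1 h.2.1] at hsW
      rcases hs.dvd_mul.mp hsW with h1 | h1
      · exact absurd ((Nat.prime_dvd_prime_iff_eq hs hpr).mp h1 ▸ hqL) (hK₁.2.1 s hs hd).2.2.1
      · exact piNum_sigmaCore H s hs (h1.trans (card_dvd_of_le inf_le_left))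
    · exact mem_of_piNum_not_sigma hG hL hK₁ (le_sup_right.trans heq.ge) fun s hs hd hc =>
        hσd s hc (piNum_sigmaCore H s hs (hd.trans (card_dvd_of_le inf_le_left)))
  subst hK₁eq
  have hnil : Group.IsNilpotent (sigmaCore H) := by
    haveI := Fact.mk hr
    obtain ⟨S⟩ : Nonempty (Sylow r H) := inferInstance
    exact (Cfsg.Agent.S1429.result hG H h.1 (fun hc => hrκ (hc r hr hrH hrσ)) r hrH
      (fun hc => hc.elim hrσ hrκ) S).2.2
  have hcs : IsCyclic (kStar H K') := by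
    haveI : Group.IsNilpotent (kStar H K') := by
      haveI := hnil
      exact (Group.isNilpotent_congr (subgroupOfEquivOfLe (inf_le_left :
        kStar H K' ≤ sigmaCore H))).mp inferInstance
    haveI : IsZGroup (kStar H K') := by
      refine ⟨fun s hs S => ?_⟩
      haveI := Fact.mk hs
      by_cases hsd : s ∣ Nat.card (kStar H K')
      · obtain ⟨T, hT⟩ := exists_sylow_ge (S.2.map (kStar H K').subtype)
          ((map_subtype_le _).trans hK₁.1)
        have hc := (hK₁.2.1 s hs hsd).2.2.2 T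
        haveI := hc.1
        haveI : IsCyclic ↥(((S : Subgroup (kStar H K')).map (kStar H K').subtype)) :=
          isCyclic_of_le (isCyclic_of_surjective _
            (equivMapOfInjective (T : Subgroup L) L.subtype L.subtype_injective).surjective) hT
        exact isCyclic_of_surjective _ (equivMapOfInjective (S : Subgroup (kStar H K'))
          (kStar H K').subtype (kStar H K').subtype_injective).symm.surjective
      · have h1 : (S : Subgroup (kStar H K')) = ⊥ := by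
          rw [← card_eq_one, S.card_eq_multiplicity, Nat.factorization_eq_zero_of_not_dvd hsd,
            pow_zero]
        rw [h1]
        infer_instance
    infer_instance
  refine ⟨H, K', L, h, h', hLK', isCyclic_of_prime_card rfl, hcs, hpr, fun X K'' hX => ?_⟩
  obtain ⟨s, hs, hsd⟩ := exists_prime_dvd_of_ne_bot (hX.kStar_ne_bot hG)
  have hsX := piNum_sigmaCore X s hs (hsd.trans (card_dvd_of_le inf_le_left))
  have hsW : s ∣ Nat.card W := hsd.trans (card_dvd_of_le (hX.2.2.2 ▸ le_sup_right))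
  rw [← h.2.2.2, kappa_W_card hG h.1 h.2.1] at hsW
  rcases hs.dvd_mul.mp hsW with h1 | h1
  · exact Or.inr (IsMember.eq_of_sigma hG h' hX
      ((Nat.prime_dvd_prime_iff_eq hs hpr).mp h1 ▸ hqL) hsX)
  · exact Or.inl (IsMember.eq_of_sigma hG h hX
      (piNum_sigmaCore H s hs (h1.trans (card_dvd_of_le inf_le_left))) hsX)

/-- BG 14.7 (a), (b): `K` and `K*` are cyclic and `M` has a unique partner. -/
theorem kappa_pair (hK : IsPiHallOf (kappa M) K M) (hK1 : K ≠ ⊥) :
    IsCyclic K ∧ IsCyclic (kStar M K) ∧ ((Nat.card K).Prime ∨ (Nat.card (kStar M K)).Prime) ∧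
      ∃ L : Subgroup G, IsMember (K ⊔ kStar M K) L (kStar M K) ∧ kStar L (kStar M K) = K ∧
        ∀ X K'' : Subgroup G, IsMember (K ⊔ kStar M K) X K'' →
          (X = M ∧ K'' = K) ∨ (X = L ∧ K'' = kStar M K) := by
  have h₀ : IsMember (K ⊔ kStar M K) M K := ⟨hM, hK, hK1, rfl⟩
  obtain ⟨H, K', L, h, h', e, hc, hcs, hp, huniq⟩ := h₀.exists_pair hG
  rcases huniq M K h₀ with ⟨rfl, rfl⟩ | ⟨rfl, rfl⟩
  · exact ⟨hc, hcs, Or.inl hp, L, h', e, huniq⟩
  · rw [e] at h₀ ⊢
    rw [e] at h h' huniq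
    exact ⟨hcs, hc, Or.inr hp, H, h, rfl, fun X K'' hX => (huniq X K'' hX).symm⟩

theorem kappa_W_cyclic (hK : IsPiHallOf (kappa M) K M) (hK1 : K ≠ ⊥) :
    IsCyclic ↥(K ⊔ kStar M K) := by
  obtain ⟨h1, h2, -, -⟩ := kappa_pair hG hM hK hK1
  exact isCyclic_sup_of_coprime h1 h2 (le_normalizer_kStar M K) (kappa_kStar_coprime hG hM hK)

/-- The hypotheses "`K = M*_σ ∩ C(K*)`, `K*` a Hall `κ(M*)`-subgroup" determine the partner. -/
theorem isMember_partner (hK : IsPiHallOf (kappa M) K M) (hK1 : K ≠ ⊥) (hL : IsCoatom L)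
    (hKst : K = kStar L (kStar M K)) (hKH : IsPiHallOf (kappa L) (kStar M K) L) :
    IsMember (K ⊔ kStar M K) L (kStar M K) :=
  ⟨hL, hKH, IsMember.kStar_ne_bot hG (⟨hM, hK, hK1, rfl⟩ : IsMember (K ⊔ kStar M K) M K),
    by rw [← hKst, sup_comm]⟩

/-- BG 14.7 (c): `M ∩ M* = K × K*`. -/
theorem inf_partner_eq (hK : IsPiHallOf (kappa M) K M) (hK1 : K ≠ ⊥) (hL : IsCoatom L)
    (hKst : K = kStar L (kStar M K)) (hKH : IsPiHallOf (kappa L) (kStar M K) L) :
    M ⊓ L = K ⊔ kStar M K := by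
  have hs1 : kStar M K ≠ ⊥ :=
    IsMember.kStar_ne_bot hG (⟨hM, hK, hK1, rfl⟩ : IsMember (K ⊔ kStar M K) M K)
  have hKL : K ≤ L := hKst.le.trans (inf_le_left.trans (sigmaCore_le L))
  have hσd : ∀ s : ℕ, s ∈ sigma L → s ∉ sigma M := by
    intro s hsL hsM
    obtain ⟨-, he⟩ := IsMember.eq_of_sigma hG (⟨hM, hK, hK1, rfl⟩ : IsMember (K ⊔ kStar M K) M K)
      (isMember_partner hG hM hK hK1 hL hKst hKH) hsM hsL
    obtain ⟨p, hp, hpd⟩ := exists_prime_dvd_of_ne_bot hK1
    exact (hK.2.1 p hp hpd).2.2.1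
      (piNum_sigmaCore M p hp ((he ▸ hpd).trans (card_dvd_of_le inf_le_left)))
  have hnc : ∀ {A B : Subgroup G}, (∀ s : ℕ, s ∈ sigma B → s ∉ sigma A) → IsCoatom A →
      ∀ g : G, B ≠ A.map (MulAut.conj g).toMonoidHom := fun {A B} hd hA g e => by
    obtain ⟨s, hs⟩ := sigma_nonempty hG hA
    exact hd s (by rw [e, sigma_map_conj]; exact hs) hs
  have key : ∀ {A B P : Subgroup G}, IsCoatom A → IsCoatom B →
      (∀ s : ℕ, s ∈ sigma B → s ∉ sigma A) → IsPiHallOf (kappa A) P A → P ≠ ⊥ → P ≤ sigmaCore B →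
      sigmaCore A ⊓ B ≤ kStar A P := by
    intro A B P hA hB hd hP hP1 hPB
    obtain ⟨p, hp, hpd⟩ := exists_prime_dvd_of_ne_bot hP1
    haveI := Fact.mk hp
    obtain ⟨⟨y, hy⟩, hyo⟩ := exists_prime_orderOf_dvd_card' p hpd
    rw [← orderOf_coe] at hyo
    change orderOf y = p at hyo
    have hpB := piNum_sigmaCore B p hp (hpd.trans (card_dvd_of_le hPB))
    have hc := le_centralizer_inf_sigmaCore hG hA hB (hnc hd hA) (hP.2.1 p hp hpd).2.2.1
      (fun h1 => h1.2.1 hpB) (isPGroup_of_card_prime (by rw [Nat.card_zpowers, hyo]))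
      (zpowers_le.mpr (hP.1 hy)) (zpowers_le.mpr (sigmaCore_le B (hPB hy)))
    obtain ⟨E, hE, hPE⟩ := exists_compl_ge_of_not_sigma hG hA hP.1
      (fun s hs hd => (hP.2.1 s hs hd).2.2.1)
    obtain ⟨-, hfix, -, -⟩ := kappa_structure hG hA hE hP hP1 hPE
    show sigmaCore A ⊓ B ≤ sigmaCore A ⊓ centralizer (P : Set G)
    rw [← hfix y hy (fun e => hp.ne_one (by rw [← hyo, e, orderOf_one])), ← centralizer_zpowers]
    exact le_inf inf_le_left (le_centralizer_iff.mp hc)
  have h1 : sigmaCore M ⊓ L = kStar M K := le_antisymm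
    (key hM hL hσd hK hK1 (hKst.le.trans inf_le_left)) (le_inf inf_le_left hKH.1)
  have h2 : sigmaCore L ⊓ M = K := le_antisymm
    ((key hL hM (fun s h h' => hσd s h' h) hKH hs1 inf_le_left).trans hKst.ge)
    (le_inf (hKst.le.trans inf_le_left) hK.1)
  refine le_antisymm ?_ (le_inf (kappa_W_le hG hM hK) (sup_le hKL hKH.1))
  obtain ⟨E, hE, hKE⟩ := exists_compl_ge_of_not_sigma hG hM hK.1
    (fun s hs hd => (hK.2.1 s hs hd).2.2.1)
  obtain ⟨-, hfix, -, hX⟩ := kappa_structure hG hM hE hK hK1 hKE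
  obtain ⟨p, hp, hpd⟩ := exists_prime_dvd_of_ne_bot hK1
  haveI := Fact.mk hp
  obtain ⟨⟨a, ha⟩, hao⟩ := exists_prime_orderOf_dvd_card' p hpd
  rw [← orderOf_coe] at hao
  change orderOf a = p at hao
  have ha1 : a ≠ 1 := fun e => hp.ne_one (by rw [← hao, e, orderOf_one])
  obtain ⟨-, hEX⟩ := hX (show Nat.card (zpowers a) = p by rw [Nat.card_zpowers, hao])
    (zpowers_le.mpr ha)
  rintro d ⟨hdM, hdL⟩
  have hdK : d ∈ normalizer (K : Set G) := by
    refine mem_normalizer_of_map_conj ?_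
    conv_lhs => rw [← h2]
    rw [Subgroup.map_inf _ _ _ (MulAut.conj d).injective,
      map_conj_eq_self_of_mem (le_normalizer_sigmaCore L hdL),
      map_conj_eq_self_of_mem (Subgroup.le_normalizer hdM), h2]
  refine ((inf_normalizer_compl_le hG hM hE ((zpowers_le.mpr ha).trans hKE)).trans
    (sup_le_sup hEX ?_)) ⟨hdM, normalizer_le_normalizer_of_isCyclic
      (kappa_pair hG hM hK hK1).1 (zpowers_le.mpr ha) hdK⟩
  rw [centralizer_zpowers, hfix a ha ha1]

end Cfsg.Agent.OddLocal
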