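import Cfsg.Agent.OddLocal.KappaTI
import Cfsg.Agent.S1351
import Cfsg.Agent.S1432

/-!
BG 14.4, 14.8: the sets `M̃` and the conjugates of `Ẑ` cover `G`.
-/

set_option autoImplicit false
set_option linter.unusedSectionVars false
set_option linter.style.haveILetI false

namespace Cfsg.Agent.OddLocal

open Subgroup Cfsg

universe u

variable {G : Type u} [Group G] [Finite G] {M K : Subgroup G}

/-- The factorisation of a number along a set of primes. -/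
theorem exists_pi_factors (π : ℕ → Prop) (n : ℕ) (hn : n ≠ 0) :
    ∃ a b : ℕ, a * b = n ∧ a.Coprime b ∧ (∀ q : ℕ, q.Prime → q ∣ a → π q) ∧
      ∀ q : ℕ, q.Prime → q ∣ b → ¬ π q := by
  induction n using Nat.recOnPosPrimePosCoprime with
  | zero => exact absurd rfl hn
  | one => exact ⟨1, 1, rfl, Nat.coprime_one_left _,
      fun q hq h => absurd h hq.not_dvd_one, fun q hq h => absurd h hq.not_dvd_one⟩
  | prime_pow p k hp hk =>
    have hdvd : ∀ q : ℕ, q.Prime → q ∣ p ^ k → q = p := fun q hq h =>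
      (Nat.prime_dvd_prime_iff_eq hq hp).mp (hq.dvd_of_dvd_pow h)
    by_cases h : π p
    · exact ⟨p ^ k, 1, mul_one _, Nat.coprime_one_right _,
        fun q hq hd => (hdvd q hq hd).symm ▸ h, fun q hq h' => absurd h' hq.not_dvd_one⟩
    · exact ⟨1, p ^ k, one_mul _, Nat.coprime_one_left _,
        fun q hq h' => absurd h' hq.not_dvd_one, fun q hq hd => (hdvd q hq hd).symm ▸ h⟩
  | coprime a b ha hb hab iha ihb =>
    obtain ⟨a₁, a₂, rfl, h1, h2, h3⟩ := iha (by omega)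
    obtain ⟨b₁, b₂, rfl, g1, g2, g3⟩ := ihb (by omega)
    refine ⟨a₁ * b₁, a₂ * b₂, by ring, ?_, fun q hq hd => (hq.dvd_mul.mp hd).elim (h2 q hq) (g2 q hq),
      fun q hq hd => (hq.dvd_mul.mp hd).elim (h3 q hq) (g3 q hq)⟩
    refine Nat.coprime_of_dvd fun q hq hd hd' => ?_
    exact (hq.dvd_mul.mp hd').elim (fun h => h3 q hq h ((hq.dvd_mul.mp hd).elim (h2 q hq) (g2 q hq)))
      (fun h => g3 q hq h ((hq.dvd_mul.mp hd).elim (h2 q hq) (g2 q hq)))

/-- Every element is the product of its `π`-part and its `π'`-part. -/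
theorem exists_pi_parts (π : ℕ → Prop) (g : G) :
    ∃ a b : G, a * b = g ∧ Commute a b ∧ a ∈ zpowers g ∧ b ∈ zpowers g ∧
      (∀ q : ℕ, q.Prime → q ∣ orderOf a → π q) ∧ ∀ q : ℕ, q.Prime → q ∣ orderOf b → ¬ π q := by
  obtain ⟨n₁, n₂, hn, hcop, h1, h2⟩ := exists_pi_factors π (orderOf g) (orderOf_pos g).ne'
  have hb : ((n₁ : ℤ) * Nat.gcdA n₁ n₂) + (n₂ : ℤ) * Nat.gcdB n₁ n₂ = 1 := by
    rw [← Nat.gcd_eq_gcd_ab, hcop.gcd_eq_one]; rfl
  set u := Nat.gcdA n₁ n₂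
  set v := Nat.gcdB n₁ n₂
  have hm : ∀ i : ℤ, g ^ (((n₁ * n₂ : ℕ) : ℤ) * i) = 1 := fun i => by
    rw [zpow_mul, zpow_natCast, hn, pow_orderOf_eq_one, one_zpow]
  have ha : (g ^ ((n₂ : ℤ) * v)) ^ n₁ = 1 := by
    rw [← zpow_natCast, ← zpow_mul,
      show (n₂ : ℤ) * v * (n₁ : ℤ) = ((n₁ * n₂ : ℕ) : ℤ) * v by push_cast; ring]
    exact hm v
  have hb' : (g ^ ((n₁ : ℤ) * u)) ^ n₂ = 1 := by
    rw [← zpow_natCast, ← zpow_mul,
      show (n₁ : ℤ) * u * (n₂ : ℤ) = ((n₁ * n₂ : ℕ) : ℤ) * u by push_cast; ring]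
    exact hm u
  refine ⟨g ^ ((n₂ : ℤ) * v), g ^ ((n₁ : ℤ) * u), ?_, Commute.zpow_zpow_self _ _ _, ⟨_, rfl⟩,
    ⟨_, rfl⟩, fun q hq hd => h1 q hq (hd.trans (orderOf_dvd_of_pow_eq_one ha)),
    fun q hq hd => h2 q hq (hd.trans (orderOf_dvd_of_pow_eq_one hb'))⟩
  rw [← zpow_add, show (n₂ : ℤ) * v + (n₁ : ℤ) * u = 1 by rw [← hb]; ring, zpow_one]

variable (hG : IsMinSimpleOddOrder G) (hM : IsCoatom M)
include hG hM

omit hM in
/-- An element of some `M_σ` whose centraliser is not in `M` … lies in some `L̃`. -/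
theorem mem_tilde_of_support {L R : Subgroup G} (hL : IsCoatom L) {x r : G}
    (hx : x ∈ sigmaCore L) (hx1 : x ≠ 1) (hR : IsSupport L x R) (hr : r ∈ R) :
    x * r ∈ tildeOf L ((sigmaCore L : Set G) \ {1}) := by
  have h := IsSupport.unique hG hL hx hx1 (isSupport_supportR hG hL hx hx1) hR
  exact ⟨x, ⟨hx, hx1⟩, r, h ▸ hr, 1, by group⟩

/-- BG 14.4: an element of `M` with nontrivial `σ(M)`-part lies in some `L̃`, or is of `Ẑ`-type. -/
theorem cover_of_mem {a b : G} (ha : a ∈ sigmaCore M) (ha1 : a ≠ 1) (hbM : b ∈ M)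
    (hab : Commute a b) (hb : ∀ q : ℕ, q.Prime → q ∣ orderOf b → q ∉ sigma M) :
    (∃ L : Subgroup G, IsCoatom L ∧ a * b ∈ tildeOf L ((sigmaCore L : Set G) \ {1})) ∨
      ∃ K₁ : Subgroup G, IsPiHallOf (kappa M) K₁ M ∧ K₁ ≠ ⊥ ∧
        a * b ∈ memberRest (K₁ ⊔ kStar M K₁) := by
  by_cases hb1 : b = 1
  · refine Or.inl ⟨M, hM, ?_⟩
    rw [hb1]
    exact mem_tilde_of_support hG hM ha ha1 (isSupport_supportR hG hM ha ha1) (one_mem _)
  rcases Cfsg.Agent.S1432.result hG M hM a ha ha1 b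
      ⟨hbM, mem_centralizer_of_commute hab.symm⟩ hb1 hb with ⟨hκ, -⟩ | ⟨-, ⟨L₀, hL₀, hLσ⟩, hCb, hu⟩
  · right
    have hπ : PiNum (kappa M) (zpowers b) := fun q hq hd =>
      hκ q hq (by rwa [Nat.card_zpowers] at hd)
    obtain ⟨K₁, hK₁, hbK⟩ := exists_hall_ge (isSolvable_coatom hG hM) (zpowers_le.mpr hbM) hπ
    have hbK' : b ∈ K₁ := hbK (mem_zpowers b)
    have hK₁1 : K₁ ≠ ⊥ := fun e => hb1 (mem_bot.mp (e ▸ hbK'))
    refine ⟨K₁, hK₁, hK₁1, ?_⟩
    obtain ⟨E, hE, hKE⟩ := exists_compl_ge_of_not_sigma hG hM hK₁.1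
      (fun s hs hd => (hK₁.2.1 s hs hd).2.2.1)
    obtain ⟨-, hfix, -, -⟩ := kappa_structure hG hM hE hK₁ hK₁1 hKE
    have haK : a ∈ kStar M K₁ := by
      show a ∈ sigmaCore M ⊓ centralizer (K₁ : Set G)
      rw [← hfix b hbK' hb1]
      exact ⟨ha, mem_centralizer_of_commute hab⟩
    rw [hab.eq]
    exact mul_mem_rest hG hM hK₁ hK₁1 hbK' hb1 haK ha1
  · left
    obtain ⟨h, hh⟩ := exists_conj_le_sigmaCore hG hL₀ (Y := zpowers b)
      (by rwa [Ne, zpowers_eq_bot]) (fun q hq hd => hLσ q hq (by rwa [Nat.card_zpowers] at hd))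
    set L := L₀.map (MulAut.conj h⁻¹).toMonoidHom with hLdef
    have hL : IsCoatom L := isCoatom_map_conj hL₀ h⁻¹
    have hbL : b ∈ sigmaCore L := by
      rw [sigmaCore_map_conj hG hL₀, mem_map_conj_iff, inv_inv]
      exact hh (mem_map_of_mem (MulAut.conj h).toMonoidHom (mem_zpowers b))
    have hnot : ¬ centralizer ({b} : Set G) ≤ L := by
      intro hle
      obtain ⟨q, hq, hqd⟩ := Nat.exists_prime_and_dvd (mt orderOf_eq_one_iff.mp hb1)
      have h1 := prime_mem_sigma_of_mem hG hL hbL hq hqd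
      rw [hu L hL hle] at h1
      exact hb q hq hqd h1
    refine ⟨L, hL, ?_⟩
    rw [hab.eq]
    exact mem_tilde_of_support hG hL hbL hb1 (Or.inr ⟨hnot, M, hM, hCb, rfl⟩)
      ⟨ha, mem_centralizer_of_commute hab⟩

omit hM in
/-- BG 14.4: every nonidentity element lies in some `M̃` or is of `Ẑ`-type. -/
theorem cover {g : G} (hg1 : g ≠ 1) :
    (∃ L : Subgroup G, IsCoatom L ∧ g ∈ tildeOf L ((sigmaCore L : Set G) \ {1})) ∨
      ∃ M K₁ : Subgroup G, IsCoatom M ∧ IsPiHallOf (kappa M) K₁ M ∧ K₁ ≠ ⊥ ∧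
        g ∈ memberRest (K₁ ⊔ kStar M K₁) := by
  obtain ⟨p, hp, hpd⟩ := Nat.exists_prime_and_dvd (mt orderOf_eq_one_iff.mp hg1)
  obtain ⟨M₀, hM₀, hpM⟩ := (Cfsg.Agent.S1378.result hG).1 p hp
    (hpd.trans (orderOf_dvd_natCard g))
  obtain ⟨a, b, hgab, hab, hag, hbg, ha, hb⟩ := exists_pi_parts (fun q => q ∈ sigma M₀) g
  have ha1 : a ≠ 1 := fun e => by
    rw [e, one_mul] at hgab
    exact hb p hp (hgab ▸ hpd) hpM
  obtain ⟨h, hh⟩ := exists_conj_le_sigmaCore hG hM₀ (Y := zpowers a)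
    (by rwa [Ne, zpowers_eq_bot]) (fun q hq hd => ha q hq (by rwa [Nat.card_zpowers] at hd))
  set M := M₀.map (MulAut.conj h⁻¹).toMonoidHom with hMdef
  have hM : IsCoatom M := isCoatom_map_conj hM₀ h⁻¹
  have haM : a ∈ sigmaCore M := by
    rw [sigmaCore_map_conj hG hM₀, mem_map_conj_iff, inv_inv]
    exact hh (mem_map_of_mem (MulAut.conj h).toMonoidHom (mem_zpowers a))
  have hσ : sigma M = sigma M₀ := sigma_map_conj M₀ h⁻¹
  rw [← hσ] at hb
  have key : ∀ {X : Subgroup G}, IsCoatom X → a ∈ sigmaCore X → b ∈ X → sigma X = sigma M →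
      (∃ L : Subgroup G, IsCoatom L ∧ g ∈ tildeOf L ((sigmaCore L : Set G) \ {1})) ∨
      ∃ M K₁ : Subgroup G, IsCoatom M ∧ IsPiHallOf (kappa M) K₁ M ∧ K₁ ≠ ⊥ ∧
        g ∈ memberRest (K₁ ⊔ kStar M K₁) := by
    intro X hX haX hbX hsX
    rcases cover_of_mem hG hX haX ha1 hbX hab (fun q hq hd => hsX ▸ hb q hq hd) with
      ⟨L, hL, h⟩ | ⟨K₁, hK₁, hK₁1, h⟩
    · exact Or.inl ⟨L, hL, hgab ▸ h⟩
    · exact Or.inr ⟨X, K₁, hX, hK₁, hK₁1, hgab ▸ h⟩
  by_cases hbM : b ∈ M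
  · exact key hM haM hbM rfl
  set C := centralizer ({a} : Set G) with hCdef
  have hbC : b ∈ C := mem_centralizer_of_commute hab.symm
  have hCM : ¬ C ≤ M := fun hle => hbM (hle hbC)
  have hR := isSupport_supportR hG hM haM ha1
  set R := supportR M a with hRdef
  obtain ⟨hRn, hcompl, hcop, -⟩ := hR.structure hG hM haM ha1
  have hCs : Group.IsSolvable C := hG.2.2.2 C (centralizer_ne_top hG ha1)
  set π : Set ℕ := {q | q ∣ Nat.card R} with hπ
  obtain ⟨b₁, b₂, hb12, hbb, hb1b, hb2b, hb₁, hb₂⟩ := exists_pi_parts (fun q => q ∈ π) b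
  have hcard := IsComplIn.card_mul hcompl
  have hRhall : IsPiHallOf π R C := by
    refine ⟨hR.le_centralizer, fun q _ hd => hd, fun q hq hqπ hd => ?_⟩
    have h1 := Coprime.card_mul_relIndex_of_le hR.le_centralizer
    rw [← hcard, Nat.mul_comm (Nat.card ↥(M ⊓ C)), Nat.mul_left_cancel_iff Nat.card_pos] at h1
    exact Nat.not_coprime_of_dvd_of_dvd hq.one_lt (h1 ▸ hd) hqπ hcop
  have hb1R : b₁ ∈ R := mem_of_isPiHallOf_normal hRhall hRn
    (zpowers_le.mpr ((zpowers_le.mpr hbC) hb1b))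
    (fun q hq hd => hb₁ q hq (by rwa [Nat.card_zpowers] at hd)) (mem_zpowers b₁)
  by_cases hb21 : b₂ = 1
  · refine Or.inl ⟨M, hM, ?_⟩
    rw [hb21, mul_one] at hb12
    rw [← hgab, ← hb12]
    exact mem_tilde_of_support hG hM haM ha1 hR hb1R
  obtain ⟨c, hc, hle⟩ := exists_conj_le_of_relIndex (π := {q | q ∉ π}) hCs inf_le_right
    (fun q hq hqπ hd => hqπ (by
      have h1 := Coprime.card_mul_relIndex_of_le (inf_le_right : M ⊓ C ≤ C)
      rw [← hcard, Nat.mul_left_cancel_iff Nat.card_pos] at h1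
      show q ∣ Nat.card R
      rwa [h1] at hd))
    (U := zpowers b₂) (zpowers_le.mpr ((zpowers_le.mpr hbC) hb2b))
    (fun q hq hd => hb₂ q hq (by rwa [Nat.card_zpowers] at hd))
  set X := M.map (MulAut.conj c⁻¹).toMonoidHom with hXdef
  have hX : IsCoatom X := isCoatom_map_conj hM c⁻¹
  have haC : c⁻¹ * a * c = a := by
    have := mem_centralizer_singleton_iff.mp hc
    rw [mul_assoc, ← this, inv_mul_cancel_left]
  have haX : a ∈ sigmaCore X := by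
    have := mem_sigmaCore_conj hG hM haM c⁻¹
    rwa [inv_inv, haC] at this
  have hb2X : b₂ ∈ X := by
    rw [hXdef, mem_map_conj_iff, inv_inv]
    exact (hle (mem_map_of_mem (MulAut.conj c).toMonoidHom (mem_zpowers b₂))).1
  have hab2 : Commute a b₂ := by
    obtain ⟨i, hi⟩ := mem_zpowers_iff.mp hb2b
    rw [← hi]
    exact hab.zpow_right i
  rcases Cfsg.Agent.S1432.result hG X hX a haX ha1 b₂
      ⟨hb2X, mem_centralizer_of_commute hab2.symm⟩ hb21 (fun q hq hd => by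
        rw [hXdef, sigma_map_conj]
        obtain ⟨i, hi⟩ := mem_zpowers_iff.mp hb2b
        exact hb q hq (hd.trans (orderOf_dvd_of_mem_zpowers hb2b))) with ⟨-, hle'⟩ | ⟨-, -, hCb, -⟩
  · refine absurd (fun x hx => ?_) hCM
    have h1 : c⁻¹ * x * c ∈ C := C.mul_mem (C.mul_mem (C.inv_mem hc) hx) hc
    have h2 := hle' h1
    rw [hXdef, mem_map_conj_iff, inv_inv] at h2
    rwa [show c * (c⁻¹ * x * c) * c⁻¹ = x by group] at h2
  · refine key hX haX (hCb (mem_centralizer_singleton_iff.mpr ?_)) (sigma_map_conj M c⁻¹)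
    obtain ⟨i, hi⟩ := mem_zpowers_iff.mp hb2b
    rw [← hi, (Commute.refl b).zpow_right i |>.eq]

/-- Any element of `Ẑ`-type is conjugate into the given `Ẑ`. -/
theorem rest_conj_into (hK : IsPiHallOf (kappa M) K M) (hK1 : K ≠ ⊥) {L K₁ : Subgroup G}
    (hL : IsCoatom L) (hK₁ : IsPiHallOf (kappa L) K₁ L) (hK₁1 : K₁ ≠ ⊥) {g : G}
    (hg : g ∈ memberRest (K₁ ⊔ kStar L K₁)) :
    ∃ y : G, ∃ z ∈ memberRest (K ⊔ kStar M K), g = y * z * y⁻¹ := by
  set A := {a : G | ∃ g : G, ∃ z ∈ memberRest (K ⊔ kStar M K), a = g * z * g⁻¹} with hA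
  set B := {a : G | ∃ g : G, ∃ z ∈ memberRest (K₁ ⊔ kStar L K₁), a = g * z * g⁻¹} with hB
  obtain ⟨_, ⟨g₁, z, hz, rfl⟩, ⟨g₂, z', hz', he⟩⟩ : (A ∩ B).Nonempty := by
    by_contra hne
    rw [Set.not_nonempty_iff_eq_empty] at hne
    have h1 := Set.ncard_union_add_ncard_inter A B
    rw [hne, Set.ncard_empty] at h1
    have h2 := Set.ncard_le_card (A ∪ B)
    have h3 : Nat.card G < 2 * A.ncard := half_lt_conj_rest hG hM hK hK1
    have h4 : Nat.card G < 2 * B.ncard := half_lt_conj_rest hG hL hK₁ hK₁1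
    omega
  set c := g₂⁻¹ * g₁ with hc
  have hzz : z' = c * z * c⁻¹ := by
    calc z' = g₂⁻¹ * (g₂ * z' * g₂⁻¹) * g₂ := by group
      _ = g₂⁻¹ * (g₁ * z * g₁⁻¹) * g₂ := by rw [he]
      _ = c * z * c⁻¹ := by rw [hc]; group
  have hW : ∀ w ∈ K₁ ⊔ kStar L K₁, c⁻¹ * w * c ∈ K ⊔ kStar M K := by
    intro w hw
    rw [← centralizer_rest hG hM hK hK1 hz]
    rw [← centralizer_rest hG hL hK₁ hK₁1 hz', mem_centralizer_singleton_iff, hzz] at hw
    refine mem_centralizer_singleton_iff.mpr ?_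
    calc c⁻¹ * w * c * z = c⁻¹ * (w * (c * z * c⁻¹)) * c := by group
      _ = c⁻¹ * (c * z * c⁻¹ * w) * c := by rw [hw]
      _ = z * (c⁻¹ * w * c) := by group
  refine ⟨c, c⁻¹ * g * c, ⟨hW g hg.1, fun X K' hX hgX => ?_⟩, by group⟩
  have hgord : orderOf (c⁻¹ * g * c) = orderOf g := by
    rw [show c⁻¹ * g * c = MulAut.conj c⁻¹ g by simp, MulEquiv.orderOf_eq]
  have hgσ : ∀ q : ℕ, q.Prime → q ∣ orderOf g → q ∈ sigma X := fun q hq hd =>
    prime_mem_sigma_of_mem hG hX.1 hgX.1 hq (by rwa [hgord])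
  rw [memberRest_eq hG hL hK₁ hK₁1] at hg
  obtain ⟨x, hx, s, hs, rfl⟩ := (Coprime.mem_sup_of_le_normalizer (N := K₁) (A := kStar L K₁)
    (inf_le_right.trans (centralizer_le_normalizer _))).mp hg.1
  have hs1 : s ≠ 1 := fun e => hg.2 (Or.inl (by rw [e, mul_one]; exact hx))
  have hx1 : x ≠ 1 := fun e => hg.2 (Or.inr (by rw [e, one_mul]; exact hs))
  have hcomm : Commute x s := mem_centralizer_iff.mp hs.2 x hx
  have hcop : (orderOf x).Coprime (orderOf s) :=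
    ((kappa_kStar_coprime hG hL hK₁).coprime_dvd_left
      (Subgroup.orderOf_dvd_natCard _ hx)).coprime_dvd_right (Subgroup.orderOf_dvd_natCard _ hs)
  have ho := hcomm.orderOf_mul_eq_mul_orderOf_of_coprime hcop
  obtain ⟨q, hq, hqd⟩ := Nat.exists_prime_and_dvd (mt orderOf_eq_one_iff.mp hx1)
  obtain ⟨r, hr, hrd⟩ := Nat.exists_prime_and_dvd (mt orderOf_eq_one_iff.mp hs1)
  have hrL := prime_mem_sigma_of_mem hG hL hs.1 hr hrd
  have hσ := sigma_eq_of_inter hG hX.1 hL (hgσ r hr (ho ▸ hrd.trans (Dvd.intro_left _ rfl))) hrL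
  refine (hK₁.2.1 q hq (hqd.trans (Subgroup.orderOf_dvd_natCard _ hx))).2.2.1 ?_
  rw [hσ]
  exact hgσ q hq (ho ▸ hqd.trans (Dvd.intro _ rfl))

end Cfsg.Agent.OddLocal
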