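import Cfsg.Agent.OddLocal.SigmaBasics

/-!
`M_α` and `M_σ` are Hall subgroups (BG Theorem 10.2), and BG Corollary 10.3.
-/

set_option autoImplicit false
set_option linter.unusedSectionVars false
set_option linter.style.haveILetI false

namespace Cfsg.Agent.OddLocal

open Subgroup Cfsg
open scoped commutatorElement

universe u

variable {G : Type u} [Group G] [Finite G] {p : ℕ} [hp : Fact p.Prime]

/-- Preimages of `π`-subgroups modulo a `π`-subgroup are `π`-subgroups. -/
theorem piNum_comap {π : Set ℕ} {N : Subgroup G} [N.Normal] (hN : PiNum π N)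
    {B : Subgroup (G ⧸ N)} (hB : PiNum π B) : PiNum π (B.comap (QuotientGroup.mk' N)) :=
  fun r hr hd => by
    rw [coprime_card_comap] at hd
    rcases hr.dvd_mul.mp hd with h | h
    · exact hN r hr h
    · exact hB r hr h

theorem piCore_quotient_eq_bot (π : Set ℕ) : piCore π (G ⧸ piCore π G) = ⊥ := by
  set f := QuotientGroup.mk' (piCore π G) with hf
  have h1 : (piCore π (G ⧸ piCore π G)).comap f ≤ piCore π G :=
    le_sSup ⟨(piCore_normal π (G ⧸ piCore π G)).comap f,
      piNum_comap (piNum_piCore π) (piNum_piCore π)⟩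
  have h2 := Subgroup.map_mono (f := f) h1
  rw [map_comap_eq_self_of_surjective (QuotientGroup.mk'_surjective _), QuotientGroup.map_mk'_self]
    at h2
  exact le_bot_iff.mp h2

/-- The `p`-rank does not grow modulo a normal `p'`-subgroup. -/
theorem pRankLE_quotient {N : Subgroup G} [N.Normal] (hN : ¬ p ∣ Nat.card N) {k : ℕ}
    (h : PRankLE p k G) : PRankLE p k (G ⧸ N) := by
  intro E hEc hEp
  set f := QuotientGroup.mk' N with hf
  have hfs : Function.Surjective f := QuotientGroup.mk'_surjective N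
  have hEpg : IsPGroup p E := fun e => ⟨1, by
    rw [pow_one]; exact Subtype.ext (hEp e e.2)⟩
  obtain ⟨T, hET⟩ := hEpg.exists_le_sylow
  obtain ⟨S, hS⟩ := Sylow.mapSurjective_surjective hfs p T
  have hST : (S : Subgroup G).map f = (T : Subgroup (G ⧸ N)) := by rw [← hS]; rfl
  have hinj : ∀ a ∈ (S : Subgroup G), f a = 1 → a = 1 := fun a ha h1 => by
    have h2 : a ∈ N := (QuotientGroup.eq_one_iff a).mp h1
    obtain ⟨n, hn⟩ := S.2 ⟨a, ha⟩
    exact orderOf_eq_one_iff.mp (Nat.eq_one_of_dvd_coprimes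
      ((hp.out.coprime_iff_not_dvd.mpr hN).pow_left n)
      (orderOf_dvd_of_pow_eq_one (congrArg Subtype.val hn)) (Subgroup.orderOf_dvd_natCard N h2))
  set E' : Subgroup G := (S : Subgroup G) ⊓ E.comap f with hE'
  have hmap : E'.map f = E := by
    refine le_antisymm ?_ fun e he => ?_
    · rintro _ ⟨a, ha, rfl⟩
      exact ha.2
    · obtain ⟨a, ha, rfl⟩ := hST.ge (hET he)
      exact ⟨a, ⟨ha, he⟩, rfl⟩
  have h1 := h E' ⟨⟨fun a b => by
      refine Subtype.ext (commutatorElement_eq_one_iff_mul_comm.mp (hinj _ ?_ ?_))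
      · rw [commutatorElement_def]
        exact mul_mem (mul_mem (mul_mem a.2.1 b.2.1) (inv_mem a.2.1)) (inv_mem b.2.1)
      · rw [map_commutatorElement, commutatorElement_eq_one_iff_mul_comm]
        exact congrArg Subtype.val (hEc.is_comm.comm ⟨f a, a.2.2⟩ ⟨f b, b.2.2⟩)⟩⟩
    (fun a ha => hinj _ (pow_mem ha.1 p) (by rw [map_pow]; exact hEp _ ha.2))
  refine le_trans ?_ h1
  rw [← hmap]
  exact Nat.le_of_dvd Nat.card_pos (card_map_dvd _ f)

theorem commutator_eq_map_subtype (M : Subgroup G) :
    ⁅M, M⁆ = (commutator M).map M.subtype := by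
  rw [_root_.commutator_def, map_commutator, ← MonoidHom.range_eq_map, range_subtype]

variable (hG : IsMinSimpleOddOrder G) {M : Subgroup G} (hM : IsCoatom M)
include hG hM

theorem sylow_le_commutator_self (hσ : p ∈ sigma M) (P : Sylow p M) :
    (P : Subgroup M) ≤ commutator M := by
  have h := sylow_le_commutator_of_sigma hG hM hσ P
  rw [commutator_eq_map_subtype] at h
  exact (map_le_map_iff_of_injective M.subtype_injective).mp h

theorem commutator_quotient_alpha_le :
    commutator (↥M ⧸ piCore (alpha M) M) ≤ fittingSubgroup (↥M ⧸ piCore (alpha M) M) ∧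
      ∀ r ∈ alpha M, ¬ r ∣ Nat.card (fittingSubgroup (↥M ⧸ piCore (alpha M) M)) := by
  haveI : Group.IsSolvable M := hG.2.2.2 M hM.1
  set N := piCore (alpha M) M with hN
  set Q := ↥M ⧸ N with hQ
  have hbot : piCore (alpha M) Q = ⊥ := piCore_quotient_eq_bot _
  have hF : ∀ r ∈ alpha M, ¬ r ∣ Nat.card (fittingSubgroup Q) := by
    intro r hr hd
    haveI := Fact.mk hr.1
    obtain ⟨x, hx⟩ := exists_prime_orderOf_dvd_card' r hd
    have hxr : (x : Q) ^ r ^ 1 = 1 := by
      rw [pow_one, ← hx, ← Subgroup.orderOf_coe, pow_orderOf_eq_one]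
    have h1 : (x : Q) ∈ rPart r (fittingSubgroup Q) :=
      mem_rPart_of_pow Core.fittingSubgroup_isNilpotent x.2 hxr
    have h2 : rPart r (fittingSubgroup Q) ≤ piCore (alpha M) Q := by
      refine le_sSup ⟨?_, piNum_of_isPGroup hr isPGroup_rPart⟩
      rw [← normalizer_eq_top_iff, eq_top_iff]
      exact le_normalizer_rPart le_normalizer_of_normal
    have h3 := h2 h1
    rw [hbot, mem_bot] at h3
    rw [← Subgroup.orderOf_coe, h3, orderOf_one] at hx
    exact hr.1.ne_one hx.symm
  refine ⟨commutator_le_fitting_of_rank_le_two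
    ((hG.1.of_dvd_nat (Subgroup.card_subgroup_dvd_card M)).of_dvd_nat
      (Subgroup.card_quotient_dvd_card N)) fun r hr => ?_, hF⟩
  haveI := Fact.mk hr
  by_cases hra : r ∈ alpha M
  · intro E hEc hEp
    have hEg : IsPGroup r E := fun e => ⟨1, by rw [pow_one]; exact Subtype.ext (hEp e e.2)⟩
    rcases hEg.card_eq_or_dvd with h | h
    · rw [h]
      exact Nat.one_le_pow _ _ hr.pos
    · exact absurd (h.trans (Subgroup.card_subgroup_dvd_card E)) (hF r hra)
  · have hrM : PRankLE r 2 M := by
      by_contra h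
      exact hra ⟨hr, h⟩
    exact pRankLE_of_injective _ (fittingSubgroup Q).subtype_injective
      (pRankLE_quotient (fun h => hra (piNum_piCore (alpha M) r hr h)) hrM)

theorem sylow_le_piCore_alpha (hα : p ∈ alpha M) (P : Sylow p M) :
    (P : Subgroup M) ≤ piCore (alpha M) M := by
  obtain ⟨hc, hF⟩ := commutator_quotient_alpha_le hG hM
  set f := QuotientGroup.mk' (piCore (alpha M) M) with hf
  have h1 : (P : Subgroup M).map f ≤ fittingSubgroup (↥M ⧸ piCore (alpha M) M) := by
    refine le_trans (map_mono (sylow_le_commutator_self hG hM (alpha_subset_sigma hG hM hα) P))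
      (le_trans ?_ hc)
    rw [_root_.commutator_def, map_commutator, _root_.commutator_def]
    exact commutator_mono le_top le_top
  intro x hx
  refine (QuotientGroup.eq_one_iff x).mp ?_
  show f x = 1
  obtain ⟨n, hn⟩ := P.2 ⟨x, hx⟩
  refine orderOf_eq_one_iff.mp (Nat.eq_one_of_dvd_coprimes
    ((hp.out.coprime_iff_not_dvd.mpr (hF p hα)).pow_left n) (orderOf_dvd_of_pow_eq_one ?_)
    (Subgroup.orderOf_dvd_natCard _ (h1 (mem_map_of_mem f hx))))
  rw [← map_pow, show x ^ p ^ n = 1 from congrArg Subtype.val hn, map_one]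

theorem piCore_alpha_le_sigma : piCore (alpha M) M ≤ piCore (sigma M) M :=
  le_sSup ⟨piCore_normal _ _, fun r hr hd =>
    alpha_subset_sigma hG hM (piNum_piCore (alpha M) r hr hd)⟩

theorem sylow_le_piCore_sigma (hσ : p ∈ sigma M) (P : Sylow p M) :
    (P : Subgroup M) ≤ piCore (sigma M) M := by
  by_cases hα : p ∈ alpha M
  · exact (sylow_le_piCore_alpha hG hM hα P).trans (piCore_alpha_le_sigma hG hM)
  obtain ⟨hc, -⟩ := commutator_quotient_alpha_le hG hM
  set f := QuotientGroup.mk' (piCore (alpha M) M) with hf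
  have h1 : (P : Subgroup M).map f ≤ fittingSubgroup (↥M ⧸ piCore (alpha M) M) := by
    refine le_trans (map_mono (sylow_le_commutator_self hG hM hσ P)) (le_trans ?_ hc)
    rw [_root_.commutator_def, map_commutator, _root_.commutator_def]
    exact commutator_mono le_top le_top
  set R := rPart p (fittingSubgroup (↥M ⧸ piCore (alpha M) M)) with hR
  haveI : R.Normal := by
    rw [← normalizer_eq_top_iff, eq_top_iff]
    exact le_normalizer_rPart le_normalizer_of_normal
  have h2 : (P : Subgroup M).map f ≤ R :=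
    le_rPart_of_isPGroup Core.fittingSubgroup_isNilpotent h1 (P.2.map f)
  have h3 : R.comap f ≤ piCore (sigma M) M :=
    le_sSup ⟨(inferInstance : R.Normal).comap f,
      piNum_comap (fun r hr hd => alpha_subset_sigma hG hM (piNum_piCore (alpha M) r hr hd))
        (piNum_of_isPGroup hσ isPGroup_rPart)⟩
  exact fun x hx => h3 (h2 (mem_map_of_mem f hx))

omit hG hM in
/-- A normal `π`-subgroup containing a Sylow subgroup for every prime in `π` is a Hall subgroup. -/
theorem isPiHallOf_piCoreOf {π : Set ℕ}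
    (h : ∀ q ∈ π, ∀ [Fact q.Prime], ∀ P : Sylow q M, (P : Subgroup M) ≤ piCore π M) :
    IsPiHallOf π (piCoreOf π M) M := by
  refine ⟨piCoreOf_le π M, piNum_piCoreOf π M, fun q hq hqπ hd => ?_⟩
  haveI := Fact.mk hq
  obtain ⟨P⟩ : Nonempty (Sylow q M) := inferInstance
  have he : (piCoreOf π M).subgroupOf M = piCore π M :=
    comap_map_eq_self_of_injective M.subtype_injective _
  rw [relIndex, he] at hd
  exact P.not_dvd_index (hd.trans (index_dvd_of_le (h q hqπ P)))

theorem isPiHall_of_sigma {π : Set ℕ} (hπ : π ⊆ sigma M) {H : Subgroup G}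
    (hH : IsPiHallOf π H M) : IsPiHall π H := by
  refine ⟨hH.2.1, fun q hq hqπ hd => ?_⟩
  haveI := Fact.mk hq
  obtain ⟨S, hS⟩ := exists_sylow_of_sigma (hπ hqπ)
  rw [← relIndex_mul_index hH.1] at hd
  rcases hq.dvd_mul.mp hd with h | h
  · exact hH.2.2 q hq hqπ h
  · exact S.not_dvd_index (h.trans (index_dvd_of_le hS))

theorem isPiHallOf_sigmaCore : IsPiHallOf (sigma M) (sigmaCore M) M :=
  isPiHallOf_piCoreOf fun q hq _ P => sylow_le_piCore_sigma hG hM hq P

theorem isPiHallOf_alphaCore : IsPiHallOf (alpha M) (alphaCore M) M :=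
  isPiHallOf_piCoreOf fun q hq _ P => sylow_le_piCore_alpha hG hM hq P

theorem rankLE_quotient_alpha : RankLE 2 (↥M ⧸ piCore (alpha M) M) := by
  intro r hr
  haveI := Fact.mk hr
  by_cases hra : r ∈ alpha M
  · intro E _ hEp
    obtain ⟨P⟩ : Nonempty (Sylow r M) := inferInstance
    have hEg : IsPGroup r E := fun e => ⟨1, by rw [pow_one]; exact Subtype.ext (hEp e e.2)⟩
    rcases hEg.card_eq_or_dvd with h | h
    · rw [h]
      exact Nat.one_le_pow _ _ hr.pos
    · refine absurd (h.trans (Subgroup.card_subgroup_dvd_card E)) ?_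
      rw [← Subgroup.index_eq_card]
      exact fun h => P.not_dvd_index (h.trans (index_dvd_of_le (sylow_le_piCore_alpha hG hM hra P)))
  · exact pRankLE_quotient (fun h => hra (piNum_piCore (alpha M) r hr h))
      (by by_contra h; exact hra ⟨hr, h⟩)

/-- BG Corollary 10.3 (the uniqueness statement). -/
theorem inUniqueMaximal_of_alphaCore_centralizer {X : Subgroup G} (hXM : X ≤ M)
    (hXα : ∀ q : ℕ, q.Prime → q ∣ Nat.card X → q ∉ alpha M)
    (hr : ¬ RankLE 1 ↥(alphaCore M ⊓ centralizer (X : Set G))) :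
    InUniqueMaximal (M ⊓ centralizer (X : Set G)) := by
  obtain ⟨q, E, hq, hE, hEe, hE2⟩ := exists_elementary_of_not_rankLE hr
  haveI := Fact.mk hq
  have hEle : E ≤ M ⊓ centralizer (X : Set G) :=
    hE.trans (inf_le_inf_right _ (piCoreOf_le _ M))
  have hEM := hEle.trans inf_le_left
  have htop : M ⊓ centralizer (X : Set G) ≠ ⊤ := fun h => hM.1 (top_le_iff.mp (h ▸ inf_le_left))
  have hEne : E ≠ ⊥ := Coprime.ea_ne_bot two_ne_zero hE2
  have hEg : IsPGroup q E := Coprime.ea_isPGroup hEe
  have hqα : q ∈ alpha M := by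
    refine piNum_piCoreOf (alpha M) M q hq ((?_ : q ∣ Nat.card E).trans
      (card_dvd_of_le (hE.trans inf_le_left)))
    exact hEg.card_eq_or_dvd.resolve_left fun h => hEne (card_eq_one.mp h)
  -- an `X`-invariant Sylow subgroup containing `E`
  set K := alphaCore M with hK
  have hXK : X ≤ normalizer (K : Set G) := hXM.trans (le_normalizer_piCoreOf _ M)
  have hcop : (Nat.card X).Coprime (Nat.card K) :=
    coprime_card_of_piNum hXα (piNum_piCoreOf _ M)
  haveI : Group.IsSolvable X :=
    Coprime.isSolvable_of_le hXM (hG.2.2.2 M hM.1)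
  have hXE : X ≤ normalizer (E : Set G) :=
    (le_centralizer_iff.mp (hE.trans inf_le_right)).trans (centralizer_le_normalizer _)
  obtain ⟨P, hEP, hXP⟩ := Coprime.exists_le_invariant_sylow hXK hcop (Or.inl inferInstance)
    (hE.trans inf_le_left) hEg hXE
  set U := (P : Subgroup K).map K.subtype with hU
  have hUp : IsPGroup q U := P.2.map _
  have hUM : U ≤ M := (map_subtype_le _).trans (piCoreOf_le _ M)
  -- it has rank at least three
  obtain ⟨V, hVe, hV3, hVU⟩ :
      ∃ V : Subgroup G, IsElementaryAbelian q V ∧ q ^ 3 ≤ Nat.card V ∧ V ≤ U := by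
    obtain ⟨W, hWM, hWe, hW3⟩ := exists_elementary_of_not_pRankLE hqα.2
    have hWK : W ≤ K := by
      have h1 : (W.subgroupOf M : Subgroup M) ≤ piCore (alpha M) M := by
        obtain ⟨S, hS⟩ := ((Coprime.ea_isPGroup hWe).comap_of_injective M.subtype
          M.subtype_injective).exists_le_sylow
        exact (show W.subgroupOf M ≤ (S : Subgroup M) from hS).trans
          (sylow_le_piCore_alpha hG hM hqα S)
      rw [← map_subgroupOf_eq_of_le hWM]
      exact map_mono h1
    obtain ⟨S, hS⟩ := ((Coprime.ea_isPGroup hWe).comap_of_injective K.subtype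
      K.subtype_injective).exists_le_sylow
    obtain ⟨k, hk⟩ := MulAction.exists_smul_eq K S P
    refine ⟨W.map (MulAut.conj (k : G)).toMonoidHom, ⟨?_, ?_⟩, ?_, ?_⟩
    · haveI := hWe.1
      exact Subgroup.map_isMulCommutative W _
    · rintro _ ⟨w, hw, rfl⟩
      rw [← map_pow, hWe.2 w hw, map_one]
    · rwa [card_map_conj]
    · rw [hU, ← hk, map_subtype_sylow_smul, ← map_subgroupOf_eq_of_le hWK]
      exact map_mono (map_mono hS)
  by_cases hmax : ∀ B : Subgroup G, IsElementaryAbelian q B → B ≤ U → E ≤ B → B = E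
  · -- `X` centralises the whole Sylow subgroup
    have hq2 : q ≠ 2 := prime_ne_two_of_pGroup hG hEg hEne
    have hXc : (Nat.card X).Coprime q :=
      (hq.coprime_iff_not_dvd.mpr fun h => hXα q hq h hqα).symm
    set D := U ⊓ centralizer (E : Set G) with hD
    have hXD : X ≤ normalizer (D : Set G) :=
      Coprime.le_normalizer_inf hXP (Coprime.le_normalizer_centralizer hXE)
    have hDE : ∀ v ∈ D, v ^ q = 1 → v ∈ E := by
      intro v hv hvq
      have := hmax _ (isElementaryAbelian_sup_zpowers hEe hvq hv.2)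
        (sup_le hEP (zpowers_le.mpr hv.1)) le_sup_left
      exact this ▸ mem_sup_right (mem_zpowers v)
    have hXDc : X ≤ centralizer (D : Set G) :=
      LocalStructure.le_centralizer_of_fixes_omega hq2 (hUp.to_le inf_le_left) hXD hXc
        fun v hv hvq a ha =>
          ((mem_centralizer_iff.mp ((hE.trans inf_le_right) (hDE v hv hvq)) a ha))
    have hXU : X ≤ centralizer (U : Set G) := by
      refine Coprime.thompson_pxq hEg hXc hUp (hE.trans inf_le_right)
        (hEP.trans Subgroup.le_normalizer) hXP ?_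
      exact le_centralizer_iff.mp hXDc
    exact inUniqueMaximal_of_le (inUniqueMaximal_of_elementary_three hG hVe hV3)
      (le_inf (hVU.trans hUM) (hVU.trans (le_centralizer_iff.mp hXU))) htop
  · push Not at hmax
    obtain ⟨B, hBe, hBU, hEB, hBne⟩ := hmax
    have hB3 : q ^ 3 ≤ Nat.card B := by
      obtain ⟨j, hj⟩ := IsPGroup.iff_card.mp (Coprime.ea_isPGroup hBe)
      have h1 := hE2.trans_lt (Core.card_lt_of_lt (lt_of_le_of_ne hEB (Ne.symm hBne)))
      rw [hj] at h1 ⊢
      exact Nat.pow_le_pow_right hq.pos ((Nat.pow_lt_pow_iff_right hq.one_lt).mp h1)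
    refine inUniqueMaximal_of_le (inUniqueMaximal_of_not_rankLE hG
      (fun h => hM.1 (top_le_iff.mp (h ▸ hEM))) (fun h => ?_) (Or.inr ?_)) hEle htop
    · exact not_pRankLE_of_elementary (k := 1) le_rfl hEe hE2 (h q hq)
    · exact not_rankLE_of_elementary (hBU.trans le_top |> fun _ =>
        (Coprime.ea_le_centralizer hBe).trans (centralizer_le (SetLike.coe_subset_coe.mpr hEB))) hBe hB3

end Cfsg.Agent.OddLocal
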