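import Cfsg.Agent.OddLocal.SupportSigma

/-!
The subgroups `R(x)` of BG §14: transitivity on the conjugates of `M` over `x` and disjointness of
the cosets `x R(x)` (BG 14.5).
-/

set_option autoImplicit false
set_option linter.unusedSectionVars false
set_option linter.style.haveILetI false

namespace Cfsg.Agent.OddLocal

open Subgroup Cfsg

universe u

variable {G : Type u} [Group G] [Finite G] {M M' R : Subgroup G} {x y r s : G}

/-- `R` is the subgroup `R(x)` of `x ∈ M_σ`. -/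
def IsSupport (M : Subgroup G) (x : G) (R : Subgroup G) : Prop :=
  (centralizer ({x} : Set G) ≤ M ∧ R = ⊥) ∨
    (¬ centralizer ({x} : Set G) ≤ M ∧ ∃ N : Subgroup G, IsCoatom N ∧
      centralizer ({x} : Set G) ≤ N ∧ R = sigmaCore N ⊓ centralizer ({x} : Set G))

theorem eq_of_commuting_parts {π : ℕ → Prop} {a b c d : G} (hab : Commute a b) (hcd : Commute c d)
    (h : a * b = c * d) (ha : ∀ q : ℕ, q.Prime → q ∣ orderOf a → π q)
    (hc : ∀ q : ℕ, q.Prime → q ∣ orderOf c → π q)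
    (hb : ∀ q : ℕ, q.Prime → q ∣ orderOf b → ¬ π q)
    (hd : ∀ q : ℕ, q.Prime → q ∣ orderOf d → ¬ π q) : a = c := by
  have hpow : ∀ {u v : G}, Commute u v → (∀ q : ℕ, q.Prime → q ∣ orderOf u → π q) →
      (∀ q : ℕ, q.Prime → q ∣ orderOf v → ¬ π q) →
      u ∈ zpowers (u * v) ∧ v ∈ zpowers (u * v) := by
    intro u v huv hu hv
    have hcop : (orderOf v).Coprime (orderOf u) :=
      Nat.coprime_of_dvd fun q hq h1 h2 => hv q hq h1 (hu q hq h2)
    obtain ⟨k, hk⟩ := exists_pow_eq_self_of_coprime hcop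
    have h1 : u ∈ zpowers (u * v) := by
      have h2 : u ^ orderOf v ∈ zpowers (u * v) := by
        refine ⟨(orderOf v : ℤ), ?_⟩
        simp only [zpow_natCast]
        rw [huv.mul_pow, pow_orderOf_eq_one v, mul_one]
      have h3 := pow_mem h2 k
      rwa [hk] at h3
    refine ⟨h1, ?_⟩
    have := mul_mem (inv_mem h1) (mem_zpowers (u * v))
    rwa [inv_mul_cancel_left] at this
  obtain ⟨ha', hb'⟩ := hpow hab ha hb
  obtain ⟨hc', hd'⟩ := hpow hcd hc hd
  rw [← h] at hc' hd'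
  have hzc : ∀ {u v : G}, u ∈ zpowers (a * b) → v ∈ zpowers (a * b) → Commute u v := fun hu hv =>
    setLike_mul_comm hu hv
  have e : a * c⁻¹ = d * b⁻¹ := by
    calc a * c⁻¹ = c⁻¹ * a := ((hzc hc' ha').inv_left).eq.symm
      _ = c⁻¹ * (a * b) * b⁻¹ := by group
      _ = c⁻¹ * (c * d) * b⁻¹ := by rw [h]
      _ = d * b⁻¹ := by group
  rw [← mul_inv_eq_one, ← orderOf_eq_one_iff]
  by_contra hne
  obtain ⟨q, hq, hqd⟩ := Nat.exists_prime_and_dvd hne
  have key : ∀ u v : G, Commute u v → q ∣ orderOf (u * v⁻¹) → q ∣ orderOf u ∨ q ∣ orderOf v :=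
    fun u v huv hdvd => by
      have h1 := hdvd.trans (huv.inv_right.orderOf_mul_dvd_lcm)
      rw [orderOf_inv] at h1
      exact hq.dvd_mul.mp (h1.trans (Nat.lcm_dvd_mul _ _))
  have h2 : π q := (key a c (hzc ha' hc') hqd).elim (ha q hq) (hc q hq)
  rw [e] at hqd
  exact ((key d b (hzc hd' hb') hqd).elim (hd q hq) (hb q hq)) h2

theorem IsSupport.map (h : IsSupport M x R) (hG : IsMinSimpleOddOrder G) (g : G) :
    IsSupport (M.map (MulAut.conj g).toMonoidHom) (g * x * g⁻¹)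
      (R.map (MulAut.conj g).toMonoidHom) := by
  have hC : centralizer ({g * x * g⁻¹} : Set G) =
      (centralizer ({x} : Set G)).map (MulAut.conj g).toMonoidHom := by
    ext c
    rw [mem_map_conj_iff, mem_centralizer_singleton_iff, mem_centralizer_singleton_iff]
    constructor
    · intro hc
      calc g⁻¹ * c * g * x = g⁻¹ * (c * (g * x * g⁻¹)) * g := by group
        _ = g⁻¹ * (g * x * g⁻¹ * c) * g := by rw [hc]
        _ = x * (g⁻¹ * c * g) := by group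
    · intro hc
      calc c * (g * x * g⁻¹) = g * (g⁻¹ * c * g * x) * g⁻¹ := by group
        _ = g * (x * (g⁻¹ * c * g)) * g⁻¹ := by rw [hc]
        _ = g * x * g⁻¹ * c := by group
  rcases h with ⟨h1, rfl⟩ | ⟨h1, N, hN, h2, rfl⟩
  · exact Or.inl ⟨hC.le.trans (map_mono h1), Subgroup.map_bot _⟩
  · refine Or.inr ⟨fun h' => h1 ?_, N.map (MulAut.conj g).toMonoidHom, isCoatom_map_conj hN g,
      hC.le.trans (map_mono h2), ?_⟩
    · exact (map_le_map_iff_of_injective (MulAut.conj g).injective).mp (hC.ge.trans h')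
    · rw [sigmaCore_map_conj hG hN, hC, Subgroup.map_inf _ _ _ (MulAut.conj g).injective]

theorem IsSupport.le_centralizer (h : IsSupport M x R) : R ≤ centralizer ({x} : Set G) := by
  rcases h with ⟨-, rfl⟩ | ⟨-, N, -, -, rfl⟩
  exacts [bot_le, inf_le_right]

variable (hG : IsMinSimpleOddOrder G) (hM : IsCoatom M)
include hG hM

theorem sigma_eq_of_inter (hM' : IsCoatom M') {q : ℕ} (h1 : q ∈ sigma M) (h2 : q ∈ sigma M') :
    sigma M' = sigma M := by
  haveI : Fact q.Prime := ⟨h1.1⟩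
  obtain ⟨g, rfl⟩ := exists_conj_of_sigma_inter hG hM hM' h1 h2
  exact sigma_map_conj M g

theorem prime_mem_sigma_of_mem (hx : x ∈ sigmaCore M) {q : ℕ} (hq : q.Prime)
    (hd : q ∣ orderOf x) : q ∈ sigma M :=
  piNum_sigmaCore M q hq (hd.trans (Subgroup.orderOf_dvd_natCard _ hx))

theorem IsSupport.unique (hx : x ∈ sigmaCore M) (hx1 : x ≠ 1) {R' : Subgroup G}
    (h : IsSupport M x R) (h' : IsSupport M x R') : R' = R := by
  rcases h with ⟨h1, rfl⟩ | ⟨h1, N, hN, h2, rfl⟩ <;>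
    rcases h' with ⟨g1, rfl⟩ | ⟨g1, N', hN', g2, rfl⟩
  · rfl
  · exact absurd h1 g1
  · exact absurd g1 h1
  · obtain ⟨N₀, -, -, -, hu, -⟩ := exists_support hG hM hx hx1 h1
    rw [hu N hN h2, hu N' hN' g2]

theorem exists_isSupport (hx : x ∈ sigmaCore M) (hx1 : x ≠ 1) : ∃ R, IsSupport M x R := by
  by_cases h : centralizer ({x} : Set G) ≤ M
  · exact ⟨⊥, Or.inl ⟨h, rfl⟩⟩
  · obtain ⟨N, hN, -, hle, -⟩ := exists_support hG hM hx hx1 h
    exact ⟨_, Or.inr ⟨h, N, hN, hle, rfl⟩⟩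

theorem isSupport_supportR (hx : x ∈ sigmaCore M) (hx1 : x ≠ 1) :
    IsSupport M x (supportR M x) := by
  unfold supportR
  split_ifs with h
  · obtain ⟨N, hN, -, -, hu, -, -, -, heq⟩ := exists_support hG hM hx hx1 h.1
    have hc := Classical.choose_spec h.2.exists
    refine Or.inr ⟨h.1, _, hc.1, hc.2, ?_⟩
    rw [hu _ hc.1 hc.2, heq]
  · push Not at h
    refine Or.inl ⟨by_contra fun h1 => ?_, rfl⟩
    obtain ⟨N, hN, -, hle, hu, -⟩ := exists_support hG hM hx hx1 h1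
    exact h h1 ⟨N, ⟨hN, hle⟩, fun L hL => hu L hL.1 hL.2⟩

/-- `R(x)` is a normal complement of `C_M(x)` in `C(x)`. -/
theorem IsSupport.structure (hx : x ∈ sigmaCore M) (hx1 : x ≠ 1) (h : IsSupport M x R) :
    centralizer ({x} : Set G) ≤ normalizer (R : Set G) ∧
      IsComplIn (M ⊓ centralizer ({x} : Set G)) R (centralizer ({x} : Set G)) ∧
      (Nat.card ↥(M ⊓ centralizer ({x} : Set G))).Coprime (Nat.card R) ∧ M ⊓ R = ⊥ := by
  rcases h with ⟨hC, rfl⟩ | ⟨hC, N, hN, hNC, rfl⟩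
  · rw [inf_eq_right.mpr hC, inf_bot_eq, card_bot]
    refine ⟨?_, ⟨le_rfl, bot_le, inf_bot_eq _, fun m hm => ⟨m, hm, 1, one_mem _, (mul_one m).symm⟩⟩,
      Nat.coprime_one_right _, rfl⟩
    rw [normalizer_eq_top_iff.mpr inferInstance]
    exact le_top
  obtain ⟨N₀, hN₀, -, -, hu, -, hMN, -, -⟩ := exists_support hG hM hx hx1 hC
  obtain rfl := hu N hN hNC
  have hxE : x ∈ M ⊓ N := ⟨sigmaCore_le M hx, hNC (mem_centralizer_singleton_iff.mpr rfl)⟩
  have hle : M ⊓ centralizer ({x} : Set G) ≤ M ⊓ N := inf_le_inf_left _ hNC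
  have hbot : M ⊓ (sigmaCore N ⊓ centralizer ({x} : Set G)) = ⊥ := by
    rw [eq_bot_iff, ← hMN.2.2.1]
    exact fun a ha => ⟨⟨ha.1, sigmaCore_le N ha.2.1⟩, ha.2.1⟩
  refine ⟨Coprime.le_normalizer_inf (hNC.trans (le_normalizer_sigmaCore N)) Subgroup.le_normalizer,
    ⟨inf_le_right, inf_le_right, ?_, fun c hc => ?_⟩, ?_, hbot⟩
  · rw [eq_bot_iff, ← hbot]
    exact inf_le_inf_right _ inf_le_left
  · obtain ⟨a, ha, b, hb, rfl⟩ := hMN.2.2.2 c (hNC hc)
    obtain ⟨hax, hbx⟩ := commute_components hMN ha hb hxE (mem_centralizer_singleton_iff.mp hc)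
    exact ⟨a, ⟨ha.1, mem_centralizer_of_commute hax⟩, b, ⟨hb, mem_centralizer_of_commute hbx⟩, rfl⟩
  · exact ((compl_coprime hG hN hMN).coprime_dvd_left (card_dvd_of_le hle)).coprime_dvd_right
      (card_dvd_of_le inf_le_left)

/-- `R(x)` is transitive on the conjugates of `M` containing `x`. -/
theorem IsSupport.existsUnique_conj (hx : x ∈ sigmaCore M) (hx1 : x ≠ 1) (h : IsSupport M x R)
    {g : G} (hg : x ∈ M.map (MulAut.conj g).toMonoidHom) :
    ∃! r : G, r ∈ R ∧ M.map (MulAut.conj r).toMonoidHom = M.map (MulAut.conj g).toMonoidHom := by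
  obtain ⟨hRn, hcompl, -, hMR⟩ := h.structure hG hM hx hx1
  have huniq : ∀ r r' : G, r ∈ R → r' ∈ R →
      M.map (MulAut.conj r).toMonoidHom = M.map (MulAut.conj r').toMonoidHom → r = r' := by
    intro r r' hr hr' e
    have h1 : M.map (MulAut.conj (r'⁻¹ * r)).toMonoidHom = M := by
      rw [← map_conj_map_conj, e, map_conj_map_conj, inv_mul_cancel,
        map_conj_eq_self_of_mem (one_mem _)]
    have h2 : r'⁻¹ * r ∈ M ⊓ R :=
      ⟨mem_of_map_conj_eq hG hM h1, R.mul_mem (inv_mem hr') hr⟩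
    rw [hMR, mem_bot, inv_mul_eq_one] at h2
    exact h2.symm
  suffices hex : ∃ r ∈ R, M.map (MulAut.conj r).toMonoidHom = M.map (MulAut.conj g).toMonoidHom by
    obtain ⟨r, hr, e⟩ := hex
    exact ⟨r, ⟨hr, e⟩, fun r' ⟨hr', e'⟩ => huniq r' r hr' hr (e'.trans e.symm)⟩
  have hxM := sigmaCore_le M hx
  have hxg : g⁻¹ * x * g ∈ M := by rwa [mem_map_conj_iff] at hg
  obtain ⟨p, hp, hpd⟩ := Nat.exists_prime_and_dvd (mt orderOf_eq_one_iff.mp hx1)
  haveI := Fact.mk hp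
  set y := x ^ (orderOf x / p) with hy
  have hyo : orderOf y = p := orderOf_pow_orderOf_div (orderOf_pos x).ne' hpd
  have hy1 : y ≠ 1 := fun e => hp.ne_one (by rw [← hyo, e, orderOf_one])
  have hyM : y ∈ M := M.pow_mem hxM _
  have hyσ : y ∈ sigmaCore M := (sigmaCore M).pow_mem hx _
  have hpσ := prime_mem_sigma_of_mem hG hM hx hp hpd
  obtain ⟨m, hm, c, hc, hmc⟩ := fusion_of_sigma hG hM hpσ
    (isPGroup_of_card_prime (P := zpowers y) (by rw [Nat.card_zpowers, hyo]))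
    (by rwa [Ne, zpowers_eq_bot]) (zpowers_le.mpr hyM) (g := g⁻¹) (by
      rw [MonoidHom.map_zpowers, zpowers_le]
      show g⁻¹ * y * g⁻¹⁻¹ ∈ M
      rw [hy, ← conj_pow, inv_inv]
      exact M.pow_mem hxg _)
  rw [centralizer_zpowers] at hc
  have hgc : M.map (MulAut.conj g).toMonoidHom = M.map (MulAut.conj c⁻¹).toMonoidHom := by
    rw [show g = c⁻¹ * m⁻¹ by rw [← mul_inv_rev, ← hmc, inv_inv], ← map_conj_map_conj,
      map_conj_eq_self_of_mem (Subgroup.le_normalizer (inv_mem hm))]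
  by_cases hCy : centralizer ({y} : Set G) ≤ M
  · exact ⟨1, one_mem _, by rw [hgc, map_conj_eq_self_of_mem (one_mem _),
      map_conj_eq_self_of_mem (Subgroup.le_normalizer (inv_mem (hCy hc)))]⟩
  by_cases hCx : centralizer ({x} : Set G) ≤ M
  swap
  · rcases h with ⟨h1, -⟩ | ⟨-, N, hN, hNC, rfl⟩
    · exact absurd h1 hCx
    obtain ⟨N₀, hN₀, -, -, hu, -, hMN, -, -⟩ := exists_support hG hM hx hx1 hCx
    obtain rfl := hu N hN hNC
    obtain ⟨N₁, A, hN₁, -, hCy₁, -, -, -, -, -, -⟩ := outside_prime hG hM hpσ hyM hy1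
      (orderOf_dvd_iff_pow_eq_one.mp (dvd_of_eq hyo)) hCy
    have hxy : centralizer ({x} : Set G) ≤ centralizer ({y} : Set G) := fun c hc =>
      mem_centralizer_of_commute
        ((show Commute c x from mem_centralizer_singleton_iff.mp hc).pow_right _)
    obtain rfl := hu N₁ hN₁ (hxy.trans hCy₁)
    obtain ⟨a, ha, b, hb, hab⟩ := hMN.2.2.2 c (hCy₁ hc)
    have hxE : x ∈ M ⊓ N₁ := ⟨hxM, hNC (mem_centralizer_singleton_iff.mpr rfl)⟩
    refine ⟨b⁻¹, ⟨(sigmaCore N₁).inv_mem hb, ?_⟩, ?_⟩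
    swap
    · rw [hgc, hab, mul_inv_rev, ← map_conj_map_conj M b⁻¹ a⁻¹,
        map_conj_eq_self_of_mem (Subgroup.le_normalizer (inv_mem ha.1))]
    have h1 : b * x * b⁻¹ ∈ M := by
      have e : g⁻¹ * x * g = m * (a * (b * x * b⁻¹) * a⁻¹) * m⁻¹ := by
        rw [show g = c⁻¹ * m⁻¹ by rw [← mul_inv_rev, ← hmc, inv_inv], hab]
        group
      have h2 := M.mul_mem (M.mul_mem (inv_mem hm) (e ▸ hxg)) hm
      rw [show m⁻¹ * (m * (a * (b * x * b⁻¹) * a⁻¹) * m⁻¹) * m = a * (b * x * b⁻¹) * a⁻¹ by group]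
        at h2
      have h3 := M.mul_mem (M.mul_mem (inv_mem ha.1) h2) ha.1
      rwa [show a⁻¹ * (a * (b * x * b⁻¹) * a⁻¹) * a = b * x * b⁻¹ by group] at h3
    have hn : b * x * b⁻¹ * x⁻¹ ∈ (M ⊓ N₁) ⊓ sigmaCore N₁ := by
      refine ⟨⟨M.mul_mem h1 (inv_mem hxM), ?_⟩, ?_⟩
      · exact N₁.mul_mem (N₁.mul_mem (N₁.mul_mem (sigmaCore_le N₁ hb) hxE.2)
          (inv_mem (sigmaCore_le N₁ hb))) (inv_mem hxE.2)
      · have h2 := (mem_normalizer_iff.mp (le_normalizer_sigmaCore N₁ hxE.2) b⁻¹).mp (inv_mem hb)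
        simpa [mul_assoc] using (sigmaCore N₁).mul_mem hb h2
    rw [hMN.2.2.1, mem_bot, mul_inv_eq_one, mul_inv_eq_iff_eq_mul] at hn
    exact mem_centralizer_of_commute ((show Commute b x from hn).inv_left)
  · -- `C(x) ≤ M` but `C(y) ⊄ M`
    obtain ⟨N, A, hN, -, hCyN, -, hp2, hA, -, hAM, hMN⟩ := outside_prime hG hM hpσ hyM hy1
      (orderOf_dvd_iff_pow_eq_one.mp (dvd_of_eq hyo)) hCy
    obtain ⟨a, ha, b, hb, hab⟩ := hMN.2.2.2 c (hCyN hc)
    have hxE : x ∈ M ⊓ N := ⟨hxM, hCyN (mem_centralizer_of_commute ((Commute.refl x).pow_right _))⟩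
    have hg' : g = c⁻¹ * m⁻¹ := by rw [← mul_inv_rev, ← hmc, inv_inv]
    have h1 : b * x * b⁻¹ ∈ M := by
      have e : g⁻¹ * x * g = m * (a * (b * x * b⁻¹) * a⁻¹) * m⁻¹ := by
        rw [hg', hab]
        group
      have h2 := M.mul_mem (M.mul_mem (inv_mem hm) (e ▸ hxg)) hm
      rw [show m⁻¹ * (m * (a * (b * x * b⁻¹) * a⁻¹) * m⁻¹) * m = a * (b * x * b⁻¹) * a⁻¹ by group]
        at h2
      have h3 := M.mul_mem (M.mul_mem (inv_mem ha.1) h2) ha.1
      rwa [show a⁻¹ * (a * (b * x * b⁻¹) * a⁻¹) * a = b * x * b⁻¹ by group] at h3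
    have hn : b * x * b⁻¹ * x⁻¹ ∈ (M ⊓ N) ⊓ sigmaCore N := by
      refine ⟨⟨M.mul_mem h1 (inv_mem hxM), ?_⟩, ?_⟩
      · exact N.mul_mem (N.mul_mem (N.mul_mem (sigmaCore_le N hb) hxE.2)
          (inv_mem (sigmaCore_le N hb))) (inv_mem hxE.2)
      · have h2 := (mem_normalizer_iff.mp (le_normalizer_sigmaCore N hxE.2) b⁻¹).mp (inv_mem hb)
        simpa [mul_assoc] using (sigmaCore N).mul_mem hb h2
    rw [hMN.2.2.1, mem_bot, mul_inv_eq_one, mul_inv_eq_iff_eq_mul] at hn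
    have hbM : b ∈ M := hCx (mem_centralizer_of_commute hn)
    exact ⟨1, one_mem _, by rw [hgc, hab, map_conj_eq_self_of_mem (one_mem _),
      map_conj_eq_self_of_mem (Subgroup.le_normalizer (inv_mem (mul_mem ha.1 hbM)))]⟩

/-- The primes of the elements of `R(x)` lie outside `σ(M)`. -/
theorem IsSupport.prime_not_sigma (hx : x ∈ sigmaCore M) (hx1 : x ≠ 1) (h : IsSupport M x R)
    (hr : r ∈ R) {q : ℕ} (hq : q.Prime) (hd : q ∣ orderOf r) : q ∉ sigma M := by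
  rcases h with ⟨-, rfl⟩ | ⟨hC, N, hN, hNC, rfl⟩
  · rw [mem_bot] at hr
    rw [hr, orderOf_one] at hd
    exact absurd hd hq.not_dvd_one
  obtain ⟨N₀, -, -, -, hu, h2, -⟩ := exists_support hG hM hx hx1 hC
  obtain rfl := hu N hN hNC
  intro hqM
  obtain ⟨p, hp, hpd⟩ := Nat.exists_prime_and_dvd (mt orderOf_eq_one_iff.mp hx1)
  refine (h2 p hp hpd).2.1 ?_
  rw [sigma_eq_of_inter hG hM hN hqM (prime_mem_sigma_of_mem hG hN hr.1 hq hd)]
  exact prime_mem_sigma_of_mem hG hM hx hp hpd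

/-- BG 14.5. -/
theorem support_cosets_disjoint (hM' : IsCoatom M') {R' : Subgroup G} (hx : x ∈ sigmaCore M)
    (hx1 : x ≠ 1) (hy : y ∈ sigmaCore M') (hy1 : y ≠ 1) (h : IsSupport M x R)
    (h' : IsSupport M' y R') (hr : r ∈ R) (hs : s ∈ R') (heq : x * r = y * s) : x = y := by
  have hxr : Commute x r := (mem_centralizer_singleton_iff.mp (h.le_centralizer hr)).symm
  have hys : Commute y s := (mem_centralizer_singleton_iff.mp (h'.le_centralizer hs)).symm
  have hπr := fun q hq hd => h.prime_not_sigma hG hM hx hx1 hr (q := q) hq hd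
  have hπs := fun q hq hd => h'.prime_not_sigma hG hM' hy hy1 hs (q := q) hq hd
  by_cases hcls : ∃ q, q ∈ sigma M ∧ q ∈ sigma M'
  · obtain ⟨q, h1, h2⟩ := hcls
    have he := sigma_eq_of_inter hG hM hM' h1 h2
    exact eq_of_commuting_parts (π := fun q => q ∈ sigma M) hxr hys heq
      (fun q hq hd => prime_mem_sigma_of_mem hG hM hx hq hd)
      (fun q hq hd => he ▸ prime_mem_sigma_of_mem hG hM' hy hq hd) hπr
      (fun q hq hd => he ▸ hπs q hq hd)
  push Not at hcls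
  exfalso
  -- the `σ(M)`-component of `x r = y s` lies in `R'`
  have hpart : ∀ {A B : Subgroup G} {a b c d : G} {S : Subgroup G}, IsCoatom A → IsCoatom B →
      (∀ q, q ∈ sigma A → q ∉ sigma B) → Commute a b → Commute c d → a * b = c * d →
      a ∈ sigmaCore A → a ≠ 1 → c ∈ sigmaCore B → c ≠ 1 →
      (∀ q : ℕ, q.Prime → q ∣ orderOf b → q ∉ sigma A) → IsSupport B c S → d ∈ S →
      ∃ N : Subgroup G, IsCoatom N ∧ centralizer ({c} : Set G) ≤ N ∧ a = d ∧
        ¬ centralizer ({c} : Set G) ≤ B := by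
    intro A B a b c d S hA hB hdis hab hcd he ha ha1 hc hc1 hb hS hd
    have hcnot : ∀ q : ℕ, q.Prime → q ∣ orderOf c → q ∉ sigma A := fun q hq hq' hqA =>
      hdis q hqA (prime_mem_sigma_of_mem hG hB hc hq hq')
    have hane : ∀ {z : G}, z = 1 → a = z → False := fun h1 h2 => ha1 (h2.trans h1)
    rcases hS with ⟨-, rfl⟩ | ⟨hCc, N, hN, hNc, rfl⟩
    · rw [mem_bot] at hd
      subst hd
      refine absurd (eq_of_commuting_parts (π := fun q => q ∈ sigma A) hab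
        (Commute.one_left c) (by rw [he, one_mul, mul_one])
        (fun q hq h1 => prime_mem_sigma_of_mem hG hA ha hq h1)
        (fun q hq h1 => by rw [orderOf_one] at h1; exact absurd h1 hq.not_dvd_one) hb hcnot) ha1
    · refine ⟨N, hN, hNc, ?_, hCc⟩
      by_cases hsame : ∃ q, q ∈ sigma A ∧ q ∈ sigma N
      · obtain ⟨q, h1, h2⟩ := hsame
        have hAN := sigma_eq_of_inter hG hA hN h1 h2
        exact eq_of_commuting_parts (π := fun q => q ∈ sigma A) hab hcd.symm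
          (he.trans hcd.eq) (fun q hq h1 => prime_mem_sigma_of_mem hG hA ha hq h1)
          (fun q hq h1 => hAN ▸ prime_mem_sigma_of_mem hG hN hd.1 hq h1) hb hcnot
      · push Not at hsame
        exfalso
        refine hane rfl (eq_of_commuting_parts (π := fun q => q ∈ sigma A) hab
          (Commute.one_left (c * d)) (by rw [he, one_mul])
          (fun q hq h1 => prime_mem_sigma_of_mem hG hA ha hq h1)
          (fun q hq h1 => by rw [orderOf_one] at h1; exact absurd h1 hq.not_dvd_one) hb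
          fun q hq h1 hqA => ?_)
        rcases hq.dvd_mul.mp ((h1.trans hcd.orderOf_mul_dvd_lcm).trans (Nat.lcm_dvd_mul _ _)) with
          h3 | h3
        · exact hcnot q hq h3 hqA
        · exact hsame q hqA (prime_mem_sigma_of_mem hG hN hd.1 hq h3)
  obtain ⟨Ny, hNy, hCy, hxs, hnCy⟩ := hpart hM hM' hcls hxr hys heq hx hx1 hy hy1 hπr h' hs
  obtain ⟨Nx, hNx, hCx, hyr, hnCx⟩ := hpart hM' hM (fun q h1 h2 => hcls q h2 h1) hys hxr heq.symm
    hy hy1 hx hx1 hπs h hr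
  obtain ⟨Ny₀, -, -, -, huy, -⟩ := exists_support hG hM' hy hy1 hnCy
  obtain ⟨Nx₀, -, -, -, hux, hx2, -⟩ := exists_support hG hM hx hx1 hnCx
  have hxσ : x ∈ sigmaCore Ny := by
    rcases h' with ⟨h1, -⟩ | ⟨-, N, hN, hNc, rfl⟩
    · exact absurd h1 hnCy
    rw [huy Ny hNy hCy, ← huy N hN hNc, hxs]
    exact hs.1
  have hyσ : y ∈ sigmaCore Nx := by
    rcases h with ⟨h1, -⟩ | ⟨-, N, hN, hNc, rfl⟩
    · exact absurd h1 hnCx
    rw [hux Nx hNx hCx, ← hux N hN hNc, hyr]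
    exact hr.1
  have hxout : ¬ centralizer ({x} : Set G) ≤ Ny := by
    intro hle
    obtain ⟨p, hp, hpd⟩ := Nat.exists_prime_and_dvd (mt orderOf_eq_one_iff.mp hx1)
    refine (hx2 p hp hpd).2.1 ?_
    rw [← hux Ny hNy hle]
    exact prime_mem_sigma_of_mem hG hNy hxσ hp hpd
  obtain ⟨N, hN, -, hNC, huN, -, hMN, -, -⟩ := exists_support hG hNy hxσ hx1 hxout
  obtain rfl := huN Nx hNx hCx
  exact hy1 (mem_bot.mp (hMN.2.2.1 ▸
    (⟨⟨hCy (mem_centralizer_singleton_iff.mpr rfl), sigmaCore_le Nx hyσ⟩, hyσ⟩ :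
      y ∈ (Ny ⊓ Nx) ⊓ sigmaCore Nx)))

end Cfsg.Agent.OddLocal
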