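import Cfsg.Agent.OddLocal.UStructure
import Cfsg.Agent.OddLocal.FittingCoreShape
import Cfsg.Agent.S1352
import Cfsg.Agent.S1374
import Cfsg.Agent.S1430
import Cfsg.Agent.S1431

/-!
BG 15.4: centraliser and fusion of a Hall subgroup of `M_σ`.
-/

set_option autoImplicit false
set_option linter.unusedSectionVars false
set_option linter.style.haveILetI false

namespace Cfsg.Agent.OddLocal

open Subgroup Cfsg
open scoped commutatorElement

universe u

variable {G : Type u} [Group G] [Finite G] {M H : Subgroup G}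

/-- A Hall subgroup of a nilpotent subgroup is normal in it. -/
theorem hall_normal_of_nilpotent {π : Set ℕ} {D P : Subgroup G} (hD : Group.IsNilpotent D)
    (hP : IsPiHallOf π P D) : D ≤ normalizer (P : Set G) := by
  intro d hd
  refine mem_of_prime_power_parts fun s _ y hy _ hys => ?_
  have hs : s.Prime := Fact.out
  have hyD : y ∈ D := zpowers_le.mpr hd hy
  obtain ⟨k, hk⟩ := hys
  by_cases hsπ : s ∈ π
  · refine Subgroup.le_normalizer ?_
    obtain ⟨T⟩ : Nonempty (Sylow s P) := inferInstance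
    obtain ⟨T', hT'⟩ := exists_sylow_of_relIndex hP.1 (hP.2.2 s hs hsπ) T
    obtain ⟨i, -, hi⟩ := (Nat.dvd_prime_pow hs).mp (orderOf_dvd_of_pow_eq_one hk)
    obtain ⟨T'', hT''⟩ := (IsPGroup.of_card (p := s) (n := i)
      (show Nat.card (zpowers (⟨y, hyD⟩ : D)) = s ^ i by
        rw [Nat.card_zpowers, Subgroup.orderOf_mk, hi])).exists_le_sylow
    haveI := hD
    haveI : (T' : Subgroup D).Normal :=
      T'.normal_of_normalizerCondition Group.normalizerCondition_of_isNilpotent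
    obtain ⟨g, hg⟩ := MulAction.exists_smul_eq D T' T''
    rw [← hg, Sylow.smul_eq_of_normal] at hT''
    have h1 : y ∈ (T : Subgroup P).map P.subtype := by
      rw [← hT']
      exact ⟨⟨y, hyD⟩, hT'' (mem_zpowers _), rfl⟩
    exact map_subtype_le _ h1
  · refine centralizer_le_normalizer _ (mem_centralizer_iff.mpr fun z hz =>
      (commute_of_mem hD (hP.1 hz) hyD ?_).eq)
    refine Nat.coprime_of_dvd fun l hl h1 h2 => hsπ ?_
    have h3 : l = s := (Nat.prime_dvd_prime_iff_eq hl hs).mp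
      (hl.dvd_of_dvd_pow (h2.trans (orderOf_dvd_of_pow_eq_one hk)))
    exact h3 ▸ hP.2.1 l hl (h1.trans (Subgroup.orderOf_dvd_natCard _ hz))

/-- A Hall subgroup `H` of `Q ⋊ D` with `D` nilpotent is either normal or has a normal
complement. -/
theorem hall_normal_or_normal_compl {π : Set ℕ} {S Q D : Subgroup G} (hS : Group.IsSolvable S)
    (hc : IsComplIn Q D S) (hQn : S ≤ normalizer (Q : Set G)) (hD : Group.IsNilpotent D)
    (hQπ : (∀ r : ℕ, r.Prime → r ∣ Nat.card Q → r ∈ π) ∨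
      ∀ r : ℕ, r.Prime → r ∣ Nat.card Q → r ∉ π)
    (hH : IsPiHallOf π H S) :
    S ≤ normalizer (H : Set G) ∨
      ∃ W : Subgroup G, W ≤ S ∧ S ≤ normalizer (W : Set G) ∧ W ⊓ H = ⊥ ∧ S ≤ W ⊔ H := by
  have hDn : D ≤ normalizer (Q : Set G) := hc.2.1.trans hQn
  have hDs : Group.IsSolvable D := Coprime.isSolvable_of_le hc.2.1 hS
  have hSeq : S ≤ Q ⊔ D := fun m hm => by
    obtain ⟨a, ha, b, hb, rfl⟩ := hc.2.2.2 m hm
    exact mul_mem_sup ha hb
  have hcard : Nat.card Q * Nat.card D = Nat.card S := IsComplIn.card_mul hc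
  -- `Q D_ρ` is normal and of index dividing that of `D_ρ` in `D`
  have key : ∀ ρ : Set ℕ, (∀ r : ℕ, r.Prime → r ∣ Nat.card Q → r ∈ ρ) →
      ∃ W : Subgroup G, W ≤ S ∧ S ≤ normalizer (W : Set G) ∧ IsPiHallOf ρ W S := by
    intro ρ hρ
    obtain ⟨P, hP⟩ := Coprime.exists_isPiHallOf hDs ρ
    have hPn := hall_normal_of_nilpotent hD hP
    have hPQ : P ≤ normalizer (Q : Set G) := hP.1.trans hDn
    refine ⟨Q ⊔ P, sup_le hc.1 (hP.1.trans hc.2.1), hSeq.trans (sup_le ?_ ?_),
      sup_le hc.1 (hP.1.trans hc.2.1), fun r hr hd => ?_, fun r hr hrρ hd => hP.2.2 r hr hrρ ?_⟩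
    · exact le_sup_left.trans Subgroup.le_normalizer
    · intro d hd
      refine mem_normalizer_of_map_conj ?_
      rw [Subgroup.map_sup, map_conj_eq_self_of_mem (hDn hd), map_conj_eq_self_of_mem (hPn hd)]
    · rcases hr.dvd_mul.mp (hd.trans (card_sup_dvd_mul hPQ)) with h1 | h1
      exacts [hρ r hr h1, hP.2.1 r hr h1]
    · have hinf : Q ⊓ P = ⊥ := le_bot_iff.mp ((inf_le_inf_left _ hP.1).trans hc.2.2.1.le)
      have h1 := Coprime.card_mul_relIndex_of_le
        (sup_le hc.1 (hP.1.trans hc.2.1) : Q ⊔ P ≤ S)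
      rw [Coprime.card_sup_eq_mul hPQ hinf, ← hcard, ← Coprime.card_mul_relIndex_of_le hP.1,
        ← mul_assoc] at h1
      rwa [← Nat.eq_of_mul_eq_mul_left (Nat.mul_pos Nat.card_pos Nat.card_pos) h1]
  rcases hQπ with hQ | hQ
  · obtain ⟨W, hWS, hWn, hW⟩ := key π hQ
    left
    have hHW : H ≤ W := mem_of_isPiHallOf_normal hW hWn hH.1 hH.2.1
    have heq : H = W := by
      refine eq_of_le_of_card_ge hHW (Nat.le_of_dvd Nat.card_pos ?_)
      refine Nat.Coprime.dvd_of_dvd_mul_right (n := H.relIndex S) ?_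
        (Coprime.card_mul_relIndex_of_le hH.1 ▸ card_dvd_of_le hWS)
      exact Nat.coprime_of_dvd fun l hl h1 h2 => hH.2.2 l hl (hW.2.1 l hl h1) h2
    rwa [heq]
  · obtain ⟨W, hWS, hWn, hW⟩ := key {r | r ∉ π} hQ
    right
    refine ⟨W, hWS, hWn, Coprime.inf_eq_bot_of_coprime
      (Nat.coprime_of_dvd fun l hl h1 h2 => hW.2.1 l hl h1 (hH.2.1 l hl h2)), ?_⟩
    refine (eq_of_le_of_card_ge (sup_le hWS hH.1) (Nat.le_of_dvd Nat.card_pos ?_)).ge
    have h1 := Coprime.card_mul_relIndex_of_le (sup_le hWS hH.1 : W ⊔ H ≤ S)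
    suffices h2 : (W ⊔ H).relIndex S = 1 by
      rw [h2, mul_one] at h1
      rw [h1]
    by_contra hne
    obtain ⟨l, hl, hld⟩ := Nat.exists_prime_and_dvd hne
    by_cases hlπ : l ∈ π
    · exact hH.2.2 l hl hlπ (hld.trans (relIndex_dvd_of_le_left _ le_sup_right))
    · exact hW.2.2 l hl hlπ (hld.trans (relIndex_dvd_of_le_left _ le_sup_left))

variable (hG : IsMinSimpleOddOrder G) (hM : IsCoatom M)
include hG hM

/-- BG 15.4: fusion in a Hall subgroup of `M_σ`. -/
theorem hall_fusion {π : Set ℕ} (hH : IsPiHallOf π H (sigmaCore M)) {x g : G} (hx : x ∈ H)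
    (hgx : g * x * g⁻¹ ∈ H) :
    ∃ n ∈ M ⊓ normalizer (H : Set G), n * x * n⁻¹ = g * x * g⁻¹ := by
  by_cases hx1 : x = 1
  · exact ⟨1, one_mem _, by simp [hx1]⟩
  have hxσ : x ∈ sigmaCore M := hH.1 hx
  obtain ⟨-, R, -, hR, hex⟩ := Cfsg.Agent.S1374.result hG M hM x hxσ hx1
  obtain ⟨r, ⟨hrR, hr⟩, -⟩ := hex g⁻¹ (by
    rw [mem_map_conj_iff, inv_inv]; exact sigmaCore_le M (hH.1 hgx))
  have hrx : Commute r x := mem_centralizer_singleton_iff.mp (hR.2.1 hrR)
  set m := g * r with hm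
  have hmM : m ∈ M := mem_of_map_conj_eq hG hM (by
    rw [hm, ← map_conj_map_conj, hr, map_conj_map_conj, mul_inv_cancel,
      map_conj_eq_self_of_mem (one_mem _)])
  have hmx : m * x * m⁻¹ = g * x * g⁻¹ := by
    rw [hm]
    calc g * r * x * (g * r)⁻¹ = g * (r * x) * r⁻¹ * g⁻¹ := by group
      _ = g * (x * r) * r⁻¹ * g⁻¹ := by rw [hrx.eq]
      _ = g * x * g⁻¹ := by group
  have hσs : Group.IsSolvable (sigmaCore M) :=
    Coprime.isSolvable_of_le (sigmaCore_le M) (isSolvable_coatom hG hM)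
  -- move `m` into `N(H)` modulo `M_σ`
  have hHm : IsPiHallOf π (H.map (MulAut.conj m).toMonoidHom) (sigmaCore M) := by
    have hmap := map_conj_eq_self_of_mem (le_normalizer_sigmaCore M hmM)
    refine ⟨hmap ▸ map_mono hH.1, fun l hl hd => hH.2.1 l hl (by rwa [card_map_conj] at hd),
      fun l hl hlπ => ?_⟩
    conv in sigmaCore M => rw [← hmap]
    rw [relIndex_map_map_of_injective _ _ (MulAut.conj m).injective]
    exact hH.2.2 l hl hlπ
  obtain ⟨s, hs, hsH⟩ := Coprime.exists_conj_isPiHallOf hσs hHm hH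
  have hsH' : H.map (MulAut.conj (s * m)).toMonoidHom = H := by
    rw [← map_conj_map_conj]; exact hsH
  set n₀ := s * m with hn₀
  have hn₀M : n₀ ∈ M := M.mul_mem (sigmaCore_le M hs) hmM
  have hn₀N : n₀ ∈ normalizer (H : Set G) := mem_normalizer_of_map_conj hsH'
  -- the shape of `M_σ`
  have hshape : sigmaCore M ≤ normalizer (H : Set G) ∨ ∃ W : Subgroup G, W ≤ sigmaCore M ∧
      sigmaCore M ≤ normalizer (W : Set G) ∧ W ⊓ H = ⊥ ∧ sigmaCore M ≤ W ⊔ H := by
    by_cases hnil : Group.IsNilpotent (sigmaCore M)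
    · exact Or.inl (hall_normal_of_nilpotent hnil hH)
    obtain ⟨E, hE, -⟩ := exists_compl_ge_of_not_sigma hG hM (bot_le : (⊥ : Subgroup G) ≤ M)
      (fun l hl hd => absurd (card_bot (G := G) ▸ hd) hl.not_dvd_one)
    obtain ⟨K, hK, -, -⟩ := exists_kappa_hall hG hM hE (bot_le : (⊥ : Subgroup G) ≤ E)
      (fun l hl hd => absurd (card_bot (G := G) ▸ hd) hl.not_dvd_one)
    have hKc : IsCyclic K := by
      by_cases hK1 : K = ⊥
      · subst hK1; infer_instance
      · exact (kappa_pair hG hM hK hK1).1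
    obtain ⟨U, hU⟩ := (Cfsg.Agent.S1352.result hG M hM K hKc hK).1
    have hcd := (coreData_of_not_nilpotent hG hM hU hnil).2
    obtain ⟨D, hD, -⟩ := hcd.exists_compl
    haveI := Fact.mk hcd.prime
    refine hall_normal_or_normal_compl hσs hD
      ((sigmaCore_le M).trans (le_normalizer_coreSylow M K)) (hcd.compl_facts hD).1 ?_ hH
    by_cases hq : Nat.card (kStar M K) ∈ π
    · exact Or.inl fun l hl hd => by
        rwa [mem_singleton_of_isPGroup (coreSylow_isPGroup hcd) l hl hd]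
    · exact Or.inr fun l hl hd => by
        rwa [mem_singleton_of_isPGroup (coreSylow_isPGroup hcd) l hl hd]
  rcases hshape with hn | ⟨W, hWS, hWn, hWH, hsup⟩
  · refine ⟨m, ⟨hmM, ?_⟩, hmx⟩
    have : m = s⁻¹ * n₀ := by rw [hn₀]; group
    rw [this]
    exact (normalizer (H : Set G)).mul_mem ((normalizer (H : Set G)).inv_mem (hn hs)) hn₀N
  · obtain ⟨w, hw, h, hh, hwh⟩ := (Coprime.mem_sup_of_le_normalizer (hH.1.trans hWn)).mp
      (hsup ((sigmaCore M).inv_mem hs))
    refine ⟨h * n₀, ⟨M.mul_mem (sigmaCore_le M (hH.1 hh)) hn₀M,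
      mul_mem (Subgroup.le_normalizer hh) hn₀N⟩, ?_⟩
    rw [← hmx]
    set y := h * n₀ * x * (h * n₀)⁻¹ with hy
    have hyH : y ∈ H := by
      have := (mem_normalizer_iff.mp (mul_mem (Subgroup.le_normalizer hh) hn₀N) x).mp hx
      exact this
    have hwy : w * y * w⁻¹ = m * x * m⁻¹ := by
      have : m = s⁻¹ * n₀ := by rw [hn₀]; group
      rw [this, ← hwh, hy]; group
    have hin : m * x * m⁻¹ * y⁻¹ ∈ W ⊓ H := by
      refine ⟨?_, H.mul_mem (hmx ▸ hgx) (H.inv_mem hyH)⟩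
      rw [← hwy]
      have h2 := (mem_normalizer_iff.mp (hWn (hH.1 hyH)) w⁻¹).mp (W.inv_mem hw)
      simpa [mul_assoc] using W.mul_mem hw h2
    rw [hWH, mem_bot, mul_inv_eq_one] at hin
    exact hin.symm

/-- BG 15.4: the centraliser in `M` of a Hall subgroup of `M_σ`. -/
theorem hall_centralizer {π : Set ℕ} (hH : IsPiHallOf π H (sigmaCore M)) (hH1 : H ≠ ⊥) :
    ∃ X : Subgroup G, IsCyclic X ∧ (∀ p : ℕ, p.Prime → p ∣ Nat.card X → p ∈ tau2 M) ∧
      M ⊓ centralizer (H : Set G) = (sigmaCore M ⊓ centralizer (H : Set G)) ⊔ X := by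
  set C := M ⊓ centralizer (H : Set G) with hC
  have hMs := isSolvable_coatom hG hM
  obtain ⟨X, hX⟩ := Coprime.exists_isPiHallOf (Coprime.isSolvable_of_le (inf_le_left : C ≤ M) hMs)
    {r | r ∉ sigma M}
  have hXM : X ≤ M := hX.1.trans inf_le_left
  have hXH : X ≤ centralizer (H : Set G) := hX.1.trans inf_le_right
  have hXσ : ∀ r : ℕ, r.Prime → r ∣ Nat.card X → r ∉ sigma M := hX.2.1
  obtain ⟨E, hE, -⟩ := exists_compl_ge_of_not_sigma hG hM (bot_le : (⊥ : Subgroup G) ≤ M)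
    (fun l hl hd => absurd (card_bot (G := G) ▸ hd) hl.not_dvd_one)
  obtain ⟨K, hK, -, -⟩ := exists_kappa_hall hG hM hE (bot_le : (⊥ : Subgroup G) ≤ E)
    (fun l hl hd => absurd (card_bot (G := G) ▸ hd) hl.not_dvd_one)
  have hKc : IsCyclic K := by
    by_cases hK1 : K = ⊥
    · subst hK1; infer_instance
    · exact (kappa_pair hG hM hK hK1).1
  obtain ⟨U, hU⟩ := (Cfsg.Agent.S1352.result hG M hM K hKc hK).1
  -- conjugates of `H` are Hall subgroups of `M_σ` inside it
  have hmove : ∀ m ∈ M, H.map (MulAut.conj m).toMonoidHom ≤ sigmaCore M := fun m hm =>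
    (map_mono hH.1).trans (map_conj_eq_self_of_mem (le_normalizer_sigmaCore M hm)).le
  -- no prime of `κ(M)`
  have hκ : ∀ r : ℕ, r.Prime → r ∣ Nat.card X → r ∉ kappa M := by
    intro r hr hd hrκ
    haveI := Fact.mk hr
    have hK1 : K ≠ ⊥ := fun e => hK.2.2 r hr hrκ (by rw [e, relIndex_bot_left]; exact hrκ.2.1)
    obtain ⟨⟨z, hz⟩, hzo⟩ := exists_prime_orderOf_dvd_card' r hd
    rw [← orderOf_coe] at hzo
    change orderOf z = r at hzo
    obtain ⟨m, hm, hle⟩ := exists_conj_le_of_relIndex (π := kappa M) hMs hK.1 hK.2.2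
      (zpowers_le.mpr (hXM hz)) (fun l hl hl' => by
        rw [Nat.card_zpowers, hzo] at hl'
        rwa [(Nat.prime_dvd_prime_iff_eq hl hr).mp hl'])
    set k := MulAut.conj m z with hk
    have hkK : k ∈ K := hle (mem_map_of_mem (MulAut.conj m).toMonoidHom (mem_zpowers z))
    have hk1 : k ≠ 1 := fun e => hr.ne_one (by rw [← hzo, ← (MulAut.conj m).orderOf_eq, ← hk, e, orderOf_one])
    have hHK : H.map (MulAut.conj m).toMonoidHom ≤ kStar M K := by
      rw [kStar, ← (Cfsg.Agent.S1430.result hG M hM K hK hK1).1 k hkK hk1]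
      refine le_inf (hmove m hm) ?_
      rintro _ ⟨h, hh, rfl⟩
      refine mem_centralizer_of_commute ?_
      exact (show Commute h z from mem_centralizer_iff.mp (hXH hz) h hh).map
        (MulAut.conj m).toMonoidHom
    obtain ⟨p, hp, hpd⟩ := exists_prime_dvd_of_ne_bot hH1
    haveI := Fact.mk hp
    set H' := H.map (MulAut.conj m).toMonoidHom with hH'
    have hpH' : p ∣ Nat.card H' := by rwa [hH', card_map_conj]
    obtain ⟨T⟩ : Nonempty (Sylow p H') := inferInstance
    obtain ⟨S, hS⟩ := exists_sylow_of_relIndex (hmove m hm) (fun hd' => by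
      conv at hd' in sigmaCore M => rw [← map_conj_eq_self_of_mem (le_normalizer_sigmaCore M hm)]
      rw [relIndex_map_map_of_injective _ _ (MulAut.conj m).injective] at hd'
      exact hH.2.2 p hp (hH.2.1 p hp hpd) hd') T
    exact ((Cfsg.Agent.S1431.result hG M hM K hK hK1).2.2.1 p hp
      (hpH'.trans (card_dvd_of_le hHK)) S).2.2 (hS.le.trans ((map_subtype_le _).trans hHK))
  -- conjugate `X` into `U`
  obtain ⟨hUE, hUp⟩ := sigmaDecomposition_compl hG hM hU
  have hUidx : ∀ r : ℕ, r.Prime → r ∈ {r | r ∉ kappa M ∧ r ∉ sigma M} → ¬ r ∣ U.relIndex M := by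
    intro r hr hrπ hd
    rw [← relIndex_mul_relIndex U (U ⊔ K) M le_sup_left hUE.1] at hd
    rcases hr.dvd_mul.mp hd with h1 | h1
    · exact hrπ.1 (hU.hall.2.1 r hr (h1.trans (Nat.dvd_of_mul_dvd_mul_left Nat.card_pos
        (Coprime.card_mul_relIndex_of_le (le_sup_left : U ≤ U ⊔ K) ▸ card_sup_dvd_mul hU.normal))))
    · exact (compl_isPiHallOf hG hM hUE).2.2 r hr hrπ.2 h1
  obtain ⟨m, hm, hle⟩ := exists_conj_le_of_relIndex (π := {r | r ∉ kappa M ∧ r ∉ sigma M}) hMs
    hU.compl.1 hUidx hXM (fun r hr hd => ⟨hκ r hr hd, hXσ r hr hd⟩)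
  obtain ⟨h, hh, hh1⟩ := exists_mem_ne_one _ hH1
  set y := MulAut.conj m h with hy
  have hyσ : y ∈ sigmaCore M := hmove m hm (mem_map_of_mem _ hh)
  have hy1 : y ≠ 1 := fun e => hh1 ((MulAut.conj m).injective (e.trans (map_one _).symm))
  have hXy : X.map (MulAut.conj m).toMonoidHom ≤ U ⊓ centralizer ({y} : Set G) := by
    refine le_inf hle ?_
    rintro _ ⟨z, hz, rfl⟩
    exact mem_centralizer_of_commute
      ((show Commute z h from (mem_centralizer_iff.mp (hXH hz) h hh).symm).map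
        (MulAut.conj m).toMonoidHom)
  haveI := isCyclic_inf_centralizer_U hG hM hU hyσ hy1
  have hXc : IsCyclic ↥(X.map (MulAut.conj m).toMonoidHom) := isCyclic_of_le inferInstance hXy
  refine ⟨X, (equivMapOfInjective X _ (MulAut.conj m).injective).isCyclic.mpr hXc,
    fun p hp hd => ?_, ?_⟩
  · haveI := Fact.mk hp
    obtain ⟨⟨z, hz⟩, hzo⟩ := exists_prime_orderOf_dvd_card' p hd
    rw [← orderOf_coe] at hzo
    change orderOf z = p at hzo
    have hzy := hXy (mem_map_of_mem (MulAut.conj m).toMonoidHom hz)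
    exact tau2_of_fixed_U hG hM hU hzy.1 hyσ hy1 (mem_centralizer_singleton_iff.mp hzy.2) hp
      (by
        change p ∣ orderOf (MulAut.conj m z)
        rw [MulEquiv.orderOf_eq, hzo])
  · refine (eq_of_le_of_card_ge (sup_le (inf_le_inf_right _ (sigmaCore_le M)) hX.1)
      (Nat.le_of_dvd Nat.card_pos ?_)).symm
    set D := sigmaCore M ⊓ centralizer (H : Set G) with hD
    have hDC : D ≤ C := inf_le_inf_right _ (sigmaCore_le M)
    have h1 := Coprime.card_mul_relIndex_of_le (sup_le hDC hX.1 : D ⊔ X ≤ C)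
    suffices h2 : (D ⊔ X).relIndex C = 1 by
      rw [h2, mul_one] at h1
      rw [h1]
    by_contra hne
    obtain ⟨l, hl, hld⟩ := Nat.exists_prime_and_dvd hne
    by_cases hlσ : l ∈ sigma M
    · have h3 : D.relIndex C ∣ (sigmaCore M).relIndex M := by
        have hDe : D = sigmaCore M ⊓ C := by
          rw [hD, hC, ← inf_assoc, inf_eq_left.mpr (sigmaCore_le M)]
        rw [hDe, inf_relIndex_right]
        haveI : ((sigmaCore M).subgroupOf M).Normal :=
          normal_subgroupOf_of_le_normalizer (le_normalizer_sigmaCore M)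
        have := Subgroup.relIndex_dvd_index_of_normal ((sigmaCore M).subgroupOf M) (C.subgroupOf M)
        rwa [relIndex_subgroupOf (inf_le_left : C ≤ M)] at this
      exact (isPiHallOf_sigmaCore hG hM).2.2 l hl hlσ
        ((hld.trans (relIndex_dvd_of_le_left _ le_sup_left)).trans h3)
    · exact hX.2.2 l hl hlσ (hld.trans (relIndex_dvd_of_le_left _ le_sup_right))

end Cfsg.Agent.OddLocal
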