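import Cfsg.Agent.OddLocal.TypeSupportSet
import Cfsg.Agent.OddLocal.HallFusion
import Cfsg.Agent.OddLocal.SupportPrimes
import Cfsg.Agent.OddLocal.SupportCoset
import Cfsg.Agent.S1371
import Cfsg.Prelude.Def_OddOrderChar

/-!
# The sets `A₁(M)`, `A(M)`, `A₀(M)`: fusion and the Dade hypothesis (BG §16, Theorem II, local part)
-/

namespace Cfsg.Agent.OddLocal

open Subgroup Cfsg
open scoped commutatorElement

universe u

variable {G : Type u} [Group G] [Finite G] {M K U : Subgroup G}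

/-- The set of `M`-conjugates of the elements of `K K^*` outside `K ∪ K^*`. -/
def conjRest (M K : Subgroup G) : Set G :=
  {a : G | ∃ m ∈ M, ∃ z ∈ ((↑(K ⊔ (sigmaCore M ⊓ centralizer (K : Set G))) : Set G) \
    ((K : Set G) ∪ ↑(sigmaCore M ⊓ centralizer (K : Set G)))), a = m * z * m⁻¹}

omit [Finite G] in
theorem le_normalizer_set {T : Set G} (h : ∀ m ∈ M, ∀ a ∈ T, m * a * m⁻¹ ∈ T) :
    M ≤ normalizer T := fun m hm a =>
  ⟨h m hm a, fun ha => by simpa [mul_assoc] using h m⁻¹ (inv_mem hm) _ ha⟩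

theorem conjRest_invariant {m a : G} (hm : m ∈ M) (ha : a ∈ conjRest M K) :
    m * a * m⁻¹ ∈ conjRest M K := by
  obtain ⟨n, hn, z, hz, rfl⟩ := ha
  exact ⟨m * n, mul_mem hm hn, z, hz, by group⟩

variable (hG : IsMinSimpleOddOrder G) (hM : IsCoatom M)
include hG hM

/-- The set normaliser of an `M`-invariant set of nonidentity elements of `M` is `M`. -/
theorem normalizer_set_eq {T : Set G} (hT : T ⊆ M) (h1 : (1 : G) ∉ T) (hne : T.Nonempty)
    (hinv : ∀ m ∈ M, ∀ a ∈ T, m * a * m⁻¹ ∈ T) : normalizer T = M := by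
  refine (hM.le_iff.1 (le_normalizer_set hinv)).resolve_left fun htop => ?_
  haveI := hG.2.1
  haveI : (closure T).Normal := ⟨fun x hx g => by
    have hg : g ∈ normalizer T := htop ▸ mem_top g
    induction hx using closure_induction with
    | mem y hy => exact subset_closure ((hg y).1 hy)
    | one => simp
    | mul y z _ _ hy hz => simpa [mul_assoc] using mul_mem hy hz
    | inv y _ hy => simpa [mul_assoc] using inv_mem hy⟩
  have hle : closure T ≤ M := (closure_le _).2 hT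
  rcases (inferInstance : (closure T).Normal).eq_bot_or_eq_top with h | h
  · obtain ⟨a, ha⟩ := hne
    exact h1 (mem_bot.1 (h ▸ subset_closure ha) ▸ ha)
  · exact hM.1 (top_le_iff.1 (h ▸ hle))

theorem sigma_elt_mem {a : G} (ha : a ∈ M)
    (h : ∀ q : ℕ, q.Prime → q ∣ orderOf a → q ∈ sigma M) : a ∈ sigmaCore M :=
  le_sigmaCore hG hM (zpowers_le.2 ha) (fun q hq hd => h q hq (Nat.card_zpowers a ▸ hd))
    (mem_zpowers a)

omit hG hM in
theorem orderOf_conj (g a : G) : orderOf (g * a * g⁻¹) = orderOf a := by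
  rw [← MulAut.conj_apply, MulEquiv.orderOf_eq]

theorem typeA_mem {h : IsSigmaDecomposition M K U} {a : G} (ha : a ∈ typeA M) :
    a ∈ sigmaA M U ∧ a ≠ 1 := by
  by_cases hI : IsOfTypeI M
  · have hK := eq_bot_of_typeI hG hM h hI
    have he : fittingHallOf M = sigmaCore M := by_contra fun hne =>
      (coreData_of_ne hG hM h hne).2.ne_bot hK
    rw [typeA, if_pos hI, he] at ha
    obtain ⟨haM, ha1, hx⟩ := ha
    refine ⟨⟨⟨haM, hx⟩, ?_⟩, ha1⟩
    have := kappa_decomp_sup hG hM h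
    rw [hK, sup_bot_eq] at this
    exact this.ge haM
  · rw [typeA, if_neg hI, typeCore_eq hG hM] at ha
    obtain ⟨haD, ha1, hx⟩ := ha
    refine ⟨⟨⟨commutator_le_self M haD, hx⟩, ?_⟩, ha1⟩
    by_cases hK : K = ⊥
    · have := kappa_decomp_sup hG hM h
      rw [hK, sup_bot_eq] at this
      exact this.ge (commutator_le_self M haD)
    · exact (derived_eq hG hM h hK).le haD

theorem sigmaCore_diff_subset_typeA : (sigmaCore M : Set G) \ {1} ⊆ typeA M := by
  rintro a ⟨ha, ha1⟩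
  have ha1' : a ≠ 1 := ha1
  by_cases hI : IsOfTypeI M
  · rw [typeA, if_pos hI]
    obtain ⟨K, U, h⟩ := exists_decomposition hG hM
    have he : fittingHallOf M = sigmaCore M := by_contra fun hne =>
      (coreData_of_ne hG hM h hne).2.ne_bot (eq_bot_of_typeI hG hM h hI)
    exact ⟨sigmaCore_le M ha, ha1', a, he.ge ha, ha1', rfl⟩
  · rw [typeA, if_neg hI, typeCore_eq hG hM]
    exact ⟨sigmaCore_le_derived hG hM ha, ha1', a, ha, ha1', rfl⟩

theorem typeA_invariant {m a : G} (hm : m ∈ M) (ha : a ∈ typeA M) : m * a * m⁻¹ ∈ typeA M := by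
  have hne : ∀ {x : G}, x ≠ 1 → m * x * m⁻¹ ≠ 1 := fun hx e => hx (conj_eq_one_iff.1 e)
  have hcomm : ∀ {b x : G}, b * x = x * b →
      m * b * m⁻¹ * (m * x * m⁻¹) = m * x * m⁻¹ * (m * b * m⁻¹) := fun {b x} e =>
    (show m * b * m⁻¹ * (m * x * m⁻¹) = m * (b * x) * m⁻¹ by group).trans
      ((congrArg (fun t => m * t * m⁻¹) e).trans (by group))
  by_cases hI : IsOfTypeI M
  · rw [typeA, if_pos hI] at ha ⊢
    obtain ⟨haM, ha1, x, hx, hx1, e⟩ := ha
    exact ⟨mul_mem (mul_mem hm haM) (inv_mem hm), hne ha1, m * x * m⁻¹,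
      (mem_normalizer_iff.1 (le_normalizer_fittingHallOf M hm) x).1 hx, hne hx1, hcomm e⟩
  · rw [typeA, if_neg hI, typeCore_eq hG hM] at ha ⊢
    obtain ⟨haD, ha1, x, hx, hx1, e⟩ := ha
    refine ⟨(mem_normalizer_iff.1 (le_normalizer_commutator_of Subgroup.le_normalizer
        Subgroup.le_normalizer hm) a).1 haD, hne ha1, m * x * m⁻¹,
      (mem_normalizer_iff.1 (le_normalizer_sigmaCore M hm) x).1 hx, hne hx1, hcomm e⟩

theorem conjRest_map_conj (hK : IsPiHallOf (kappa M) K M) {c : G} (hc : c ∈ M) :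
    conjRest M (K.map (MulAut.conj c).toMonoidHom) = conjRest M K := by
  have hst : sigmaCore M ⊓ centralizer ((K.map (MulAut.conj c).toMonoidHom : Subgroup G) : Set G) =
      (sigmaCore M ⊓ centralizer (K : Set G)).map (MulAut.conj c).toMonoidHom := by
    rw [inf_centralizer_map_conj, map_conj_eq_self_of_mem (le_normalizer_sigmaCore M hc)]
  ext a
  simp only [conjRest, hst, ← Subgroup.map_sup, Set.mem_setOf_eq, Set.mem_sdiff, Set.mem_union,
    SetLike.mem_coe, not_or, mem_map_conj_iff]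
  constructor
  · rintro ⟨m, hm, z, hz, rfl⟩
    exact ⟨m * c, mul_mem hm hc, c⁻¹ * z * c, hz, by group⟩
  · rintro ⟨m, hm, z, hz, rfl⟩
    refine ⟨m * c⁻¹, mul_mem hm (inv_mem hc), c * z * c⁻¹, ?_, by group⟩
    simpa [mul_assoc] using hz

omit hG hM in
theorem typeA0_subset_union :
    typeA0 M ⊆ typeA M ∪ {v | ¬ IsOfTypeI M ∧ ∃ W₁ U W₂ : Subgroup G, IsTypePWith M W₁ U W₂ ∧
      ∃ m ∈ M, ∃ w ∈ W₁ ⊔ W₂, w ∉ W₁ ∧ w ∉ W₂ ∧ v = m * w * m⁻¹} :=
  fun _ h => h

theorem typeA0_eq_of_ne (h : IsSigmaDecomposition M K U) (hK1 : K ≠ ⊥) :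
    typeA0 M = typeA M ∪ conjRest M K := by
  have hD := commutator_le_self M
  ext v
  simp only [typeA0, Set.mem_union, Set.mem_setOf_eq]
  refine or_congr_right ⟨?_, fun hv => ?_⟩
  · rintro ⟨-, W₁, V, W₂, hP, m, hm, w, hw, hw1, hw2, rfl⟩
    obtain ⟨-, hcard, -⟩ := typeP_invariants hG hM h hP
    have hW : IsPiHallOf (kappa M) W₁ M := by
      refine ⟨hP.W₁_compl.2.1, fun r hr hd => h.hall.2.1 r hr (hcard ▸ hd), fun r hr hrκ hd => ?_⟩
      have h1 := Coprime.card_mul_relIndex_of_le hP.W₁_compl.2.1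
      rw [← Coprime.card_mul_relIndex_of_le h.hall.1, hcard] at h1
      exact h.hall.2.2 r hr hrκ (Nat.eq_of_mul_eq_mul_left Nat.card_pos h1 ▸ hd)
    obtain ⟨c, hc, hcK⟩ := Coprime.exists_conj_isPiHallOf (isSolvable_coatom hG hM) h.hall hW
    have hcK' : K.map (MulAut.conj c).toMonoidHom = W₁ := hcK
    have hd := isSigmaDecomposition_map_conj h hc
    rw [hcK'] at hd
    obtain ⟨x, hx, hx1⟩ := exists_mem_ne_one _ hP.W₁_ne
    have hW₂ : W₂ = sigmaCore M ⊓ centralizer (W₁ : Set G) :=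
      (hP.W₂_centralizer x hx hx1).symm.trans
        (derived_inf_centralizer hG hM hd hP.W₁_ne hx hx1)
    rw [← conjRest_map_conj hG hM h.hall hc, hcK']
    exact ⟨m, hm, w, ⟨hW₂ ▸ hw, by
      rintro (h' | h')
      · exact hw1 h'
      · exact hw2 (hW₂ ▸ h')⟩, rfl⟩
  · obtain ⟨V, hVn, hKV, hV, -, -⟩ := exists_typeP_compl hG hM h hK1
    obtain ⟨m, hm, z, ⟨hz, hz'⟩, rfl⟩ := hv
    exact ⟨fun hI => hK1 (eq_bot_of_typeI hG hM h hI), K, V, _,
      isTypePWith_of_compl hG hM h hK1 hVn hKV hV, m, hm, z, hz, fun e => hz' (Or.inl e),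
      fun e => hz' (Or.inr e), rfl⟩

theorem typeA0_eq_of_bot (h : IsSigmaDecomposition M K U) (hK1 : K = ⊥) :
    typeA0 M = typeA M := by
  refine Set.union_eq_left.2 ?_
  rintro v ⟨-, W₁, V, W₂, hP, -⟩
  exact absurd hK1 (kappa_of_typeP hG hM h hP)

/-- The members of `A₀(M)`. -/
theorem typeA0_mem (h : IsSigmaDecomposition M K U) {a : G} (ha : a ∈ typeA0 M) :
    (a ∈ sigmaA M U ∧ a ≠ 1) ∨ (K ≠ ⊥ ∧ a ∈ sigmaA0 M K \ sigmaA M U) := by
  by_cases hK1 : K = ⊥
  · rw [typeA0_eq_of_bot hG hM h hK1] at ha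
    exact Or.inl (typeA_mem hG hM (h := h) ha)
  · rw [typeA0_eq_of_ne hG hM h hK1] at ha
    rcases ha with ha | ha
    · exact Or.inl (typeA_mem hG hM (h := h) ha)
    · exact Or.inr ⟨hK1, (S1371.result hG M hM K U h hK1).1 ▸ ha⟩

theorem typeA0_subset : typeA0 M ⊆ (M : Set G) := by
  intro a ha
  obtain ⟨K, U, h⟩ := exists_decomposition hG hM
  rcases typeA0_mem hG hM h ha with h1 | h1
  exacts [h1.1.1.1, h1.2.1.1.1]

theorem one_not_mem_typeA0 : (1 : G) ∉ typeA0 M := fun ha => by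
  obtain ⟨K, U, h⟩ := exists_decomposition hG hM
  rcases typeA0_mem hG hM h ha with h1 | h1
  · exact h1.2 rfl
  · obtain ⟨y, hy, hy1⟩ := exists_mem_ne_one _ (sigmaCore_ne_bot hG hM)
    exact h1.2.2 ⟨⟨one_mem _, y, hy, hy1, by rw [one_mul, mul_one]⟩, one_mem _⟩

theorem typeA0_invariant {m a : G} (hm : m ∈ M) (ha : a ∈ typeA0 M) :
    m * a * m⁻¹ ∈ typeA0 M := by
  obtain ⟨K, U, h⟩ := exists_decomposition hG hM
  by_cases hK1 : K = ⊥
  · rw [typeA0_eq_of_bot hG hM h hK1] at ha ⊢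
    exact typeA_invariant hG hM hm ha
  · rw [typeA0_eq_of_ne hG hM h hK1] at ha ⊢
    exact ha.imp (typeA_invariant hG hM hm) (conjRest_invariant hm)

theorem sigmaA_diff_invariant (h : IsSigmaDecomposition M K U) :
    ∀ m ∈ M, ∀ a ∈ sigmaA M U \ (sigmaCore M : Set G),
      m * a * m⁻¹ ∈ sigmaA M U \ (sigmaCore M : Set G) := by
  intro m hm a ha
  obtain ⟨⟨⟨haM, x, hx, hx1, e⟩, haD⟩, hns⟩ := ha
  refine ⟨⟨⟨mul_mem (mul_mem hm haM) (inv_mem hm), m * x * m⁻¹,
    (mem_normalizer_iff.1 (le_normalizer_sigmaCore M hm) x).1 hx,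
    fun e' => hx1 (conj_eq_one_iff.1 e'), ?_⟩,
    (mem_normalizer_iff.1 (kappa_decomp_normal hG hM h hm) a).1 haD⟩,
    fun hc => hns ((mem_normalizer_iff.1 (le_normalizer_sigmaCore M hm) a).2 hc)⟩
  exact (show m * a * m⁻¹ * (m * x * m⁻¹) = m * (a * x) * m⁻¹ by group).trans
    ((congrArg (fun t => m * t * m⁻¹) e).trans (by group))

/-- Two conjugate elements of `A₀(M)`: both in `M_σ`, or the conjugating element is in `M`. -/
theorem typeA0_conj_cases {a g : G} (ha : a ∈ typeA0 M) (hg : g * a * g⁻¹ ∈ typeA0 M) :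
    (a ∈ sigmaCore M ∧ g * a * g⁻¹ ∈ sigmaCore M) ∨ g ∈ M := by
  obtain ⟨K, U, h⟩ := exists_decomposition hG hM
  have hordV : ∀ {x : G}, x ∈ U ⊔ sigmaCore M → ∀ q : ℕ, q.Prime → q ∣ orderOf x → q ∉ kappa M :=
    fun hx q hq hd => (sigmaDecomposition_hall hG hM h).1.2.1 q hq
      (hd.trans (Subgroup.orderOf_dvd_natCard _ hx))
  have hordR : ∀ {x : G}, x ∈ sigmaA0 M K \ sigmaA M U →
      ¬ ∀ q : ℕ, q.Prime → q ∣ orderOf x → q ∉ kappa M := fun {x} hx hall => by
    refine hx.2 ⟨hx.1.1, ?_⟩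
    obtain ⟨hV, hVn⟩ := sigmaDecomposition_hall hG hM h
    exact mem_of_isPiHallOf_normal hV hVn (zpowers_le.2 hx.1.1.1)
      (fun q hq hd => hall q hq (Nat.card_zpowers x ▸ hd)) (mem_zpowers x)
  by_cases haσ : a ∈ sigmaCore M
  · refine Or.inl ⟨haσ, sigma_elt_mem hG hM (typeA0_subset hG hM hg) fun q hq hd => ?_⟩
    rw [orderOf_conj] at hd
    exact prime_mem_sigma_of_mem hG hM haσ hq hd
  right
  have hbσ : g * a * g⁻¹ ∉ sigmaCore M := fun hb =>
    haσ (sigma_elt_mem hG hM (typeA0_subset hG hM ha) fun q hq hd =>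
      prime_mem_sigma_of_mem hG hM hb hq ((orderOf_conj g a).symm ▸ hd))
  rcases typeA0_mem hG hM h ha with ha' | ⟨hK1, ha'⟩ <;>
    rcases typeA0_mem hG hM h hg with hg' | ⟨hK2, hg'⟩
  · have hT := S1362.result hG M hM K U h
    have hN : normalizer (sigmaA M U \ (sigmaCore M : Set G)) = M := normalizer_set_eq hG hM
      (fun x hx => hx.1.1.1) (fun hx => hx.2 (one_mem _)) ⟨a, ha'.1, haσ⟩
      (sigmaA_diff_invariant hG hM h)
    by_contra hgM
    exact ha'.2 (hT g (hN.symm ▸ hgM) a ⟨ha'.1, haσ⟩ ⟨hg'.1, hbσ⟩)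
  · exact absurd (fun q hq hd => hordV ha'.1.2 q hq (orderOf_conj g a ▸ hd)) (hordR hg')
  · exact absurd (fun q hq hd => hordV hg'.1.2 q hq ((orderOf_conj g a).symm ▸ hd)) (hordR ha')
  · obtain ⟨he, hTI⟩ := S1371.result hG M hM K U h hK1
    have hN : normalizer (sigmaA0 M K \ sigmaA M U) = M := by
      rw [← he]
      refine normalizer_set_eq hG hM ?_ ?_ ?_ (fun m hm x hx => conjRest_invariant hm hx)
      · intro x hx
        rw [he] at hx
        exact hx.1.1.1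
      · intro hx
        rw [he] at hx
        exact hordR hx fun q hq hd => absurd (orderOf_one (G := G) ▸ hd) hq.not_dvd_one
      · exact ⟨a, he ▸ ha'⟩
    by_contra hgM
    have := hTI g (hN.symm ▸ hgM) a ha' hg'
    exact haσ (this ▸ one_mem _)

/-- Fusion in `A₀(M)`. -/
theorem typeA0_fusion {a g : G} (ha : a ∈ typeA0 M) (hg : g * a * g⁻¹ ∈ typeA0 M) :
    ∃ m ∈ M, m * a * m⁻¹ = g * a * g⁻¹ := by
  rcases typeA0_conj_cases hG hM ha hg with ⟨h1, h2⟩ | h1
  · obtain ⟨n, hn, e⟩ := hall_fusion hG hM (π := sigma M) (H := sigmaCore M)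
      ⟨le_rfl, piNum_sigmaCore M, fun r hr _ hd => by rw [relIndex_self] at hd; exact hr.not_dvd_one hd⟩
      h1 h2
    exact ⟨n, hn.1, e⟩
  · exact ⟨g, h1, rfl⟩

/-- Centralisers of elements of `A₀(M) \ A₁(M)` lie in `M`. -/
theorem mem_sigmaCore_of_centralizer {a : G} (ha : a ∈ typeA0 M)
    (hC : ¬ centralizer ({a} : Set G) ≤ M) : a ∈ sigmaCore M := by
  obtain ⟨c, hc, hcM⟩ := SetLike.not_le_iff_exists.1 hC
  have e : c * a * c⁻¹ = a := by rw [mem_centralizer_singleton_iff.1 hc, mul_inv_cancel_right]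
  rcases typeA0_conj_cases hG hM ha (show c * a * c⁻¹ ∈ typeA0 M by rw [e]; exact ha) with h | h
  · exact h.1
  · exact absurd h hcM

omit hG hM in
theorem supportR_eq_bot {a : G} (h : centralizer ({a} : Set G) ≤ M) : supportR M a = ⊥ := by
  rw [supportR, dif_neg fun h' => h'.1 h]

/-- Once `κ(M)` and `τ₂(M)` are empty, `A₀(M) = A₁(M)`. -/
theorem mem_sigmaCore_of_tau_empty (hκ : kappa M = ∅) (hτ : tau2 M = ∅) {b : G}
    (hb : b ∈ typeA0 M) : b ∈ sigmaCore M := by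
  obtain ⟨K, U, h⟩ := exists_decomposition hG hM
  have hK1 : K = ⊥ := by
    by_contra hne
    obtain ⟨r, hr, hd⟩ := exists_prime_dvd_of_ne_bot hne
    have := h.hall.2.1 r hr hd
    rw [hκ] at this
    exact this
  rcases typeA0_mem hG hM h hb with ⟨⟨⟨hbM, y, hy, hy1, e⟩, -⟩, -⟩ | ⟨hne, -⟩
  swap; · exact absurd hK1 hne
  refine sigma_elt_mem hG hM hbM fun q hq hd => ?_
  by_contra hqσ
  haveI := Fact.mk hq
  set w := b ^ (orderOf b / q) with hw
  have hwo : orderOf w = q := orderOf_pow_orderOf_div (orderOf_pos b).ne' hd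
  have hwM : w ∈ M := pow_mem hbM _
  rcases tau_of_not_sigma hG hM hqσ (hwo ▸ Subgroup.orderOf_dvd_natCard M hwM) with h13 | h2
  · have := kappa_of_fixed hG hM h13 (P := zpowers w) (by rw [Nat.card_zpowers, hwo])
      (zpowers_le.2 hwM) fun hbot => hy1 (mem_bot.1 (hbot ▸ mem_inf.2 ⟨hy, by
        rw [centralizer_zpowers]
        exact mem_centralizer_singleton_iff.2 ((Commute.pow_left e _).symm).eq⟩))
    rw [hκ] at this
    exact this
  · rw [hτ] at h2
    exact h2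

/-- `|R(a)|` is prime to `|C_M(b)|` on `A₀(M)`. -/
theorem supportR_coprime {a b : G} (ha : a ∈ typeA0 M) (hb : b ∈ typeA0 M) :
    (Nat.card (supportR M a)).Coprime (Nat.card ↥(M ⊓ centralizer ({b} : Set G))) := by
  by_cases hC : centralizer ({a} : Set G) ≤ M
  · rw [supportR_eq_bot hC, card_bot]; exact Nat.coprime_one_left _
  have haσ := mem_sigmaCore_of_centralizer hG hM ha hC
  have ha1 : a ≠ 1 := fun e => one_not_mem_typeA0 hG hM (e ▸ ha)
  have hS := isSupport_supportR hG hM haσ ha1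
  refine Nat.coprime_of_dvd fun q hq h1 h2 => ?_
  haveI := Fact.mk hq
  obtain ⟨r, hr⟩ := exists_prime_orderOf_dvd_card' q h1
  have hqσ : q ∉ sigma M :=
    hS.prime_not_sigma hG hM haσ ha1 r.2 hq (by rw [orderOf_coe, hr])
  rcases hS with ⟨h3, -⟩ | ⟨-, N, hN, hCN, hR⟩
  · exact hC h3
  have hqN : q ∈ sigma N := piNum_sigmaCore N q hq (h1.trans (card_dvd_of_le (hR.le.trans inf_le_left)))
  obtain ⟨w, hw⟩ := exists_prime_orderOf_dvd_card' q h2
  have hqM : q ∣ Nat.card M := h2.trans (card_dvd_of_le inf_le_left)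
  obtain ⟨hκ, hτ⟩ := support_sigma_dvd hG hM haσ ha1 hC hN hCN hqN hqM
  have hbσ := mem_sigmaCore_of_tau_empty hG hM hκ hτ hb
  rcases tau_of_not_sigma hG hM hqσ hqM with h13 | h2'
  · have := kappa_of_fixed hG hM h13 (P := zpowers (w : G))
      (by rw [Nat.card_zpowers, orderOf_coe, hw]) (zpowers_le.2 w.2.1) fun hbot =>
        one_not_mem_typeA0 hG hM ((mem_bot.1 (hbot ▸ mem_inf.2 ⟨hbσ, by
          rw [centralizer_zpowers]
          exact mem_centralizer_singleton_iff.2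
            (mem_centralizer_singleton_iff.1 w.2.2).symm⟩)) ▸ hb)
    rw [hκ] at this
    exact this
  · rw [hτ] at h2'
    exact h2'

theorem dade_of_subset {A : Set G} (hA : A ⊆ typeA0 M) (hne : A.Nonempty)
    (hinv : ∀ m ∈ M, ∀ a ∈ A, m * a * m⁻¹ ∈ A) :
    normalizer A = M ∧ DadeHypothesis A M (supportR M) := by
  have h1 : (1 : G) ∉ A := fun h => one_not_mem_typeA0 hG hM (hA h)
  refine ⟨normalizer_set_eq hG hM (fun a ha => typeA0_subset hG hM (hA ha)) h1 hne hinv,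
    { one_not_mem := h1
      subset := fun a ha => typeA0_subset hG hM (hA ha)
      conj_mem := hinv
      fusion := fun a ha g hg => typeA0_fusion hG hM (hA ha) (hA hg)
      le_centralizer := ?_, conj_mem_H := ?_, inf_eq_bot := ?_, sup_eq := ?_
      coprime := fun a ha b hb => supportR_coprime hG hM (hA ha) (hA hb) }⟩
  all_goals intro a ha
  all_goals by_cases hC : centralizer ({a} : Set G) ≤ M
  all_goals first
    | have hS := isSupport_supportR hG hM (mem_sigmaCore_of_centralizer hG hM (hA ha) hC)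
        (fun e => h1 (e ▸ ha))
    | skip
  · rw [supportR_eq_bot hC]; exact bot_le
  · exact hS.le_centralizer
  · intro c _ u hu
    rw [supportR_eq_bot hC, mem_bot] at hu ⊢
    rw [hu]; group
  · intro c hc u hu
    exact (mem_normalizer_iff.1 ((hS.structure hG hM (mem_sigmaCore_of_centralizer hG hM (hA ha) hC)
      (fun e => h1 (e ▸ ha))).1 hc) u).1 hu
  · rw [supportR_eq_bot hC, bot_inf_eq]
  · rw [inf_comm]
    exact (hS.structure hG hM (mem_sigmaCore_of_centralizer hG hM (hA ha) hC)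
      (fun e => h1 (e ▸ ha))).2.1.2.2.1
  · rw [supportR_eq_bot hC, bot_sup_eq]
    exact inf_eq_right.2 hC
  · rw [sup_comm]
    exact (le_sup_of_isComplIn (hS.structure hG hM (mem_sigmaCore_of_centralizer hG hM (hA ha) hC)
      (fun e => h1 (e ▸ ha))).2.1).symm

theorem typeA1_eq : typeA1 M = (sigmaCore M : Set G) \ {1} := by rw [typeA1, typeCore_eq hG hM]

theorem typeA1_invariant {m a : G} (hm : m ∈ M) (ha : a ∈ typeA1 M) : m * a * m⁻¹ ∈ typeA1 M := by
  rw [typeA1_eq hG hM] at ha ⊢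
  exact ⟨(mem_normalizer_iff.1 (le_normalizer_sigmaCore M hm) a).1 ha.1,
    fun e => ha.2 (conj_eq_one_iff.1 e)⟩

theorem typeA_subset_typeA0 : typeA M ⊆ typeA0 M := fun _ h => Or.inl h

theorem typeA1_subset_typeA : typeA1 M ⊆ typeA M := by
  rw [typeA1_eq hG hM]; exact sigmaCore_diff_subset_typeA hG hM

theorem typeA1_nonempty : (typeA1 M).Nonempty := by
  obtain ⟨y, hy, hy1⟩ := exists_mem_ne_one _ (sigmaCore_ne_bot hG hM)
  exact ⟨y, by rw [typeA1_eq hG hM]; exact ⟨hy, hy1⟩⟩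

/-- The three sets attached to `M`. -/
theorem attached_cases {A : Set G} (hA : A = typeA1 M ∨ A = typeA M ∨ A = typeA0 M) :
    A ⊆ typeA0 M ∧ A.Nonempty ∧ ∀ m ∈ M, ∀ a ∈ A, m * a * m⁻¹ ∈ A := by
  obtain ⟨y, hy⟩ := typeA1_nonempty hG hM
  have hy' := typeA1_subset_typeA hG hM hy
  rcases hA with rfl | rfl | rfl
  · exact ⟨(typeA1_subset_typeA hG hM).trans (typeA_subset_typeA0 hG hM), ⟨y, hy⟩,
      fun m hm a ha => typeA1_invariant hG hM hm ha⟩
  · exact ⟨typeA_subset_typeA0 hG hM, ⟨y, hy'⟩, fun m hm a ha => typeA_invariant hG hM hm ha⟩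
  · exact ⟨subset_rfl, ⟨y, typeA_subset_typeA0 hG hM hy'⟩,
      fun m hm a ha => typeA0_invariant hG hM hm ha⟩

/-- For type II the three sets are TI. -/
theorem attached_TI_of_typeII (hII : IsOfTypeII M) {A : Set G}
    (hA : A = typeA1 M ∨ A = typeA M ∨ A = typeA0 M) : IsTISubset A ∧ normalizer A = M := by
  obtain ⟨hsub, hne, hinv⟩ := attached_cases hG hM hA
  obtain ⟨hN, -⟩ := dade_of_subset hG hM hsub hne hinv
  refine ⟨fun g hg a ha hga => ?_, hN⟩
  exfalso
  obtain ⟨K, U, h⟩ := exists_decomposition hG hM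
  obtain ⟨hK1, hU1⟩ := (typeII_iff hG hM h).1 hII
  rw [hN] at hg
  have hC : centralizer ({a} : Set G) ≤ M := by
    by_contra hC
    exact hC (centralizer_le_of_P2 hG hM h hK1 hU1 (mem_sigmaCore_of_centralizer hG hM (hsub ha) hC)
      fun e => one_not_mem_typeA0 hG hM (e ▸ hsub ha))
  obtain ⟨m, hm, e⟩ := typeA0_fusion hG hM (hsub ha) (hsub hga)
  have hc : m⁻¹ * g ∈ centralizer ({a} : Set G) := mem_centralizer_singleton_iff.2 (by
    have := congrArg (fun t => m⁻¹ * t * g) e.symm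
    simpa [mul_assoc] using this)
  exact hg (by simpa using mul_mem hm (hC hc))

end Cfsg.Agent.OddLocal
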