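import Cfsg.Agent.Layer.PConstraint
import Cfsg.Agent.Coprime.Generation
import Cfsg.Agent.LocalStructure.OmegaAction
import Cfsg.Agent.Fusion.Critical
import Cfsg.Agent.Fusion.PGroup

/-!
Invariant `p'`-subgroups in `p`-constrained groups: if `A` is an abelian `p`-subgroup containing the
elements of order `p` (for `p` odd) resp. all `p`-elements (Sylow `p` of class at most two) of its
centraliser, then every `A`-invariant `p'`-subgroup lies in `O_{p'}`.
-/

set_option autoImplicit false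
set_option linter.style.haveILetI false

namespace Cfsg.Agent.OddLocal

open Subgroup Cfsg
open scoped commutatorElement

universe u v

variable {G : Type u} [Group G] [Finite G] {p : ℕ} [hp : Fact p.Prime]

/-! ### Elementary lemmas -/

omit [Finite G] hp in
/-- Lifting an element with `y ^ p ^ k = 1` through a `p'`-kernel. -/
theorem exists_pow_prime_lift {H : Type v} [Group H] {f : G →* H}
    (hker : (Nat.card f.ker).Coprime p) {C : Subgroup G} {y : H} (hy : y ∈ C.map f) {k : ℕ}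
    (hyk : y ^ p ^ k = 1) : ∃ x ∈ C, f x = y ∧ x ^ p ^ k = 1 := by
  obtain ⟨c, hc, rfl⟩ := hy
  have hmem : c ^ p ^ k ∈ f.ker := by rw [MonoidHom.mem_ker, map_pow]; exact hyk
  set m := Nat.card f.ker with hm
  have hcm : (c ^ p ^ k) ^ m = 1 := orderOf_dvd_iff_pow_eq_one.mp (f.ker.orderOf_dvd_natCard hmem)
  obtain ⟨t, ht0, ht1⟩ := Nat.chineseRemainder (hker.pow_right k) 0 1
  obtain ⟨d, hd⟩ : m ∣ t := Nat.modEq_zero_iff_dvd.mp ht0
  refine ⟨c ^ t, pow_mem hc t, ?_, ?_⟩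
  · rw [map_pow]
    have h1 : f c ^ t = f c ^ 1 := pow_eq_pow_iff_modEq.mpr
      (ht1.of_dvd (orderOf_dvd_of_pow_eq_one hyk))
    rw [h1, pow_one]
  · rw [hd, ← pow_mul, show m * d * p ^ k = p ^ k * m * d by ring, pow_mul, pow_mul, hcm, one_pow]

omit [Finite G] hp in
theorem commute_pCore_inf {A Q : Subgroup G} (hQU : pCore p G ⊓ Q = ⊥)
    (hAQ : A ≤ normalizer (Q : Set G)) {h b : G} (hh : h ∈ pCore p G) (hA : h ∈ A) (hb : b ∈ Q) :
    Commute h b := by
  have h1 : h * b * h⁻¹ * b⁻¹ ∈ pCore p G ⊓ Q := by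
    refine ⟨?_, Q.mul_mem ((mem_normalizer_iff.mp (hAQ hA) b).mp hb) (Q.inv_mem hb)⟩
    have := mul_mem hh ((Core.pCore_normal (p := p) (G := G)).conj_mem h⁻¹ (Subgroup.inv_mem _ hh) b)
    simpa [mul_assoc] using this
  rw [hQU, mem_bot] at h1
  exact commutatorElement_eq_one_iff_mul_comm.mp h1

theorem eq_bot_of_le_centralizer_pCore (hsc : Layer.PCoreSelfCentral p G) {Q : Subgroup G}
    (hQ : (Nat.card Q).Coprime p) (hQC : Q ≤ centralizer (pCore p G : Set G)) : Q = ⊥ :=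
  Layer.eq_bot_of_isPGroup_of_coprime (Core.pCore_isPGroup.to_le (hQC.trans hsc)) hQ

/-! ### Class two -/

/-- The class two case in a group with self-centralising `O_p`. -/
theorem core_class_two (hsc : Layer.PCoreSelfCentral p G)
    (hcl : ∀ S : Subgroup G, IsPGroup p S → ∀ a ∈ S, ∀ b ∈ S, ∀ c ∈ S, ⁅⁅a, b⁆, c⁆ = 1)
    {A : Subgroup G} (hAp : IsPGroup p A)
    (hfull : ∀ x ∈ centralizer (A : Set G), ∀ k : ℕ, x ^ p ^ k = 1 → x ∈ A)
    {Q : Subgroup G} (hQ : (Nat.card Q).Coprime p) (hAQ : A ≤ normalizer (Q : Set G)) :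
    Q = ⊥ := by
  set U := pCore p G with hU
  have hUp : IsPGroup p U := Core.pCore_isPGroup
  have hQU : U ⊓ Q = ⊥ := Layer.inf_eq_bot_of_isPGroup hUp hQ
  have hUn : ∀ g : G, g ∈ normalizer (U : Set G) := fun g => le_normalizer_of_normal (mem_top g)
  have hfix : ∀ h ∈ U ⊓ centralizer (A : Set G), ∀ b ∈ Q, Commute h b := by
    intro h hh b hb
    obtain ⟨k, hk⟩ := hUp ⟨h, hh.1⟩
    exact commute_pCore_inf hQU hAQ hh.1 (hfull h hh.2 k (congrArg Subtype.val hk)) hb
  have hUA : IsPGroup p (U ⊔ A : Subgroup G) :=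
    hUp.to_sup_of_normal_left' hAp (fun g _ => hUn g)
  have hz : ∀ h ∈ U, ∀ e ∈ A, ⁅h, e⁆ ∈ U ⊓ centralizer (A : Set G) := by
    intro h hh e he
    refine ⟨?_, mem_centralizer_iff.mpr fun e' he' => ?_⟩
    · have := U.mul_mem hh ((mem_normalizer_iff.mp (hUn e) h⁻¹).mp (inv_mem hh))
      rw [commutatorElement_def]
      simpa [mul_assoc] using this
    · exact (commutatorElement_eq_one_iff_mul_comm.mp (hcl _ hUA h (mem_sup_left hh) e
        (mem_sup_right he) e' (mem_sup_right he'))).symm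
  -- every `[b, e]` centralises `U`
  have hcen : ∀ b ∈ Q, ∀ e ∈ A, ⁅b, e⁆ ∈ centralizer (U : Set G) := by
    intro b hb e he
    rw [mem_centralizer_iff]
    intro h hh
    set c := ⁅b, e⁆ with hc
    have hcQ : c ∈ Q := by
      rw [hc, commutatorElement_def]
      have := Q.mul_mem hb ((mem_normalizer_iff.mp (hAQ he) b⁻¹).mp (inv_mem hb))
      simpa [mul_assoc] using this
    set z₁ := ⁅e⁻¹, h⁆ with hz₁
    have hz₁m : z₁ ∈ U ⊓ centralizer (A : Set G) := by
      rw [hz₁, ← commutatorElement_inv]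
      exact inv_mem (hz h hh e⁻¹ (inv_mem he))
    set h' := b⁻¹ * h * b with hh'
    have hh'U : h' ∈ U := by
      have := (mem_normalizer_iff.mp (hUn b⁻¹) h).mp hh
      rwa [inv_inv] at this
    set z₂ := ⁅e, h'⁆ with hz₂
    have hz₂m : z₂ ∈ U ⊓ centralizer (A : Set G) := by
      rw [hz₂, ← commutatorElement_inv]
      exact inv_mem (hz h' hh'U e he)
    have hbz1 : Commute z₁ b := hfix z₁ hz₁m b hb
    have hbz2 : Commute z₂ b := hfix z₂ hz₂m b hb
    have hez1 : e * z₁ = z₁ * e := mem_centralizer_iff.mp hz₁m.2 e he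
    have hstep : c * h * c⁻¹ = z₁ * z₂ * h := by
      calc c * h * c⁻¹ = b * e * (b⁻¹ * ((e⁻¹ * h * e * h⁻¹) * h) * b) * e⁻¹ * b⁻¹ := by
            rw [hc, commutatorElement_def]; group
        _ = b * e * (b⁻¹ * (z₁ * h) * b) * e⁻¹ * b⁻¹ := by
            rw [hz₁, commutatorElement_def, inv_inv]
        _ = b * e * (b⁻¹ * z₁ * b * h') * e⁻¹ * b⁻¹ := by rw [hh']; group
        _ = b * (e * z₁) * h' * e⁻¹ * b⁻¹ := by
            rw [show b⁻¹ * z₁ * b = z₁ by rw [mul_assoc, hbz1.eq, inv_mul_cancel_left]]; group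
        _ = (b * z₁) * (e * h' * e⁻¹ * h'⁻¹) * h' * b⁻¹ := by rw [hez1]; group
        _ = z₁ * (b * z₂) * h' * b⁻¹ := by rw [← hbz1.eq, hz₂, commutatorElement_def]; group
        _ = z₁ * z₂ * h := by rw [← hbz2.eq, hh']; group
    have hzzc : Commute (z₁ * z₂) c := (hfix z₁ hz₁m c hcQ).mul_left (hfix z₂ hz₂m c hcQ)
    have hiter : ∀ n : ℕ, c ^ n * h * (c ^ n)⁻¹ = (z₁ * z₂) ^ n * h := by
      intro n
      induction n with
      | zero => simp
      | succ n ih =>
        calc c ^ (n + 1) * h * (c ^ (n + 1))⁻¹ = c * (c ^ n * h * (c ^ n)⁻¹) * c⁻¹ := by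
              rw [pow_succ']; group
          _ = (c * (z₁ * z₂) ^ n) * h * c⁻¹ := by rw [ih]; group
          _ = (z₁ * z₂) ^ n * (c * h * c⁻¹) := by rw [← (hzzc.pow_left n).eq]; group
          _ = (z₁ * z₂) ^ (n + 1) * h := by rw [hstep, pow_succ]; group
    have h1 : (z₁ * z₂) ^ Nat.card Q = 1 := by
      have h2 : c ^ Nat.card Q = 1 := orderOf_dvd_iff_pow_eq_one.mp (Q.orderOf_dvd_natCard hcQ)
      have h3 := hiter (Nat.card Q)
      rw [h2] at h3
      simpa using h3.symm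
    obtain ⟨k, hk⟩ := hUp ⟨z₁ * z₂, mul_mem hz₁m.1 hz₂m.1⟩
    have h4 : (z₁ * z₂) ^ p ^ k = 1 := congrArg Subtype.val hk
    have h5 : z₁ * z₂ = 1 := by
      have h6 := pow_gcd_eq_one.mpr ⟨h1, h4⟩
      rwa [(hQ.pow_right k).gcd_eq_one, pow_one] at h6
    rw [h5, one_mul] at hstep
    exact (mul_inv_eq_iff_eq_mul.mp hstep).symm
  have hAC : A ≤ centralizer (Q : Set G) := by
    intro e he
    rw [mem_centralizer_iff]
    intro b hb
    have hcQ : ⁅b, e⁆ ∈ Q := by
      rw [commutatorElement_def]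
      have := Q.mul_mem hb ((mem_normalizer_iff.mp (hAQ he) b⁻¹).mp (inv_mem hb))
      simpa [mul_assoc] using this
    have : ⁅b, e⁆ ∈ U ⊓ Q := ⟨hsc (hcen b hb e he), hcQ⟩
    rw [hQU, mem_bot] at this
    exact commutatorElement_eq_one_iff_mul_comm.mp this
  refine eq_bot_of_le_centralizer_pCore hsc hQ ?_
  exact Coprime.thompson_pxq hAp hQ hUp hAC (fun g _ => hUn g) (fun g _ => hUn g)
    (fun h hh => mem_centralizer_iff.mpr fun b hb => (hfix h hh b hb).eq.symm)

/-! ### The norm argument in a group of exponent `p` and class two -/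

/-- `V` has exponent `p` and class at most two. -/
def IsBaerGroup (p : ℕ) (V : Subgroup G) : Prop :=
  (∀ x ∈ V, x ^ p = 1) ∧ ∀ a ∈ V, ∀ b ∈ V, ∀ c ∈ V, ⁅⁅a, b⁆, c⁆ = 1

/-- The Baer twisted product on the elements of `V`. -/
@[ext] structure Baer (V : Subgroup G) where
  val : G
  mem : val ∈ V

section Baer

variable {V : Subgroup G}

omit [Finite G] hp in
theorem IsBaerGroup.comm_mem (_hV : IsBaerGroup p V) {a b : G} (ha : a ∈ V) (hb : b ∈ V) :
    ⁅a, b⁆ ∈ V := by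
  rw [commutatorElement_def]
  exact mul_mem (mul_mem (mul_mem ha hb) (inv_mem ha)) (inv_mem hb)

omit [Finite G] hp in
theorem IsBaerGroup.comm_comm (hV : IsBaerGroup p V) {a b c : G} (ha : a ∈ V) (hb : b ∈ V)
    (hc : c ∈ V) : Commute ⁅a, b⁆ c :=
  commutatorElement_eq_one_iff_mul_comm.mp (hV.2 a ha b hb c hc)

omit [Finite G] hp in
theorem IsBaerGroup.comm_mul_left (hV : IsBaerGroup p V) {a b c : G} (ha : a ∈ V) (hb : b ∈ V)
    (hc : c ∈ V) : ⁅a * b, c⁆ = ⁅a, c⁆ * ⁅b, c⁆ := by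
  calc ⁅a * b, c⁆ = (a * ⁅b, c⁆) * a⁻¹ * ⁅a, c⁆ := by
        simp only [commutatorElement_def]; group
    _ = ⁅b, c⁆ * ⁅a, c⁆ := by rw [← (hV.comm_comm hb hc ha).eq]; group
    _ = ⁅a, c⁆ * ⁅b, c⁆ := (hV.comm_comm hb hc (hV.comm_mem ha hc)).eq

omit [Finite G] hp in
theorem IsBaerGroup.comm_mul_right (hV : IsBaerGroup p V) {a b c : G} (ha : a ∈ V) (hb : b ∈ V)
    (hc : c ∈ V) : ⁅a, b * c⁆ = ⁅a, b⁆ * ⁅a, c⁆ := by
  rw [← commutatorElement_inv (b * c) a, hV.comm_mul_left hb hc ha, mul_inv_rev,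
    commutatorElement_inv, commutatorElement_inv]
  exact (hV.comm_comm ha hb (hV.comm_mem ha hc)).eq.symm

omit [Finite G] hp in
theorem IsBaerGroup.baer_assoc (hV : IsBaerGroup p V) (k : ℕ) {x y z : G} (hx : x ∈ V) (hy : y ∈ V)
    (hz : z ∈ V) :
    x * y * ⁅y, x⁆ ^ k * z * ⁅z, x * y * ⁅y, x⁆ ^ k⁆ ^ k =
      x * (y * z * ⁅z, y⁆ ^ k) * ⁅y * z * ⁅z, y⁆ ^ k, x⁆ ^ k := by
  have cyx : Commute (⁅y, x⁆ ^ k) z := (hV.comm_comm hy hx hz).pow_left k
  have e1 : ⁅z, x * y * ⁅y, x⁆ ^ k⁆ = ⁅z, x⁆ * ⁅z, y⁆ := by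
    rw [hV.comm_mul_right hz (mul_mem hx hy) (pow_mem (hV.comm_mem hy hx) k),
      hV.comm_mul_right hz hx hy,
      commutatorElement_eq_one_iff_mul_comm.mpr cyx.eq.symm, mul_one]
  have e2 : ⁅y * z * ⁅z, y⁆ ^ k, x⁆ = ⁅y, x⁆ * ⁅z, x⁆ := by
    rw [hV.comm_mul_left (mul_mem hy hz) (pow_mem (hV.comm_mem hz hy) k) hx,
      hV.comm_mul_left hy hz hx,
      commutatorElement_eq_one_iff_mul_comm.mpr ((hV.comm_comm hz hy hx).pow_left k).eq, mul_one]
  rw [e1, e2]
  have c1 : Commute ⁅y, x⁆ ⁅z, x⁆ := hV.comm_comm hy hx (hV.comm_mem hz hx)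
  have c2 : Commute ⁅z, x⁆ ⁅z, y⁆ := hV.comm_comm hz hx (hV.comm_mem hz hy)
  have c3 : Commute ⁅y, x⁆ ⁅z, y⁆ := hV.comm_comm hy hx (hV.comm_mem hz hy)
  rw [c1.mul_pow, c2.mul_pow]
  calc x * y * ⁅y, x⁆ ^ k * z * (⁅z, x⁆ ^ k * ⁅z, y⁆ ^ k)
      = x * y * (⁅y, x⁆ ^ k * z) * (⁅z, x⁆ ^ k * ⁅z, y⁆ ^ k) := by group
    _ = x * y * z * (⁅y, x⁆ ^ k * (⁅z, x⁆ ^ k * ⁅z, y⁆ ^ k)) := by rw [cyx.eq]; group
    _ = x * y * z * (⁅z, y⁆ ^ k * (⁅y, x⁆ ^ k * ⁅z, x⁆ ^ k)) := by
        rw [← mul_assoc (⁅y, x⁆ ^ k),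
          ((c3.pow_pow k k).mul_left (c2.pow_pow k k)).eq]
    _ = _ := by group

omit [Finite G] in
theorem IsBaerGroup.baer_comm (hV : IsBaerGroup p V) (hodd : p ≠ 2) {x y : G} (hx : x ∈ V)
    (hy : y ∈ V) :
    x * y * ⁅y, x⁆ ^ ((p + 1) / 2) = y * x * ⁅x, y⁆ ^ ((p + 1) / 2) := by
  have h2 : (p + 1) / 2 + (p + 1) / 2 = p + 1 := by
    obtain ⟨j, hj⟩ := hp.out.odd_of_ne_two hodd
    omega
  have hcp : ⁅y, x⁆ ^ p = 1 := hV.1 _ (hV.comm_mem hy hx)
  have hxy : y * x = x * y * ⁅y, x⁆ := by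
    calc y * x = ⁅y, x⁆ * (x * y) := by rw [commutatorElement_def]; group
      _ = x * y * ⁅y, x⁆ := (hV.comm_comm hy hx (mul_mem hx hy)).eq
  rw [hxy, ← commutatorElement_inv y x, inv_pow, mul_assoc (x * y) ⁅y, x⁆, mul_right_inj,
    eq_mul_inv_iff_mul_eq, ← pow_add, h2, pow_succ, hcp, one_mul]

/-- The Baer group attached to an exponent `p` class two group. -/
@[reducible] def baerGroup (hV : IsBaerGroup p V) (hodd : p ≠ 2) : CommGroup (Baer V) where
  mul x y := ⟨x.val * y.val * ⁅y.val, x.val⁆ ^ ((p + 1) / 2),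
    mul_mem (mul_mem x.mem y.mem) (pow_mem (hV.comm_mem y.mem x.mem) _)⟩
  one := ⟨1, one_mem V⟩
  inv x := ⟨x.val⁻¹, inv_mem x.mem⟩
  mul_assoc x y z := Baer.ext (hV.baer_assoc _ x.mem y.mem z.mem)
  one_mul x := Baer.ext (by
    show 1 * x.val * ⁅x.val, (1 : G)⁆ ^ _ = x.val
    simp)
  mul_one x := Baer.ext (by
    show x.val * 1 * ⁅(1 : G), x.val⁆ ^ _ = x.val
    simp)
  inv_mul_cancel x := Baer.ext (by
    show x.val⁻¹ * x.val * ⁅x.val, x.val⁻¹⁆ ^ _ = 1
    rw [show ⁅x.val, x.val⁻¹⁆ = 1 by rw [commutatorElement_def]; group]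
    simp)
  mul_comm x y := Baer.ext (hV.baer_comm hodd x.mem y.mem)

/-- The norm argument: `Q` centralises `V`. -/
theorem norm_argument (hodd : p ≠ 2) (hV : IsBaerGroup p V) {A A₀ Q : Subgroup G}
    (hAn : A ≤ normalizer (V : Set G)) (hQn : Q ≤ normalizer (V : Set G))
    (hA₀ : A₀ ≤ centralizer (V : Set G))
    (hA₀n : A ≤ normalizer (A₀ : Set G))
    (hAQ : A ≤ normalizer (Q : Set G))
    (hQ : (Nat.card Q).Coprime p)
    (hfree : ∀ e ∈ A, e ∉ A₀ → ∀ b ∈ Q, e * b = b * e → b = 1)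
    (hfix : ∀ v ∈ V, (∀ a ∈ A, a * v = v * a) → ∀ b ∈ Q, b * v = v * b) :
    Q ≤ centralizer (V : Set G) := by
  classical
  letI := baerGroup hV hodd
  haveI : Fintype Q := Fintype.ofFinite _
  have hpow : ∀ (x : Baer V) (n : ℕ), (x ^ n).val = x.val ^ n := by
    intro x n
    induction n with
    | zero => rw [pow_zero, pow_zero]; rfl
    | succ n ih =>
      rw [pow_succ, pow_succ]
      show (x ^ n).val * x.val * ⁅x.val, (x ^ n).val⁆ ^ _ = _
      rw [ih, commutatorElement_eq_one_iff_mul_comm.mpr ((Commute.refl x.val).pow_right n).eq]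
      simp
  let σ : ↥(normalizer (V : Set G)) → Baer V →* Baer V := fun g =>
    { toFun := fun x => ⟨g * x.val * (g : G)⁻¹, (mem_normalizer_iff.mp g.2 x.val).mp x.mem⟩
      map_one' := Baer.ext (by
        show (g : G) * 1 * (g : G)⁻¹ = 1
        group)
      map_mul' := fun x y => Baer.ext (by
        show (g : G) * (x.val * y.val * ⁅y.val, x.val⁆ ^ _) * (g : G)⁻¹ = _
        show _ = (g * x.val * (g : G)⁻¹) * (g * y.val * (g : G)⁻¹) *
          ⁅(g : G) * y.val * (g : G)⁻¹, g * x.val * (g : G)⁻¹⁆ ^ _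
        rw [← conjugate_commutatorElement, conj_pow]
        group) }
  have hσval : ∀ g x, (σ g x).val = (g : G) * x.val * (g : G)⁻¹ := fun _ _ => rfl
  let ιA : A → ↥(normalizer (V : Set G)) := fun a => ⟨a, hAn a.2⟩
  let ιQ : Q → ↥(normalizer (V : Set G)) := fun b => ⟨b, hQn b.2⟩
  let S : Subgroup A := A₀.subgroupOf A
  haveI : S.Normal := normal_subgroupOf_of_le_normalizer hA₀n
  haveI : Fintype (A ⧸ S) := Fintype.ofFinite _
  -- the translate of `x` by a class of `A / A₀`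
  let t : A ⧸ S → Baer V → Baer V := fun e x => σ (ιA e.out) x
  have ht : ∀ (a : A) (x : Baer V), t (QuotientGroup.mk a) x = σ (ιA a) x := by
    intro a x
    obtain ⟨s, hs⟩ := QuotientGroup.mk_out_eq_mul S a
    refine Baer.ext ?_
    rw [hσval, hσval]
    show ((QuotientGroup.mk a : A ⧸ S).out : G) * x.val * _ = (a : G) * x.val * (a : G)⁻¹
    rw [hs]
    have hs' : Commute ((s : A) : G) x.val :=
      (mem_centralizer_iff.mp (hA₀ s.2) x.val x.mem).symm
    show (a : G) * ((s : A) : G) * x.val * ((a : G) * ((s : A) : G))⁻¹ = _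
    rw [mul_assoc (a : G), hs'.eq]
    group
  let N : Baer V → Baer V := fun x => ∏ e : A ⧸ S, t e x
  let Fixed : Baer V → Prop := fun x => ∀ b ∈ Q, b * x.val = x.val * b
  have hNfix : ∀ x, Fixed (N x) := by
    intro x
    refine hfix _ (N x).mem fun a ha => ?_
    have h1 : σ (ιA ⟨a, ha⟩) (N x) = N x := by
      simp only [N, map_prod]
      refine Fintype.prod_equiv (Equiv.mulLeft (QuotientGroup.mk (⟨a, ha⟩ : A))) _ _ fun e => ?_
      obtain ⟨a', rfl⟩ := QuotientGroup.mk_surjective e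
      show σ (ιA ⟨a, ha⟩) (t (QuotientGroup.mk a') x) = t (QuotientGroup.mk ((⟨a, ha⟩ : A) * a')) x
      rw [ht, ht]
      refine Baer.ext ?_
      simp only [hσval, ιA, Subgroup.coe_mul]
      group
    have h2 := congrArg Baer.val h1
    rw [hσval] at h2
    exact mul_inv_eq_iff_eq_mul.mp h2
  have hσfix : ∀ (b : Q) (x : Baer V), Fixed x → σ (ιQ b) x = x := by
    intro b x hx
    refine Baer.ext ?_
    rw [hσval]
    show (b : G) * x.val * (b : G)⁻¹ = x.val
    rw [hx b b.2]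
    group
  have hfixσ : ∀ x : Baer V, (∀ b : Q, σ (ιQ b) x = x) → Fixed x := by
    intro x hx b hb
    have h2 := congrArg Baer.val (hx ⟨b, hb⟩)
    rw [hσval] at h2
    exact mul_inv_eq_iff_eq_mul.mp h2
  intro b₀ hb₀
  rw [mem_centralizer_iff]
  intro v hv
  set x : Baer V := ⟨v, hv⟩ with hx
  -- `c e b = b⁻¹ e b e⁻¹`
  let c : A ⧸ S → Q → Q := fun e b => ⟨(b : G)⁻¹ * ((e.out : A) * b * ((e.out : A) : G)⁻¹),
    mul_mem (inv_mem b.2) ((mem_normalizer_iff.mp (hAQ e.out.2) (b : G)).mp b.2)⟩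
  have hkey : ∀ b : Q, N (σ (ιQ b) x) = ∏ e : A ⧸ S, σ (ιQ (c e b)) (t e x) := by
    intro b
    rw [← hσfix b⁻¹ _ (hNfix (σ (ιQ b) x))]
    simp only [N, map_prod]
    refine Finset.prod_congr rfl fun e _ => Baer.ext ?_
    simp only [t, hσval, ιA, ιQ, c, Subgroup.coe_inv]
    group
  have hswap : ∏ b : Q, N (σ (ιQ b) x) =
      ∏ e : A ⧸ S, ∏ b : Q, σ (ιQ (c e b)) (t e x) := by
    rw [Finset.prod_comm (s := (Finset.univ : Finset (A ⧸ S)))]
    exact Finset.prod_congr rfl fun b _ => hkey b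
  have hone : ∏ b : Q, σ (ιQ (c 1 b)) (t 1 x) = x ^ Fintype.card Q := by
    rw [← Finset.card_univ, ← Finset.prod_const]
    refine Finset.prod_congr rfl fun b _ => ?_
    have ht1 : t 1 x = x := by
      rw [← QuotientGroup.mk_one, ht]
      refine Baer.ext ?_
      rw [hσval]
      simp [ιA]
    rw [ht1]
    refine Baer.ext ?_
    rw [hσval]
    obtain ⟨s, hs⟩ : ∃ s : S, ((1 : A ⧸ S).out : A) = 1 * s := QuotientGroup.mk_out_eq_mul S 1
    simp only [ιQ, c, hs, one_mul]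
    show (b : G)⁻¹ * (((s : A) : G) * b * ((s : A) : G)⁻¹) * v *
      ((b : G)⁻¹ * (((s : A) : G) * b * ((s : A) : G)⁻¹))⁻¹ = v
    have hsV : ∀ y ∈ V, y * ((s : A) : G) = ((s : A) : G) * y := fun y hy =>
      mem_centralizer_iff.mp (hA₀ s.2) y hy
    have h1 : ((s : A) : G)⁻¹ * v * ((s : A) : G) = v := by
      rw [mul_assoc, hsV v hv, inv_mul_cancel_left]
    have hw : (b : G) * v * (b : G)⁻¹ ∈ V := (mem_normalizer_iff.mp (hQn b.2) v).mp hv
    calc _ = (b : G)⁻¹ * (((s : A) : G) * ((b : G) * (((s : A) : G)⁻¹ * v * ((s : A) : G)) *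
          (b : G)⁻¹) * ((s : A) : G)⁻¹) * b := by group
      _ = v := by rw [h1, ← hsV _ hw]; group
  have hrest : ∀ e : A ⧸ S, e ≠ 1 → Fixed (∏ b : Q, σ (ιQ (c e b)) (t e x)) := by
    intro e he
    have hout : ((e.out : A) : G) ∉ A₀ := by
      intro h
      apply he
      rw [← Quotient.out_eq e]
      exact (QuotientGroup.eq_one_iff _).mpr h
    have hinj : Function.Injective (c e) := by
      intro b b' hbb
      have h1 : (b : G)⁻¹ * ((e.out : A) * b * ((e.out : A) : G)⁻¹) =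
          (b' : G)⁻¹ * ((e.out : A) * b' * ((e.out : A) : G)⁻¹) := congrArg Subtype.val hbb
      set a := ((e.out : A) : G) with ha
      set y := a * (b : G) * a⁻¹ with hy
      set y' := a * (b' : G) * a⁻¹ with hy'
      have hyQ : y ∈ Q := (mem_normalizer_iff.mp (hAQ e.out.2) (b : G)).mp b.2
      have h3 : y = (b : G) * (b' : G)⁻¹ * y' := by rw [mul_assoc, ← h1, mul_inv_cancel_left]
      have hy'Q : y' ∈ Q := (mem_normalizer_iff.mp (hAQ e.out.2) (b' : G)).mp b'.2
      have h4 : a * ((b : G) * (b' : G)⁻¹) = (b : G) * (b' : G)⁻¹ * a := by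
        have h5 : a * ((b : G) * (b' : G)⁻¹) * a⁻¹ = (b : G) * (b' : G)⁻¹ := by
          calc a * ((b : G) * (b' : G)⁻¹) * a⁻¹ = y * y'⁻¹ := by rw [hy, hy']; group
            _ = _ := by rw [h3]; group
        exact mul_inv_eq_iff_eq_mul.mp h5
      exact Subtype.ext (mul_inv_eq_one.mp
        (hfree a e.out.2 hout _ (mul_mem b.2 (inv_mem b'.2)) h4))
    rw [(Finite.injective_iff_bijective.mp hinj).prod_comp (fun q => σ (ιQ q) (t e x))]
    refine hfixσ _ fun q => ?_
    rw [map_prod]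
    refine Fintype.prod_equiv (Equiv.mulLeft q) _ _ fun b => Baer.ext ?_
    simp only [Equiv.coe_mulLeft, hσval, ιQ, Subgroup.coe_mul]
    group
  -- the fixed points form a subgroup
  let F : Subgroup (Baer V) :=
    { carrier := {y | ∀ b : Q, σ (ιQ b) y = y}
      one_mem' := fun b => map_one _
      mul_mem' := fun {y z} hy hz b => by rw [map_mul, hy b, hz b]
      inv_mem' := fun {y} hy b => by rw [map_inv, hy b] }
  have hmemF : ∀ y, Fixed y → y ∈ F := fun y hy b => hσfix b y hy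
  have hxF : x ^ Fintype.card Q ∈ F := by
    have h1 : ∏ b : Q, N (σ (ιQ b) x) ∈ F := Subgroup.prod_mem F fun b _ => hmemF _ (hNfix _)
    rw [hswap, ← Finset.mul_prod_erase Finset.univ _ (Finset.mem_univ 1), hone] at h1
    exact (Subgroup.mul_mem_cancel_right F (Subgroup.prod_mem F fun e he =>
      hmemF _ (hrest e (Finset.ne_of_mem_erase he)))).mp h1
  have hv' : v ^ Fintype.card Q * b₀ = b₀ * v ^ Fintype.card Q := by
    have h2 := hfixσ _ hxF b₀ hb₀
    rw [hpow] at h2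
    exact h2.symm
  have hvp : v ^ p = 1 := hV.1 v hv
  rw [← Nat.card_eq_fintype_card] at hv'
  obtain ⟨m, hm⟩ := exists_pow_eq_self_of_coprime
    (Nat.Coprime.coprime_dvd_right (orderOf_dvd_of_pow_eq_one hvp) hQ)
  have h3 : Commute ((v ^ Nat.card Q) ^ m) b₀ := (show Commute (v ^ Nat.card Q) b₀ from hv').pow_left m
  rw [hm] at h3
  exact h3.eq

end Baer

/-! ### Detecting subgroups -/

/-- For `p` odd a normal `p`-subgroup `U` contains a normal subgroup of exponent `p` and class at most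
two whose centralisation by a `p'`-group forces that of `U`. -/
theorem exists_detecting (hodd : p ≠ 2) {U : Subgroup G} [U.Normal] (hU : IsPGroup p U) :
    ∃ D : Subgroup G, D ≤ U ∧ D.Normal ∧ IsBaerGroup p D ∧ ∀ Q : Subgroup G,
      (Nat.card Q).Coprime p → Q ≤ centralizer (D : Set G) → Q ≤ centralizer (U : Set G) := by
  obtain ⟨C₀, hC₀, hcl, -, -, hself⟩ := Fusion.exists_critical (p := p) (G := U) hU
  set C : Subgroup G := C₀.map U.subtype with hC
  have hCn : C.Normal := by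
    rw [← normalizer_eq_top_iff, eq_top_iff]
    exact LocalStructure.le_normalizer_map_characteristic le_normalizer_of_normal C₀
  let W : Subgroup C₀ := closure {x : C₀ | x ^ p = 1}
  have hWc : W.Characteristic := by
    rw [characteristic_iff_map_le]
    intro φ
    rw [MonoidHom.map_closure]
    refine closure_mono ?_
    rintro _ ⟨x, hx, rfl⟩
    show φ x ^ p = 1
    rw [← map_pow, show x ^ p = 1 from hx, map_one]
  set D : Subgroup G := (W.map C₀.subtype).map U.subtype with hD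
  have hDn : D.Normal := by
    rw [← normalizer_eq_top_iff, eq_top_iff]
    have : (W.map C₀.subtype).Characteristic := Core.characteristic_map_subtype C₀ W
    exact LocalStructure.le_normalizer_map_characteristic le_normalizer_of_normal _
  have hDU : D ≤ U := map_subtype_le _
  have hclD : ∀ a ∈ C, ∀ b ∈ C, ∀ c ∈ C, ⁅⁅a, b⁆, c⁆ = 1 := by
    rintro _ ⟨a, ha, rfl⟩ _ ⟨b, hb, rfl⟩ _ ⟨c, hc, rfl⟩
    have h1 := hcl (commutator_mem_commutator (mem_top (⟨a, ha⟩ : C₀)) (mem_top (⟨b, hb⟩ : C₀)))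
    have h2 := commutatorElement_eq_one_iff_mul_comm.mpr (mem_center_iff.mp h1 ⟨c, hc⟩).symm
    have h3 := congrArg (fun z : C₀ => ((z : U) : G)) h2
    simpa [commutatorElement_def] using h3
  have hDC : D ≤ C := map_mono (map_subtype_le _)
  refine ⟨D, hDU, hDn, ⟨?_, fun a ha b hb c hc => hclD a (hDC ha) b (hDC hb) c (hDC hc)⟩, ?_⟩
  · rintro _ ⟨_, ⟨x, hx, rfl⟩, rfl⟩
    have h1 := Fusion.pow_prime_eq_one_of_mem_closure hodd hcl hx
    have h3 := congrArg (fun z : C₀ => ((z : U) : G)) h1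
    simpa using h3
  intro Q hQ hQD
  have hQC : Q ≤ centralizer (C : Set G) := by
    refine LocalStructure.le_centralizer_of_fixes_omega hodd (hU.to_le (map_subtype_le _))
      le_normalizer_of_normal hQ ?_
    rintro _ ⟨x, hx, rfl⟩ hxp a ha
    refine (mem_centralizer_iff.mp (hQD ha) _ ?_).symm
    have hW : (⟨x, hx⟩ : C₀) ∈ W := subset_closure (Subtype.ext (Subtype.ext (by simpa using hxp)))
    exact ⟨x, ⟨⟨x, hx⟩, hW, rfl⟩, rfl⟩
  refine Coprime.thompson_pxq (hU.to_le (map_subtype_le _)) hQ hU (le_centralizer_iff.mp hQC)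
    le_normalizer_of_normal le_normalizer_of_normal ?_
  rintro x ⟨hxU, hxC⟩
  refine le_centralizer_iff.mp hQC ⟨⟨x, hxU⟩, hself (mem_centralizer_iff.mpr fun y hy => ?_), rfl⟩
  exact Subtype.ext (mem_centralizer_iff.mp hxC y (mem_map_of_mem _ hy))

/-- The odd case in a group with self-centralising `O_p`. -/
theorem core_odd (hsc : Layer.PCoreSelfCentral p G) (hodd : p ≠ 2) {A : Subgroup G}
    [IsMulCommutative A] (hAp : IsPGroup p A)
    (hΩ : ∀ x ∈ centralizer (A : Set G), x ^ p = 1 → x ∈ A)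
    {Q : Subgroup G} (hQ : (Nat.card Q).Coprime p) (hAQ : A ≤ normalizer (Q : Set G)) :
    Q = ⊥ := by
  induction Q using WellFoundedLT.induction with
  | _ Q ih =>
  by_contra hne
  set U := pCore p G with hU
  have hUp : IsPGroup p U := Core.pCore_isPGroup
  have hQU : U ⊓ Q = ⊥ := Layer.inf_eq_bot_of_isPGroup hUp hQ
  have hUn : U.Normal := Core.pCore_normal
  obtain ⟨D, hDU, hDn, hDV, hdet⟩ := exists_detecting hodd hUp
  have hAcomm : ∀ a ∈ A, ∀ a' ∈ A, a * a' = a' * a := fun a ha a' ha' =>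
    congrArg Subtype.val (IsMulCommutative.is_comm.comm (⟨a, ha⟩ : A) ⟨a', ha'⟩)
  set A₀ := A ⊓ centralizer (Q : Set G) with hA₀
  set V := D ⊓ centralizer (A₀ : Set G) with hV
  have hQA₀ : Q ≤ centralizer (A₀ : Set G) := le_centralizer_iff.mp inf_le_right
  have hAA : A ≤ centralizer (A : Set G) := le_centralizer_iff_isMulCommutative.mpr inferInstance
  have hAA₀ : A ≤ centralizer (A₀ : Set G) := hAA.trans (centralizer_le inf_le_left)
  have hVQ : Q ≤ centralizer (V : Set G) := by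
    refine norm_argument (V := V) (A := A) (A₀ := A₀) hodd
      ⟨fun x hx => hDV.1 x hx.1, fun a ha b hb c hc => hDV.2 a ha.1 b hb.1 c hc.1⟩
      (Coprime.le_normalizer_inf le_normalizer_of_normal
        (hAA₀.trans Subgroup.le_normalizer))
      (Coprime.le_normalizer_inf le_normalizer_of_normal
        (hQA₀.trans Subgroup.le_normalizer))
      (le_centralizer_iff.mp inf_le_right) (hAA₀.trans (centralizer_le_normalizer _)) hAQ hQ ?_ ?_
    · intro e he heA₀ b hb hcomm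
      have hlt : Q ⊓ centralizer {e} < Q := lt_of_le_of_ne inf_le_left fun h => heA₀
        ⟨he, mem_centralizer_iff.mpr fun y hy =>
          mem_centralizer_singleton_iff.mp (h.ge hy).2⟩
      have hAN : A ≤ normalizer ((Q ⊓ centralizer {e} : Subgroup G) : Set G) :=
        Coprime.le_normalizer_inf hAQ ((show A ≤ centralizer {e} from fun a ha =>
          mem_centralizer_singleton_iff.mpr (hAcomm a ha e he)).trans Subgroup.le_normalizer)
      have h0 := ih _ hlt (hQ.coprime_dvd_left (card_dvd_of_le inf_le_left)) hAN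
      have hbm : b ∈ Q ⊓ centralizer {e} := ⟨hb, mem_centralizer_singleton_iff.mpr hcomm.symm⟩
      rwa [h0, mem_bot] at hbm
    · intro v hv hfix b hb
      have hvA : v ∈ A := hΩ v (mem_centralizer_iff.mpr fun a ha => hfix a ha) (hDV.1 v hv.1)
      exact (commute_pCore_inf hQU hAQ (hDU hv.1) hvA hb).eq.symm
  have hQD : Q ≤ centralizer (D : Set G) :=
    Coprime.thompson_pxq (hAp.to_le inf_le_left) hQ (hUp.to_le hDU) inf_le_right
      le_normalizer_of_normal le_normalizer_of_normal (le_centralizer_iff.mp hVQ)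
  exact hne (eq_bot_of_le_centralizer_pCore hsc hQ (hdet Q hQ hQD))

/-! ### Invariant `p'`-subgroups of `p`-constrained groups -/

/-- `A` abelian containing the elements of order `p` of its centraliser, `p` odd. -/
theorem le_pPrimeCore_of_invariant_odd (hX : IsPConstrained p G) (hodd : p ≠ 2) {A : Subgroup G}
    [IsMulCommutative A] (hAp : IsPGroup p A)
    (hΩ : ∀ x ∈ centralizer (A : Set G), x ^ p = 1 → x ∈ A)
    {Q : Subgroup G} (hQ : (Nat.card Q).Coprime p) (hAQ : A ≤ normalizer (Q : Set G)) :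
    Q ≤ pPrimeCore p G := by
  set f := QuotientGroup.mk' (pPrimeCore p G) with hf
  have hfs : Function.Surjective f := QuotientGroup.mk'_surjective _
  have hker : (Nat.card f.ker).Coprime p := by
    rw [hf, QuotientGroup.ker_mk']
    exact Core.coprime_card_pPrimeCore
  suffices Q.map f = ⊥ by rwa [Subgroup.map_eq_bot_iff, hf, QuotientGroup.ker_mk'] at this
  refine core_odd (Layer.isPConstrained_iff_selfCentral.mp hX) hodd (A := A.map f) (hAp.map f) ?_
    (hQ.coprime_dvd_left (card_map_dvd _ f)) ((map_mono hAQ).trans (le_normalizer_map f))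
  intro y hy hyp
  rw [← Layer.map_centralizer_of_coprime hfs hker hAp] at hy
  obtain ⟨x, hx, rfl, hxp⟩ := exists_pow_prime_lift (k := 1) hker hy (by rwa [pow_one])
  exact mem_map_of_mem f (hΩ x hx (by rwa [pow_one] at hxp))

/-- `A` containing all `p`-elements of its centraliser, Sylow `p`-subgroups of class at most two. -/
theorem le_pPrimeCore_of_invariant_class_two (hX : IsPConstrained p G)
    (hcl : ∀ S : Sylow p G, ∀ a ∈ S, ∀ b ∈ S, ∀ c ∈ S, ⁅⁅a, b⁆, c⁆ = 1)
    {A : Subgroup G} (hAp : IsPGroup p A)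
    (hfull : ∀ x ∈ centralizer (A : Set G), ∀ k : ℕ, x ^ p ^ k = 1 → x ∈ A)
    {Q : Subgroup G} (hQ : (Nat.card Q).Coprime p) (hAQ : A ≤ normalizer (Q : Set G)) :
    Q ≤ pPrimeCore p G := by
  set f := QuotientGroup.mk' (pPrimeCore p G) with hf
  have hfs : Function.Surjective f := QuotientGroup.mk'_surjective _
  have hker : (Nat.card f.ker).Coprime p := by
    rw [hf, QuotientGroup.ker_mk']
    exact Core.coprime_card_pPrimeCore
  suffices Q.map f = ⊥ by rwa [Subgroup.map_eq_bot_iff, hf, QuotientGroup.ker_mk'] at this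
  refine core_class_two (Layer.isPConstrained_iff_selfCentral.mp hX) ?_ (A := A.map f) (hAp.map f) ?_
    (hQ.coprime_dvd_left (card_map_dvd _ f)) ((map_mono hAQ).trans (le_normalizer_map f))
  · intro S hS
    obtain ⟨T, hT⟩ := hS.exists_le_sylow
    obtain ⟨P, rfl⟩ := Sylow.mapSurjective_surjective hfs p T
    intro a ha b hb c hc
    obtain ⟨a', ha', rfl⟩ := hT ha
    obtain ⟨b', hb', rfl⟩ := hT hb
    obtain ⟨c', hc', rfl⟩ := hT hc
    rw [← map_commutatorElement, ← map_commutatorElement, hcl P a' ha' b' hb' c' hc', map_one]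
  · intro y hy k hyp
    rw [← Layer.map_centralizer_of_coprime hfs hker hAp] at hy
    obtain ⟨x, hx, rfl, hxp⟩ := exists_pow_prime_lift hker hy hyp
    exact mem_map_of_mem f (hfull x hx k hxp)

omit [Finite G] in
/-- Nilpotency class at most two, elementwise. -/
theorem commutator_eq_one_of_class_le_two {S : Subgroup G} [Group.IsNilpotent S]
    (h : Group.nilpotencyClass S ≤ 2) {a b c : G} (ha : a ∈ S) (hb : b ∈ S) (hc : c ∈ S) :
    ⁅⁅a, b⁆, c⁆ = 1 := by
  have h2 : (⊤ : Subgroup S).lowerCentralSeries 2 = ⊥ :=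
    Subgroup.lowerCentralSeries_eq_bot_iff_nilpotencyClass_le.mpr h
  rw [Subgroup.lowerCentralSeries_succ, Subgroup.lowerCentralSeries_succ,
    Subgroup.lowerCentralSeries_zero] at h2
  have h3 : ⁅⁅(⟨a, ha⟩ : S), (⟨b, hb⟩ : S)⁆, (⟨c, hc⟩ : S)⁆ ∈ (⊥ : Subgroup S) :=
    h2 ▸ commutator_mem_commutator (commutator_mem_commutator (mem_top _) (mem_top _)) (mem_top _)
  exact congrArg Subtype.val (mem_bot.mp h3)

end Cfsg.Agent.OddLocal
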