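import Cfsg.Prelude.Def_LieExceptional
import Cfsg.Agent.OddLocal.Basic
import Cfsg.Agent.Thompson.Stable
import Cfsg.Agent.Coprime.Generation
import Cfsg.Agent.Coprime.Elementary
import Cfsg.Agent.Coprime.SchurZassenhaus
import Cfsg.Agent.Fusion.PGroup
import Cfsg.Agent.Layer.PConstraint

/-!
The local structure at a prime `p` all of whose centralisers are `p`-groups, in a solvable group of
odd order: the Thompson subgroup of a Sylow subgroup is normal.
-/

set_option autoImplicit false

namespace Cfsg.Agent.OddLocal.CN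

open Subgroup
open scoped commutatorElement

universe u

variable {G : Type u} [Group G]

/-- `p` is isolated in the prime graph: centralisers of nontrivial `p`-elements are `p`-groups. -/
def Isolated (p : ℕ) (G : Type u) [Group G] : Prop :=
  ∀ x : G, x ≠ 1 → IsPGroup p (zpowers x) → IsPGroup p (centralizer ({x} : Set G))

theorem Isolated.subgroup {p : ℕ} (h : Isolated p G) (L : Subgroup G) : Isolated p L := by
  intro x hx hxp
  have hmap : (zpowers x).map L.subtype = zpowers (x : G) := MonoidHom.map_zpowers _ _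
  have h1 := h x (fun e => hx (Subtype.ext e)) (hmap ▸ hxp.map L.subtype)
  intro c
  obtain ⟨k, hk⟩ := h1 ⟨((c : L) : G), mem_centralizer_singleton_iff.mpr
    (congrArg Subtype.val (mem_centralizer_singleton_iff.mp c.2))⟩
  exact ⟨k, Subtype.ext (Subtype.ext (by simpa using congrArg Subtype.val hk))⟩

theorem eq_one_of_coprime {p : ℕ} {K : Subgroup G} (hK : IsPGroup p K) {x : G}
    (hx : x ∈ K) (hc : (orderOf x).Coprime p) : x = 1 := by
  obtain ⟨k, hk⟩ := hK ⟨x, hx⟩
  have h : orderOf x ∣ p ^ k := orderOf_dvd_of_pow_eq_one (congrArg Subtype.val hk)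
  exact orderOf_eq_one_iff.mp ((hc.pow_right k).eq_one_of_dvd h)

theorem isPGroup_zpowers {p : ℕ} {K : Subgroup G} (hK : IsPGroup p K) {x : G} (hx : x ∈ K) :
    IsPGroup p (zpowers x) :=
  hK.to_le (zpowers_le.mpr hx)

theorem card_map_of_inf_ker {G' : Type*} [Group G'] (f : G →* G') {L : Subgroup G}
    (h : L ⊓ f.ker = ⊥) : Nat.card (L.map f) = Nat.card L := by
  refine (Nat.card_congr (Equiv.ofBijective (f.subgroupMap L) ⟨?_, f.subgroupMap_surjective L⟩)).symm
  rw [injective_iff_map_eq_one]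
  intro x hx
  exact Subtype.ext (Subgroup.mem_bot.mp (h.le ⟨x.2, congrArg Subtype.val hx⟩))

/-- An `r`-group acting on a normal subgroup without nontrivial fixed points. -/
theorem card_modEq_fixed_one {r : ℕ} [Fact r.Prime] [Finite G] {L V : Subgroup G}
    (hL : IsPGroup r L) (hV : V.Normal) (h : ∀ v ∈ V, (∀ a ∈ L, a * v = v * a) → v = 1) :
    Nat.card V ≡ 1 [MOD r] := by
  let _ : MulAction L V := MulAction.compHom V ((MulAut.conjNormal (H := V)).comp L.subtype)
  have hmod := hL.card_modEq_card_fixedPoints V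
  have hfix : MulAction.fixedPoints L V = {1} := by
    ext v
    simp only [Set.mem_singleton_iff, MulAction.mem_fixedPoints]
    constructor
    · intro hv
      refine Subtype.ext (h v v.2 fun a ha => ?_)
      have h1 : a * (v : G) * a⁻¹ = v := by
        have := congrArg Subtype.val (hv ⟨a, ha⟩)
        simpa [MulAction.compHom_smul_def] using this
      exact mul_inv_eq_iff_eq_mul.mp h1
    · rintro rfl a
      refine Subtype.ext ?_
      simp [MulAction.compHom_smul_def]
  rw [hfix, Nat.card_coe_set_eq, Set.ncard_singleton] at hmod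
  exact hmod

section Local

variable [Finite G] {p : ℕ} [hp : Fact p.Prime]

theorem coprime_of_isPGroup_ne {r : ℕ} (hr : r.Prime) (hrp : r ≠ p) {L : Subgroup G}
    (hL : IsPGroup r L) : (Nat.card L).Coprime p := by
  have := Fact.mk hr
  obtain ⟨n, hn⟩ := IsPGroup.iff_card.mp hL
  rw [hn]
  exact ((Nat.coprime_primes hr hp.out).mpr hrp).pow_left n

/-- A `p`-element outside `H` is moved by every `r`-subgroup. -/
theorem not_commute_lift (hiso : Isolated p G) {H : Subgroup G} [H.Normal] (hH : IsPGroup p H)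
    {r : ℕ} (hr : r.Prime) (hrp : r ≠ p) {L : Subgroup G} (hL : IsPGroup r L) (hL1 : L ≠ ⊥)
    {t : G} (htp : IsPGroup p (zpowers t)) (htH : t ∉ H) :
    QuotientGroup.mk' H t ∉ centralizer ((L.map (QuotientGroup.mk' H) : Subgroup _) : Set (G ⧸ H)) := by
  intro hc
  have := Fact.mk hr
  let f := QuotientGroup.mk' H
  obtain ⟨n, hn⟩ := IsPGroup.iff_card.mp hH
  have hker : (Nat.card f.ker).Coprime r := by
    rw [QuotientGroup.ker_mk', hn]
    exact ((Nat.coprime_primes hp.out hr).mpr (Ne.symm hrp)).pow_left n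
  rw [← Layer.map_centralizer_of_coprime (QuotientGroup.mk'_surjective H) hker hL] at hc
  obtain ⟨u, hu, hut⟩ := hc
  have hu1 : u ≠ 1 := fun e => htH ((QuotientGroup.eq_one_iff t).mp (hut.symm.trans (by
    rw [e, map_one])))
  have hup : IsPGroup p (zpowers u) := by
    have hT : IsPGroup p (zpowers t ⊔ H : Subgroup G) := htp.to_sup_of_normal_right hH
    refine isPGroup_zpowers hT ?_
    have : t⁻¹ * u ∈ H := (QuotientGroup.eq_one_iff _).mp (show f (t⁻¹ * u) = 1 by
      rw [map_mul, map_inv, hut, inv_mul_cancel])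
    simpa [mul_assoc] using mul_mem_sup (mem_zpowers t) this
  obtain ⟨a, ha, ha1⟩ := (bot_or_exists_ne_one L).resolve_left hL1
  refine ha1 (eq_one_of_coprime (hiso u hu1 hup) ?_ ?_)
  · exact mem_centralizer_singleton_iff.mpr (mem_centralizer_iff.mp hu a ha)
  · exact (coprime_of_isPGroup_ne hr hrp hL).coprime_dvd_left (orderOf_dvd_natCard _ ha)

/-- The structure of a solvable group with an isolated prime `p` and `O_p ≠ 1` which is not a
`p`-group modulo `O_p`: some `r`-subgroup of prime order generates a normal subgroup modulo `O_p`. -/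
theorem exists_prime_section [Group.IsSolvable G] (hiso : Isolated p G) (hH1 : pCore p G ≠ ⊥)
    (hne : pCore p G ≠ ⊤) :
    ∃ r : ℕ, r.Prime ∧ r ≠ p ∧ ∃ L : Subgroup G, Nat.card L = r ∧
      (L.map (QuotientGroup.mk' (pCore p G))).Normal := by
  set H := pCore p G with hHdef
  have hHp : IsPGroup p H := Core.pCore_isPGroup
  let f := QuotientGroup.mk' H
  have : Nontrivial (G ⧸ H) := by
    by_contra h
    rw [not_nontrivial_iff_subsingleton, QuotientGroup.subsingleton_iff] at h
    exact hne h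
  obtain ⟨r, hr, R, hRn, hRr, hR1⟩ := Coprime.exists_normal_isPGroup (G := G ⧸ H)
  have := Fact.mk hr
  have hrp : r ≠ p := by
    rintro rfl
    exact hR1 (eq_bot_iff.mpr (Core.pCore_quotient_eq_bot (p := r) (G := G) ▸
      (Core.le_pCore hRr)))
  set A := Cfsg.omegaOne r (R ⊓ centralizer (R : Set (G ⧸ H))) with hAdef
  have hAn : A.Normal := Thompson.omegaCenter_normal R
  have hAea : Cfsg.IsElementaryAbelian r A := Thompson.omegaOne_centre_ea r R
  have hA1 : A ≠ ⊥ := by
    have hZ : R ⊓ centralizer (R : Set (G ⧸ H)) ≠ ⊥ := by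
      intro h
      refine Fusion.pGroup_inf_center_ne_bot hRr ⊤ (fun e => ?_) ?_
      · exact hR1 (by rw [← range_subtype R, MonoidHom.range_eq_map, e, Subgroup.map_bot])
      · rw [eq_bot_iff]
        intro x hx
        rw [Subgroup.mem_bot]
        refine Subtype.ext (Subgroup.mem_bot.mp (h.le ⟨x.2, mem_centralizer_iff.mpr fun y hy => ?_⟩))
        exact congrArg Subtype.val (mem_center_iff.mp hx.2 ⟨y, hy⟩)
    obtain ⟨n, hn⟩ := IsPGroup.iff_card.mp (hRr.to_inf_left (K := centralizer (R : Set (G ⧸ H))))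
    have hd : r ∣ Nat.card (R ⊓ centralizer (R : Set (G ⧸ H)) : Subgroup _) := by
      rw [hn]
      exact dvd_pow_self r (fun h0 => hZ (Subgroup.card_eq_one.mp (by rw [hn, h0, pow_zero])))
    obtain ⟨z, hz⟩ := exists_prime_orderOf_dvd_card' r hd
    intro h
    have hz1 : (z : G ⧸ H) ∈ A := Thompson.mem_omegaOne z.2 (by
      rw [← hz, ← Subgroup.orderOf_coe, pow_orderOf_eq_one])
    rw [h, Subgroup.mem_bot] at hz1
    rw [← Subgroup.orderOf_coe, hz1, orderOf_one] at hz
    exact hr.one_lt.ne hz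
  -- lift to a Sylow subgroup of the preimage
  obtain ⟨n, hn⟩ := IsPGroup.iff_card.mp hHp
  let K := A.comap f
  let Q : Sylow r K := default
  set L := (Q : Subgroup K).map K.subtype with hLdef
  have hLr : IsPGroup r L := Q.isPGroup'.map _
  have hcop : (Nat.card L).Coprime (Nat.card H) := by
    rw [hn]; exact (coprime_of_isPGroup_ne hr hrp hLr).pow_right n
  have hLd : L ⊓ H = ⊥ := Coprime.inf_eq_bot_of_coprime hcop
  have hLA : L.map f ≤ A := map_le_iff_le_comap.mpr (map_subtype_le _)
  have hLeq : L.map f = A := by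
    refine eq_of_le_of_card_ge hLA ?_
    obtain ⟨m, hm⟩ := IsPGroup.iff_card.mp (Thompson.ea_isPGroup hAea)
    have hinj : Nat.card (L.map f) = Nat.card L := by
      exact card_map_of_inf_ker f (by rw [QuotientGroup.ker_mk']; exact hLd)
    rw [hinj, hm, hLdef, card_map_of_injective K.subtype_injective]
    refine Nat.le_of_dvd Nat.card_pos (Q.pow_dvd_card_of_pow_dvd_card ?_)
    rw [← hm, coprime_card_comap']
    exact dvd_mul_left _ _
  refine ⟨r, hr, hrp, L, ?_, hLeq ▸ hAn⟩
  have hLcard : Nat.card L = Nat.card A := by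
    rw [← hLeq, card_map_of_inf_ker f (by rw [QuotientGroup.ker_mk']; exact hLd)]
  obtain ⟨m, hm⟩ := IsPGroup.iff_card.mp hLr
  have hm0 : m ≠ 0 := by
    rintro rfl
    rw [pow_zero] at hm
    exact hA1 (card_eq_one.mp (hLcard ▸ hm))
  rcases eq_or_ne m 1 with rfl | hm1
  · rw [hm, pow_one]
  exfalso
  have hLea : Cfsg.IsElementaryAbelian r L := by
    have hinj : ∀ x ∈ L, f x = 1 → x = 1 := fun x hx h =>
      Subgroup.mem_bot.mp (hLd.le ⟨hx, (QuotientGroup.eq_one_iff x).mp h⟩)
    rw [Thompson.ea_iff]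
    refine ⟨fun x hx => mem_centralizer_iff.mpr fun y hy => ?_, fun x hx => hinj _ (pow_mem hx r) ?_⟩
    · refine (commutatorElement_eq_one_iff_mul_comm.mp (hinj _ ?_ ?_))
      · exact commutator_le_self L (commutator_mem_commutator hy hx)
      · rw [map_commutatorElement, commutatorElement_eq_one_iff_mul_comm]
        exact (Thompson.ea_iff.mp hAea).1 (hLA (mem_map_of_mem f hx)) _ (hLA (mem_map_of_mem f hy))
    · rw [map_pow]
      exact (Thompson.ea_iff.mp hAea).2 _ (hLA (mem_map_of_mem f hx))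
  have := hLea.1
  have hncyc : ¬ IsCyclic L := Coprime.ea_not_isCyclic hLea
    (hm ▸ Nat.pow_le_pow_right hr.pos (show 2 ≤ m by omega))
  have hgen := Coprime.iSup_centralizer_eq hncyc (le_normalizer_of_normal (H := H)) hcop
  refine hH1 (hgen ▸ iSup₂_eq_bot.mpr fun a ha => eq_bot_iff.mpr fun h hh => ?_)
  rw [Subgroup.mem_bot]
  by_contra hh1
  exact ha.2 (eq_one_of_coprime (hiso h hh1 (isPGroup_zpowers hHp hh.1))
    (mem_centralizer_singleton_iff.mpr (mem_centralizer_singleton_iff.mp hh.2).symm)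
    ((coprime_of_isPGroup_ne hr hrp hLr).coprime_dvd_left (orderOf_dvd_natCard _ ha.1)))
where
  coprime_card_comap' {N : Subgroup G} [N.Normal] {B : Subgroup (G ⧸ N)} :
      Nat.card (B.comap (QuotientGroup.mk' N)) = Nat.card N * Nat.card B := by
    have h1 := card_mul_index (B.comap (QuotientGroup.mk' N))
    rw [index_comap_of_surjective B (QuotientGroup.mk'_surjective N), ← card_mul_index N,
      Subgroup.index_eq_card N, ← card_mul_index B] at h1
    refine Nat.eq_of_mul_eq_mul_right (Nat.pos_of_ne_zero B.index_ne_zero_of_finite) ?_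
    rw [h1]; ring


/-- The automorphism group of a group of prime order is abelian. -/
theorem mulAut_comm {A : Type*} [Group A] [IsCyclic A] (a b : MulAut A) : a * b = b * a :=
  (IsCyclic.mulAutMulEquiv A).injective (by rw [map_mul, map_mul, mul_comm])

theorem card_mulAut_prime {A : Type*} [Group A] [Finite A] {r : ℕ} (hr : r.Prime)
    (h : Nat.card A = r) [IsCyclic A] : Nat.card (MulAut A) = r - 1 := by
  rw [IsCyclic.card_mulAut, h, Nat.totient_prime hr]

/-- In a solvable group of odd order with isolated `p` and `O_p ≠ 1`: every elementary abelian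
subgroup of largest order of a Sylow subgroup lies in `O_p`; and if `O_p` is not a Sylow subgroup
then a Sylow subgroup is not contained in the commutator subgroup. -/
theorem local_structure [Group.IsSolvable G] (hodd : Odd (Nat.card G)) (hiso : Isolated p G)
    (hH1 : pCore p G ≠ ⊥) (S : Sylow p G) :
    (∀ E ≤ (S : Subgroup G), Cfsg.IsElementaryAbelian p E →
      (∀ B ≤ (S : Subgroup G), Cfsg.IsElementaryAbelian p B → Nat.card B ≤ Nat.card E) →
        E ≤ pCore p G) ∧
      ((S : Subgroup G) ≠ pCore p G → ¬ (S : Subgroup G) ≤ commutator G) := by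
  set H := pCore p G with hHdef
  have hHp : IsPGroup p H := Core.pCore_isPGroup
  have hHS : H ≤ (S : Subgroup G) := Core.pCore_le_sylow S
  rcases eq_or_ne H ⊤ with htop | hne
  · refine ⟨fun E _ _ _ => htop ▸ le_top, fun h => (h ?_).elim⟩
    exact le_antisymm (htop ▸ le_top) hHS
  obtain ⟨r, hr, hrp, L, hLc, hLn⟩ := exists_prime_section hiso hH1 hne
  have := Fact.mk hr
  let f := QuotientGroup.mk' H
  set A := L.map f with hAdef
  have hLr : IsPGroup r L := IsPGroup.of_card (n := 1) (by rw [hLc, pow_one])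
  have hL1 : L ≠ ⊥ := fun e => hr.one_lt.ne (by rw [← hLc, e, card_bot])
  have hLd : L ⊓ H = ⊥ := by
    obtain ⟨n, hn⟩ := IsPGroup.iff_card.mp hHp
    exact Coprime.inf_eq_bot_of_coprime (hn ▸ (coprime_of_isPGroup_ne hr hrp hLr).pow_right n)
  have hAc : Nat.card A = r := by
    rw [hAdef, card_map_of_inf_ker f (by rw [QuotientGroup.ker_mk']; exact hLd), hLc]
  have hAcyc : IsCyclic A := isCyclic_of_prime_card hAc
  let φ : G →* MulAut A := (MulAut.conjNormal (H := A)).comp f
  have hker : ∀ g, φ g = 1 → f g ∈ centralizer (A : Set (G ⧸ H)) := by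
    intro g hg
    rw [mem_centralizer_iff]
    intro a ha
    have h1 : ((MulAut.conjNormal (f g) ⟨a, ha⟩ : A) : G ⧸ H) = a := by
      rw [show (MulAut.conjNormal (f g) : MulAut A) = φ g from rfl, hg]; rfl
    rw [MulAut.conjNormal_apply] at h1
    exact (mul_inv_eq_iff_eq_mul.mp h1).symm
  have hinj : ∀ g ∈ (S : Subgroup G), φ g = 1 → g ∈ H := fun g hg h => by
    by_contra hgH
    exact not_commute_lift hiso hHp hr hrp hLr hL1 (isPGroup_zpowers S.isPGroup' hg) hgH
      (hker g h)
  have hcomm : commutator G ≤ φ.ker := by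
    rw [commutator_def, commutator_le]
    intro a _ b _
    rw [MonoidHom.mem_ker, map_commutatorElement, commutatorElement_eq_one_iff_mul_comm]
    exact mulAut_comm _ _
  refine ⟨fun E hES hE hEmax => ?_, fun hSH hle => ?_⟩
  swap
  · exact hSH (le_antisymm (fun g hg => hinj g hg (hcomm (hle hg))) hHS)
  by_contra hEH
  obtain ⟨t, htE, htH⟩ := SetLike.not_le_iff_exists.mp hEH
  -- `r` is large
  have hbig : 2 * p + 1 ≤ r := by
    have hord : orderOf (φ t) ∣ Nat.card (MulAut A) := orderOf_dvd_natCard _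
    have hφp : orderOf (φ t) = p := orderOf_eq_prime (by rw [← map_pow, hE.2 t htE, map_one])
      (fun h => htH (hinj t (hES htE) h))
    rw [hφp, card_mulAut_prime hr hAc] at hord
    obtain ⟨k, hk⟩ := hord
    have hr2 : Odd r := hodd.of_dvd_nat (hLc ▸ card_subgroup_dvd_card L)
    have hpo : Odd p := hodd.of_dvd_nat (by
      rw [← orderOf_eq_prime (hE.2 t htE) (fun e => htH (e ▸ one_mem H))]
      exact orderOf_dvd_natCard t)
    have hk0 : k ≠ 0 := by rintro rfl; have := hr.two_le; omega
    have hkeven : Even k := by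
      have : Even (r - 1) := Nat.Odd.sub_odd hr2 odd_one
      rw [hk, Nat.even_mul] at this
      exact this.resolve_left (Nat.not_even_iff_odd.mpr hpo)
    obtain ⟨j, rfl⟩ := hkeven
    have : p * 1 ≤ p * j := Nat.mul_le_mul_left p (by omega)
    rw [mul_add] at hk
    omega
  -- the module
  set V := Cfsg.omegaOne p (H ⊓ centralizer (H : Set G)) with hVdef
  have hVn : V.Normal := Thompson.omegaCenter_normal H
  have hVea : Cfsg.IsElementaryAbelian p V := Thompson.omegaOne_centre_ea p H
  have hVH : V ≤ H := (Thompson.omegaOne_le p _).trans inf_le_left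
  have hVC : V ≤ centralizer (H : Set G) := (Thompson.omegaOne_le p _).trans inf_le_right
  have hV1 : V ≠ ⊥ := by
    intro h
    have hZ : H ⊓ centralizer (H : Set G) ≠ ⊥ := by
      intro hb
      refine Fusion.pGroup_inf_center_ne_bot hHp ⊤ (fun e => ?_) (eq_bot_iff.mpr fun x hx => ?_)
      · exact hH1 (by rw [← range_subtype H, MonoidHom.range_eq_map, e, Subgroup.map_bot])
      · refine Subgroup.mem_bot.mpr (Subtype.ext (Subgroup.mem_bot.mp
          (hb.le ⟨x.2, mem_centralizer_iff.mpr fun y hy => ?_⟩)))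
        exact congrArg Subtype.val (mem_center_iff.mp hx.2 ⟨y, hy⟩)
    obtain ⟨n, hn⟩ := IsPGroup.iff_card.mp (hHp.to_inf_left (K := centralizer (H : Set G)))
    have hd : p ∣ Nat.card (H ⊓ centralizer (H : Set G) : Subgroup _) := by
      rw [hn]
      exact dvd_pow_self p (fun h0 => hZ (Subgroup.card_eq_one.mp (by rw [hn, h0, pow_zero])))
    obtain ⟨z, hz⟩ := exists_prime_orderOf_dvd_card' p hd
    have hz1 : (z : G) ∈ V := Thompson.mem_omegaOne z.2 (by
      rw [← hz, ← Subgroup.orderOf_coe, pow_orderOf_eq_one])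
    rw [h, Subgroup.mem_bot] at hz1
    rw [← Subgroup.orderOf_coe, hz1, orderOf_one] at hz
    exact hp.out.one_lt.ne hz
  -- elements of `L` act without fixed points
  have hfpf : ∀ a ∈ L, a ≠ 1 → ∀ v ∈ V, a * v = v * a → v = 1 := by
    intro a ha ha1 v hv hcomm'
    by_contra hv1
    exact ha1 (eq_one_of_coprime (hiso v hv1 (isPGroup_zpowers hHp (hVH hv)))
      (mem_centralizer_singleton_iff.mpr hcomm')
      ((coprime_of_isPGroup_ne hr hrp hLr).coprime_dvd_left (orderOf_dvd_natCard _ ha)))
  set C := V ⊓ centralizer ({t} : Set G) with hCdef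
  obtain ⟨a, ha, ha1⟩ := (bot_or_exists_ne_one L).resolve_left hL1
  set C' := C.map (MulAut.conj a).toMonoidHom with hC'def
  have hCV : C' ≤ V := by
    rintro _ ⟨c, hc, rfl⟩
    exact hVn.conj_mem c hc.1 a
  have hdisj : C ⊓ C' = ⊥ := by
    rw [eq_bot_iff]
    rintro v ⟨hv, hv'⟩
    obtain ⟨c, hc, hcv⟩ := hv'
    simp only [MulEquiv.coe_toMonoidHom, MulAut.conj_apply] at hcv
    have h1 : Commute t v := (mem_centralizer_singleton_iff.mp hv.2).symm
    have h2 : Commute (a * t * a⁻¹) v := by
      rw [← hcv, Commute, SemiconjBy]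
      have h3 : t * c = c * t := (mem_centralizer_singleton_iff.mp hc.2).symm
      calc a * t * a⁻¹ * (a * c * a⁻¹) = a * (t * c) * a⁻¹ := by group
        _ = a * (c * t) * a⁻¹ := by rw [h3]
        _ = a * c * a⁻¹ * (a * t * a⁻¹) := by group
    have h4 : Commute (a * t * a⁻¹ * t⁻¹) v := h2.mul_left h1.inv_left
    -- the commutator is a nontrivial element of `L` modulo `H`
    have hA' : f (a * t * a⁻¹ * t⁻¹) ∈ A := by
      have : f (a * t * a⁻¹ * t⁻¹) = f a * (f t * (f a)⁻¹ * (f t)⁻¹) := by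
        simp only [map_mul, map_inv, mul_assoc]
      rw [this]
      exact mul_mem (mem_map_of_mem f ha)
        (hLn.conj_mem _ (inv_mem (mem_map_of_mem f ha)) (f t))
    obtain ⟨l, hl, hlf⟩ := hA'
    have hne1 : l ≠ 1 := by
      rintro rfl
      refine htH (hinj t (hES htE) (MulEquiv.ext fun x => Subtype.ext ?_))
      rw [map_one, eq_comm, map_mul, map_mul, map_mul, map_inv, map_inv,
        mul_inv_eq_one, mul_inv_eq_iff_eq_mul] at hlf
      obtain ⟨k, hk⟩ : (x : G ⧸ H) ∈ zpowers (f a) := by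
        have hord : orderOf (f a) = r := by
          have hd := orderOf_dvd_natCard _ (mem_map_of_mem f ha : f a ∈ A)
          rw [hAc] at hd
          refine ((Nat.dvd_prime hr).mp hd).resolve_left fun h => ha1 ?_
          exact Subgroup.mem_bot.mp (hLd.le ⟨ha, (QuotientGroup.eq_one_iff a).mp
            (orderOf_eq_one_iff.mp h)⟩)
        rw [show zpowers (f a) = A from eq_of_le_of_card_ge (zpowers_le.mpr (mem_map_of_mem f ha))
          (by rw [hAc, Nat.card_zpowers, hord])]
        exact x.2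
      have hfc : Commute (f t) (x : G ⧸ H) := by
        rw [← hk]
        exact (show Commute (f t) (f a) from hlf.symm).zpow_right k
      show ((MulAut.conjNormal (f t) x : A) : G ⧸ H) = x
      rw [MulAut.conjNormal_apply, hfc.eq, mul_inv_cancel_right]
    have hlh : l⁻¹ * (a * t * a⁻¹ * t⁻¹) ∈ H := (QuotientGroup.eq_one_iff _).mp
      (show f (l⁻¹ * (a * t * a⁻¹ * t⁻¹)) = 1 by rw [map_mul, map_inv, hlf, inv_mul_cancel])
    have h5 : Commute (l⁻¹ * (a * t * a⁻¹ * t⁻¹)) v :=
      mem_centralizer_iff.mp (hVC hv.1) _ hlh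
    have h6 : Commute l v := by
      have := h4.mul_left h5.inv_left
      rwa [show a * t * a⁻¹ * t⁻¹ * (l⁻¹ * (a * t * a⁻¹ * t⁻¹))⁻¹ = l by group] at this
    exact Subgroup.mem_bot.mpr (hfpf l hl hne1 v hv.1 h6)
  have hCC : Nat.card C * Nat.card C ≤ Nat.card V := by
    have h1 : Nat.card C' = Nat.card C :=
      card_map_of_injective (MulAut.conj a).injective
    conv_lhs => arg 2; rw [← h1]
    rw [← Nat.card_prod]
    refine Nat.card_le_card_of_injective
      (fun x : C × C' => (⟨(x.1 : G) * x.2, mul_mem x.1.2.1 (hCV x.2.2)⟩ : V)) ?_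
    rintro ⟨⟨x, hx⟩, ⟨y, hy⟩⟩ ⟨⟨x', hx'⟩, ⟨y', hy'⟩⟩ h
    have h' : x * y = x' * y' := congrArg Subtype.val h
    have hm : x'⁻¹ * x ∈ C ⊓ C' := by
      refine ⟨mul_mem (Subgroup.inv_mem C hx') hx, ?_⟩
      rw [show x'⁻¹ * x = y' * y⁻¹ from by
        rw [eq_mul_inv_iff_mul_eq, mul_assoc, h', inv_mul_cancel_left]]
      exact mul_mem hy' (Subgroup.inv_mem C' hy)
    rw [hdisj, Subgroup.mem_bot, inv_mul_eq_one] at hm
    subst hm
    exact Prod.ext rfl (Subtype.ext (mul_left_cancel h'))
  obtain ⟨m, hm⟩ := IsPGroup.iff_card.mp (Thompson.ea_isPGroup hVea)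
  obtain ⟨k, hk⟩ := IsPGroup.iff_card.mp ((Thompson.ea_isPGroup hVea).to_inf_left
    (K := centralizer ({t} : Set G)))
  have hm3 : 3 ≤ m := by
    by_contra! hlt
    have hm0 : m ≠ 0 := fun h => hV1 (card_eq_one.mp (by rw [hm, h, pow_zero]))
    have hact : r ∣ p ^ m - 1 := by
      have := card_modEq_fixed_one (r := r) hLr hVn (fun v hv hfix => hfpf a ha ha1 v hv (hfix a ha))
      rw [hm] at this
      exact (Nat.modEq_iff_dvd' (Nat.one_le_pow _ _ hp.out.pos)).mp this.symm
    have hp2 := hp.out.two_le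
    interval_cases m
    · exact absurd rfl hm0
    · rw [pow_one] at hact
      exact absurd (Nat.le_of_dvd (by omega) hact) (by omega)
    · rw [show p ^ 2 - 1 = (p + 1) * (p - 1) by rw [← Nat.sq_sub_sq, one_pow]] at hact
      rcases hr.dvd_mul.mp hact with h | h <;>
        exact absurd (Nat.le_of_dvd (by omega) h) (by omega)
  have hkm : k + 2 ≤ m := by
    have : p ^ (k + k) ≤ p ^ m := by
      rw [pow_add, ← hk, ← hm]; exact hCC
    have := (Nat.pow_le_pow_iff_right hp.out.one_lt).mp this
    omega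
  -- replace `E`
  set D := E ⊓ H with hDdef
  have hDV : Cfsg.IsElementaryAbelian p (D ⊔ V) := Thompson.ea_sup (Thompson.ea_mono hE inf_le_left)
    hVea (le_centralizer_iff.mp (hVC.trans (centralizer_le inf_le_right)))
  have h1 := hEmax (D ⊔ V) (sup_le (inf_le_left.trans hES) (hVH.trans hHS)) hDV
  have h2 := Core.card_sup_mul_card_inf D V
  have h3 : Nat.card (D ⊓ V : Subgroup G) ≤ p ^ k := by
    rw [← hk]
    refine card_le_of_le (le_inf inf_le_right fun x hx => ?_)
    exact mem_centralizer_singleton_iff.mpr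
      (mem_centralizer_iff.mp ((Thompson.ea_iff.mp hE).1 hx.1.1) t htE).symm
  have h4 : Nat.card E ≤ Nat.card D * p := by
    let ψ : E →* MulAut A := φ.comp E.subtype
    have hk' : ψ.ker = D.subgroupOf E := by
      ext x
      refine ⟨fun hx => ⟨x.2, hinj x (hES x.2) hx⟩, fun hx => ?_⟩
      show (MulAut.conjNormal (f (x : G)) : MulAut A) = 1
      rw [show f (x : G) = 1 from (QuotientGroup.eq_one_iff _).mpr hx.2, map_one]
    have hrng : Nat.card ψ.range ≤ p := by
      have : IsCyclic (MulAut A) :=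
        (IsCyclic.mulAutMulEquiv A).isCyclic.mpr (by rw [hAc]; infer_instance)
      obtain ⟨⟨g, e, rfl⟩, hg⟩ := (inferInstance : IsCyclic ψ.range).exists_generator
      rw [← orderOf_eq_card_of_forall_mem_zpowers hg]
      exact orderOf_le_of_pow_eq_one hp.out.pos (Subtype.ext (by
        show ψ e ^ p = 1
        rw [← map_pow, show e ^ p = 1 from Subtype.ext (hE.2 e e.2), map_one]))
    rw [← card_mul_index ψ.ker, index_ker, hk',
      Nat.card_congr (subgroupOfEquivOfLe (inf_le_left : D ≤ E)).toEquiv]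
    exact Nat.mul_le_mul_left _ hrng
  have h5 : Nat.card D * p ^ (k + 2) ≤ Nat.card D * p ^ m :=
    Nat.mul_le_mul_left _ (Nat.pow_le_pow_right hp.out.pos hkm)
  have h6 : Nat.card (D ⊔ V : Subgroup G) * Nat.card (D ⊓ V : Subgroup G) ≤
      Nat.card D * p * p ^ k := Nat.mul_le_mul (h1.trans h4) h3
  rw [h2, hm] at h6
  have hD0 : 0 < Nat.card D := Nat.card_pos
  have := hp.out.two_le
  have hpk : 0 < p ^ k := pow_pos hp.out.pos k
  rw [pow_add, pow_two] at h5
  have h7 : p * (Nat.card D * p * p ^ k) ≤ 1 * (Nat.card D * p * p ^ k) := by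
    calc p * (Nat.card D * p * p ^ k) = Nat.card D * (p ^ k * (p * p)) := by ring
      _ ≤ Nat.card D * p ^ m := h5
      _ ≤ 1 * (Nat.card D * p * p ^ k) := by rw [one_mul]; exact h6
  have := Nat.le_of_mul_le_mul_right h7 (by positivity)
  omega

end Local

end Cfsg.Agent.OddLocal.CN
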