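import Cfsg.Agent.OddLocal.CNLocal
import Cfsg.Agent.LocalStructure.OmegaAction
import Cfsg.Agent.Fusion.Alperin
import Cfsg.Agent.Fusion.Transfer
import Cfsg.Agent.Char.Frobenius
import Cfsg.Agent.Coherence.FeitFinal

/-!
There is no simple CN-group of odd order all of whose proper subgroups are solvable.
-/

set_option autoImplicit false

namespace Cfsg.Agent.OddLocal.CN

open Subgroup

universe u

variable {G : Type u} [Group G] [Finite G] {p : ℕ} [hp : Fact p.Prime]

/-- The standing hypotheses. -/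
structure Setting (G : Type u) [Group G] : Prop where
  odd : Odd (Nat.card G)
  simple : IsSimpleGroup G
  nonabelian : ¬ IsMulCommutative G
  solvable : ∀ H : Subgroup G, H ≠ ⊤ → Group.IsSolvable H
  cn : Cfsg.IsCNGroup G

theorem Setting.perfect (hG : Setting G) : commutator G = ⊤ := by
  have := hG.simple
  refine ((inferInstance : (commutator G).Normal).eq_bot_or_eq_top).resolve_left fun h => ?_
  rw [commutator_def, commutator_eq_bot_iff_le_centralizer] at h
  exact hG.nonabelian ⟨⟨fun a b => mem_centralizer_iff.mp (h (mem_top b)) a (mem_top a)⟩⟩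

theorem Setting.not_isNilpotent (hG : Setting G) : ¬ Group.IsNilpotent G := fun h => by
  have := hG.simple
  have hsol : Group.IsSolvable G := inferInstance
  exact hG.nonabelian ⟨⟨fun a b => IsSimpleGroup.comm_iff_isSolvable.mpr hsol a b⟩⟩

theorem Setting.normalizer_ne_top (hG : Setting G) {D : Subgroup G} (hD1 : D ≠ ⊥) (hD : D ≠ ⊤) :
    normalizer (D : Set G) ≠ ⊤ := fun h => by
  have := hG.simple
  rcases (normalizer_eq_top_iff.mp h).eq_bot_or_eq_top with e | e
  · exact hD1 e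
  · exact hD e

theorem Setting.pgroup_ne_top (hG : Setting G) {D : Subgroup G} (hD : IsPGroup p D) : D ≠ ⊤ := by
  rintro rfl
  exact hG.not_isNilpotent ((hD.of_equiv Subgroup.topEquiv).isNilpotent)

/-! ### The Thompson subgroup of a Sylow subgroup of a `p`-local -/

theorem thompson_ne_bot {S : Subgroup G} (hS : IsPGroup p S) (hS1 : S ≠ ⊥) :
    Cfsg.thompsonSubgroupOf p S ≠ ⊥ := by
  intro h
  obtain ⟨A, hA⟩ := Thompson.exists_maxEA p S
  obtain ⟨n, hn⟩ := IsPGroup.iff_card.mp hS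
  obtain ⟨x, hx⟩ := exists_prime_orderOf_dvd_card' (G := S) p (by
    rw [hn]; exact dvd_pow_self p fun h0 => hS1 (card_eq_one.mp (by rw [hn, h0, pow_zero])))
  have hle := hA.2 (zpowers x) (Thompson.ea_zpowers (by rw [← hx, pow_orderOf_eq_one]))
  have hA1 : A = ⊥ := Subgroup.map_injective S.subtype_injective (by
    rw [Subgroup.map_bot, eq_bot_iff, ← h]
    exact map_mono (Thompson.le_thompson hA))
  rw [hA1, card_bot, Nat.card_zpowers, hx] at hle
  exact absurd hle (not_le.mpr hp.out.one_lt)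

theorem thompsonOf_normal_of_local {M : Type u} [Group M] [Finite M] [Group.IsSolvable M]
    (hodd : Odd (Nat.card M)) (hiso : Isolated p M) (hH1 : pCore p M ≠ ⊥) (S : Sylow p M) :
    (Cfsg.thompsonSubgroupOf p (S : Subgroup M)).Normal := by
  obtain ⟨h1, -⟩ := local_structure hodd hiso hH1 S
  have hHS := Core.pCore_le_sylow (p := p) S
  have key : Cfsg.thompsonSubgroupOf p (S : Subgroup M) =
      Cfsg.thompsonSubgroupOf p (pCore p M) := by
    refine le_antisymm (Thompson.thompsonOf_le_iff.mpr fun A hA hea hmax =>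
      Thompson.le_thompsonOf (h1 A hA hea hmax) hea fun B hB hBe => hmax B (hB.trans hHS) hBe)
      (Thompson.thompsonOf_le_iff.mpr fun A hA hea hmax =>
        Thompson.le_thompsonOf (hA.trans hHS) hea fun B hB hBe => ?_)
    obtain ⟨B₀, ⟨hB₀S, hB₀e⟩, hB₀max⟩ := Set.exists_max_image
      {B : Subgroup M | B ≤ (S : Subgroup M) ∧ Cfsg.IsElementaryAbelian p B}
      (fun B => Nat.card B) (Set.toFinite _) ⟨B, hB, hBe⟩
    have := h1 B₀ hB₀S hB₀e fun C hC hCe => hB₀max C ⟨hC, hCe⟩
    exact (hB₀max B ⟨hB, hBe⟩).trans (hmax B₀ this hB₀e)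
  rw [key, ← normalizer_eq_top_iff, eq_top_iff]
  exact LocalStructure.le_normalizer_map_characteristic
    (by rw [normalizer_eq_top]) (Cfsg.thompsonSubgroup p (pCore p M))

/-- The `p`-local `N(D)` normalises the Thompson subgroup of each of its Sylow subgroups. -/
theorem normalizer_le_thompson (hG : Setting G) (hiso : Isolated p G) {D S : Subgroup G}
    (hD : IsPGroup p D) (hD1 : D ≠ ⊥) (hS : IsPGroup p S) (hSN : S ≤ normalizer (D : Set G))
    (hSy : ¬ p ∣ S.relIndex (normalizer (D : Set G))) :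
    normalizer (D : Set G) ≤ normalizer (Cfsg.thompsonSubgroupOf p S : Set G) := by
  set N := normalizer (D : Set G) with hN
  have hNs : Group.IsSolvable N := hG.solvable N (hG.normalizer_ne_top hD1 (hG.pgroup_ne_top hD))
  let S' : Sylow p N := ((hS.comap_subtype (K := N))).toSylow hSy
  have hcore : pCore p N ≠ ⊥ := by
    intro h
    have : (D.subgroupOf N).Normal := normal_in_normalizer
    have hle : D.subgroupOf N ≤ pCore p N := Core.le_pCore hD.comap_subtype
    rw [h, le_bot_iff, subgroupOf_eq_bot, disjoint_iff, inf_eq_left.mpr le_normalizer] at hle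
    exact hD1 hle
  have hn := thompsonOf_normal_of_local (hG.odd.of_dvd_nat (card_subgroup_dvd_card N))
    (hiso.subgroup N) hcore S'
  have hmap : (Cfsg.thompsonSubgroupOf p (S' : Subgroup N)).map N.subtype =
      Cfsg.thompsonSubgroupOf p S := by
    rw [Thompson.thompsonOf_map_of_injective N.subtype_injective,
      show (S' : Subgroup N) = S.subgroupOf N from rfl, subgroupOf_map_subtype,
      inf_of_le_left hSN]
  rw [← hmap]
  calc N = (normalizer (Cfsg.thompsonSubgroupOf p (S' : Subgroup N) : Set N)).map N.subtype := by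
        rw [normalizer_eq_top_iff.mpr hn, ← MonoidHom.range_eq_map, range_subtype]
    _ ≤ _ := le_normalizer_map _

/-! ### Fusion -/

theorem fusion_of_chain {P : Sylow p G} {M : Subgroup G} (C : Subgroup G → Prop)
    (hconj : ∀ R g, C R → C (Fusion.conjSub g R))
    (hstep : ∀ (Q : Sylow p G) (R : Subgroup G), C R →
      R ≤ (P : Subgroup G) ⊓ (Q : Subgroup G) → Fusion.IsTame P Q →
      ∀ g ∈ normalizer (((P : Subgroup G) ⊓ (Q : Subgroup G) : Subgroup G) : Set G), ∀ y ∈ R,
        g⁻¹ * y * g ∈ P → ∃ t ∈ M, t⁻¹ * y * t = g⁻¹ * y * g)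
    {A : Set G} {g : G} (h : Fusion.AlperinChain P A g) :
    ∀ R : Subgroup G, C R → (R : Set G) = A → ∀ y ∈ R, ∃ t ∈ M, t⁻¹ * y * t = g⁻¹ * y * g := by
  induction h with
  | nil A => exact fun R _ _ y _ => ⟨1, one_mem _, rfl⟩
  | @cons A g x Q hA hx hQ _ ih =>
    intro R hR hRA y hy
    have hRle : R ≤ (P : Subgroup G) ⊓ (Q : Subgroup G) := fun z hz => hA (hRA ▸ hz)
    have hyP : x⁻¹ * y * x ∈ (P : Subgroup G) ⊓ (Q : Subgroup G) :=
      (mem_normalizer_iff''.mp hx y).mp (hRle hy)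
    obtain ⟨t, ht, hte⟩ := hstep Q R hR hRle hQ x hx y hy hyP.1
    obtain ⟨s, hs, hse⟩ := ih (Fusion.conjSub x R) (hconj R x hR)
      (by rw [Fusion.coe_conjSub, hRA]) (x⁻¹ * y * x)
      (Fusion.mem_conjSub.mpr (by simpa [mul_assoc] using hy))
    refine ⟨t * s, mul_mem ht hs, ?_⟩
    calc (t * s)⁻¹ * y * (t * s) = s⁻¹ * (t⁻¹ * y * t) * s := by group
      _ = g⁻¹ * (x⁻¹ * y * x) * g := by rw [hte, hse]
      _ = (x * g)⁻¹ * y * (x * g) := by group

theorem isTame_left {P Q : Sylow p G} (h : Fusion.IsTame P Q) :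
    ¬ p ∣ ((P : Subgroup G) ⊓ normalizer (((P : Subgroup G) ⊓ (Q : Subgroup G) : Subgroup G) :
      Set G)).relIndex (normalizer (((P : Subgroup G) ⊓ (Q : Subgroup G) : Subgroup G) : Set G)) :=
  h.1

/-- Fusion inside a normaliser of a well placed subgroup happens in `N(J(P))`. -/
theorem fusion_local (hG : Setting G) (hiso : Isolated p G) (P : Sylow p G) :
    ∀ k : ℕ, ∀ D : Subgroup G, D ≤ (P : Subgroup G) → D ≠ ⊥ →
      ¬ p ∣ ((P : Subgroup G) ⊓ normalizer (D : Set G)).relIndex (normalizer (D : Set G)) →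
      Nat.card P ≤ k + Nat.card ((P : Subgroup G) ⊓ normalizer (D : Set G) : Subgroup G) →
      ∀ x ∈ (P : Subgroup G) ⊓ normalizer (D : Set G), ∀ g ∈ normalizer (D : Set G),
        g⁻¹ * x * g ∈ P → ∃ t ∈ normalizer (Cfsg.thompsonSubgroupOf p (P : Subgroup G) : Set G),
          t⁻¹ * x * t = g⁻¹ * x * g := by
  intro k
  induction k using Nat.strong_induction_on with
  | _ k IH =>
  intro D hDP hD1 hSy hk x hx g hg hgx
  set M := normalizer (Cfsg.thompsonSubgroupOf p (P : Subgroup G) : Set G) with hM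
  set S := (P : Subgroup G) ⊓ normalizer (D : Set G) with hS
  have hSp : IsPGroup p S := P.2.to_inf_left
  have hDS : D ≤ S := le_inf hDP le_normalizer
  set W := Cfsg.thompsonSubgroupOf p S with hW
  have hNW := normalizer_le_thompson hG hiso (P.2.to_le hDP) hD1 hSp inf_le_right hSy
  rcases (inf_le_left : S ≤ (P : Subgroup G)).eq_or_lt with heq | hlt
  · refine ⟨g, ?_, rfl⟩
    have := hNW hg
    rwa [show S = (P : Subgroup G) from heq] at this
  have hW1 : W ≠ ⊥ := thompson_ne_bot hSp fun h => hD1 (le_bot_iff.mp (h ▸ hDS))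
  have hWS : W ≤ S := Thompson.thompsonOf_le p S
  have hWp : IsPGroup p W := hSp.to_le hWS
  set NW := normalizer (W : Set G) with hNWdef
  set R := (P : Subgroup G) ⊓ NW with hR
  have hSR : Nat.card S < Nat.card R := by
    have h1 : S < (P : Subgroup G) ⊓ normalizer (S : Set G) :=
      Fusion.lt_inf_normalizer_of_isPGroup P.2 hlt
    have h2 : (P : Subgroup G) ⊓ normalizer (S : Set G) ≤ R :=
      inf_le_inf_left _ (LocalStructure.le_normalizer_map_characteristic le_rfl
        (Cfsg.thompsonSubgroup p S))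
    exact Nat.lt_of_le_of_ne (card_le_of_le (h1.le.trans h2)) fun e =>
      h1.ne (le_antisymm h1.le (h2.trans (eq_of_le_of_card_ge (h1.le.trans h2) e.ge).ge))
  have hxR : x ∈ R := ⟨hx.1, hNW hx.2⟩
  have hyR : g⁻¹ * x * g ∈ R :=
    ⟨hgx, hNW (mul_mem (mul_mem (inv_mem hg) hx.2) hg)⟩
  -- move `W` to a well placed conjugate
  obtain ⟨T, hT⟩ := ((P.2.to_inf_left (K := NW)).comap_subtype (K := NW)).exists_le_sylow
  set T' := (T : Subgroup NW).map NW.subtype with hT'
  have hRT : R ≤ T' := fun z hz => ⟨⟨z, hz.2⟩, hT (show z ∈ R from hz), rfl⟩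
  obtain ⟨U, hU⟩ := (T.2.map NW.subtype).exists_le_sylow
  obtain ⟨h, hh⟩ := MulAction.exists_smul_eq G P U
  have hTh : Fusion.conjSub h T' ≤ (P : Subgroup G) := by
    intro z hz
    have h1 := hU (Fusion.mem_conjSub.mp hz)
    rw [← hh] at h1
    obtain ⟨y, hy, hyz⟩ := h1
    simp at hyz
    rwa [← hyz]
  have hRh : Fusion.conjSub h R ≤ (P : Subgroup G) := (Fusion.conjSub_mono hRT).trans hTh
  set W' := Fusion.conjSub h W with hW'
  have hWR : W ≤ R := le_inf (hWS.trans inf_le_left) le_normalizer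
  have hW'P : W' ≤ (P : Subgroup G) := (Fusion.conjSub_mono hWR).trans hRh
  have hW'1 : W' ≠ ⊥ := fun e => hW1 (card_eq_one.mp (by
    rw [← Fusion.card_conjSub h W, ← hW', e, card_bot]))
  have hNW' : normalizer (W' : Set G) = Fusion.conjSub h NW := (Fusion.conjSub_normalizer h W).symm
  have hW'Sy : ¬ p ∣ ((P : Subgroup G) ⊓ normalizer (W' : Set G)).relIndex
      (normalizer (W' : Set G)) := by
    intro hd
    have hle : Fusion.conjSub h T' ≤ (P : Subgroup G) ⊓ normalizer (W' : Set G) :=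
      le_inf hTh (hNW' ▸ Fusion.conjSub_mono (map_subtype_le _))
    have hd2 := hd.trans (relIndex_dvd_of_le_left _ hle)
    rw [hNW', Fusion.conjSub, Fusion.conjSub,
      relIndex_map_map_of_injective _ _ (MulAut.conj h⁻¹).injective, hT', relIndex, subgroupOf,
      comap_map_eq_self_of_injective NW.subtype_injective] at hd2
    exact T.not_dvd_index hd2
  have hRW' : Fusion.conjSub h R ≤ (P : Subgroup G) ⊓ normalizer (W' : Set G) :=
    le_inf hRh (hNW' ▸ Fusion.conjSub_mono inf_le_right)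
  have hbig : Nat.card R ≤ Nat.card ((P : Subgroup G) ⊓ normalizer (W' : Set G) : Subgroup G) :=
    (Fusion.card_conjSub h R).ge.trans (card_le_of_le hRW')
  -- conjugation by `h` is done in `M`
  have hchain : Fusion.AlperinChain P (R : Set G) h :=
    Fusion.alperinChain_of_subset P (fun z hz => hz.1)
      (by rw [← Fusion.coe_conjSub]; exact fun z hz => hRh hz)
  have hmove : ∀ y ∈ R, ∃ t ∈ M, t⁻¹ * y * t = h⁻¹ * y * h := by
    refine fusion_of_chain (fun R' => Nat.card R ≤ Nat.card R')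
      (fun R' u hu => hu.trans (Fusion.card_conjSub u R').ge) ?_ hchain R le_rfl rfl
    intro Q R' hR' hle hQ u hu y hy huy
    have hDR : R' ≤ (P : Subgroup G) ⊓
        normalizer (((P : Subgroup G) ⊓ (Q : Subgroup G) : Subgroup G) : Set G) :=
      le_inf (hle.trans inf_le_left) (hle.trans le_normalizer)
    have hcard := card_le_of_le hDR
    refine IH (Nat.card P - Nat.card ((P : Subgroup G) ⊓
      normalizer (((P : Subgroup G) ⊓ (Q : Subgroup G) : Subgroup G) : Set G) : Subgroup G)) ?_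
      _ inf_le_left ?_ hQ.1 (by omega) y (hDR hy) u hu huy
    · have := card_le_of_le (inf_le_left : (P : Subgroup G) ⊓
        normalizer (((P : Subgroup G) ⊓ (Q : Subgroup G) : Subgroup G) : Set G) ≤ P)
      omega
    · intro e
      have h0 := card_le_of_le hle
      rw [e, card_bot] at h0
      have := Nat.card_pos (α := S)
      omega
  obtain ⟨t₁, ht₁, he₁⟩ := hmove x hxR
  obtain ⟨t₂, ht₂, he₂⟩ := hmove _ hyR
  have hgW : g ∈ NW := hNW hg
  have hg' : h⁻¹ * g * h ∈ normalizer (W' : Set G) := by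
    rw [hNW', Fusion.mem_conjSub]
    simpa [mul_assoc] using hgW
  have hx' : h⁻¹ * x * h ∈ (P : Subgroup G) ⊓ normalizer (W' : Set G) :=
    hRW' (Fusion.mem_conjSub.mpr (by simpa [mul_assoc] using hxR))
  have hy' : (h⁻¹ * g * h)⁻¹ * (h⁻¹ * x * h) * (h⁻¹ * g * h) ∈ P := by
    have : (h⁻¹ * g * h)⁻¹ * (h⁻¹ * x * h) * (h⁻¹ * g * h) = h⁻¹ * (g⁻¹ * x * g) * h := by group
    rw [this]
    exact hRh (Fusion.mem_conjSub.mpr (by simpa [mul_assoc] using hyR))
  obtain ⟨t₃, ht₃, he₃⟩ := IH (Nat.card P -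
    Nat.card ((P : Subgroup G) ⊓ normalizer (W' : Set G) : Subgroup G)) (by
      have := card_le_of_le (inf_le_left : (P : Subgroup G) ⊓ normalizer (W' : Set G) ≤ P)
      omega) W' hW'P hW'1 hW'Sy (by omega) _ hx' _ hg' hy'
  refine ⟨t₁ * t₃ * t₂⁻¹, mul_mem (mul_mem ht₁ ht₃) (inv_mem ht₂), ?_⟩
  calc (t₁ * t₃ * t₂⁻¹)⁻¹ * x * (t₁ * t₃ * t₂⁻¹)
      = t₂ * (t₃⁻¹ * (t₁⁻¹ * x * t₁) * t₃) * t₂⁻¹ := by group
    _ = t₂ * ((h⁻¹ * g * h)⁻¹ * (h⁻¹ * x * h) * (h⁻¹ * g * h)) * t₂⁻¹ := by rw [he₁, he₃]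
    _ = t₂ * (h⁻¹ * (g⁻¹ * x * g) * h) * t₂⁻¹ := by group
    _ = t₂ * (t₂⁻¹ * (g⁻¹ * x * g) * t₂) * t₂⁻¹ := by rw [he₂]
    _ = g⁻¹ * x * g := by group

/-- `N(J(P))` controls fusion in `P`. -/
theorem fusion_control (hG : Setting G) (hiso : Isolated p G) (P : Sylow p G) :
    ∀ x ∈ P, ∀ g : G, g * x * g⁻¹ ∈ P →
      ∃ t ∈ normalizer (Cfsg.thompsonSubgroupOf p (P : Subgroup G) : Set G),
        t * x * t⁻¹ = g * x * g⁻¹ := by
  intro x hx g hgx
  rcases eq_or_ne x 1 with rfl | hx1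
  · exact ⟨1, one_mem _, by simp⟩
  have hchain : Fusion.AlperinChain P (zpowers x : Set G) g⁻¹ :=
    Fusion.alperinChain_of_subset P (zpowers_le.mpr hx) (by
      rw [← Fusion.coe_conjSub]
      intro z hz
      refine (Fusion.conjSub_le_iff.mpr (zpowers_le.mpr ?_)) hz
      rw [Fusion.mem_conjSub]
      have h' : g * x * g⁻¹ ∈ (P : Subgroup G) := hgx
      simpa [mul_assoc] using h')
  obtain ⟨t, ht, hte⟩ := fusion_of_chain (fun R => R ≠ ⊥)
    (fun R u hR e => hR (card_eq_one.mp (by rw [← Fusion.card_conjSub u R, e, card_bot]))) (by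
      intro Q R hR hle hQ u hu y hy huy
      exact fusion_local hG hiso P (Nat.card P) _ inf_le_left
        (fun e => hR (le_bot_iff.mp (e ▸ hle))) hQ.1 le_self_add y
        ⟨(hle hy).1, le_normalizer (hle hy)⟩ u hu huy)
    hchain (zpowers x) (by simpa using hx1) rfl x (mem_zpowers x)
  exact ⟨t⁻¹, inv_mem ht, by simpa using hte⟩

theorem Setting.normalizer_thompson_le (hG : Setting G) (hiso : Isolated p G) (P : Sylow p G)
    (hP1 : (P : Subgroup G) ≠ ⊥) :
    normalizer (Cfsg.thompsonSubgroupOf p (P : Subgroup G) : Set G) ≤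
      normalizer ((P : Subgroup G) : Set G) := by
  set M := normalizer (Cfsg.thompsonSubgroupOf p (P : Subgroup G) : Set G) with hM
  have hPM : (P : Subgroup G) ≤ M := le_normalizer.trans
    (LocalStructure.le_normalizer_map_characteristic le_rfl (Cfsg.thompsonSubgroup p P))
  have hJ1 := thompson_ne_bot P.2 hP1
  have hJp : IsPGroup p (Cfsg.thompsonSubgroupOf p (P : Subgroup G)) :=
    P.2.to_le (Thompson.thompsonOf_le p _)
  have hMne : M ≠ ⊤ := hG.normalizer_ne_top hJ1 (hG.pgroup_ne_top hJp)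
  have hMs := hG.solvable M hMne
  let P' : Sylow p M := P.subtype hPM
  have hcore : pCore p M ≠ ⊥ := by
    intro h
    have : ((Cfsg.thompsonSubgroupOf p (P : Subgroup G)).subgroupOf M).Normal := normal_in_normalizer
    have hle : (Cfsg.thompsonSubgroupOf p (P : Subgroup G)).subgroupOf M ≤ pCore p M :=
      Core.le_pCore (hJp.comap_subtype (K := M))
    rw [h, le_bot_iff,
      subgroupOf_eq_bot, disjoint_iff, inf_eq_left.mpr le_normalizer] at hle
    exact hJ1 hle
  obtain ⟨-, hnot⟩ := local_structure (hG.odd.of_dvd_nat (card_subgroup_dvd_card M))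
    (hiso.subgroup M) hcore P'
  have hfoc := Fusion.commutator_inf_eq_of_controls P M hPM (fusion_control hG hiso P)
  rw [hG.perfect, top_inf_eq] at hfoc
  have hPle : (P' : Subgroup M) ≤ commutator M := by
    rw [← map_le_map_iff_of_injective M.subtype_injective, map_subtype_commutator,
      Sylow.coe_subtype, subgroupOf_map_subtype, inf_of_le_left hPM]
    exact inf_eq_right.mp hfoc.symm
  by_cases heq : (P' : Subgroup M) = pCore p M
  · have hn : (P.subgroupOf M).Normal := by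
      rw [← Sylow.coe_subtype P hPM, heq]; infer_instance
    calc M = (normalizer ((P.subgroupOf M : Subgroup M) : Set M)).map M.subtype := by
          rw [normalizer_eq_top_iff.mpr hn, ← MonoidHom.range_eq_map, range_subtype]
      _ ≤ normalizer (((P.subgroupOf M).map M.subtype : Subgroup G) : Set G) := le_normalizer_map _
      _ = _ := by rw [subgroupOf_map_subtype, inf_of_le_left hPM]
  · exact absurd hPle (hnot heq)

/-- Every `p`-local lies in the normaliser of a Sylow subgroup. -/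
theorem exists_sylow_normalizer (hG : Setting G) (hiso : Isolated p G) :
    ∀ k : ℕ, ∀ D : Subgroup G, IsPGroup p D → D ≠ ⊥ → ∀ S : Subgroup G, IsPGroup p S →
      D ≤ S → S ≤ normalizer (D : Set G) → ¬ p ∣ S.relIndex (normalizer (D : Set G)) →
      Nat.card G ≤ k + Nat.card S →
      ∃ P : Sylow p G, normalizer (D : Set G) ≤ normalizer ((P : Subgroup G) : Set G) := by
  intro k
  induction k using Nat.strong_induction_on with
  | _ k IH =>
  intro D hD hD1 S hS hDS hSN hSy hk
  have hNW := normalizer_le_thompson hG hiso hD hD1 hS hSN hSy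
  have hS1 : S ≠ ⊥ := fun h => hD1 (le_bot_iff.mp (h ▸ hDS))
  obtain ⟨P, hSP⟩ := hS.exists_le_sylow
  rcases hSP.eq_or_lt with heq | hlt
  · refine ⟨P, hNW.trans ?_⟩
    rw [heq]
    exact hG.normalizer_thompson_le hiso P (heq ▸ hS1)
  set W := Cfsg.thompsonSubgroupOf p S with hW
  set NW := normalizer (W : Set G) with hNWdef
  have hgt : Nat.card S < Nat.card ((P : Subgroup G) ⊓ NW : Subgroup G) := by
    have h1 : S < (P : Subgroup G) ⊓ normalizer (S : Set G) :=
      Fusion.lt_inf_normalizer_of_isPGroup P.2 hlt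
    have h2 : (P : Subgroup G) ⊓ normalizer (S : Set G) ≤ (P : Subgroup G) ⊓ NW :=
      inf_le_inf_left _ (LocalStructure.le_normalizer_map_characteristic le_rfl
        (Cfsg.thompsonSubgroup p S))
    exact Nat.lt_of_le_of_ne (card_le_of_le (h1.le.trans h2)) fun e =>
      h1.ne (le_antisymm h1.le (h2.trans (eq_of_le_of_card_ge (h1.le.trans h2) e.ge).ge))
  obtain ⟨T, hT⟩ := ((P.2.to_inf_left (K := NW)).comap_subtype (K := NW)).exists_le_sylow
  set T' := (T : Subgroup NW).map NW.subtype with hT'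
  have hRT : (P : Subgroup G) ⊓ NW ≤ T' := fun z hz => ⟨⟨z, hz.2⟩, hT hz, rfl⟩
  have hcard := card_le_of_le hRT
  have hle := Nat.le_of_dvd Nat.card_pos (card_subgroup_dvd_card T')
  obtain ⟨Q, hQ⟩ := IH (Nat.card G - Nat.card T') (by omega) W
    (hS.to_le (Thompson.thompsonOf_le p S)) (thompson_ne_bot hS hS1) T' (T.2.map _)
    ((le_inf ((Thompson.thompsonOf_le p S).trans hSP) le_normalizer).trans hRT)
    (map_subtype_le _) (by
      rw [hT', relIndex, subgroupOf, comap_map_eq_self_of_injective NW.subtype_injective]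
      exact T.not_dvd_index) (by omega)
  exact ⟨Q, hNW.trans hQ⟩

theorem le_sylow_of_le_normalizer (P : Sylow p G) {S : Subgroup G} (hS : IsPGroup p S)
    (h : S ≤ normalizer ((P : Subgroup G) : Set G)) : S ≤ (P : Subgroup G) := by
  have hp' : IsPGroup p (S ⊔ (P : Subgroup G) : Subgroup G) :=
    hS.to_sup_of_normal_right' P.2 h
  exact le_sup_left.trans (P.3 hp' le_sup_right).le

/-- Distinct Sylow subgroups for an isolated prime meet trivially. -/
theorem sylow_TI (hG : Setting G) (hiso : Isolated p G) (P Q : Sylow p G) (hPQ : P ≠ Q) :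
    (P : Subgroup G) ⊓ (Q : Subgroup G) = ⊥ := by
  by_contra hne
  obtain ⟨⟨P₁, Q₁⟩, ⟨h1, h2⟩, hmax⟩ := Set.exists_max_image
    {z : Sylow p G × Sylow p G | z.1 ≠ z.2 ∧ (z.1 : Subgroup G) ⊓ (z.2 : Subgroup G) ≠ ⊥}
    (fun z => Nat.card ((z.1 : Subgroup G) ⊓ (z.2 : Subgroup G) : Subgroup G)) (Set.toFinite _)
    ⟨(P, Q), hPQ, hne⟩
  simp only at h1 h2 hmax
  set D := (P₁ : Subgroup G) ⊓ (Q₁ : Subgroup G) with hD
  have hDp : IsPGroup p D := P₁.2.to_inf_left
  obtain ⟨S, hS⟩ := (hDp.comap_subtype (K := normalizer (D : Set G))).exists_le_sylow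
  obtain ⟨R, hR⟩ := exists_sylow_normalizer hG hiso (Nat.card G) D hDp h2
    ((S : Subgroup (normalizer (D : Set G))).map (normalizer (D : Set G)).subtype) (S.2.map _)
    (fun z hz => ⟨⟨z, le_normalizer hz⟩, hS hz, rfl⟩) (map_subtype_le _) (by
      rw [relIndex, subgroupOf, comap_map_eq_self_of_injective (normalizer _).subtype_injective]
      exact S.not_dvd_index) le_self_add
  have key : ∀ X : Sylow p G, D ≤ (X : Subgroup G) → D ≠ (X : Subgroup G) → X = R := by
    intro X hX hXne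
    by_contra hXR
    have hlt := Fusion.lt_inf_normalizer_of_isPGroup X.2 (lt_of_le_of_ne hX hXne)
    have hle : (X : Subgroup G) ⊓ normalizer (D : Set G) ≤ (R : Subgroup G) :=
      le_sylow_of_le_normalizer R X.2.to_inf_left (inf_le_right.trans hR)
    have hXR' : (X : Subgroup G) ⊓ normalizer (D : Set G) ≤ (X : Subgroup G) ⊓ R :=
      le_inf inf_le_left hle
    have hne' : (X : Subgroup G) ⊓ R ≠ ⊥ := fun e =>
      h2 (le_bot_iff.mp (e ▸ (hlt.le.trans hXR')))
    have := hmax (X, R) ⟨hXR, hne'⟩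
    have hlt' : D < (X : Subgroup G) ⊓ R := hlt.trans_le hXR'
    exact hlt'.ne (eq_of_le_of_card_ge hlt'.le this)
  refine h1 ((key P₁ inf_le_left ?_).trans (key Q₁ inf_le_right ?_).symm)
  · intro e
    exact h1 (Sylow.ext (P₁.3 Q₁.2 (e ▸ inf_le_right)).symm)
  · intro e
    exact h1 (Sylow.ext (Q₁.3 P₁.2 (e ▸ inf_le_left)))

/-! ### Anchors -/

/-- A nilpotent subgroup containing the centralisers of its nontrivial elements. -/
structure Anchor (H : Subgroup G) : Prop where
  ne_bot : H ≠ ⊥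
  nilpotent : Group.IsNilpotent H
  cent : ∀ h ∈ H, h ≠ 1 → centralizer ({h} : Set G) ≤ H

theorem exists_central {H : Subgroup G} (hH : Group.IsNilpotent H) (hne : H ≠ ⊥) :
    ∃ z ∈ H, z ≠ 1 ∧ H ≤ centralizer ({z} : Set G) := by
  have := (nontrivial_iff_ne_bot H).mpr hne
  obtain ⟨z, hz, hz1⟩ := (bot_or_exists_ne_one (center H)).resolve_left
    (Group.IsNilpotent.center_ne_bot H)
  exact ⟨z, z.2, fun e => hz1 (Subtype.ext e), fun x hx => mem_centralizer_singleton_iff.mpr
    (congrArg Subtype.val (mem_center_iff.mp hz ⟨x, hx⟩))⟩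

theorem Anchor.eq_of_common {H₁ H₂ : Subgroup G} (h1 : Anchor H₁) (h2 : Anchor H₂) {h : G}
    (hh1 : h ∈ H₁) (hh2 : h ∈ H₂) (hne : h ≠ 1) : H₁ = H₂ := by
  have key : ∀ {A B : Subgroup G}, Anchor A → Anchor B → h ∈ A → h ∈ B → B ≤ A := by
    intro A B hA hB ha hb
    obtain ⟨z, -, hz1, hzC⟩ := exists_central hB.nilpotent hB.ne_bot
    have hzA : z ∈ A := hA.cent h ha hne (mem_centralizer_singleton_iff.mpr
      (mem_centralizer_singleton_iff.mp (hzC hb)).symm)
    exact hzC.trans (hA.cent z hzA hz1)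
  exact le_antisymm (key h2 h1 hh2 hh1) (key h1 h2 hh1 hh2)

theorem Anchor.map_conj {H : Subgroup G} (h : Anchor H) (g : G) :
    Anchor (H.map (MulAut.conj g).toMonoidHom) := by
  have := h.nilpotent
  refine ⟨fun e => h.ne_bot ((map_eq_bot_iff_of_injective H (MulAut.conj g).injective).mp e),
    Core.isNilpotent_map h.nilpotent _, ?_⟩
  rintro _ ⟨x, hx, rfl⟩ hne c hc
  simp only [MulEquiv.coe_toMonoidHom, MulAut.conj_apply] at hne hc
  refine ⟨g⁻¹ * c * g, h.cent x hx (fun e => hne (by rw [e]; group))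
    (mem_centralizer_singleton_iff.mpr ?_), by simp [mul_assoc]⟩
  have h1 := mem_centralizer_singleton_iff.mp hc
  calc g⁻¹ * c * g * x = g⁻¹ * (c * (g * x * g⁻¹)) * g := by group
    _ = g⁻¹ * ((g * x * g⁻¹) * c) * g := by rw [h1]
    _ = x * (g⁻¹ * c * g) := by group

theorem mem_sylow_of_nilpotent {K : Subgroup G} (hK : Group.IsNilpotent K) (P : Sylow p G)
    (hP : (P : Subgroup G) ≤ K) {c : G} (hc : c ∈ K) (hcp : IsPGroup p (zpowers c)) :
    c ∈ (P : Subgroup G) := by
  have hn : ((P.subtype hP : Sylow p K) : Subgroup K).Normal :=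
    (((isNilpotent_of_finite_tfae (G := K)).out 0 3 (a := Group.IsNilpotent K)
      (b := ∀ (q : ℕ) (_ : Fact q.Prime) (S : Sylow q K), (S : Subgroup K).Normal)).mp hK)
      p hp (P.subtype hP)
  have hle : zpowers c ≤ (P : Subgroup G) := by
    have h1 : (zpowers c).subgroupOf K ≤ ((P.subtype hP : Sylow p K) : Subgroup K) := by
      refine Core.le_of_coprime_index ?_
      obtain ⟨n, hn'⟩ := IsPGroup.iff_card.mp (hcp.comap_subtype (K := K))
      rw [show Nat.card ((zpowers c).subgroupOf K) = p ^ n from hn']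
      exact Nat.Coprime.pow_left n
        ((Nat.Prime.coprime_iff_not_dvd hp.out).mpr (Sylow.not_dvd_index _))
    intro x hx
    exact h1 (show (⟨x, (zpowers_le.mpr hc) hx⟩ : K) ∈ (zpowers c).subgroupOf K from hx)
  exact hle (mem_zpowers c)

theorem zpowers_primePow {q : ℕ} {K : Subgroup G} {c : G} (Q : Sylow q K)
    (hc : c ∈ (Q : Subgroup K).map K.subtype) : IsPGroup q (zpowers c) :=
  (Q.2.map K.subtype).to_le (zpowers_le.mpr hc)

/-- Every prime dividing the order lies in an anchor. -/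
theorem exists_anchor (hG : Setting G) (P : Sylow p G) (hP1 : (P : Subgroup G) ≠ ⊥) :
    ∃ H : Subgroup G, Anchor H ∧ (P : Subgroup G) ≤ H := by
  by_cases hiso : Isolated p G
  · refine ⟨P, ⟨hP1, P.2.isNilpotent, fun h hh hne => ?_⟩, le_rfl⟩
    obtain ⟨Q, hQ⟩ := (hiso h hne (isPGroup_zpowers P.2 hh)).exists_le_sylow
    have hhQ : h ∈ (Q : Subgroup G) := hQ (mem_centralizer_singleton_iff.mpr rfl)
    have : P = Q := by
      by_contra hPQ
      exact hne (Subgroup.mem_bot.mp ((sylow_TI hG hiso P Q hPQ).le ⟨hh, hhQ⟩))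
    exact this ▸ hQ
  -- a mixed prime
  simp only [Isolated, not_forall] at hiso
  obtain ⟨x₀, hx₀1, hx₀p, hx₀C⟩ := hiso
  obtain ⟨P₀, hP₀⟩ := hx₀p.exists_le_sylow
  obtain ⟨g, hg⟩ := MulAction.exists_smul_eq G P₀ P
  set x := g * x₀ * g⁻¹ with hxdef
  have hxP : x ∈ (P : Subgroup G) := by
    rw [← hg]
    exact smul_mem_pointwise_smul _ (MulAut.conj g) P₀.toSubgroup (hP₀ (mem_zpowers x₀))
  have hx1 : x ≠ 1 := fun e => hx₀1 (by simpa [hxdef] using e)
  have hnotp : ¬ ∀ c ∈ centralizer ({x₀} : Set G), ∃ k : ℕ, c ^ p ^ k = 1 :=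
    fun hall => hx₀C fun c => by
      obtain ⟨k, hk⟩ := hall c c.2
      exact ⟨k, Subtype.ext hk⟩
  push_neg at hnotp
  obtain ⟨c₀, hc₀, hc₀p⟩ := hnotp
  obtain ⟨q, hq, hqp, hqd⟩ : ∃ q, q.Prime ∧ q ≠ p ∧ q ∣ orderOf c₀ := by
    by_contra hall
    push_neg at hall
    have h := Nat.eq_prime_pow_of_unique_prime_dvd (orderOf_pos c₀).ne'
      (fun {d} hd hdd => by_contra fun hne => hall d hd hne hdd)
    exact hc₀p _ (h ▸ pow_orderOf_eq_one c₀)
  have := Fact.mk hq
  set c := g * c₀ * g⁻¹ with hcdef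
  have hcx : Commute c x := by
    have h := mem_centralizer_singleton_iff.mp hc₀
    show g * c₀ * g⁻¹ * (g * x₀ * g⁻¹) = g * x₀ * g⁻¹ * (g * c₀ * g⁻¹)
    calc g * c₀ * g⁻¹ * (g * x₀ * g⁻¹) = g * (c₀ * x₀) * g⁻¹ := by group
      _ = g * (x₀ * c₀) * g⁻¹ := by rw [h]
      _ = _ := by group
  obtain ⟨y₀, hy₀⟩ := exists_prime_orderOf_dvd_card' (G := zpowers c) q (by
    rw [Nat.card_zpowers, hcdef, ← MulAut.conj_apply, MulEquiv.orderOf_eq]; exact hqd)
  set y : G := (y₀ : G) with hydef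
  have hyo : orderOf y = q := by rw [hydef, Subgroup.orderOf_coe, hy₀]
  have hy1 : y ≠ 1 := fun e => hq.one_lt.ne (by rw [← hyo, e, orderOf_one])
  have hyx : Commute y x := by
    obtain ⟨i, hi⟩ := mem_zpowers_iff.mp y₀.2
    rw [hydef, ← hi]
    exact hcx.zpow_left i
  obtain ⟨z, hzP, hz1, hzC⟩ := exists_central P.2.isNilpotent hP1
  have hxz : Commute x z := mem_centralizer_singleton_iff.mp (hzC hxP)
  have hpord : ∀ u : G, u ∈ (P : Subgroup G) → ∀ v : G, ∀ r : ℕ, r.Prime → r ≠ p →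
      IsPGroup r (zpowers v) → (orderOf u).Coprime (orderOf v) := by
    intro u hu v r hr hrp hv
    obtain ⟨n, hn⟩ := IsPGroup.iff_card.mp (isPGroup_zpowers P.2 hu)
    rw [← Nat.card_zpowers u, hn, ← Nat.card_zpowers v]
    exact (coprime_of_isPGroup_ne hr hrp hv).symm.pow_left n
  have hyq : IsPGroup q (zpowers y) :=
    IsPGroup.of_card (n := 1) (by rw [Nat.card_zpowers, hyo, pow_one])
  have hyH : y ∈ centralizer ({z} : Set G) :=
    mem_centralizer_singleton_iff.mpr (commute_of_mem (hG.cn x hx1)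
      (mem_centralizer_singleton_iff.mpr hyx) (mem_centralizer_singleton_iff.mpr hxz.symm)
      (hpord z hzP y q hq hqp hyq).symm)
  set H := centralizer ({z} : Set G) with hH
  have hHn : Group.IsNilpotent H := hG.cn z hz1
  have hHcomm : ∀ u ∈ (P : Subgroup G), ∀ v ∈ H, ∀ r : ℕ, r.Prime → r ≠ p →
      IsPGroup r (zpowers v) → Commute u v := fun u hu v hv r hr hrp hvr =>
    commute_of_mem hHn (hzC hu) hv (hpord u hu v r hr hrp hvr)
  refine ⟨H, ⟨fun e => hP1 (le_bot_iff.mp (e ▸ hzC)), hHn, ?_⟩, hzC⟩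
  intro h hh hne
  -- reduce to prime order
  obtain ⟨r, hr, hrd⟩ := Nat.exists_prime_and_dvd (show orderOf h ≠ 1 from
    fun e => hne (orderOf_eq_one_iff.mp e))
  obtain ⟨h₀', hh₀⟩ := exists_prime_orderOf_dvd_card' (hp := ⟨hr⟩) (G := zpowers h) r
    (by rwa [Nat.card_zpowers])
  obtain ⟨i, hi⟩ := mem_zpowers_iff.mp h₀'.2
  set h₁ : G := (h₀' : G) with hh₁
  have hh₁H : h₁ ∈ H := zpowers_le.mpr hh h₀'.2
  have hh₁o : orderOf h₁ = r := by rw [hh₁, Subgroup.orderOf_coe, hh₀]
  have hh₁1 : h₁ ≠ 1 := fun e => hr.one_lt.ne (by rw [← hh₁o, e, orderOf_one])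
  have hle : centralizer ({h} : Set G) ≤ centralizer ({h₁} : Set G) := fun w hw =>
    mem_centralizer_singleton_iff.mpr (hi ▸
      (show Commute w h from mem_centralizer_singleton_iff.mp hw).zpow_right i)
  refine hle.trans ?_
  set K := centralizer ({h₁} : Set G) with hK
  have hKn : Group.IsNilpotent K := hG.cn h₁ hh₁1
  have hzK : z ∈ K :=
    mem_centralizer_singleton_iff.mpr (mem_centralizer_singleton_iff.mp hh₁H).symm
  have hh₁r : IsPGroup r (zpowers h₁) :=
    IsPGroup.of_card (n := 1) (by rw [Nat.card_zpowers, hh₁o, pow_one])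
  refine Coprime.le_of_forall_sylow_le fun s hs => ?_
  have := Fact.mk hs
  refine ⟨default, fun w hw => ?_⟩
  have hwK : w ∈ K := map_subtype_le _ hw
  have hws := zpowers_primePow _ hw
  rcases eq_or_ne s p with rfl | hsp
  · refine hzC ?_
    rcases eq_or_ne r s with rfl | hrp
    · have hyC : (P : Subgroup G) ≤ centralizer ({y} : Set G) := fun u hu =>
        mem_centralizer_singleton_iff.mpr (hHcomm u hu y hyH q hq hqp hyq)
      have hh₁P : h₁ ∈ (P : Subgroup G) := mem_sylow_of_nilpotent hHn P hzC hh₁H hh₁r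
      have hwy : w ∈ centralizer ({y} : Set G) :=
        mem_centralizer_singleton_iff.mpr (commute_of_mem hKn hwK
          (mem_centralizer_singleton_iff.mpr (hHcomm h₁ hh₁P y hyH q hq hqp hyq).symm)
          (by
            rw [← Nat.card_zpowers w, ← Nat.card_zpowers y]
            obtain ⟨n, hn⟩ := IsPGroup.iff_card.mp hws
            rw [hn]
            exact (coprime_of_isPGroup_ne hq hqp hyq).symm.pow_left n))
      exact mem_sylow_of_nilpotent (hG.cn y hy1) P hyC hwy hws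
    · exact mem_sylow_of_nilpotent hKn P
        (fun u hu => mem_centralizer_singleton_iff.mpr (hHcomm u hu h₁ hh₁H r hr hrp hh₁r)) hwK hws
  · exact mem_centralizer_singleton_iff.mpr
      (commute_of_mem hKn hwK hzK (hpord z hzP w s hs hsp hws).symm)

end Cfsg.Agent.OddLocal.CN
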