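import Cfsg.Agent.OddLocal.CNFrobenius

/-!
The structure of solvable groups with nilpotent centralisers.
-/

set_option autoImplicit false

namespace Cfsg.Agent.OddLocal.CN

open Subgroup
open scoped commutatorElement

universe u

variable {G : Type u} [Group G] [Finite G]

theorem coprime_orderOf {q r : ℕ} (hq : q.Prime) (hr : r.Prime) (hne : q ≠ r) {x y : G}
    (hx : IsPGroup q (zpowers x)) (hy : IsPGroup r (zpowers y)) :
    (orderOf x).Coprime (orderOf y) := by
  have := Fact.mk hr
  obtain ⟨k, hk⟩ := IsPGroup.iff_card.mp hy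
  rw [← Nat.card_zpowers x, ← Nat.card_zpowers y, hk]
  exact (coprime_of_isPGroup_ne hq hne hx).pow_right k

theorem le_fittingHall {G : Type u} [Group G] {N : Subgroup G} (hN : N.Normal)
    (hn : Group.IsNilpotent N) (hc : (Nat.card N).Coprime N.index) : N ≤ Cfsg.fittingHall G :=
  le_sSup ⟨hN, hn, hc⟩

theorem isNilpotent_fittingHall : Group.IsNilpotent (Cfsg.fittingHall G) :=
  Core.isNilpotent_mono Core.fittingSubgroup_isNilpotent
    (sSup_le fun N hN => by have := hN.1; exact Core.le_fittingSubgroup hN.2.1)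

/-- The structure of a non-nilpotent CN-group with a normal Sylow subgroup. -/
theorem frobenius_structure (hCN : Cfsg.IsCNGroup G) (hnn : ¬ Group.IsNilpotent G) {p : ℕ}
    [Fact p.Prime] (P : Sylow p G) (hP1 : (P : Subgroup G) ≠ ⊥) (hPn : (P : Subgroup G).Normal) :
    Cfsg.fittingHall G ≠ ⊥ ∧ Cfsg.fittingHall G ≠ ⊤ ∧
      ∃ E : Subgroup G, IsComplement' (Cfsg.fittingHall G) E ∧ Cfsg.IsFrobeniusComplement E ∧
        (∀ e ∈ E, e ≠ 1 → Cfsg.fittingHall G ⊓ centralizer ({e} : Set G) = ⊥) ∧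
        FPF E (Cfsg.fittingHall G ⊓ centralizer (Cfsg.fittingHall G : Set G)) ∧
        Group.IsNilpotent E := by
  set H := Cfsg.fittingHall G with hHdef
  have hHn : Group.IsNilpotent H := isNilpotent_fittingHall
  have hcop : (Nat.card H).Coprime H.index := coprime_fittingHall G
  have hH1 : H ≠ ⊥ := fun e => hP1 (le_bot_iff.mp (e ▸
    le_fittingHall hPn P.2.isNilpotent P.card_coprime_index))
  have hHtop : H ≠ ⊤ := fun e => hnn ((Group.isNilpotent_congr topEquiv).mp (e ▸ hHn))
  obtain ⟨E, hE⟩ := exists_right_complement'_of_coprime hcop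
  have hEH : (Nat.card E).Coprime (Nat.card H) := by
    rw [← hE.symm.index_eq_card]; exact hcop.symm
  -- fixed points
  have hfree : ∀ e ∈ E, e ≠ 1 → H ⊓ centralizer ({e} : Set G) = ⊥ := by
    intro e he he1
    obtain ⟨r, e₁, hr, he₁o, -, he₁z, hle⟩ := exists_prime_power he1
    by_contra hne
    obtain ⟨h, hh, hh1⟩ := (bot_or_exists_ne_one _).resolve_left hne
    have := Fact.mk hr
    have he₁E : e₁ ∈ E := zpowers_le.mpr he he₁z
    have he₁1 : e₁ ≠ 1 := fun e => hr.one_lt.ne (by rw [← he₁o, e, orderOf_one])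
    have he₁r : IsPGroup r (zpowers e₁) :=
      IsPGroup.of_card (n := 1) (by rw [Nat.card_zpowers, he₁o, pow_one])
    have hrH : ¬ r ∣ Nat.card H := fun hd => hr.one_lt.ne' (Nat.dvd_one.mp
      (hEH ▸ Nat.dvd_gcd (he₁o ▸ Subgroup.orderOf_dvd_natCard _ he₁E) hd))
    -- a central element of `H` fixed by `e₁`
    have hcoh : ∀ w ∈ H, (orderOf e₁).Coprime (orderOf w) := fun w hw =>
      (hEH.coprime_dvd_left (Subgroup.orderOf_dvd_natCard _ he₁E)).coprime_dvd_right
        (Subgroup.orderOf_dvd_natCard _ hw)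
    obtain ⟨z, hz, hz1, hzC⟩ := exists_central hHn hH1
    have he₁h : e₁ ∈ centralizer ({h} : Set G) := mem_centralizer_singleton_iff.mpr
      (mem_centralizer_singleton_iff.mp (hle (mem_centralizer_singleton_iff.mpr
        (mem_centralizer_singleton_iff.mp hh.2)))).symm
    have hzh : z ∈ centralizer ({h} : Set G) := mem_centralizer_singleton_iff.mpr
      (mem_centralizer_singleton_iff.mp (hzC hh.1)).symm
    have he₁z : Commute e₁ z := commute_of_mem (hCN h hh1) he₁h hzh (hcoh z hz)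
    -- so `e₁` centralises `H`
    have he₁H : e₁ ∈ centralizer (H : Set G) := by
      rw [mem_centralizer_iff]
      intro w hw
      exact (commute_of_mem (hCN z hz1) (mem_centralizer_singleton_iff.mpr he₁z) (hzC hw)
        (hcoh w hw)).symm
    set C := centralizer (H : Set G) with hC
    have hCn : Group.IsNilpotent C := by
      refine Core.isNilpotent_mono (hCN z hz1) fun c hc => mem_centralizer_singleton_iff.mpr ?_
      exact (mem_centralizer_iff.mp hc z hz).symm
    let RC : Sylow r C := default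
    have hRCn : (RC : Subgroup C).Normal :=
      ((Group.isNilpotent_of_finite_tfae (G := C)).out 0 3 (a := Group.IsNilpotent C)
        (b := ∀ (q : ℕ) (_ : Fact q.Prime) (S : Sylow q C), (S : Subgroup C).Normal)).mp hCn r
        ‹Fact r.Prime› RC
    have := RC.characteristic_of_normal hRCn
    set R₀ := (RC : Subgroup C).map C.subtype with hR₀
    have hR₀n : R₀.Normal := inferInstance
    obtain ⟨R, hR⟩ := (RC.2.map C.subtype).exists_le_sylow
    have hR₀1 : R₀.subgroupOf R ≠ ⊥ := by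
      rw [Ne, subgroupOf_eq_bot, disjoint_iff, inf_eq_left.mpr hR,
        map_eq_bot_iff_of_injective _ C.subtype_injective]
      intro e0
      have := RC.dvd_card_of_dvd_card (he₁o ▸ Subgroup.orderOf_dvd_natCard _ he₁H)
      rw [e0, card_bot] at this
      exact hr.one_lt.ne' (Nat.dvd_one.mp this)
    have := R.2.isNilpotent
    obtain ⟨y, hy, hy1⟩ := (bot_or_exists_ne_one _).resolve_left
      (Core.inf_center_ne_bot (N := R₀.subgroupOf R) hR₀1)
    have hy1' : (y : G) ≠ 1 := fun e => hy1 (Subtype.ext e)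
    have hyC : (y : G) ∈ C := map_subtype_le _ hy.1
    -- `R` centralises `H`
    have hRC : (R : Subgroup G) ≤ C := by
      intro x hx
      rw [hC, mem_centralizer_iff]
      intro w hw
      refine commute_of_mem (hCN y hy1')
        (mem_centralizer_singleton_iff.mpr (mem_centralizer_iff.mp hyC w hw))
        (mem_centralizer_singleton_iff.mpr
          (congrArg Subtype.val (mem_center_iff.mp hy.2 ⟨x, hx⟩))) ?_
      obtain ⟨k, hk⟩ := IsPGroup.iff_card.mp (isPGroup_zpowers R.2 hx)
      rw [← Nat.card_zpowers x, hk]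
      exact ((Nat.Prime.coprime_iff_not_dvd hr).mpr hrH).symm.pow_right k
        |>.coprime_dvd_left (Subgroup.orderOf_dvd_natCard _ hw)
    have hReq : (R : Subgroup G) = R₀ := by
      refine le_antisymm (fun x hx => ?_) hR
      have hn2 := (R.subtype hRC).2
      have : (R.subtype hRC : Subgroup C) ≤ (RC : Subgroup C) := by
        refine Core.le_of_coprime_index ?_
        obtain ⟨k, hk⟩ := IsPGroup.iff_card.mp hn2
        rw [hk]
        exact Nat.Coprime.pow_left k
          ((Nat.Prime.coprime_iff_not_dvd hr).mpr (Sylow.not_dvd_index _))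
      exact ⟨⟨x, hRC hx⟩, this hx, rfl⟩
    have hle' := le_fittingHall (hReq ▸ hR₀n : (R : Subgroup G).Normal) R.2.isNilpotent
      R.card_coprime_index
    refine hrH ((?_ : r ∣ Nat.card (R : Subgroup G)).trans (card_dvd_of_le hle'))
    exact R.dvd_card_of_dvd_card (he₁o ▸ _root_.orderOf_dvd_natCard e₁)
  have hV1 : H ⊓ centralizer (H : Set G) ≠ ⊥ := by
    obtain ⟨z, hz, hz1, hzC⟩ := exists_central hHn hH1
    exact fun e => hz1 (Subgroup.mem_bot.mp (e ▸ ⟨hz, mem_centralizer_iff.mpr fun w hw =>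
      mem_centralizer_singleton_iff.mp (hzC hw)⟩))
  have hfpf : FPF E (H ⊓ centralizer (H : Set G)) := {
    abelian := le_centralizer_iff_isMulCommutative.mp
      (inf_le_right.trans (centralizer_le inf_le_left))
    ne_bot := hV1
    norm := by rw [normalizer_eq_top]; exact le_top
    cop := hEH.coprime_dvd_right (card_dvd_of_le inf_le_left)
    free := fun e he he1 => le_bot_iff.mp ((inf_le_inf_right _ inf_le_left).trans (hfree e he he1).le) }
  refine ⟨hH1, hHtop, E, hE, ⟨?_, ?_, ?_⟩, hfree, hfpf, hfpf.isNilpotent hCN⟩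
  · exact fun e => hHtop (by simpa [e] using hE.sup_eq_top)
  · exact fun e => hH1 (by simpa [e] using hE.disjoint.eq_bot)
  · intro g hg
    obtain ⟨h, hh, e, he, rfl⟩ := (mem_sup_of_normal_left (s := H) (t := E) (x := g)).mp
      (hE.sup_eq_top ▸ mem_top g)
    have hh1 : h ≠ 1 := fun e0 => hg (by rw [e0, one_mul]; exact he)
    rw [eq_bot_iff]
    rintro x ⟨hxE, hxg⟩
    replace hxg := Coprime.mem_conj_smul.mp hxg
    rw [Subgroup.mem_bot]
    by_contra hx1
    have hy : h⁻¹ * x * h ∈ E := by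
      have := E.mul_mem (E.mul_mem he hxg) (E.inv_mem he)
      rwa [show e * ((h * e)⁻¹ * x * (h * e)) * e⁻¹ = h⁻¹ * x * h by group] at this
    have hmem : x⁻¹ * (h⁻¹ * x * h) ∈ E ⊓ H := by
      refine ⟨E.mul_mem (E.inv_mem hxE) hy, ?_⟩
      rw [show x⁻¹ * (h⁻¹ * x * h) = x⁻¹ * h⁻¹ * x⁻¹⁻¹ * h by group]
      exact H.mul_mem ((fittingHall_normal G).conj_mem _ (H.inv_mem hh) x⁻¹) hh
    rw [inf_comm, hE.disjoint.eq_bot, Subgroup.mem_bot, inv_mul_eq_one] at hmem
    have hc : h ∈ H ⊓ centralizer ({x} : Set G) := by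
      refine ⟨hh, mem_centralizer_singleton_iff.mpr ?_⟩
      calc h * x = h * (h⁻¹ * x * h) := by rw [← hmem]
        _ = x * h := by group
    rw [hfree x hxE hx1, Subgroup.mem_bot] at hc
    exact hh1 hc

/-- A nilpotent fixed-point-free group is cyclic or cyclic times quaternion. -/
theorem FPF.structure' {E V : Subgroup G} (h : FPF E V) (hnil : Group.IsNilpotent E) :
    IsCyclic E ∨ ∃ C Q : Subgroup G, C ⊔ Q = E ∧ (∀ a ∈ C, ∀ b ∈ Q, a * b = b * a) ∧
      IsCyclic C ∧ Odd (Nat.card C) ∧ ∃ n : ℕ, Nonempty (↥Q ≃* QuaternionGroup (2 ^ n)) := by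
  let Q : Sylow 2 E := default
  rcases h.sylow_cyclic_or_quaternion Q with hc | ⟨-, k, -, ⟨eq⟩⟩
  · left
    have : IsZGroup E := by
      refine ⟨fun r hr R => ?_⟩
      have := Fact.mk hr
      rcases h.sylow_cyclic_or_quaternion R with hR | ⟨rfl, k, -, ⟨eq⟩⟩
      · exact hR
      · obtain ⟨g, hg⟩ := MulAction.exists_smul_eq E Q R
        have : IsCyclic ((g • Q : Sylow 2 E) : Subgroup E) :=
          (Q.equivSMul g).isCyclic.mp hc
        exact hg ▸ this
    infer_instance
  right
  have hQn : (Q : Subgroup E).Normal :=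
    ((Group.isNilpotent_of_finite_tfae (G := E)).out 0 3 (a := Group.IsNilpotent E)
      (b := ∀ (q : ℕ) (_ : Fact q.Prime) (S : Sylow q E), (S : Subgroup E).Normal)).mp hnil 2
      inferInstance Q
  obtain ⟨K, hK⟩ := exists_right_complement'_of_coprime Q.card_coprime_index
  have hKc : (Nat.card K).Coprime 2 := by
    rw [← hK.symm.index_eq_card]
    exact ((Nat.Prime.coprime_iff_not_dvd Nat.prime_two).mpr Q.not_dvd_index).symm
  have hKodd : Odd (Nat.card K) := Nat.coprime_two_right.mp hKc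
  set C := K.map E.subtype with hC
  have hCc : Nat.card C = Nat.card K := card_map_of_injective E.subtype_injective
  have hCE : C ≤ E := map_subtype_le _
  have hFC : FPF C V := ⟨h.abelian, h.ne_bot, hCE.trans h.norm,
    h.cop.coprime_dvd_left (card_dvd_of_le hCE), fun e he => h.free e (hCE he)⟩
  refine ⟨C, (Q : Subgroup E).map E.subtype, ?_, ?_, hFC.isCyclic (Core.isNilpotent_mono hnil hCE)
    (hCc ▸ hKodd), hCc ▸ hKodd, k, ⟨((Q : Subgroup E).equivMapOfInjective _ E.subtype_injective).symm.trans eq⟩⟩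
  · rw [hC, ← Subgroup.map_sup, sup_comm, hK.sup_eq_top, ← MonoidHom.range_eq_map, range_subtype]
  · rintro _ ⟨a, ha, rfl⟩ _ ⟨b, hb, rfl⟩
    refine congrArg Subtype.val (commute_of_coprime_orderOf hnil (x := a) (y := b) ?_).eq
    obtain ⟨j, hj⟩ := IsPGroup.iff_card.mp Q.2
    exact ((hKc.pow_right j).coprime_dvd_left (Subgroup.orderOf_dvd_natCard _ ha)).coprime_dvd_right
      (hj ▸ Subgroup.orderOf_dvd_natCard _ hb)

/-- A solvable CN-group without normal Sylow subgroups is a three-step group. -/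
theorem threeStep [Group.IsSolvable G] [Nontrivial G] (hCN : Cfsg.IsCNGroup G)
    (hno : ∀ (p : ℕ) [Fact p.Prime] (P : Sylow p G), (P : Subgroup G) ≠ ⊥ →
      ¬ (P : Subgroup G).Normal) : ∃ p : ℕ, p.Prime ∧ Cfsg.IsThreeStepGroup p G := by
  obtain ⟨p, hp, R, hRn, hRp, hR1⟩ := Coprime.exists_normal_isPGroup (G := G)
  have := Fact.mk hp
  refine ⟨p, hp, ?_⟩
  set H := Cfsg.pCore p G with hHdef
  have hH1 : H ≠ ⊥ := fun e => hR1 (le_bot_iff.mp (e ▸ Core.le_pCore hRp))
  have hHp : IsPGroup p H := Core.pCore_isPGroup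
  obtain ⟨nH, hnH⟩ := IsPGroup.iff_card.mp hHp
  set V := H ⊓ centralizer (H : Set G) with hVdef
  have hVab : IsMulCommutative V := le_centralizer_iff_isMulCommutative.mp
    (inf_le_right.trans (centralizer_le inf_le_left))
  obtain ⟨z, hz, hz1, hzC⟩ := exists_central hHp.isNilpotent hH1
  have hzV : z ∈ V := ⟨hz, mem_centralizer_iff.mpr fun w hw =>
    mem_centralizer_singleton_iff.mp (hzC hw)⟩
  have hfix : ∀ x : G, IsPGroup p (zpowers x) → ∃ a ∈ V, a ≠ 1 ∧ Commute x a := by
    intro x hx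
    by_contra! hnofix
    have := card_modEq_fixed_one (r := p) hx (inferInstance : V.Normal) fun v hv hfix => by
      by_contra hv1
      exact hnofix v hv hv1 (hfix x (mem_zpowers x))
    obtain ⟨m, hm⟩ := IsPGroup.iff_card.mp (hHp.to_inf_left (K := centralizer (H : Set G)))
    rw [hm] at this
    have hm0 : m ≠ 0 := fun e => hz1 (Subgroup.mem_bot.mp
      ((card_eq_one.mp (by rw [hm, e, pow_zero]) : V = ⊥) ▸ hzV))
    have h0 : (p ^ m) % p = 0 := Nat.mod_eq_zero_of_dvd (dvd_pow_self p hm0)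
    rw [Nat.ModEq, h0, Nat.mod_eq_of_lt hp.one_lt] at this
    exact zero_ne_one this
  -- `O_q = 1` for `q ≠ p`
  have hOq : ∀ (q : ℕ) [Fact q.Prime], q ≠ p → Cfsg.pCore q G = ⊥ := by
    intro q hq hqp
    by_contra hne
    obtain ⟨k, hk, hk1⟩ := (bot_or_exists_ne_one _).resolve_left hne
    obtain ⟨P⟩ : Nonempty (Sylow p G) := inferInstance
    have hkq : IsPGroup q (zpowers k) := isPGroup_zpowers Core.pCore_isPGroup hk
    have hcomm : ∀ x : G, IsPGroup p (zpowers x) → Commute x k := by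
      intro x hx
      obtain ⟨a, ha, ha1, hxa⟩ := hfix x hx
      obtain ⟨j, hj⟩ := IsPGroup.iff_card.mp (Core.pCore_isPGroup (p := q) (G := G))
      have hdis : (Nat.card (Cfsg.pCore q G)).Coprime (Nat.card H) := by
        rw [hj, hnH]; exact Nat.Coprime.pow _ _ ((Nat.coprime_primes hq.out hp).mpr hqp)
      have hka : Commute k a := Core.commute_of_coprime hdis hk ha.1
      exact commute_of_mem (hCN a ha1) (mem_centralizer_singleton_iff.mpr hxa)
        (mem_centralizer_singleton_iff.mpr hka) (coprime_orderOf hp hq.out (Ne.symm hqp) hx hkq)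
    have hP1 : (P : Subgroup G) ≠ ⊥ := fun e =>
      hH1 (le_bot_iff.mp ((Core.pCore_le_sylow P).trans e.le))
    refine hno p P hP1 ?_
    rw [← normalizer_eq_top_iff, eq_top_iff]
    intro g _
    refine Coprime.mem_normalizer_of_conj_smul_eq (eq_of_le_of_card_ge ?_
      (Coprime.card_conj_smul g _).ge)
    intro x hx
    have hxp : IsPGroup p (zpowers x) :=
      isPGroup_zpowers (P.2.of_equiv (equivSMul (MulAut.conj g) (P : Subgroup G))) hx
    exact mem_sylow_of_nilpotent (hCN k hk1) P (fun u hu => mem_centralizer_singleton_iff.mpr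
      (hcomm u (isPGroup_zpowers P.2 hu))) (mem_centralizer_singleton_iff.mpr (hcomm x hxp)) hxp
  -- `p'`-elements act fixed-point-freely on `H`
  have hfree : ∀ y : G, (orderOf y).Coprime p → ∀ a ∈ H, a ≠ 1 → Commute y a → y = 1 := by
    intro y hy a ha ha1 hya
    have cop : ∀ w ∈ H, (orderOf y).Coprime (orderOf w) := fun w hw =>
      (hy.pow_right nH).coprime_dvd_right (hnH ▸ Subgroup.orderOf_dvd_natCard _ hw)
    have hyz : Commute y z := commute_of_mem (hCN a ha1) (mem_centralizer_singleton_iff.mpr hya)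
      (mem_centralizer_singleton_iff.mpr (mem_centralizer_singleton_iff.mp (hzC ha)).symm) (cop z hz)
    have hyC : y ∈ centralizer (H : Set G) := mem_centralizer_iff.mpr fun w hw =>
      (commute_of_mem (hCN z hz1) (mem_centralizer_singleton_iff.mpr hyz) (hzC hw) (cop w hw)).symm
    by_contra hy1
    obtain ⟨q, y₁, hq, hyo, hqd, hy₁z, -⟩ := exists_prime_power hy1
    have := Fact.mk hq
    have hqp : q ≠ p := fun e => hp.one_lt.ne' (Nat.dvd_one.mp (hy ▸ Nat.dvd_gcd (e ▸ hqd) dvd_rfl))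
    set C := centralizer (H : Set G) with hC
    have hCnil : Group.IsNilpotent C := Core.isNilpotent_mono (hCN z hz1) fun c hc =>
      mem_centralizer_singleton_iff.mpr (mem_centralizer_iff.mp hc z hz).symm
    let S : Sylow q C := default
    have hSn : (S : Subgroup C).Normal :=
      ((Group.isNilpotent_of_finite_tfae (G := C)).out 0 3 (a := Group.IsNilpotent C)
        (b := ∀ (q : ℕ) (_ : Fact q.Prime) (S : Sylow q C), (S : Subgroup C).Normal)).mp hCnil q
        ‹Fact q.Prime› S
    have := S.characteristic_of_normal hSn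
    have hle : (S : Subgroup C).map C.subtype ≤ Cfsg.pCore q G := Core.le_pCore (S.2.map _)
    rw [hOq q hqp, le_bot_iff, map_eq_bot_iff_of_injective _ C.subtype_injective] at hle
    have hy₁C : y₁ ∈ C := zpowers_le.mpr hyC hy₁z
    have := S.dvd_card_of_dvd_card (hyo ▸ Subgroup.orderOf_dvd_natCard _ hy₁C)
    rw [hle, card_bot] at this
    exact hq.one_lt.ne' (Nat.dvd_one.mp this)
  have hiso : Isolated p G := by
    intro x hx hxp
    refine IsPGroup.of_card (n := _) (Nat.eq_prime_pow_of_unique_prime_dvd Nat.card_pos.ne'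
      fun {q} hq hqd => by_contra fun hqp => ?_)
    have := Fact.mk hq
    obtain ⟨y, hy⟩ := exists_prime_orderOf_dvd_card' q hqd
    rw [← Subgroup.orderOf_coe] at hy
    have hyq : IsPGroup q (zpowers (y : G)) :=
      IsPGroup.of_card (n := 1) (by rw [Nat.card_zpowers, hy, pow_one])
    obtain ⟨a, ha, ha1, hxa⟩ := hfix x hxp
    have hya : Commute (y : G) a := commute_of_mem (hCN x hx) y.2
      (mem_centralizer_singleton_iff.mpr hxa.symm)
      (coprime_orderOf hq hp hqp hyq (isPGroup_zpowers hHp ha.1))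
    have := hfree y (hy ▸ (Nat.coprime_primes hq hp).mpr hqp) a ha.1 ha1 hya
    rw [this, orderOf_one] at hy
    exact hq.one_lt.ne hy
  let f := QuotientGroup.mk' H
  -- a `p`-element outside `H`
  obtain ⟨P⟩ : Nonempty (Sylow p G) := inferInstance
  have hHP : H ≤ (P : Subgroup G) := Core.pCore_le_sylow P
  have hP1 : (P : Subgroup G) ≠ ⊥ := fun e => hH1 (le_bot_iff.mp (hHP.trans e.le))
  obtain ⟨t, htP, htH⟩ := SetLike.exists_of_lt (hHP.lt_of_ne fun e =>
    hno p P hP1 (e ▸ inferInstance))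
  have hne : H ≠ ⊤ := fun e => htH (e ▸ mem_top t)
  obtain ⟨r, hr, hrp, L, hLc, hLn⟩ := exists_prime_section hiso hH1 hne
  have := Fact.mk hr
  have hLr : IsPGroup r L := IsPGroup.of_card (n := 1) (by rw [hLc, pow_one])
  have hL1 : L ≠ ⊥ := fun e => hr.one_lt.ne (by rw [← hLc, e, card_bot])
  -- a Hall `p'`-subgroup
  obtain ⟨K', hK', hKπ, hKidx⟩ := Coprime.exists_isPiHallOf (G := G) (K := ⊤)
    (inferInstance) {q : ℕ | q ≠ p}
  set K : Subgroup G := K' with hKdef
  have hKp : (Nat.card K).Coprime p := Nat.coprime_of_dvd fun q hq h1 h2 =>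
    hKπ q hq h1 ((Nat.prime_dvd_prime_iff_eq hq hp).mp h2)
  have hKidx' : ∀ q : ℕ, q.Prime → q ∣ K.index → q = p := fun q hq hd => by
    by_contra hqp
    exact hKidx q hq hqp (by rwa [relIndex_top_right])
  have hKorder : ∀ k ∈ K, (orderOf k).Coprime p := fun k hk =>
    hKp.coprime_dvd_left (Subgroup.orderOf_dvd_natCard _ hk)
  have hKfree : ∀ a ∈ K, a ≠ 1 → H ⊓ centralizer ({a} : Set G) = ⊥ := by
    intro a ha ha1
    rw [eq_bot_iff]
    intro v hv
    by_contra hv1
    exact ha1 (hfree a (hKorder a ha) v hv.1 hv1 (mem_centralizer_singleton_iff.mp hv.2).symm)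
  have hKfpf : FPF K V := {
    abelian := hVab
    ne_bot := fun e => hz1 (Subgroup.mem_bot.mp (e ▸ hzV))
    norm := by rw [normalizer_eq_top]; exact le_top
    cop := ((hKp.pow_right nH).coprime_dvd_right (hnH ▸ card_dvd_of_le inf_le_left))
    free := fun a ha ha1 => le_bot_iff.mp ((inf_le_inf_right _ inf_le_left).trans (hKfree a ha ha1).le) }
  have hKnil : Group.IsNilpotent K := hKfpf.isNilpotent hCN
  have hKd : K ⊓ H = ⊥ := by
    exact Coprime.inf_eq_bot_of_coprime (hnH ▸ hKp.pow_right nH)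
  set Kb := K.map f with hKbdef
  have hKbc : Nat.card Kb = Nat.card K :=
    card_map_of_inf_ker f (by rw [QuotientGroup.ker_mk']; exact hKd)
  have hKbidx : ∀ q : ℕ, q.Prime → q ∣ Kb.index → q = p := fun q hq hd =>
    hKidx' q hq (hd.trans (index_map_dvd _ (QuotientGroup.mk'_surjective H)))
  set A := L.map f with hA
  have hAc : Nat.card A = r := by
    rw [hA, card_map_of_inf_ker f, hLc]
    rw [QuotientGroup.ker_mk']
    exact Coprime.inf_eq_bot_of_coprime (hnH ▸ (coprime_of_isPGroup_ne hr hrp hLr).pow_right nH)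
  -- normal `p'`-subgroups lie in `Kb`
  have hinKb : ∀ N : Subgroup (G ⧸ H), N.Normal → (Nat.card N).Coprime p → N ≤ Kb := by
    intro N hN hNp
    have : N ⊔ Kb = Kb := by
      refine (eq_of_le_of_card_ge le_sup_right ?_).symm
      have h1 : Kb.relIndex (N ⊔ Kb) ∣ Nat.card N := by
        rw [sup_comm]
        have hc := Core.card_sup_mul_card_inf Kb N
        refine Dvd.intro (Nat.card (Kb ⊓ N : Subgroup _)) ?_
        have h2 := card_mul_index (Kb.subgroupOf (Kb ⊔ N))
        rw [Nat.card_congr (subgroupOfEquivOfLe (le_sup_left : Kb ≤ Kb ⊔ N)).toEquiv] at h2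
        change Nat.card Kb * Kb.relIndex (Kb ⊔ N) = _ at h2
        rw [← h2, mul_assoc] at hc
        exact Nat.eq_of_mul_eq_mul_left Nat.card_pos hc
      have h2 : Kb.relIndex (N ⊔ Kb) ∣ Kb.index := relIndex_dvd_index_of_le le_sup_right
      have h3 : Kb.relIndex (N ⊔ Kb) = 1 := by
        by_contra h3
        obtain ⟨q, hq, hd⟩ := Nat.exists_prime_and_dvd h3
        have hqp := hKbidx q hq (hd.trans h2)
        exact hq.one_lt.ne' (Nat.dvd_one.mp (hNp ▸ Nat.dvd_gcd (hd.trans h1) (hqp ▸ dvd_rfl)))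
      rw [relIndex_eq_one] at h3
      exact card_le_of_le h3
    exact le_sup_left.trans this.le
  have hAKb : A ≤ Kb := hinKb A hLn (hAc ▸ (Nat.coprime_primes hr hp).mpr hrp)
  have hKbnil : Group.IsNilpotent Kb := Core.isNilpotent_map hKnil f
  have hKbCA : Kb ≤ centralizer (A : Set (G ⧸ H)) := by
    have hne : A.subgroupOf Kb ≠ ⊥ := by
      rw [Ne, subgroupOf_eq_bot, disjoint_iff, inf_eq_left.mpr hAKb]
      exact fun e => hr.one_lt.ne (by rw [← hAc, e, card_bot])
    have := hKbnil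
    have : (A.subgroupOf Kb).Normal := Subgroup.Normal.subgroupOf hLn _
    obtain ⟨w, hw, hw1⟩ := (bot_or_exists_ne_one _).resolve_left
      (Core.inf_center_ne_bot (N := A.subgroupOf Kb) hne)
    have hwA : zpowers (w : G ⧸ H) = A := by
      refine eq_of_le_of_card_ge (zpowers_le.mpr hw.1) ?_
      rw [hAc, Nat.card_zpowers]
      have hwd := Subgroup.orderOf_dvd_natCard A hw.1
      rw [hAc] at hwd
      rcases (Nat.dvd_prime hr).mp hwd with h1 | h1
      · exact absurd (Subtype.ext (orderOf_eq_one_iff.mp h1)) hw1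
      · exact h1.ge
    rw [← hwA, FixedPointFree.centralizer_zpowers]
    exact fun k hk => mem_centralizer_singleton_iff.mpr
      (congrArg Subtype.val (mem_center_iff.mp hw.2 ⟨k, hk⟩))
  -- `Kb` is the centraliser of `A`
  have plift : ∀ s : G ⧸ H, orderOf s = p → ∀ u : G, f u = s → IsPGroup p (zpowers u) := by
    intro s hs u hu
    have hord : orderOf u ∣ p * p ^ nH := by
      refine orderOf_dvd_of_pow_eq_one ?_
      rw [pow_mul]
      have hmem : u ^ p ∈ H := (QuotientGroup.eq_one_iff _).mp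
        (show f (u ^ p) = 1 by rw [map_pow, hu]; exact orderOf_dvd_iff_pow_eq_one.mp hs.dvd)
      exact orderOf_dvd_iff_pow_eq_one.mp (hnH ▸ Subgroup.orderOf_dvd_natCard _ hmem)
    rw [← pow_succ'] at hord
    obtain ⟨i, -, hi⟩ := (Nat.dvd_prime_pow hp).mp hord
    exact IsPGroup.of_card (n := i) (by rw [Nat.card_zpowers, hi])
  have noP : ∀ {q : ℕ}, q.Prime → q ≠ p → ∀ L' : Subgroup G, IsPGroup q L' → L' ≠ ⊥ →
      ¬ p ∣ Nat.card (centralizer ((L'.map f : Subgroup _) : Set (G ⧸ H))) := by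
    intro q hq hqp L' hL' hL'1 hd
    obtain ⟨s, hs⟩ := exists_prime_orderOf_dvd_card' p hd
    rw [← Subgroup.orderOf_coe] at hs
    obtain ⟨u, hu⟩ := QuotientGroup.mk'_surjective H (s : G ⧸ H)
    have huH : u ∉ H := fun h => by
      rw [← hu, show QuotientGroup.mk' H u = 1 from (QuotientGroup.eq_one_iff u).mpr h,
        orderOf_one] at hs
      exact hp.one_lt.ne hs
    have hns := not_commute_lift hiso hHp hq hqp hL' hL'1 (plift _ hs u hu) huH
    rw [hu] at hns
    exact hns s.2
  have hCAeq : centralizer (A : Set (G ⧸ H)) = Kb :=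
    le_antisymm (hinKb _ inferInstance
      (((Nat.Prime.coprime_iff_not_dvd hp).mpr (noP hr hrp L hLr hL1)).symm)) hKbCA
  have hKbn : Kb.Normal := hCAeq ▸ inferInstance
  -- `K` has odd order
  have hKodd : Odd (Nat.card K) := by
    rw [← Nat.not_even_iff_odd, even_iff_two_dvd]
    intro h2
    have : Fact (Nat.Prime 2) := ⟨Nat.prime_two⟩
    obtain ⟨ti', hti⟩ := exists_prime_orderOf_dvd_card' 2 h2
    rw [← Subgroup.orderOf_coe] at hti
    set ti : G := (ti' : G) with htidef
    have hp2 : (2 : ℕ) ≠ p := fun e => (Nat.not_coprime_of_dvd_of_dvd (by norm_num : (1 : ℕ) < 2) h2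
      (e ▸ dvd_rfl)) hKp
    have hL2 : IsPGroup 2 (zpowers ti) :=
      IsPGroup.of_card (n := 1) (by rw [Nat.card_zpowers, hti, pow_one])
    have hL21 : zpowers ti ≠ ⊥ := fun e => by
      rw [zpowers_eq_bot] at e; rw [e, orderOf_one] at hti; omega
    refine not_commute_lift hiso hHp Nat.prime_two hp2 hL2 hL21 (isPGroup_zpowers P.2 htP) htH ?_
    rw [MonoidHom.map_zpowers, FixedPointFree.centralizer_zpowers, mem_centralizer_singleton_iff]
    set s := f t
    have hmem : s * f ti * s⁻¹ ∈ Kb := hKbn.conj_mem _ (mem_map_of_mem f ti'.2) s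
    obtain ⟨k, hk, hks⟩ := hmem
    have hk2 : orderOf k = 2 := by
      have hinj : ∀ a ∈ K, f a = 1 → a = 1 := fun a ha h =>
        Subgroup.mem_bot.mp (hKd.le ⟨ha, (QuotientGroup.eq_one_iff a).mp h⟩)
      refine orderOf_eq_prime (hinj _ (K.pow_mem hk 2) ?_) fun e => ?_
      · rw [map_pow, hks, conj_pow, ← map_pow, ← hti, pow_orderOf_eq_one, map_one, mul_one,
          mul_inv_cancel]
      · rw [e, map_one, eq_comm, mul_inv_eq_one, mul_eq_left] at hks
        have := hinj ti ti'.2 hks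
        rw [this, orderOf_one] at hti
        omega
    have := hKfpf.involution_unique hk ti'.2 hk2 hti
    rw [this] at hks
    exact (mul_inv_eq_iff_eq_mul.mp hks.symm)
  refine ⟨hH1, K, fun e => ?_, hKfpf.isCyclic hKnil hKodd, hKodd, hKp, ?_, ?_, ?_, hKfree, ?_⟩
  · rw [hA] at hAKb
    rw [hKbdef, e, Subgroup.map_bot, le_bot_iff] at hAKb
    exact hr.one_lt.ne (by rw [← hAc, hA, hAKb, card_bot])
  · have : H ⊔ K = Kb.comap f := by
      rw [hKbdef, comap_map_eq, QuotientGroup.ker_mk', sup_comm]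
    rw [this]
    exact hKbn.comap f
  · intro e
    refine noP hr hrp L hLr hL1 ?_
    rw [← hA, hCAeq, hKbdef, show K.map f = ⊤ by
      rw [← map_top_of_surjective f (QuotientGroup.mk'_surjective H), ← e, Subgroup.map_sup,
        (map_eq_bot_iff H).mpr (QuotientGroup.ker_mk' H).ge, bot_sup_eq], card_top]
    rw [← Subgroup.index_eq_card]
    obtain ⟨kP, hkP⟩ := IsPGroup.iff_card.mp P.2
    have h1 : H.relIndex (P : Subgroup G) ∣ p ^ kP := hkP ▸ relIndex_dvd_card _ _
    obtain ⟨i, -, hi⟩ := (Nat.dvd_prime_pow hp).mp h1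
    have hi0 : i ≠ 0 := fun e0 => htH (relIndex_eq_one.mp (by rw [hi, e0, pow_zero]) htP)
    exact (dvd_pow_self p hi0).trans (hi ▸ relIndex_dvd_index_of_normal _ _)
  · exact ⟨_, Nat.eq_prime_pow_of_unique_prime_dvd (index_ne_zero_of_finite)
      fun {d} hd hdd => hKidx' d hd (hdd.trans (index_dvd_of_le le_sup_right))⟩
  · intro x hx a ha ha1 hcomm
    obtain ⟨q, a₁, hq, ha₁o, hqd, ha₁z, hle⟩ := exists_prime_power ha1
    have hqp : q ≠ p := fun e => hp.one_lt.ne' (Nat.dvd_one.mp
      (hKorder a ha ▸ Nat.dvd_gcd (e ▸ hqd) dvd_rfl))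
    have := Fact.mk hq
    have hq' : IsPGroup q (zpowers a₁) :=
      IsPGroup.of_card (n := 1) (by rw [Nat.card_zpowers, ha₁o, pow_one])
    have hq1 : zpowers a₁ ≠ ⊥ := fun e => by
      rw [zpowers_eq_bot] at e; rw [e, orderOf_one] at ha₁o; exact hq.one_lt.ne ha₁o
    refine noP hq hqp _ hq' hq1 ?_
    have hxa : Commute (f x) (f a) := by
      have h1 : f (x * a * x⁻¹ * a⁻¹) = 1 := (QuotientGroup.eq_one_iff _).mpr hcomm
      rw [map_mul, map_mul, map_mul, map_inv, map_inv, mul_inv_eq_one, mul_inv_eq_iff_eq_mul] at h1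
      exact h1
    obtain ⟨i, hi⟩ := mem_zpowers_iff.mp ha₁z
    have hxa₁ : Commute (f x) (f a₁) := by
      rw [← hi, map_zpow]
      exact hxa.zpow_right i
    rw [MonoidHom.map_zpowers, FixedPointFree.centralizer_zpowers]
    refine dvd_trans ?_ (Subgroup.orderOf_dvd_natCard _ (mem_centralizer_singleton_iff.mpr hxa₁.eq))
    by_contra hpd
    apply hx
    have : zpowers (f x) ≤ Kb := by
      have hc : (Nat.card (zpowers (f x))).Coprime Kb.index :=
        Nat.coprime_of_dvd fun d hd h1 h2 => hpd (by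
          refine (hKbidx d hd h2).symm.dvd.trans ?_
          rw [← Nat.card_zpowers]; exact h1)
      exact Core.le_of_coprime_index hc
    obtain ⟨k, hk, hkx⟩ := this (mem_zpowers _)
    rw [sup_comm]
    have hd : k⁻¹ * x ∈ H := (QuotientGroup.eq_one_iff _).mp
      (show f (k⁻¹ * x) = 1 by rw [map_mul, map_inv, hkx, inv_mul_cancel])
    simpa using mul_mem_sup hk hd

end Cfsg.Agent.OddLocal.CN
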