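import Mathlib
import Cfsg.Agent.WielandtFixed.Linear

/-!
# A central commutator of prime order in a linear group

If `z` is a commutator element whose image under a representation is central and has order
dividing the prime `r`, invertible in the field, then `r` divides the dimension of the part of
the space on which `z` has no fixed vector.
-/

set_option autoImplicit false

open Module TensorProduct

namespace Cfsg.Agent.OddLocal.CentralEigen

universe u v w

variable {P : Type u} [Group P]

/-- Restriction of a representation to an invariant subspace. -/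
def restrictHom {k : Type v} [Field k] {W : Type w} [AddCommGroup W] [Module k W]
    (σ : P →* Module.End k W) (E : Submodule k W) (hE : ∀ g, ∀ x ∈ E, σ g x ∈ E) :
    P →* Module.End k E where
  toFun g := (σ g).restrict (hE g)
  map_one' := by ext x; simp [LinearMap.restrict_apply]
  map_mul' g h := by ext x; simp [LinearMap.restrict_apply]

theorem restrictHom_apply {k : Type v} [Field k] {W : Type w} [AddCommGroup W] [Module k W]
    (σ : P →* Module.End k W) (E : Submodule k W) (hE : ∀ g, ∀ x ∈ E, σ g x ∈ E) (g : P) (x : E) :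
    (restrictHom σ E hE g x : W) = σ g x := rfl

/-- The representation on the quotient by an invariant subspace. -/
def quotientHom {k : Type v} [Field k] {W : Type w} [AddCommGroup W] [Module k W]
    (σ : P →* Module.End k W) (E : Submodule k W) (hE : ∀ g, ∀ x ∈ E, σ g x ∈ E) :
    P →* Module.End k (W ⧸ E) where
  toFun g := E.mapQ E (σ g) (fun x hx => hE g x hx)
  map_one' := by ext x; simp
  map_mul' g h := by ext x; simp

/-- A commutator element acting as a scalar has scalar of order dividing the dimension. -/
theorem pow_finrank_eq_one {k : Type v} [Field k] {W : Type w} [AddCommGroup W] [Module k W]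
    (σ : P →* Module.End k W) {z : P} (hz : z ∈ commutator P) {c : k}
    (hc : σ z = c • LinearMap.id) : c ^ finrank k W = 1 := by
  have h1 := Abelianization.commutator_subset_ker
    ((LinearMap.det : Module.End k W →* k).comp σ).toHomUnits hz
  have h2 := congrArg Units.val (MonoidHom.mem_ker.mp h1)
  simpa [hc] using h2

theorem dvd_finrank_of_isAlgClosed {L : Type v} [Field L] [IsAlgClosed L] {r : ℕ}
    (hr : r.Prime) {z : P} (hzc : z ∈ commutator P) :
    ∀ (n : ℕ) {W : Type w} [AddCommGroup W] [Module L W] [FiniteDimensional L W]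
      (σ : P →* Module.End L W), finrank L W = n → (∀ g, Commute (σ z) (σ g)) → (σ z) ^ r = 1 →
      Function.Injective ⇑(σ z - 1 : Module.End L W) → r ∣ n := by
  intro n
  induction n using Nat.strong_induction_on with
  | _ n ih =>
  intro W _ _ _ σ hn hcomm hpow hinj
  rcases Nat.eq_zero_or_pos n with rfl | hpos
  · exact dvd_zero r
  have : Nontrivial W := nontrivial_of_finrank_pos (R := L) (hn ▸ hpos)
  obtain ⟨ω, hω⟩ := Module.End.exists_eigenvalue (σ z)
  obtain ⟨v, hv⟩ := hω.exists_hasEigenvector
  have hv1 : σ z v = ω • v := hv.apply_eq_smul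
  have hv0 : v ≠ 0 := hv.2
  have hωr : ω ^ r = 1 := by
    have h := hv.pow_apply r
    rw [hpow, Module.End.one_apply] at h
    have h0 : (1 - ω ^ r) • v = 0 := by rw [sub_smul, one_smul, ← h, sub_self]
    rcases smul_eq_zero.mp h0 with h' | h'
    · exact (sub_eq_zero.mp h').symm
    · exact absurd h' hv0
  have hω1 : ω ≠ 1 := by
    rintro rfl
    refine hv0 (hinj ?_)
    simp [hv1]
  set E := Module.End.eigenspace (σ z) ω with hEdef
  have hE : ∀ g, ∀ x ∈ E, σ g x ∈ E := by
    intro g x hx
    rw [hEdef, Module.End.mem_eigenspace_iff] at hx ⊢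
    have := congrArg (fun T : Module.End L W => T x) (hcomm g).eq
    simp only [Module.End.mul_apply] at this
    rw [this, hx, map_smul]
  have hvE : v ∈ E := hv.1
  -- the eigenspace
  have hdE : r ∣ finrank L E := by
    have h1 := pow_finrank_eq_one (restrictHom σ E hE) hzc (c := ω)
      (LinearMap.ext fun x => Subtype.ext (by
        simpa [restrictHom_apply] using Module.End.mem_eigenspace_iff.mp x.2))
    have : Fact r.Prime := ⟨hr⟩
    rw [← orderOf_eq_prime hωr hω1]
    exact orderOf_dvd_of_pow_eq_one h1
  -- the quotient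
  have hEpos : 0 < finrank L E := by
    rcases Nat.eq_zero_or_pos (finrank L E) with h | h
    · rw [Submodule.finrank_eq_zero.mp h] at hvE
      exact absurd ((Submodule.mem_bot L).mp hvE) hv0
    · exact h
  have hsum := Submodule.finrank_quotient_add_finrank E
  have hd : r ∣ finrank L (W ⧸ E) := by
    refine ih _ (by omega) (quotientHom σ E hE) rfl (fun g => ?_) ?_ ?_
    · show quotientHom σ E hE z * quotientHom σ E hE g = quotientHom σ E hE g * quotientHom σ E hE z
      rw [← map_mul, ← map_mul]
      refine LinearMap.ext fun x => ?_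
      obtain ⟨y, rfl⟩ := Submodule.Quotient.mk_surjective E x
      simp only [quotientHom, MonoidHom.coe_mk, OneHom.coe_mk, Submodule.mapQ_apply]
      rw [map_mul, map_mul, (hcomm g).eq]
    · rw [← map_pow]
      refine LinearMap.ext fun x => ?_
      obtain ⟨y, rfl⟩ := Submodule.Quotient.mk_surjective E x
      simp only [quotientHom, MonoidHom.coe_mk, OneHom.coe_mk, Submodule.mapQ_apply]
      rw [map_pow, hpow]
      rfl
    · rw [LinearMap.injective_iff_surjective]
      intro x
      obtain ⟨y, rfl⟩ := Submodule.Quotient.mk_surjective E x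
      obtain ⟨y', rfl⟩ := LinearMap.injective_iff_surjective.mp hinj y
      exact ⟨Submodule.Quotient.mk y', by simp [quotientHom]⟩
  rw [← hn, ← hsum]
  exact dvd_add hd hdE

/-- The same over any field. -/
theorem dvd_finrank_of_injective {k : Type v} [Field k] {W : Type w} [AddCommGroup W] [Module k W]
    [FiniteDimensional k W] (σ : P →* Module.End k W) {r : ℕ} (hr : r.Prime) {z : P}
    (hzc : z ∈ commutator P) (hcomm : ∀ g, Commute (σ z) (σ g)) (hpow : (σ z) ^ r = 1)
    (hinj : Function.Injective ⇑(σ z - 1 : Module.End k W)) : r ∣ finrank k W := by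
  let L := AlgebraicClosure k
  let β : Module.End k W →ₐ[k] Module.End L (L ⊗[k] W) := Module.End.baseChangeHom k L W
  let σL : P →* Module.End L (L ⊗[k] W) := (β : Module.End k W →* _).comp σ
  have hu : IsUnit (σ z - 1) := (Module.End.isUnit_iff _).mpr
    ⟨hinj, LinearMap.injective_iff_surjective.mp hinj⟩
  have huL := hu.map β
  rw [map_sub, map_one] at huL
  rw [← Module.finrank_baseChange (R := L)]
  exact dvd_finrank_of_isAlgClosed hr hzc _ σL rfl (fun g => (hcomm g).map β)
    (by show β (σ z) ^ r = 1; rw [← map_pow, hpow, map_one])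
    ((Module.End.isUnit_iff _).mp huL).1

/-- One element: `r` divides the rank of `z - 1`. -/
theorem dvd_finrank_range {k : Type v} [Field k] {W : Type w} [AddCommGroup W] [Module k W]
    [FiniteDimensional k W] (σ : P →* Module.End k W) {r : ℕ} (hr : r.Prime) (hrk : (r : k) ≠ 0)
    {z : P} (hzc : z ∈ commutator P) (hcomm : ∀ g, Commute (σ z) (σ g)) (hpow : (σ z) ^ r = 1) :
    r ∣ finrank k (LinearMap.range (σ z - 1)) := by
  set T := σ z with hT
  set E := LinearMap.range (T - 1)
  have hE : ∀ g, ∀ x ∈ E, σ g x ∈ E := by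
    rintro g _ ⟨y, rfl⟩
    refine ⟨σ g y, ?_⟩
    have := congrArg (fun S : Module.End k W => S y) (hcomm g).eq
    simp only [Module.End.mul_apply] at this
    simp [this]
  refine dvd_finrank_of_injective (restrictHom σ E hE) hr hzc (fun g => ?_) ?_ ?_
  · refine LinearMap.ext fun x => Subtype.ext ?_
    exact congrArg (fun S : Module.End k W => S x) (hcomm g).eq
  · rw [← map_pow]
    refine LinearMap.ext fun x => Subtype.ext ?_
    rw [restrictHom_apply, map_pow, hpow]
    rfl
  · rw [injective_iff_map_eq_zero]
    rintro ⟨x, y, rfl⟩ h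
    have hfix : T ((T - 1) y) = (T - 1) y := by
      have := congrArg Subtype.val h
      simpa [restrictHom_apply, sub_eq_zero] using this
    have hfix' : ∀ i : ℕ, (T ^ i) ((T - 1) y) = (T - 1) y := fun i => by
      induction i with
      | zero => simp
      | succ i ih => rw [pow_succ, Module.End.mul_apply, hfix, ih]
    have h0 : (∑ i ∈ Finset.range r, T ^ i) ((T - 1) y) = 0 := by
      rw [← Module.End.mul_apply, geom_sum_mul, hpow, sub_self, LinearMap.zero_apply]
    rw [LinearMap.sum_apply, Finset.sum_congr rfl (fun i _ => hfix' i), Finset.sum_const,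
      Finset.card_range, ← Nat.cast_smul_eq_nsmul k] at h0
    exact Subtype.ext ((smul_eq_zero.mp h0).resolve_left hrk)

/-- A family: `r` divides the codimension of the common fixed space. -/
theorem finrank_fixed_modEq {k : Type v} [Field k] {r : ℕ} (hr : r.Prime) (hrk : (r : k) ≠ 0)
    (Z : Set P) (hZc : ∀ z ∈ Z, z ∈ commutator P) :
    ∀ (n : ℕ) {W : Type w} [AddCommGroup W] [Module k W] [FiniteDimensional k W]
      (σ : P →* Module.End k W), finrank k W = n → (∀ z ∈ Z, ∀ g, Commute (σ z) (σ g)) →
      (∀ z ∈ Z, (σ z) ^ r = 1) → ∀ F : Submodule k W, (∀ x, x ∈ F ↔ ∀ z ∈ Z, σ z x = x) →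
      ∃ m, n = finrank k F + r * m := by
  intro n
  induction n using Nat.strong_induction_on with
  | _ n ih =>
  intro W _ _ _ σ hn hcomm hpow F hF
  by_cases hall : ∀ z ∈ Z, σ z = 1
  · refine ⟨0, ?_⟩
    have : F = ⊤ := eq_top_iff.mpr fun x _ => (hF x).mpr fun z hz => by simp [hall z hz]
    rw [this, finrank_top, hn, mul_zero, add_zero]
  push Not at hall
  obtain ⟨z, hz, hz1⟩ := hall
  obtain ⟨m₁, hm₁⟩ := dvd_finrank_range σ hr hrk (hZc z hz) (hcomm z hz) (hpow z hz)
  have hrn := LinearMap.finrank_range_add_finrank_ker (σ z - 1)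
  set K := LinearMap.ker (σ z - 1) with hKdef
  have hmemK : ∀ x, x ∈ K ↔ σ z x = x := fun x => by simp [hKdef, sub_eq_zero]
  have hK : ∀ g, ∀ x ∈ K, σ g x ∈ K := by
    intro g x hx
    rw [hmemK] at hx ⊢
    have := congrArg (fun S : Module.End k W => S x) (hcomm z hz g).eq
    simp only [Module.End.mul_apply] at this
    rw [this, hx]
  have hlt : finrank k K < n := by
    have : 0 < finrank k (LinearMap.range (σ z - 1)) := by
      rw [Nat.pos_iff_ne_zero, ne_eq, Submodule.finrank_eq_zero, LinearMap.range_eq_bot,
        sub_eq_zero]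
      exact hz1
    omega
  have hFK : F ≤ K := fun x hx => (hmemK x).mpr ((hF x).mp hx z hz)
  obtain ⟨m₂, hm₂⟩ := ih _ hlt (restrictHom σ K hK) rfl
    (fun z' hz' g => LinearMap.ext fun x => Subtype.ext
      (congrArg (fun S : Module.End k W => S x) (hcomm z' hz' g).eq))
    (fun z' hz' => by
      rw [← map_pow]
      refine LinearMap.ext fun x => Subtype.ext ?_
      rw [restrictHom_apply, map_pow, hpow z' hz']
      rfl)
    (F.comap K.subtype) (fun x => by
      rw [Submodule.mem_comap, Submodule.coe_subtype, hF]
      exact forall₂_congr fun z' _ => ⟨fun h => Subtype.ext h, fun h => congrArg Subtype.val h⟩)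
  rw [(Submodule.comapSubtypeEquivOfLe hFK).finrank_eq] at hm₂
  exact ⟨m₁ + m₂, by rw [mul_add]; omega⟩

end Cfsg.Agent.OddLocal.CentralEigen
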