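import Cfsg.Agent.OddLocal.NilpotentPrimeAction
import Cfsg.Agent.FixedPointFree.Prime
import Cfsg.Agent.FusSys.RankTwoBase
import Cfsg.Agent.Fusion.Critical
import Cfsg.Agent.Coprime.Series
import Cfsg.Agent.LocalStructure.OmegaAction

/-!
A group with a fixed-point-free operator `c` centralises a `p`-group when it centralises the elements
of order `p` fixed by `c`.
-/

set_option autoImplicit false
set_option linter.unusedSectionVars false
set_option linter.style.haveILetI false

namespace Cfsg.Agent.OddLocal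

open Subgroup Cfsg
open scoped commutatorElement

universe u

variable {G : Type u} [Group G] [Finite G]

theorem le_centralizer_of_abelian_fixed {r : ℕ} (hr : r.Prime) {c : G} (hc : c ^ r = 1)
    {U X : Subgroup G} [IsMulCommutative U] (hXU : X ≤ normalizer (U : Set G))
    (hcU : c ∈ normalizer (U : Set G)) (hcX : c ∈ normalizer (X : Set G))
    (hcop : (Nat.card X).Coprime (Nat.card U)) (hfX : X ⊓ centralizer {c} = ⊥)
    (hfix : U ⊓ centralizer {c} ≤ centralizer (X : Set G)) : X ≤ centralizer (U : Set G) := by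
  have hWU := Coprime.commutator_le_of_le_normalizer hXU
  haveI : IsMulCommutative ↥(⁅U, X⁆ : Subgroup G) :=
    ⟨⟨fun a b => Subtype.ext (setLike_mul_comm (hWU a.2) (hWU b.2))⟩⟩
  have hXW : X ≤ normalizer ((⁅U, X⁆ : Subgroup G) : Set G) :=
    le_sup_right.trans (Coprime.le_normalizer_commutator (K := U) (A := X))
  have h1 : X ≤ centralizer ((⁅U, X⁆ : Subgroup G) : Set G) := by
    refine FixedPointFree.le_centralizer_of_frobenius hr hc hXW
      (FixedPointFree.mem_normalizer_commutator hcU hcX) hcX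
      (hcop.coprime_dvd_right (card_dvd_of_le hWU)) ?_ hfX
    rw [eq_bot_iff, ← (Coprime.abelian_decomposition hXU hcop).1]
    exact fun w hw => ⟨⟨hWU hw.1, hfix ⟨hWU hw.1, hw.2⟩⟩, hw.1⟩
  have hs : Group.IsSolvable X ∨ Group.IsSolvable U :=
    Or.inr (Group.isSolvable_of_comm fun a b => IsMulCommutative.is_comm.comm a b)
  rw [le_centralizer_iff, ← commutator_eq_bot_iff_le_centralizer,
    ← Coprime.commutator_commutator_eq hXU hcop hs, commutator_eq_bot_iff_le_centralizer]
  exact le_centralizer_iff.mp h1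

/-- If `c` fixes no non-identity element of `X` and `X` centralises the elements of order `p` of
`C_V(c)`, then `X` centralises the `p`-group `V`. -/
theorem le_centralizer_of_fixed_omega {p : ℕ} [hp : Fact p.Prime] (hp2 : p ≠ 2) {V : Subgroup G}
    (hV : IsPGroup p V) {r : ℕ} (hr : r.Prime) (hrp : r ≠ p) {c : G} (hc : c ^ r = 1)
    {X : Subgroup G} (hpX : ¬ p ∣ Nat.card X) (hXV : X ≤ normalizer (V : Set G))
    (hcV : c ∈ normalizer (V : Set G)) (hcX : c ∈ normalizer (X : Set G))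
    (hfX : X ⊓ centralizer {c} = ⊥)
    (hfix : ∀ v ∈ V, v ^ p = 1 → Commute c v → v ∈ centralizer (X : Set G)) :
    X ≤ centralizer (V : Set G) := by
  obtain ⟨H, hH, hcl, -, hco, hcent⟩ := Fusion.exists_critical (G := V) hV
  set H' := H.map V.subtype with hH'
  have hcl' : ∀ a ∈ H', ∀ b ∈ H', ∀ d ∈ H', Commute ⁅a, b⁆ d := by
    rintro _ ⟨a, ha, rfl⟩ _ ⟨b, hb, rfl⟩ _ ⟨d, hd, rfl⟩
    have h := mem_center_iff.mp (hcl (commutator_mem_commutator (mem_top (⟨a, ha⟩ : H))
      (mem_top (⟨b, hb⟩ : H)))) ⟨d, hd⟩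
    exact (congrArg (fun z : H => ((z : V) : G)) h).symm
  let Ω : Subgroup G :=
    { carrier := {v | v ∈ H' ∧ v ^ p = 1}
      mul_mem' := fun {a b} ha hb => ⟨mul_mem ha.1 hb.1, by
        have hc1 := hcl' b hb.1 a ha.1
        rw [Fusion.mul_pow_of_commute_commutator (hc1 a ha.1) (hc1 b hb.1), ha.2, hb.2, one_mul,
          one_mul]
        obtain ⟨m, hm⟩ : p ∣ p.choose 2 := hp.out.dvd_choose_self two_ne_zero
          (lt_of_le_of_ne hp.out.two_le (Ne.symm hp2))
        suffices h : ⁅b, a⁆ ^ p = 1 by rw [hm, pow_mul, h, one_pow]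
        obtain ⟨b', hb', rfl⟩ := hb.1
        obtain ⟨a', ha', rfl⟩ := ha.1
        have h1 : (⁅(⟨b', hb'⟩ : H), (⟨a', ha'⟩ : H)⁆ : H) ^ p = 1 := by
          rw [← Fusion.commutatorElement_pow_left_of_le_center hcl]
          have : (⟨b', hb'⟩ : H) ^ p = 1 := by
            refine Subtype.ext (Subtype.ext ?_)
            simpa using hb.2
          rw [this, commutatorElement_one_left]
        simpa [commutatorElement_def] using congrArg (fun z : H => ((z : V) : G)) h1⟩
      one_mem' := ⟨one_mem _, one_pow p⟩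
      inv_mem' := fun {a} ha => ⟨inv_mem ha.1, by rw [inv_pow, ha.2, inv_one]⟩ }
  have hΩH : Ω ≤ H' := fun v hv => hv.1
  have hΩV : Ω ≤ V := hΩH.trans (map_subtype_le H)
  have hΩp : IsPGroup p Ω := hV.to_le hΩV
  have hnΩ : normalizer (V : Set G) ≤ normalizer (Ω : Set G) := by
    intro n hn
    have hn' : n ∈ normalizer (H' : Set G) :=
      LocalStructure.le_normalizer_map_characteristic le_rfl H hn
    rw [mem_normalizer_iff]
    intro v
    have h1 := mem_normalizer_iff.mp hn' v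
    exact ⟨fun hv => ⟨h1.mp hv.1, by rw [conj_pow, hv.2, mul_one, mul_inv_cancel]⟩, fun hv =>
      ⟨h1.mpr hv.1, by
        have h := hv.2
        rw [conj_pow, mul_inv_eq_one, mul_eq_left] at h
        exact h⟩⟩
  have hXΩ : X ≤ normalizer (Ω : Set G) := hXV.trans hnΩ
  have hcΩ : c ∈ normalizer (Ω : Set G) := hnΩ hcV
  have hcop : ∀ {U : Subgroup G}, U ≤ V → (Nat.card X).Coprime (Nat.card U) := by
    intro U hU
    obtain ⟨k, hk⟩ := IsPGroup.iff_card.mp (hV.to_le hU)
    rw [hk]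
    exact ((hp.out.coprime_iff_not_dvd.mpr hpX).symm).pow_right k
  have hΩfix : Ω ⊓ centralizer {c} ≤ centralizer (X : Set G) := fun v hv =>
    hfix v (hΩV hv.1) hv.1.2 (mem_centralizer_singleton_iff.mp hv.2).symm
  -- the centre
  set Z := Ω ⊓ centralizer (Ω : Set G) with hZ
  haveI : IsMulCommutative Z :=
    ⟨⟨fun a b => Subtype.ext ((mem_centralizer_iff.mp b.2.2 a a.2.1))⟩⟩
  have hnZ : normalizer (Ω : Set G) ≤ normalizer (Z : Set G) :=
    Coprime.le_normalizer_inf le_rfl (Coprime.le_normalizer_centralizer le_rfl)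
  have hXZ := le_centralizer_of_abelian_fixed hr hc (U := Z) (hXΩ.trans hnZ) (hnZ hcΩ) hcX
    (hcop (inf_le_left.trans hΩV)) hfX ((inf_le_inf_right _ inf_le_left).trans hΩfix)
  -- the quotient by the centre
  set Δ := normalizer (Z : Set G) with hΔ
  have hΩΔ : Ω ≤ Δ := Subgroup.le_normalizer.trans hnZ
  set M₀ := Z.subgroupOf Δ with hM₀
  haveI : M₀.Normal := normal_subgroupOf_of_le_normalizer le_rfl
  set f := QuotientGroup.mk' M₀ with hf
  have hker : f.ker = M₀ := QuotientGroup.ker_mk' M₀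
  set Ωs := Ω.subgroupOf Δ with hΩs
  set Xs := X.subgroupOf Δ with hXs
  set c' : Δ := ⟨c, hnZ hcΩ⟩ with hc'
  have hcXs : c' ∈ normalizer (Xs : Set Δ) := by
    rw [mem_normalizer_iff]
    intro x
    exact mem_normalizer_iff.mp hcX (x : G)
  have hcΩs : c' ∈ normalizer (Ωs : Set Δ) := by
    rw [mem_normalizer_iff]
    intro x
    exact mem_normalizer_iff.mp hcΩ (x : G)
  have hXΩs : Xs ≤ normalizer (Ωs : Set Δ) := by
    intro x hx
    rw [mem_normalizer_iff]
    intro y
    exact mem_normalizer_iff.mp (hXΩ hx) (y : G)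
  haveI : IsMulCommutative ↥(Ωs.map f) := by
    refine ⟨⟨fun a b => Subtype.ext ?_⟩⟩
    obtain ⟨a', ha', ha⟩ := a.2
    obtain ⟨b', hb', hb⟩ := b.2
    change (a : Δ ⧸ M₀) * b = b * a
    rw [← ha, ← hb, ← commutatorElement_eq_one_iff_mul_comm, ← map_commutatorElement]
    refine (QuotientGroup.eq_one_iff _).mpr (mem_subgroupOf.mpr ⟨?_, ?_⟩)
    · simpa [commutatorElement_def] using
        Ω.mul_mem (Ω.mul_mem (Ω.mul_mem ha' hb') (Ω.inv_mem ha')) (Ω.inv_mem hb')
    · refine mem_centralizer_iff.mpr fun d hd => ?_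
      have h := (hcl' _ (hΩH ha') _ (hΩH hb') d (hΩH hd)).symm
      simpa [commutatorElement_def] using h.eq
  have hM₀Ω : M₀ ≤ Ωs := fun x hx => (mem_subgroupOf.mp hx).1
  have hcc : (f c') ^ r = 1 := by
    rw [← map_pow, show c' ^ r = 1 from Subtype.ext (by simpa [hc'] using hc), map_one]
  have hnormmap : ∀ {K : Subgroup Δ} {z : Δ}, z ∈ normalizer (K : Set Δ) →
      f z ∈ normalizer (K.map f : Set (Δ ⧸ M₀)) := fun hz =>
    Subgroup.le_normalizer_map f (mem_map_of_mem f hz)
  have hfX' : Xs.map f ⊓ centralizer {f c'} = ⊥ := by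
    rw [eq_bot_iff]
    rintro _ ⟨⟨x, hx, rfl⟩, hxc⟩
    have h1 : c' * x * c'⁻¹ * x⁻¹ ∈ M₀ := by
      rw [← hker, MonoidHom.mem_ker, map_mul, map_mul, map_mul, map_inv, map_inv,
        ← mem_centralizer_singleton_iff.mp hxc, mul_inv_cancel_right, mul_inv_cancel]
    have h2 : (c' * x * c'⁻¹ * x⁻¹ : Δ) ∈ Xs :=
      Xs.mul_mem ((mem_normalizer_iff.mp hcXs x).mp hx) (Xs.inv_mem hx)
    have h3 : ((c' * x * c'⁻¹ * x⁻¹ : Δ) : G) ∈ X ⊓ Z :=
      ⟨mem_subgroupOf.mp h2, mem_subgroupOf.mp h1⟩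
    rw [Coprime.inf_eq_bot_of_coprime (hcop (inf_le_left.trans hΩV)), mem_bot] at h3
    have h4 : (x : G) ∈ X ⊓ centralizer {c} := ⟨mem_subgroupOf.mp hx, by
      refine mem_centralizer_singleton_iff.mpr ?_
      simp only [Subgroup.coe_mul, Subgroup.coe_inv, mul_inv_eq_one] at h3
      exact (mul_inv_eq_iff_eq_mul.mp h3).symm⟩
    rw [hfX, mem_bot] at h4
    have : x = 1 := Subtype.ext h4
    rw [mem_bot, this, map_one]
  have hfixmap : Ωs.map f ⊓ centralizer {f c'} ≤ centralizer ((Xs.map f : Subgroup _) : Set _) := by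
    have hcop' : (Nat.card (zpowers c')).Coprime (Nat.card f.ker) := by
      obtain ⟨k, hk⟩ := IsPGroup.iff_card.mp (hΩp.to_le (inf_le_left (b := centralizer (Ω : Set G))))
      rw [hker, hM₀, Coprime.card_subgroupOf Subgroup.le_normalizer, hk, Nat.card_zpowers]
      exact (((Nat.coprime_primes hr hp.out).mpr hrp).pow_right k).coprime_dvd_left
        (orderOf_dvd_of_pow_eq_one (Subtype.ext (by simpa [hc'] using hc)))
    have h := Coprime.map_inf_centralizer f (A := zpowers c') (K := Ωs) (zpowers_le.mpr hcΩs)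
      (hker.le.trans hM₀Ω) hcop' (Or.inl inferInstance)
    simp only [MonoidHom.map_zpowers, FixedPointFree.centralizer_zpowers] at h
    rw [← h]
    rintro _ ⟨v, hv, rfl⟩
    rw [mem_centralizer_iff]
    rintro _ ⟨x, hx, rfl⟩
    rw [← map_mul, ← map_mul]
    refine congrArg f (Subtype.ext ?_)
    exact mem_centralizer_iff.mp (hΩfix ⟨hv.1, mem_centralizer_singleton_iff.mpr
      (congrArg Subtype.val (mem_centralizer_singleton_iff.mp hv.2))⟩) x hx
  have hq := le_centralizer_of_abelian_fixed hr hcc (U := Ωs.map f) (X := Xs.map f)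
    (by rintro _ ⟨x, hx, rfl⟩; exact hnormmap (hXΩs hx)) (hnormmap hcΩs) (hnormmap hcXs) (by
      refine ((hcop hΩV).coprime_dvd_left ?_).coprime_dvd_right ?_
      · exact (Subgroup.card_map_dvd _ _).trans
          (Coprime.card_subgroupOf (hXΩ.trans hnZ)).dvd
      · exact (Subgroup.card_map_dvd _ _).trans (Coprime.card_subgroupOf hΩΔ).dvd)
    hfX' hfixmap
  have hΩX : X ≤ centralizer (Ω : Set G) := by
    rw [le_centralizer_iff, ← commutator_eq_bot_iff_le_centralizer,
      ← Coprime.commutator_commutator_eq hXΩ (hcop hΩV) (Or.inr (Coprime.isSolvable_of_le le_rfl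
        (by haveI := hΩp.isNilpotent; infer_instance))), commutator_eq_bot_iff_le_centralizer]
    refine le_trans ?_ (le_centralizer_iff.mp hXZ)
    rw [commutator_le]
    intro v hv x hx
    have h := mem_centralizer_iff.mp (hq (mem_map_of_mem f (show (⟨x, hnZ (hXΩ hx)⟩ : Δ) ∈ Xs
      from hx))) _ (mem_map_of_mem f (show (⟨v, hΩΔ hv⟩ : Δ) ∈ Ωs from hv))
    rw [← commutatorElement_eq_one_iff_mul_comm, ← map_commutatorElement] at h
    exact mem_subgroupOf.mp ((QuotientGroup.eq_one_iff _).mp h)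
  intro x hx
  set δ := NilpotentPrimeAction.conjHom hXV ⟨x, hx⟩ with hδ
  refine (NilpotentPrimeAction.conjHom_eq_one hXV ⟨x, hx⟩).mp
    (FusSys.RankTwoResist.eq_one_of_fix_critical hp2 hV hH hcl hco hcent
      ((((hp.out.coprime_iff_not_dvd.mpr hpX).symm).coprime_dvd_left
        ((orderOf_map_dvd _ _).trans (_root_.orderOf_dvd_natCard _)))) fun v hv hvp => ?_)
  refine Subtype.ext ?_
  rw [NilpotentPrimeAction.conjHom_apply, mul_inv_eq_iff_eq_mul]
  exact ((mem_centralizer_iff.mp (hΩX hx) (v : G) ⟨mem_map_of_mem _ hv,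
    by simpa using congrArg Subtype.val hvp⟩)).symm

end Cfsg.Agent.OddLocal
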