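import Cfsg.Agent.OddLocal.UniquenessFitting
import Cfsg.Agent.FixedPointFree.Prime
import Cfsg.Agent.Fusion.UniqueInvolution
import Cfsg.Agent.S0606

/-!
A subgroup `L` swallows the invariant `r`-subgroups of a signalizer with cyclic Sylow `q`-subgroup.
-/

set_option autoImplicit false
set_option linter.unusedSectionVars false
set_option linter.style.haveILetI false

namespace Cfsg.Agent.OddLocal

open Subgroup Cfsg
open scoped Pointwise commutatorElement

universe u

variable {G : Type u} [Group G] [Finite G]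

/-- An `r`-group acted on by a Frobenius group `⟨y⟩⟨e⟩` lies in a subgroup containing `y`, `e` and
their fixed points. -/
theorem le_of_frobenius_fixed {r q p : ℕ} [hr : Fact r.Prime] [hq : Fact q.Prime] [hp : Fact p.Prime]
    (hqr : q ≠ r) (hpr : p ≠ r) {V L : Subgroup G} (hV : IsPGroup r V) {y e : G}
    (hy : y ^ q = 1) (he : e ^ p = 1) (hye : e * y * e⁻¹ ∈ zpowers y) (hne : ¬ Commute e y)
    (hyV : y ∈ normalizer (V : Set G)) (heV : e ∈ normalizer (V : Set G))
    (hyL : y ∈ L) (heL : e ∈ L)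
    (hCy : V ⊓ centralizer {y} ≤ L) (hCe : V ⊓ centralizer {e} ≤ L) : V ≤ L := by
  set V₀ := V ⊓ L with hV₀
  by_contra hVL
  haveI := hV.isNilpotent
  have hlt : V₀ < V := lt_of_le_of_ne inf_le_left fun h => hVL (h ▸ inf_le_right)
  set Δ : Subgroup G := normalizer (V₀ : Set G) with hΔ
  have hnorm : ∀ x, x ∈ L → x ∈ normalizer (V : Set G) → x ∈ Δ := fun x hx hxV =>
    zpowers_le.mp (Coprime.le_normalizer_inf (zpowers_le.mpr hxV)
      (zpowers_le.mpr (Subgroup.le_normalizer hx)))
  set y' : Δ := ⟨y, hnorm y hyL hyV⟩ with hy'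
  set e' : Δ := ⟨e, hnorm e heL heV⟩ with he'
  set M₀ := V₀.subgroupOf Δ with hM₀
  haveI : M₀.Normal := normal_subgroupOf_of_le_normalizer le_rfl
  set N := (normalizer (V₀ : Set G) ⊓ V).subgroupOf Δ with hN
  set f := QuotientGroup.mk' M₀ with hf
  have hker : f.ker = M₀ := QuotientGroup.ker_mk' M₀
  have hM₀N : M₀ ≤ N := fun x hx => ⟨x.2, (Subgroup.mem_inf.mp hx).1⟩
  have hNp : IsPGroup r N := (hV.to_le inf_le_right).comap_of_injective _ Δ.subtype_injective
  have hnN : ∀ x : Δ, (x : G) ∈ normalizer (V : Set G) → x ∈ normalizer (N : Set Δ) := by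
    intro x hx
    rw [mem_normalizer_iff]
    intro n
    have h2 := mem_normalizer_iff.mp hx (n : G)
    simp only [hN, mem_subgroupOf, Subgroup.mem_inf, Subgroup.coe_mul, Subgroup.coe_inv]
    exact ⟨fun h => ⟨(x * n * x⁻¹).2, h2.mp h.2⟩, fun h => ⟨n.2, h2.mpr h.2⟩⟩
  -- fixed points vanish modulo `V₀`
  have hfix : ∀ (z : Δ) (s : ℕ), s.Prime → s ≠ r → z ^ s = 1 →
      (z : G) ∈ normalizer (V : Set G) → V ⊓ centralizer {(z : G)} ≤ L →
      (N.map f) ⊓ centralizer {f z} = ⊥ := by
    intro z s hs hsr hzs hzV hzC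
    have hcop : (Nat.card (zpowers z)).Coprime (Nat.card f.ker) := by
      obtain ⟨k, hk⟩ := IsPGroup.iff_card.mp (hNp.to_le hM₀N)
      rw [hker, hk, Nat.card_zpowers]
      exact (((Nat.coprime_primes hs hr.out).mpr hsr).pow_right k).coprime_dvd_left
        (orderOf_dvd_of_pow_eq_one hzs)
    have h := Coprime.map_inf_centralizer f (A := zpowers z) (K := N) (zpowers_le.mpr (hnN z hzV))
      (hker.le.trans hM₀N) hcop (Or.inl inferInstance)
    simp only [MonoidHom.map_zpowers, FixedPointFree.centralizer_zpowers] at h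
    rw [← h, Subgroup.map_eq_bot_iff, hker]
    intro x hx
    have hxV : (x : G) ∈ V := hx.1.2
    exact ⟨hxV, hzC ⟨hxV, mem_centralizer_singleton_iff.mpr
      (congrArg Subtype.val (mem_centralizer_singleton_iff.mp hx.2))⟩⟩
  have hey : e' ^ p = 1 := Subtype.ext (by simpa [he'] using he)
  have hyy : y' ^ q = 1 := Subtype.ext (by simpa [hy'] using hy)
  have hfe := hfix e' p hp.out hpr hey heV hCe
  have hfy := hfix y' q hq.out hqr hyy hyV hCy
  -- the centre of the quotient
  set U := (center (N.map f)).map (N.map f).subtype with hU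
  have hUle : U ≤ N.map f := map_subtype_le _
  haveI : IsMulCommutative U := Subgroup.map_isMulCommutative (center (N.map f)) _
  have hnU : ∀ x : Δ, (x : G) ∈ normalizer (V : Set G) → f x ∈ normalizer (U : Set (Δ ⧸ M₀)) := by
    intro x hx
    have h1 : f x ∈ normalizer ((N.map f : Subgroup (Δ ⧸ M₀)) : Set (Δ ⧸ M₀)) :=
      Subgroup.le_normalizer_map f (mem_map_of_mem f (hnN x hx))
    exact LocalStructure.le_normalizer_map_characteristic (Q := N.map f) le_rfl _ h1
  have hUne : U ≠ ⊥ := by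
    intro h
    rw [hU, Subgroup.map_eq_bot_iff_of_injective _ (N.map f).subtype_injective] at h
    have hne' : N.map f ≠ ⊥ := by
      rw [Ne, Subgroup.map_eq_bot_iff, hker]
      intro hle
      have h3 := lt_normalizer_inf hlt
      exact h3.not_ge fun x hx => hle (show (⟨x, hx.1⟩ : Δ) ∈ N from hx)
    haveI : Nontrivial (N.map f) := (nontrivial_iff_ne_bot _).mpr hne'
    haveI := (hNp.map f).center_nontrivial
    exact (Subgroup.nontrivial_iff_ne_bot _).mp inferInstance h
  -- `ȳ` is not fixed by `ē`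
  have hord : orderOf (f y') ∣ q := orderOf_dvd_of_pow_eq_one (by rw [← map_pow, hyy, map_one])
  have hy1 : orderOf y = q := orderOf_eq_prime hy fun h => hne (h ▸ Commute.one_right e)
  have hyinj : ∀ w : Δ, (w : G) ∈ zpowers y → f w = 1 → (w : G) = 1 := by
    intro w hw hw1
    have h2 : w ∈ M₀ := hker ▸ (MonoidHom.mem_ker.mpr hw1)
    have h3 : (w : G) ∈ V := (Subgroup.mem_inf.mp h2).1
    have hcop : (Nat.card (zpowers y)).Coprime (Nat.card V) := by
      obtain ⟨k, hk⟩ := IsPGroup.iff_card.mp hV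
      rw [hk, Nat.card_zpowers, hy1]
      exact ((Nat.coprime_primes hq.out hr.out).mpr hqr).pow_right k
    exact mem_bot.mp ((Coprime.inf_eq_bot_of_coprime hcop).le ⟨hw, h3⟩)
  have hfX : zpowers (f y') ⊓ centralizer {f e'} = ⊥ := by
    rw [eq_bot_iff]
    rintro x ⟨hx, hxC⟩
    rw [mem_bot]
    by_contra hx1
    obtain ⟨i, rfl⟩ := mem_zpowers_iff.mp hx
    rw [← map_zpow] at hxC hx1
    have hc := mem_centralizer_singleton_iff.mp hxC
    have h0 : ((y' ^ i * e' * (y' ^ i)⁻¹ * e'⁻¹ : Δ) : G) = 1 := by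
      refine hyinj _ ?_ ?_
      · have h1 : (e : G) * y ^ (-i) * e⁻¹ ∈ zpowers y := by
          rw [← conj_zpow]; exact zpow_mem hye _
        have h2 := mul_mem (zpow_mem (mem_zpowers y) i) h1
        simpa [hy', he', mul_assoc] using h2
      · rw [map_mul, map_mul, map_mul, map_inv, map_inv, hc, mul_inv_cancel_right, mul_inv_cancel]
    have h1 : Commute e (y ^ i) := by
      have h3 : y ^ i * e * (y ^ i)⁻¹ * e⁻¹ = 1 := by simpa [hy', he'] using h0
      exact (mul_inv_eq_iff_eq_mul.mp (mul_inv_eq_one.mp h3)).symm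
    obtain ⟨m, hm⟩ : ∃ m : ℤ, (y ^ i) ^ m = y := by
      have hnd : ¬ (q : ℤ) ∣ i := fun ⟨t, ht⟩ => hx1 (by
        rw [ht, zpow_mul, zpow_natCast, hyy, one_zpow, map_one])
      obtain ⟨a, b, hab⟩ := ((Nat.prime_iff_prime_int.mp hq.out).coprime_iff_not_dvd.mpr hnd).symm
      exact ⟨a, by rw [← zpow_mul, show i * a = 1 - b * q by linear_combination hab, zpow_sub,
        zpow_one, mul_comm b, zpow_mul, zpow_natCast, hy, one_zpow, inv_one, mul_one]⟩
    exact hne (hm ▸ h1.zpow_right m)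
  have hX : zpowers (f y') ≤ normalizer (U : Set (Δ ⧸ M₀)) := zpowers_le.mpr (hnU y' hyV)
  have hXe : f e' ∈ normalizer (zpowers (f y') : Set (Δ ⧸ M₀)) := by
    apply Coprime.mem_normalizer_of_conj_smul_eq
    refine Subgroup.eq_of_le_of_card_ge ?_ (Coprime.card_conj_smul _ _).ge
    rw [Coprime.conj_smul_eq_map, MonoidHom.map_zpowers, zpowers_le]
    obtain ⟨i, hi⟩ := mem_zpowers_iff.mp hye
    refine mem_zpowers_iff.mpr ⟨i, ?_⟩
    show (f y') ^ i = f e' * f y' * (f e')⁻¹
    rw [← map_zpow, ← map_inv, ← map_mul, ← map_mul]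
    exact congrArg f (Subtype.ext (by simpa [hy', he'] using hi))
  have hcop : (Nat.card (zpowers (f y'))).Coprime (Nat.card U) := by
    obtain ⟨k, hk⟩ := IsPGroup.iff_card.mp ((hNp.map f).to_le hUle)
    rw [hk, Nat.card_zpowers]
    exact (((Nat.coprime_primes hq.out hr.out).mpr hqr).pow_right k).coprime_dvd_left hord
  have hcen := FixedPointFree.le_centralizer_of_frobenius hp.out
    (by rw [← map_pow, hey, map_one] : (f e') ^ p = 1) hX (hnU e' heV) hXe hcop
    (FixedPointFree.fixed_mono hfe hUle) hfX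
  refine hUne (le_bot_iff.mp (hfy ▸ le_inf hUle fun x hx => ?_))
  exact mem_centralizer_singleton_iff.mpr (mem_centralizer_iff.mp (hcen (mem_zpowers _)) x hx)

/-- The unique subgroup of order `q` of a cyclic Sylow subgroup is normal modulo the `q'`-core. -/
theorem core_sup_normalizer_of_cyclic {W Y : Subgroup G} {q : ℕ} [hq : Fact q.Prime]
    (hW : Group.IsSolvable W) (hcyc : ∀ S : Sylow q W, IsCyclic (S : Subgroup W)) (hYW : Y ≤ W)
    (hY : Nat.card Y = q) :
    W ≤ piCoreOf (primesNotDvd q) W ⊔ (W ⊓ normalizer (Y : Set G)) := by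
  have hYp : IsPGroup q Y := IsPGroup.of_card (n := 1) (by rw [hY, pow_one])
  refine le_core_sup_normalizer hYp hYW ?_
  set N := pPrimeCore q ↥W with hN
  set f := QuotientGroup.mk' N with hf
  have hker : f.ker = N := QuotientGroup.ker_mk' N
  set Y' := (Y.subgroupOf W) with hY'
  set Yb := Y'.map f with hYbar
  have hY'p : IsPGroup q Y' := hYp.comap_of_injective _ W.subtype_injective
  have hYc : Nat.card Yb = q := by
    have hinf : Y' ⊓ N = ⊥ := by
      rw [inf_comm]
      exact Coprime.inf_eq_bot_of_coprime (by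
        rw [Coprime.card_subgroupOf hYW, hY]; exact Core.coprime_card_pPrimeCore)
    rw [hYbar, ← relIndex_ker, hker, ← inf_relIndex_left, hinf, relIndex_bot_left,
      Coprime.card_subgroupOf hYW, hY]
  obtain ⟨S, hS⟩ := hY'p.exists_le_sylow
  set T := S.mapSurjective (QuotientGroup.mk'_surjective N) with hT
  haveI : IsCyclic (T : Subgroup (W ⧸ N)) := by
    haveI := hcyc S
    refine isCyclic_of_surjective (f.subgroupMap (S : Subgroup W))
      (f.subgroupMap_surjective (S : Subgroup W))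
  set U := pCore q (W ⧸ N) with hU
  have hUne : U ≠ ⊥ := by
    intro h
    have hsc : Layer.PCoreSelfCentral q (W ⧸ N) :=
      Layer.isPConstrained_iff_selfCentral.mp Layer.isPConstrained_of_isSolvable
    have htop : centralizer ((U : Subgroup (W ⧸ N)) : Set (W ⧸ N)) = ⊤ := by
      rw [h, eq_top_iff]
      intro x _
      rw [mem_centralizer_iff]
      intro u hu
      rw [SetLike.mem_coe, mem_bot] at hu
      rw [hu, one_mul, mul_one]
    have h1 : (⊤ : Subgroup (W ⧸ N)) ≤ ⊥ := htop ▸ h ▸ hsc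
    have h2 := card_dvd_of_le (le_top.trans h1 : Yb ≤ ⊥)
    rw [hYc, card_bot] at h2
    exact hq.out.not_dvd_one h2
  have hUT : U ≤ (T : Subgroup (W ⧸ N)) := Core.pCore_le_sylow T
  have hYT : Yb ≤ (T : Subgroup (W ⧸ N)) := map_mono hS
  haveI hUn : U.Normal := Core.pCore_normal
  obtain ⟨v, hv⟩ := exists_prime_orderOf_dvd_card' q (show q ∣ Nat.card U by
    obtain ⟨k, hk⟩ := IsPGroup.iff_card.mp (Core.pCore_isPGroup (p := q) (G := W ⧸ N))
    exact hk ▸ dvd_pow_self q fun h => hUne (Subgroup.card_eq_one.mp (by rw [hk, h, pow_zero])))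
  have hkey : ∀ x : W ⧸ N, x ∈ Yb ↔ x ∈ U ∧ x ^ q = 1 := by
    have hvT : (v : W ⧸ N) ∈ (T : Subgroup (W ⧸ N)) := hUT v.2
    have hvo : orderOf (v : W ⧸ N) = q := (orderOf_coe v).trans hv
    have hsub : ∀ x : W ⧸ N, x ∈ (T : Subgroup (W ⧸ N)) → x ^ q = 1 → x ∈ zpowers (v : W ⧸ N) :=
      fun x hx hxq => Fusion.mem_zpowers_of_orderOf_dvd (A := (T : Subgroup (W ⧸ N))) inferInstance
        hx hvT (by rw [hvo]; exact orderOf_dvd_of_pow_eq_one hxq)
    have hYeq : Yb = zpowers (v : W ⧸ N) := Subgroup.eq_of_le_of_card_ge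
      (fun x hx => hsub x (hYT hx) (by
        have := orderOf_dvd_natCard (⟨x, hx⟩ : Yb)
        rw [hYc, orderOf_dvd_iff_pow_eq_one] at this
        exact congrArg Subtype.val this)) (by rw [hYc, Nat.card_zpowers, hvo])
    intro x
    rw [hYeq]
    refine ⟨fun hx => ⟨zpowers_le.mpr v.2 hx, ?_⟩, fun h => hsub x (hUT h.1) h.2⟩
    obtain ⟨i, rfl⟩ := mem_zpowers_iff.mp hx
    rw [← zpow_natCast, ← zpow_mul, mul_comm, zpow_mul, zpow_natCast,
      orderOf_dvd_iff_pow_eq_one.mp hvo.dvd, one_zpow]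
  refine ⟨fun x hx g => (hkey _).mpr ⟨hUn.conj_mem x ((hkey x).mp hx).1 g, ?_⟩⟩
  rw [conj_pow, ((hkey x).mp hx).2, mul_one, mul_inv_cancel]

/-- The invariant `r`-subgroups of `W` lie in `L`. -/
theorem invariant_le_of_cyclic_sylow {q r p : ℕ} [hq : Fact q.Prime] [hr : Fact r.Prime]
    [hp : Fact p.Prime] (hqr : q ≠ r) (hpr : p ≠ r) {A W L : Subgroup G} (hA : Group.IsSolvable A)
    (hW : Group.IsSolvable W) (hAW : A ≤ normalizer (W : Set G))
    (hcop : (Nat.card A).Coprime (Nat.card W)) (hAL : A ≤ L)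
    (hCA : W ⊓ centralizer (A : Set G) ≤ L)
    (hcyc : ∀ S : Sylow q W, IsCyclic (S : Subgroup W)) {y : G} (hyW : y ∈ W)
    (hyo : orderOf y = q) (hAy : A ≤ normalizer (zpowers y : Set G))
    (hNy : normalizer (zpowers y : Set G) ≤ L) {e : G} (heA : e ∈ A) (he : e ^ p = 1)
    (hey : ¬ Commute e y)
    (hVe : ∀ V : Subgroup G, V ≤ W → IsPGroup r V → A ≤ normalizer (V : Set G) →
      V ⊓ centralizer {e} ≤ L ∨ V ≤ centralizer {e})
    {R : Subgroup G} (hRW : R ≤ W) (hR : IsPGroup r R) (hAR : A ≤ normalizer (R : Set G)) :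
    R ≤ L := by
  have hYW : zpowers y ≤ W := zpowers_le.mpr hyW
  have hYL : zpowers y ≤ L := Subgroup.le_normalizer.trans hNy
  set O := piCoreOf (primesNotDvd q) W with hO
  have hWO : W ≤ O ⊔ (W ⊓ normalizer (zpowers y : Set G)) :=
    core_sup_normalizer_of_cyclic hW hcyc hYW (by rw [Nat.card_zpowers, hyo])
  have hOW : O ≤ W := piCoreOf_le _ _
  have hOs : Group.IsSolvable O := Coprime.isSolvable_of_le hOW hW
  -- an `A⟨y⟩`-invariant Sylow subgroup of the core
  set B := A ⊔ zpowers y with hB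
  have hBO : B ≤ normalizer (O : Set G) := sup_le
    (LocalStructure.le_normalizer_map_characteristic (Q := W) hAW _)
    (hYW.trans (le_normalizer_piCoreOf _ W))
  have hBcop : (Nat.card B).Coprime (Nat.card O) := by
    refine Nat.Coprime.coprime_dvd_left (Layer.card_sup_dvd_of_le_normalizer hAy) ?_
    refine Nat.Coprime.mul_left (hcop.coprime_dvd_right (card_dvd_of_le hOW)) ?_
    rw [Nat.card_zpowers, hyo]
    exact hq.out.coprime_iff_not_dvd.mpr fun h => (piNum_piCoreOf _ _ q hq.out h).2 dvd_rfl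
  obtain ⟨SV, hSV⟩ := Coprime.exists_invariant_sylow (p := r) hBO hBcop (Or.inr hOs)
  set V := (SV : Subgroup O).map O.subtype with hVdef
  have hVr : IsPGroup r V := SV.2.map _
  have hVW : V ≤ W := (map_subtype_le _).trans hOW
  have hAV : A ≤ normalizer (V : Set G) := le_sup_left.trans hSV
  have hyV : y ∈ normalizer (V : Set G) := hSV (mem_sup_right (mem_zpowers y))
  have hCyL : centralizer {y} ≤ L := fun x hx => hNy (centralizer_le_normalizer _ (by
    rwa [FixedPointFree.centralizer_zpowers]))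
  have hye : e * y * e⁻¹ ∈ zpowers y :=
    (mem_normalizer_iff.mp (hAy heA) y).mp (mem_zpowers y)
  have hVL : V ≤ L := by
    rcases hVe V hVW hVr hAV with h | h
    · exact le_of_frobenius_fixed hqr hpr hVr (hyo ▸ pow_orderOf_eq_one y) he hye hey hyV
        (hAV heA) (hYL (mem_zpowers y)) (hAL heA) (inf_le_right.trans hCyL) h
    · -- `y` centralises `V`
      refine le_trans (fun v hv => ?_) hCyL
      have hec : ∀ x ∈ V, e * x = x * e := fun x hx => (mem_centralizer_singleton_iff.mp (h hx)).symm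
      set y₁ := e * y * e⁻¹ with hy₁
      have hconj : y₁ * v * y₁⁻¹ = y * v * y⁻¹ := by
        have h1 : y * v * y⁻¹ ∈ V := (mem_normalizer_iff.mp hyV v).mp hv
        calc y₁ * v * y₁⁻¹ = e * (y * (e⁻¹ * v * e) * y⁻¹) * e⁻¹ := by rw [hy₁]; group
          _ = e * (y * v * y⁻¹) * e⁻¹ := by
            rw [mul_assoc e⁻¹ v e, ← hec v hv, inv_mul_cancel_left]
          _ = y * v * y⁻¹ := by rw [hec _ h1, mul_inv_cancel_right]
      have hc : y⁻¹ * y₁ ∈ centralizer {v} := by
        rw [mem_centralizer_singleton_iff]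
        calc y⁻¹ * y₁ * v = y⁻¹ * (y₁ * v * y₁⁻¹) * y₁ := by group
          _ = y⁻¹ * (y * v * y⁻¹) * y₁ := by rw [hconj]
          _ = v * (y⁻¹ * y₁) := by group
      have hne : y⁻¹ * y₁ ≠ 1 := fun h0 => hey (by
        have h1 : y₁ = y := (inv_mul_eq_one.mp h0).symm
        exact mul_inv_eq_iff_eq_mul.mp h1)
      have hmem : y⁻¹ * y₁ ∈ zpowers y := mul_mem (inv_mem (mem_zpowers y)) hye
      have hgen : zpowers (y⁻¹ * y₁) = zpowers y :=
        Subgroup.eq_of_le_of_card_ge (zpowers_le.mpr hmem) (by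
          rw [Nat.card_zpowers, Nat.card_zpowers]
          rw [orderOf_eq_prime (p := q) ?_ hne, hyo]
          obtain ⟨i, hi⟩ := mem_zpowers_iff.mp hmem
          rw [← hi, ← zpow_natCast, ← zpow_mul, mul_comm, zpow_mul, zpow_natCast,
            orderOf_dvd_iff_pow_eq_one.mp hyo.dvd, one_zpow])
      exact mem_centralizer_singleton_iff.mpr (mem_centralizer_singleton_iff.mp
        ((zpowers_le.mpr hc) (hgen.ge (mem_zpowers y)))).symm
  -- the `r`-part of `W` lies in `W ⊓ L`
  set J := W ⊓ L with hJ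
  have hAJ : A ≤ normalizer (J : Set G) :=
    Coprime.le_normalizer_inf hAW (hAL.trans Subgroup.le_normalizer)
  have hfac : (Nat.card W).factorization r ≤ (Nat.card J).factorization r := by
    have hsup : O ⊔ J = W := le_antisymm (sup_le hOW inf_le_left)
      (hWO.trans (sup_le_sup_left (inf_le_inf_left _ hNy) _))
    have h1 := S0606.card_sup_mul_card_inf_of_le_normalizer (H := J) (N := O)
      (inf_le_left.trans (le_normalizer_piCoreOf _ W))
    rw [sup_comm, hsup] at h1
    have h2 : r ^ (Nat.card O).factorization r ∣ Nat.card (J ⊓ O : Subgroup G) := by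
      rw [← SV.card_eq_multiplicity, ← card_map_of_injective O.subtype_injective]
      exact card_dvd_of_le (le_inf (le_inf hVW hVL) (map_subtype_le _))
    have h3 := (hr.out.pow_dvd_iff_le_factorization Nat.card_pos.ne').mp h2
    have h4 := congrArg (fun n => n.factorization r) h1
    simp only [Nat.factorization_mul Nat.card_pos.ne' Nat.card_pos.ne', Finsupp.add_apply] at h4
    omega
  obtain ⟨SJ, hSJ⟩ := Coprime.exists_invariant_sylow (p := r) hAJ
    (hcop.coprime_dvd_right (card_dvd_of_le inf_le_left)) (Or.inl hA)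
  set S₀ := (SJ : Subgroup J).map J.subtype with hS₀
  have hS₀W : S₀ ≤ W := (map_subtype_le _).trans inf_le_left
  have hSsyl : ∃ S : Sylow r W, (S : Subgroup W).map W.subtype = S₀ := by
    have hp' : IsPGroup r (S₀.subgroupOf W) :=
      (SJ.2.map _).comap_of_injective _ W.subtype_injective
    obtain ⟨S, hS⟩ := hp'.exists_le_sylow
    refine ⟨S, (Subgroup.eq_of_le_of_card_ge (?_ : S₀ ≤ _) ?_).symm⟩
    · rw [← map_subgroupOf_eq_of_le hS₀W]
      exact map_mono hS
    · rw [card_map_of_injective W.subtype_injective, S.card_eq_multiplicity, hS₀,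
        card_map_of_injective J.subtype_injective, SJ.card_eq_multiplicity]
      exact Nat.pow_le_pow_right hr.out.pos hfac
  obtain ⟨S, hS⟩ := hSsyl
  obtain ⟨T, hRT, hT⟩ := Coprime.exists_le_invariant_sylow hAW hcop (Or.inl hA) hRW hR hAR
  obtain ⟨c, hc, hcT⟩ := Coprime.exists_centralizer_conj_sylow hAW hcop (Or.inl hA) S T
    (hS ▸ hSJ) hT
  refine hRT.trans ?_
  have hcL : (c : G) ∈ L := hCA ⟨c.2, hc⟩
  rw [← hcT, Sylow.pointwise_smul_def]
  refine (Coprime.conj_smul_map_subtype c (S : Subgroup W)).le.trans ?_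
  rw [hS]
  intro x hx
  rw [Coprime.mem_conj_smul] at hx
  have hxL : (c : G)⁻¹ * x * (c : G) ∈ L := ((map_subtype_le _).trans inf_le_right) hx
  have := L.mul_mem (L.mul_mem hcL hxL) (L.inv_mem hcL)
  simpa [mul_assoc] using this

end Cfsg.Agent.OddLocal
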