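import Cfsg.Agent.OddLocal.ZGroupFixed

/-!
A `p`-group `P` cannot act nontrivially on a faithful `q`-group of automorphisms of a `p`-group in
the presence of an element of prime order which is fixed-point-free on `P` and has small fixed points
(the contradiction in BG Theorem 3.6).
-/

set_option autoImplicit false
set_option linter.unusedSectionVars false
set_option linter.style.haveILetI false

namespace Cfsg.Agent.OddLocal.ZFix

open Subgroup Cfsg
open Cfsg.Agent.FittingPQ (ActData IsPiece triv)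
open scoped commutatorElement Pointwise

universe u

variable {Γ : Type u} [Group Γ]

/-- The configuration. -/
structure CfgZ (c : Γ) (s p q : ℕ) (V Q P : Subgroup Γ) : Prop where
  hs : s.Prime
  hp : p.Prime
  hq : q.Prime
  hs2 : s ≠ 2
  hp2 : p ≠ 2
  sp : s ≠ p
  sq : s ≠ q
  qp : q ≠ p
  cs : c ^ s = 1
  commV : IsMulCommutative V
  hV : IsPGroup p V
  hQ : IsPGroup q Q
  hP : IsPGroup p P
  QV : Q ≤ normalizer (V : Set Γ)
  PV : P ≤ normalizer (V : Set Γ)
  cV : c ∈ normalizer (V : Set Γ)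
  PQ : P ≤ normalizer (Q : Set Γ)
  cQ : c ∈ normalizer (Q : Set Γ)
  cP : c ∈ normalizer (P : Set Γ)
  fP : P ⊓ centralizer {c} = ⊥
  hCV : Nat.card (V ⊓ centralizer {c} : Subgroup Γ) ≤ p
  hCQ : IsCyclic (Q ⊓ centralizer {c} : Subgroup Γ)
  faithful : Q ⊓ centralizer (V : Set Γ) = ⊥

/-- A configuration with `Q` minimal. -/
structure MinCfgZ (c : Γ) (s p q : ℕ) (V Q P : Subgroup Γ) : Prop where
  cfg : CfgZ c s p q V Q P
  comm : ⁅Q, P⁆ = Q
  minQ : ∀ L : Subgroup Γ, L ≤ Q → L ≠ Q → P ⊔ zpowers c ≤ normalizer (L : Set Γ) →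
    P ≤ centralizer (L : Set Γ)
  ne : Q ≠ ⊥

variable [Finite Γ] {c : Γ} {s p q : ℕ} {V Q P : Subgroup Γ}

theorem CfgZ.coprime_s (h : CfgZ c s p q V Q P) :
    s.Coprime (Nat.card V) ∧ s.Coprime (Nat.card Q) ∧ s.Coprime (Nat.card P) := by
  have := Fact.mk h.hp
  have := Fact.mk h.hq
  obtain ⟨a, ha⟩ := h.hV.exists_card_eq
  obtain ⟨b, hb⟩ := h.hQ.exists_card_eq
  obtain ⟨d, hd⟩ := h.hP.exists_card_eq
  rw [ha, hb, hd]
  exact ⟨((Nat.coprime_primes h.hs h.hp).mpr h.sp).pow_right a,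
    ((Nat.coprime_primes h.hs h.hq).mpr h.sq).pow_right b,
    ((Nat.coprime_primes h.hs h.hp).mpr h.sp).pow_right d⟩

theorem CfgZ.coprime_Q (h : CfgZ c s p q V Q P) :
    (Nat.card Q).Coprime (Nat.card V) ∧ (Nat.card P).Coprime (Nat.card Q) ∧ ¬ q ∣ Nat.card V := by
  have := Fact.mk h.hp
  have := Fact.mk h.hq
  obtain ⟨a, ha⟩ := h.hV.exists_card_eq
  obtain ⟨b, hb⟩ := h.hQ.exists_card_eq
  obtain ⟨d, hd⟩ := h.hP.exists_card_eq
  rw [ha, hb, hd]
  exact ⟨((Nat.coprime_primes h.hq h.hp).mpr h.qp).pow b a,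
    ((Nat.coprime_primes h.hp h.hq).mpr (Ne.symm h.qp)).pow d b,
    fun hd => h.qp ((Nat.prime_dvd_prime_iff_eq h.hq h.hp).mp (h.hq.dvd_of_dvd_pow hd))⟩

theorem CfgZ.comm_P (h : CfgZ c s p q V Q P) : ⁅P, zpowers c⁆ = P :=
  commutator_eq_self h.cs h.cP h.coprime_s.2.2 h.fP

theorem MinCfgZ.frattini_facts (h : MinCfgZ c s p q V Q P) :
    ∃ F : Subgroup Γ, F ≤ Q ∧ F ≠ Q ∧ P ≤ centralizer (F : Set Γ) ∧ Q ≤ centralizer (F : Set Γ) ∧
      ⁅Q, Q⁆ ≤ F ∧ (∀ x ∈ Q, x ^ q ∈ F) ∧ IsElementaryAbelian q ⁅Q, Q⁆ := by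
  have := Fact.mk h.cfg.hq
  exact class_two_of_minimal h.cfg.hQ h.cfg.PQ h.comm h.ne fun L hL hne hn =>
    h.minQ L hL hne (le_trans (sup_le h.cfg.PQ (zpowers_le.mpr h.cfg.cQ)) hn)

/-- `Q` is not abelian. -/
theorem MinCfgZ.false_of_abelian (h : MinCfgZ c s p q V Q P) (hab : IsMulCommutative Q) : False := by
  classical
  have hc := h.cfg
  have := Fact.mk hc.hp
  have := Fact.mk hc.hq
  have := Fact.mk hc.hs
  haveI := hc.commV
  haveI := hab
  obtain ⟨hcopQV, hcopPQ, hqV⟩ := hc.coprime_Q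
  obtain ⟨F, hFQ, -, hPF, -, -, hpow, -⟩ := h.frattini_facts
  have hQe : IsElementaryAbelian q Q := by
    refine ⟨hab, fun x hx => mem_bot.mp ?_⟩
    have h0 := Coprime.centralizer_inf_commutator_eq_bot hc.PQ hcopPQ
    rw [h.comm] at h0
    exact h0.le ⟨⟨hFQ (hpow x hx), le_centralizer_iff.mp hPF (hpow x hx)⟩, hFQ (hpow x hx)⟩
  obtain ⟨hd, hfd⟩ := FittingPQ.actData_commutator hc.hq hQe hc.QV hqV hc.faithful
  set V' := ⁅V, Q⁆ with hV'
  have hV'V : V' ≤ V := Coprime.commutator_le_of_le_normalizer hc.QV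
  have hV'ne : V' ≠ ⊥ := fun h0 => h.ne (by
    rw [← hfd, h0, coe_bot, show centralizer ({1} : Set Γ) = ⊤ from eq_top_iff.mpr fun x _ =>
      mem_centralizer_singleton_iff.mpr (by simp), inf_top_eq])
  haveI := hd.commV
  have hPV' : P ≤ normalizer (V' : Set Γ) := FixedPointFree.le_normalizer_commutator' hc.PV hc.PQ
  have hcV' : c ∈ normalizer (V' : Set Γ) := FixedPointFree.mem_normalizer_commutator hc.cV hc.cQ
  set C := zpowers c with hC
  have hCV' : C ≤ normalizer (V' : Set Γ) := zpowers_le.mpr hcV'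
  have hCQ : C ≤ normalizer (Q : Set Γ) := zpowers_le.mpr hc.cQ
  -- no piece fixed by `P` has a small fixed space or is fixed by `c`
  have hstar : ∀ B, IsPiece q V' Q B → P ≤ normalizer (B : Set Γ) →
      ¬ (c ∈ normalizer (B : Set Γ) ∨ Nat.card (V' ⊓ centralizer (B : Set Γ) : Subgroup Γ) ≤ p) := by
    intro B hB hPB hor
    refine hd.piece_ne hB (le_antisymm hB.le ?_)
    rcases hor with hcB | hsmall
    · rw [← h.comm]
      refine FittingPQ.commutator_le_of_le_triv ?_
      rw [← hc.comm_P, commutator_le]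
      intro y hy z hz
      have hzQ := hCQ hz
      have hzB : z ∈ normalizer (B : Set Γ) := zpowers_le.mpr hcB hz
      refine ⟨mul_mem (mul_mem (mul_mem (hc.PQ hy) hzQ) (inv_mem (hc.PQ hy))) (inv_mem hzQ),
        mul_mem (mul_mem (mul_mem (hPB hy) hzB) (inv_mem (hPB hy))) (inv_mem hzB), fun a ha => ?_⟩
      have hn : (z * y)⁻¹ ∈ normalizer (Q : Set Γ) := inv_mem (mul_mem hzQ (hc.PQ hy))
      have h1 := hd.commutator_mem_piece hB (hc.PQ hy) (hPB hy) hzQ hzB
        ((mem_normalizer_iff.mp hn a).mp ha)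
      have he : (y * z) * ((z * y)⁻¹ * a * ((z * y)⁻¹)⁻¹) * (y * z)⁻¹ *
          ((z * y) * ((z * y)⁻¹ * a * ((z * y)⁻¹)⁻¹) * (z * y)⁻¹)⁻¹ = ⁅⁅y, z⁆, a⁆ := by
        simp only [commutatorElement_def]
        group
      exact he ▸ h1
    · set W := V' ⊓ centralizer (B : Set Γ) with hW
      have hQW : Q ≤ normalizer (W : Set Γ) :=
        Coprime.le_normalizer_inf hd.normal (Coprime.le_normalizer_centralizer (hd.le_normalizer hB.le))
      have hPW : P ≤ normalizer (W : Set Γ) :=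
        Coprime.le_normalizer_inf hPV' (Coprime.le_normalizer_centralizer hPB)
      have hPc := le_centralizer_of_card_le hc.hP (hc.hV.to_le (inf_le_left.trans hV'V)) hPW hsmall
      rw [← hd.piece_kernel hB le_rfl hB.ne_bot]
      refine le_inf le_rfl (commutator_eq_bot_iff_le_centralizer.mp ?_)
      have h1 : ⁅⁅Q, W⁆, P⁆ = ⊥ := by
        refine le_bot_iff.mp ((commutator_mono
          (le_normalizer_iff_commutator_le_right.mp hQW) le_rfl).trans ?_)
        rw [le_bot_iff, commutator_eq_bot_iff_le_centralizer]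
        exact le_centralizer_iff.mp hPc
      have h2 : ⁅⁅W, P⁆, Q⁆ = ⊥ := by
        rw [commutator_eq_bot_iff_le_centralizer.mpr (le_centralizer_iff.mp hPc), commutator_bot_left]
      have h3 := Subgroup.commutator_commutator_eq_bot_of_rotate h1 h2
      rwa [commutator_comm P Q, h.comm] at h3
  letI : MulAction Γ (Subgroup Γ) :=
    MulAction.compHom (Subgroup Γ) (MulAut.conj : Γ →* MulAut Γ)
  have hsmul : ∀ (g : Γ) (B : Subgroup Γ), g • B = MulAut.conj g • B := fun _ _ => rfl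
  have hfix : ∀ (g : Γ) (B : Subgroup Γ), g • B = B ↔ g ∈ normalizer (B : Set Γ) := fun g B =>
    ⟨Coprime.mem_normalizer_of_conj_smul_eq, Coprime.conj_smul_eq_self_of_mem_normalizer⟩
  -- the map sending a vector to the product of its conjugates under `C`
  have hcard : c ≠ 1 → Nat.card C = s := fun hc1 => by
    rw [hC, Nat.card_zpowers, orderOf_eq_prime hc.cs hc1]
  letI : Fintype C := Fintype.ofFinite C
  let φ : normalizer (V' : Set Γ) →* MulAut V' := V'.normalizerMonoidHom
  let ι : C → normalizer (V' : Set Γ) := fun t => ⟨t, hCV' t.2⟩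
  open scoped IsMulCommutative in
  let Nm : V' →* V' :=
    { toFun := fun w => ∏ t, φ (ι t) w
      map_one' := by simp
      map_mul' := fun a b => by rw [← Finset.prod_mul_distrib]; simp }
  have hNm : ∀ w : V', ((Nm w : V') : Γ) ∈ centralizer {c} := by
    intro w
    open scoped IsMulCommutative in
    have h1 : φ ⟨c, hcV'⟩ (Nm w) = Nm w := by
      show φ ⟨c, hcV'⟩ (∏ t, φ (ι t) w) = ∏ t, φ (ι t) w
      rw [map_prod]
      refine Fintype.prod_equiv (Equiv.mulLeft (⟨c, mem_zpowers c⟩ : C)) _ _ fun t => ?_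
      rw [← MulAut.mul_apply, ← map_mul]
      rfl
    exact mem_centralizer_singleton_iff.mpr
      (mul_inv_eq_iff_eq_mul.mp (congrArg Subtype.val h1)).symm
  have horbit : ∀ B, IsPiece q V' Q B → c ∉ normalizer (B : Set Γ) →
      Function.Injective (fun t : C => (t : Γ) • B) := by
    intro B _ hcB t t' hte
    by_contra hne
    have hu : (t'⁻¹ * t : C) ≠ 1 := fun he => hne (inv_mul_eq_one.mp he).symm
    have hu' : ((t'⁻¹ * t : C) : Γ) ∈ normalizer (B : Set Γ) := by
      rw [← hfix, Subgroup.coe_mul, Subgroup.coe_inv, mul_smul]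
      have hte' : (t : Γ) • B = (t' : Γ) • B := hte
      rw [hte', inv_smul_smul]
    haveI : Fact (Nat.card C).Prime := ⟨by
      rw [hcard (fun h0 => hcB (h0 ▸ one_mem _))]; exact hc.hs⟩
    obtain ⟨i, hi⟩ := mem_zpowers_iff.mp
      ((zpowers_eq_top_of_prime_card rfl hu).ge (mem_top (⟨c, mem_zpowers c⟩ : C)))
    refine hcB ?_
    have hci := congrArg Subtype.val hi
    rw [SubgroupClass.coe_zpow] at hci
    have h2 := zpow_mem hu' i
    rw [hci] at h2
    exact h2
  have hmoved : ∀ B, IsPiece q V' Q B → c ∉ normalizer (B : Set Γ) →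
      Nat.card (V' ⊓ centralizer (B : Set Γ) : Subgroup Γ) ≤ p ∧
      ∀ B', IsPiece q V' Q B' → c ∉ normalizer (B' : Set Γ) → ∃ t : C, (t : Γ) • B = B' := by
    intro B hB hcB
    let Wsub : Subgroup Γ → Subgroup V' := fun D => (centralizer (D : Set Γ)).subgroupOf V'
    have hWcard : ∀ D : Subgroup Γ,
        Nat.card (Wsub D) = Nat.card (V' ⊓ centralizer (D : Set Γ) : Subgroup Γ) := fun D => by
      show Nat.card ((centralizer (D : Set Γ)).subgroupOf V') = _
      rw [← inf_subgroupOf_left, Coprime.card_subgroupOf inf_le_left]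
    set Cfix : Subgroup V' := (centralizer {c}).subgroupOf V' with hCfix
    have hCcard : Nat.card Cfix ≤ p := by
      rw [hCfix, ← inf_subgroupOf_left, Coprime.card_subgroupOf inf_le_left]
      exact (Nat.le_of_dvd Nat.card_pos (card_dvd_of_le (inf_le_inf_right _ hV'V))).trans hc.hCV
    have hws : ∀ D (t : C) (w : V'), w ∈ Wsub D →
        ((φ (ι t) w : V') : Γ) ∈ centralizer (((t : Γ) • D : Subgroup Γ) : Set Γ) := by
      intro D t w hw
      rw [hsmul, FittingPQ.centralizer_conj]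
      exact Coprime.conj_mem_conj_smul (show (w : Γ) ∈ centralizer (D : Set Γ) from hw)
    have hinj : ∀ D, IsPiece q V' Q D → c ∉ normalizer (D : Set Γ) →
        ∀ w ∈ Wsub D, Nm w = 1 → w = 1 := by
      intro D hD hcD w hw hw1
      have h1 := hd.pieces_independent (fun t : C => (t : Γ) • D)
        (fun t => hd.piece_conj hD (hCV' t.2) (hCQ t.2)) (horbit D hD hcD) (fun t => φ (ι t) w)
        (fun t => hws D t w hw) hw1 1
      rwa [show ι 1 = 1 from rfl, map_one] at h1
    have hrange : ∀ D, IsPiece q V' Q D → c ∉ normalizer (D : Set Γ) →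
        Nat.card (V' ⊓ centralizer (D : Set Γ) : Subgroup Γ) ≤ p ∧ (Wsub D).map Nm = Cfix := by
      intro D hD hcD
      have hle : (Wsub D).map Nm ≤ Cfix := by
        rintro _ ⟨w, -, rfl⟩
        exact hNm w
      have hinjD : Function.Injective (Nm.comp (Wsub D).subtype) :=
        (injective_iff_map_eq_one _).mpr fun w hw => Subtype.ext (hinj D hD hcD w w.2 hw)
      have hmapc : Nat.card ((Wsub D).map Nm) = Nat.card (Wsub D) := by
        conv_lhs => rw [← range_subtype (Wsub D), MonoidHom.map_range]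
        exact (Nat.card_congr (MonoidHom.ofInjective hinjD).toEquiv).symm
      have hW1 : Nat.card (Wsub D) ≤ p := by
        rw [← hmapc]
        exact (Nat.le_of_dvd Nat.card_pos (card_dvd_of_le hle)).trans hCcard
      refine ⟨hWcard D ▸ hW1, eq_of_le_of_card_ge hle (hCcard.trans ?_)⟩
      rw [hmapc, hWcard]
      obtain ⟨j, hj⟩ := (hc.hV.to_le ((inf_le_left (b := centralizer (D : Set Γ))).trans hV'V)).exists_card_eq
      rw [hj]
      exact Nat.le_self_pow (fun h0 => hD.ne_bot (Subgroup.card_eq_one.mp (by rw [hj, h0, pow_zero]))) p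
    refine ⟨(hrange B hB hcB).1, fun B' hB' hcB' => ?_⟩
    by_contra! hno
    obtain ⟨w, hw, hw1⟩ : ∃ w ∈ Wsub B, w ≠ 1 := by
      by_contra! hall
      refine hB.ne_bot ((Subgroup.eq_bot_iff_forall _).mpr fun x hx => ?_)
      exact congrArg Subtype.val (hall ⟨x, hx.1⟩ hx.2)
    obtain ⟨w', hw', hww⟩ : ∃ w' ∈ Wsub B', Nm w' = Nm w := by
      have h1 := (hrange B hB hcB).2.le (mem_map_of_mem Nm hw)
      rwa [← (hrange B' hB' hcB').2, mem_map] at h1
    open scoped IsMulCommutative in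
    have h1 := hd.pieces_independent
      (Sum.elim (fun t : C => (t : Γ) • B) (fun t : C => (t : Γ) • B'))
      (by
        rintro (t | t)
        · exact hd.piece_conj hB (hCV' t.2) (hCQ t.2)
        · exact hd.piece_conj hB' (hCV' t.2) (hCQ t.2))
      (by
        rintro (t | t) (t' | t') hte
        · exact congrArg Sum.inl (horbit B hB hcB hte)
        · refine absurd ?_ (hno (t'⁻¹ * t))
          have hte' : (t : Γ) • B = (t' : Γ) • B' := hte
          rw [Subgroup.coe_mul, Subgroup.coe_inv, mul_smul, hte', inv_smul_smul]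
        · refine absurd ?_ (hno (t⁻¹ * t'))
          have hte' : (t : Γ) • B' = (t' : Γ) • B := hte
          rw [Subgroup.coe_mul, Subgroup.coe_inv, mul_smul, ← hte', inv_smul_smul]
        · exact congrArg Sum.inr (horbit B' hB' hcB' hte))
      (Sum.elim (fun t => φ (ι t) w) (fun t => φ (ι t) w'⁻¹))
      (by
        rintro (t | t)
        · exact hws B t w hw
        · exact hws B' t _ (inv_mem hw'))
      (by
        rw [Fintype.prod_sum_type]
        show Nm w * Nm w'⁻¹ = 1
        rw [map_inv, hww, mul_inv_cancel])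
      (Sum.inl 1)
    refine hw1 ?_
    rwa [Sum.elim_inl, show ι 1 = 1 from rfl, map_one] at h1
  -- `c`-fixed pieces in one `P`-orbit coincide
  have huniq : ∀ x, IsPiece q V' Q x → c ∈ normalizer (x : Set Γ) → ∀ k ∈ P,
      c ∈ normalizer ((k • x : Subgroup Γ) : Set Γ) → k • x = x := by
    intro x _ hcx k hk hckx
    obtain ⟨c0, hc0, hc0x⟩ := Coprime.exists_centralizer_smul_eq (X := Subgroup Γ) (A := C) (K := P)
      (zpowers_le.mpr hc.cP) (coprime_zpowers hc.cs hc.coprime_s.2.2)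
      (Or.inl (isSolvable_zpowers c))
      (fun a ha => (hfix a x).mpr (zpowers_le.mpr hcx ha))
      (fun a ha => (hfix a _).mpr (zpowers_le.mpr hckx ha)) hk rfl
    rw [hC, FixedPointFree.centralizer_zpowers, hc.fP, mem_bot] at hc0
    rw [← hc0x, hc0, one_smul]
  have hP_mem : ∀ B, IsPiece q V' Q B → ∀ k ∈ P, IsPiece q V' Q (k • B) := fun B hB k hk =>
    hd.piece_conj hB (hPV' hk) (hc.PQ hk)
  by_cases hex : ∃ B, IsPiece q V' Q B ∧ c ∉ normalizer (B : Set Γ)
  swap
  · push Not at hex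
    obtain ⟨x, hx, -⟩ := hd.exists_piece le_rfl hd.normal hV'ne
    exact hstar x hx (fun k hk => (hfix k x).mp (huniq x hx (hex x hx) k hk
      (hex _ (hP_mem x hx k hk)))) (Or.inl (hex x hx))
  obtain ⟨B₀, hB₀, hcB₀⟩ := hex
  set O : Set (Subgroup Γ) := Set.range (fun t : C => (t : Γ) • B₀) with hO
  have hOmem : ∀ b, b ∈ O ↔ IsPiece q V' Q b ∧ c ∉ normalizer (b : Set Γ) := by
    intro b
    refine ⟨?_, fun hb => (hmoved B₀ hB₀ hcB₀).2 b hb.1 hb.2⟩
    rintro ⟨t, rfl⟩
    refine ⟨hd.piece_conj hB₀ (hCV' t.2) (hCQ t.2), fun hn => hcB₀ ?_⟩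
    have hn' : c • ((t : Γ) • B₀) = (t : Γ) • B₀ := (hfix _ _).mpr hn
    obtain ⟨i, hi⟩ := mem_zpowers_iff.mp t.2
    rw [← hfix]
    rw [← mul_smul, show c * (t : Γ) = (t : Γ) * c by rw [← hi]; exact (Commute.zpow_right rfl i).eq,
      mul_smul] at hn'
    exact MulAction.injective (t : Γ) hn'
  have hOcard : Nat.card O = s := by
    rw [hO, Nat.card_range_of_injective (horbit B₀ hB₀ hcB₀),
      hcard (fun h0 => hcB₀ (h0 ▸ one_mem _))]
  by_cases hinv : ∀ b ∈ O, ∀ k ∈ P, k • b ∈ O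
  · letI : MulAction P O :=
      { smul := fun k b => ⟨(k : Γ) • (b : Subgroup Γ), hinv b b.2 k k.2⟩
        one_smul := fun b => Subtype.ext (one_smul Γ (b : Subgroup Γ))
        mul_smul := fun k k' b => Subtype.ext (mul_smul (k : Γ) (k' : Γ) (b : Subgroup Γ)) }
    have h1 := hc.hP.card_modEq_card_fixedPoints O
    haveI : IsEmpty (MulAction.fixedPoints P O) := ⟨fun ⟨b, hb⟩ => by
      obtain ⟨hbp, hbc⟩ := (hOmem b).mp b.2
      exact hstar b hbp (fun k hk => (hfix k b).mp (congrArg Subtype.val (hb ⟨k, hk⟩)))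
        (Or.inr (hmoved b hbp hbc).1)⟩
    rw [hOcard, Nat.card_of_isEmpty] at h1
    exact hc.sp ((Nat.prime_dvd_prime_iff_eq hc.hp hc.hs).mp (Nat.modEq_zero_iff_dvd.mp h1)).symm
  push Not at hinv
  obtain ⟨b, hb, k, hk, hkb⟩ := hinv
  obtain ⟨hbp, hbc⟩ := (hOmem b).mp hb
  set x := k • b with hx
  have hxp : IsPiece q V' Q x := hP_mem b hbp k hk
  have hxc : c ∈ normalizer (x : Set Γ) := by
    by_contra hn
    exact hkb ((hOmem x).mpr ⟨hxp, hn⟩)
  set Δ := MulAction.orbit P x with hΔ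
  have hbΔ : b ∈ Δ := ⟨⟨k⁻¹, inv_mem hk⟩, inv_smul_smul k b⟩
  have hΔeq : Δ = insert x O := by
    apply Set.Subset.antisymm
    · rintro _ ⟨k', rfl⟩
      by_cases hn : c ∈ normalizer (((k' : Γ) • x : Subgroup Γ) : Set Γ)
      · exact Or.inl (huniq x hxp hxc k' k'.2 hn)
      · exact Or.inr ((hOmem _).mpr ⟨hP_mem x hxp k' k'.2, hn⟩)
    · rintro d (rfl | hd')
      · exact MulAction.mem_orbit_self _
      · obtain ⟨t, rfl⟩ := (hmoved b hbp hbc).2 d ((hOmem d).mp hd').1 ((hOmem d).mp hd').2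
        obtain ⟨k', hk'⟩ := hbΔ
        have htP : (t : Γ) * (k' : Γ) * (t : Γ)⁻¹ ∈ P :=
          (mem_normalizer_iff.mp (zpowers_le.mpr hc.cP t.2) _).mp k'.2
        refine ⟨⟨_, htP⟩, ?_⟩
        have hk'' : (k' : Γ) • x = b := hk'
        show ((t : Γ) * (k' : Γ) * (t : Γ)⁻¹) • x = (t : Γ) • b
        rw [mul_smul, mul_smul, (hfix _ x).mpr (inv_mem (zpowers_le.mpr hxc t.2)), hk'']
  obtain ⟨a, ha⟩ := hc.hP.card_orbit x
  rw [show MulAction.orbit P x = insert x O from hΔeq, Nat.card_coe_set_eq,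
    Set.ncard_insert_of_notMem hkb, ← Nat.card_coe_set_eq, hOcard] at ha
  exact Nat.not_even_iff_odd.mpr ((hc.hp.odd_of_ne_two hc.hp2).pow (n := a))
    (ha ▸ (hc.hs.odd_of_ne_two hc.hs2).add_one)

/-- `Q` is not nonabelian. -/
theorem MinCfgZ.false_of_nonabelian (h : MinCfgZ c s p q V Q P) (hne : ¬ IsMulCommutative Q) :
    False := by
  have hc := h.cfg
  have := Fact.mk hc.hp
  have := Fact.mk hc.hq
  haveI := hc.commV
  obtain ⟨hcopQV, hcopPQ, hqV⟩ := hc.coprime_Q
  obtain ⟨hsV, hsQ, hsP⟩ := hc.coprime_s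
  obtain ⟨F, hFQ, -, hPF, hQF, hDF, -, hDe⟩ := h.frattini_facts
  set Z := ⁅Q, Q⁆ with hZ
  have hZQ : Z ≤ Q := commutator_le_self Q
  have hPZ : P ≤ centralizer (Z : Set Γ) := hPF.trans (centralizer_le hDF)
  have hQZ : Q ≤ centralizer (Z : Set Γ) := hQF.trans (centralizer_le hDF)
  have hcZ : c ∈ normalizer (Z : Set Γ) := FixedPointFree.mem_normalizer_commutator hc.cQ hc.cQ
  set C := zpowers c with hC
  haveI := hDe.1
  have hcopC : (Nat.card C).Coprime (Nat.card Q) := coprime_zpowers hc.cs hsQ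
  -- `c` centralises the derived group
  have hCZ : C ≤ centralizer (Z : Set Γ) := by
    rw [le_centralizer_iff, ← commutator_eq_bot_iff_le_centralizer]
    set X := ⁅Z, C⁆ with hX
    by_contra hXne
    have hXZ : X ≤ Z := Coprime.commutator_le_of_le_normalizer (zpowers_le.mpr hcZ)
    have hcX : c ∈ normalizer (X : Set Γ) := normalizer_commutator_ge_right Z C (mem_zpowers c)
    have hfX : X ⊓ centralizer {c} = ⊥ := by
      rw [← FixedPointFree.centralizer_zpowers, eq_bot_iff]
      exact fun y hy => (Coprime.centralizer_inf_commutator_eq_bot (zpowers_le.mpr hcZ)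
        (hcopC.coprime_dvd_right (card_dvd_of_le hZQ))).le ⟨⟨hXZ hy.1, hy.2⟩, hy.1⟩
    have hXQ := hXZ.trans hZQ
    have hXV : X ≤ normalizer (V : Set Γ) := hXQ.trans hc.QV
    have hcop : (Nat.card X).Coprime (Nat.card V) := hcopQV.coprime_dvd_left (card_dvd_of_le hXQ)
    set V1 := ⁅V, X⁆ with hV1
    have hV1V : V1 ≤ V := Coprime.commutator_le_of_le_normalizer hXV
    haveI : IsMulCommutative V1 := ⟨⟨fun a b => Subtype.ext (setLike_mul_comm (hV1V a.2) (hV1V b.2))⟩⟩
    have hV1ne : V1 ≠ ⊥ := fun h0 => hXne (by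
      rw [eq_bot_iff, ← hc.faithful]
      exact le_inf hXQ (le_centralizer_iff.mp (commutator_eq_bot_iff_le_centralizer.mp h0)))
    have hXC : ∀ {g : Γ}, g ∈ centralizer (Z : Set Γ) → g ∈ centralizer (X : Set Γ) :=
      fun {g} hg => centralizer_le hXZ hg
    have hnV1 : ∀ {g : Γ}, g ∈ normalizer (V : Set Γ) → g ∈ centralizer (Z : Set Γ) →
        g ∈ normalizer (V1 : Set Γ) := fun {g} h1 h2 =>
      FixedPointFree.mem_normalizer_commutator h1 (centralizer_le_normalizer _ (hXC h2))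
    have hQV1 : Q ≤ normalizer (V1 : Set Γ) := fun g hg => hnV1 (hc.QV hg) (hQZ hg)
    have hPV1 : P ≤ normalizer (V1 : Set Γ) := fun g hg => hnV1 (hc.PV hg) (hPZ hg)
    have hcV1 : c ∈ normalizer (V1 : Set Γ) := FixedPointFree.mem_normalizer_commutator hc.cV hcX
    have hXV1 : X ≤ normalizer (V1 : Set Γ) := hXQ.trans hQV1
    have hfix1 : V1 ⊓ centralizer (X : Set Γ) = ⊥ := by
      rw [eq_bot_iff]
      exact fun v hv => (Coprime.centralizer_inf_commutator_eq_bot hXV hcop).le
        ⟨⟨hV1V hv.1, hv.2⟩, hv.1⟩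
    set A := V1 ⊓ centralizer (P : Set Γ) with hA
    have hAne : A ≠ ⊥ := inf_centralizer_ne_bot hc.hP V1 (hc.hV.to_le hV1V) hPV1 hV1ne
    have hXA : X ≤ normalizer (A : Set Γ) := Coprime.le_normalizer_inf hXV1
      (Coprime.le_normalizer_centralizer
        ((le_centralizer_iff.mp fun g hg => hXC (hPZ hg)).trans (centralizer_le_normalizer _)))
    have hcA : c ∈ normalizer (A : Set Γ) := Coprime.le_normalizer_inf (zpowers_le.mpr hcV1)
      (Coprime.le_normalizer_centralizer (zpowers_le.mpr hc.cP)) (mem_zpowers c)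
    haveI : IsMulCommutative A := ⟨⟨fun a b => Subtype.ext
      (setLike_mul_comm (hV1V a.2.1) (hV1V b.2.1))⟩⟩
    have hAc : A ⊓ centralizer {c} ≠ ⊥ := fun h0 => by
      have h1 := FixedPointFree.le_centralizer_of_frobenius hc.hs hc.cs hXA hcA hcX
        (hcop.coprime_dvd_right (card_dvd_of_le (inf_le_left.trans hV1V))) h0 hfX
      refine hAne (le_bot_iff.mp ?_)
      rw [← hfix1]
      exact le_inf inf_le_left (le_centralizer_iff.mp h1)
    have hsub : V1 ⊓ centralizer {c} ≤ A := by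
      have h1 : A ⊓ centralizer {c} ≤ V1 ⊓ centralizer {c} := inf_le_inf_right _ inf_le_left
      refine (eq_of_le_of_card_ge h1 ?_).ge.trans inf_le_left
      obtain ⟨j, hj⟩ := (hc.hV.to_le (inf_le_left.trans (inf_le_left.trans hV1V)) :
        IsPGroup p (A ⊓ centralizer {c} : Subgroup Γ)).exists_card_eq
      rw [hj]
      refine le_trans ?_ (Nat.le_self_pow (fun h0 => hAc (Subgroup.card_eq_one.mp
        (by rw [hj, h0, pow_zero]))) p)
      exact (Nat.le_of_dvd Nat.card_pos (card_dvd_of_le (inf_le_inf_right _ hV1V))).trans hc.hCV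
    have hP1 : P ≤ centralizer (V1 : Set Γ) := le_centralizer_iff.mp
      ((le_of_frobenius_fixed hc.hs hc.cs hXV1 hcV1 hcX
        (hcop.coprime_dvd_right (card_dvd_of_le hV1V)) hfix1 hfX hsub hXA).trans inf_le_right)
    have hQ1 : Q ≤ centralizer (V1 : Set Γ) := by
      refine commutator_eq_bot_iff_le_centralizer.mp ?_
      have h1 : ⁅⁅Q, V1⁆, P⁆ = ⊥ := by
        refine le_bot_iff.mp ((commutator_mono
          (le_normalizer_iff_commutator_le_right.mp hQV1) le_rfl).trans ?_)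
        rw [le_bot_iff, commutator_eq_bot_iff_le_centralizer]
        exact le_centralizer_iff.mp hP1
      have h2 : ⁅⁅V1, P⁆, Q⁆ = ⊥ := by
        rw [commutator_eq_bot_iff_le_centralizer.mpr (le_centralizer_iff.mp hP1), commutator_bot_left]
      have h3 := Subgroup.commutator_commutator_eq_bot_of_rotate h1 h2
      rwa [commutator_comm P Q, h.comm] at h3
    exact hV1ne (le_bot_iff.mp ((le_inf le_rfl
      (le_centralizer_iff.mp (hXQ.trans hQ1))).trans hfix1.le))
  -- the fixed points of `c` on `Q` are central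
  set Zc := Q ⊓ centralizer (Q : Set Γ) with hZc
  have hfc : Q ⊓ centralizer {c} ≤ Zc := by
    rintro d ⟨hd, hdc⟩
    refine ⟨hd, mem_centralizer_iff.mpr fun g hg => ?_⟩
    have hcom : ∀ a ∈ Q, ∀ b ∈ Q, ⁅d, a * b⁆ = ⁅d, a⁆ * ⁅d, b⁆ := by
      intro a ha b hb
      have hz : a * ⁅d, b⁆ = ⁅d, b⁆ * a :=
        (mem_centralizer_iff.mp (hQZ ha) _ (commutator_mem_commutator hd hb)).symm
      calc ⁅d, a * b⁆ = ⁅d, a⁆ * (a * ⁅d, b⁆ * a⁻¹) := by simp only [commutatorElement_def]; group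
        _ = ⁅d, a⁆ * ⁅d, b⁆ := by rw [hz, mul_inv_cancel_right]
    have hgen : Q ≤ centralizer {d} := by
      rw [← Coprime.commutator_sup_centralizer (zpowers_le.mpr hc.cQ) hcopC
        (Or.inl (isSolvable_zpowers c))]
      refine sup_le (commutator_le.mpr fun a ha t ht => ?_) fun e he => ?_
      · have htd : t * d = d * t := by
          have : Commute d c := mem_centralizer_singleton_iff.mp hdc
          obtain ⟨i, rfl⟩ := mem_zpowers_iff.mp ht
          exact (this.zpow_right i).eq.symm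
        have htQ : t * a⁻¹ * t⁻¹ ∈ Q :=
          (mem_normalizer_iff.mp (zpowers_le.mpr hc.cQ ht) _).mp (inv_mem ha)
        have hta : ⁅d, t * a⁻¹ * t⁻¹⁆ = ⁅d, a⁻¹⁆ := by
          have h1 : t * ⁅d, a⁻¹⁆ * t⁻¹ = ⁅d, a⁻¹⁆ := by
            rw [← mem_centralizer_iff.mp (hCZ ht) _ (commutator_mem_commutator hd (inv_mem ha)),
              mul_inv_cancel_right]
          conv_rhs => rw [← h1]
          rw [← MulAut.conj_apply t ⁅d, a⁻¹⁆, map_commutatorElement, MulAut.conj_apply,
            MulAut.conj_apply, htd, mul_inv_cancel_right]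
        rw [mem_centralizer_singleton_iff]
        refine (commutatorElement_eq_one_iff_mul_comm.mp ?_).symm
        rw [show ⁅a, t⁆ = a * (t * a⁻¹ * t⁻¹) by simp only [commutatorElement_def]; group,
          hcom a ha _ htQ, hta, ← hcom a ha _ (inv_mem ha), mul_inv_cancel]
        simp
      · rw [FixedPointFree.centralizer_zpowers] at he
        haveI := hc.hCQ
        exact mem_centralizer_singleton_iff.mpr
          (congrArg Subtype.val ((inferInstance : IsMulCommutative (Q ⊓ centralizer {c} : Subgroup Γ)).is_comm.comm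
            ⟨e, he⟩ ⟨d, hd, hdc⟩))
    exact mem_centralizer_singleton_iff.mp (hgen hg)
  -- `P` centralises `Q` modulo the centre
  set N0 := normalizer (Zc : Set Γ) with hN0
  have hnor : ∀ {g : Γ}, g ∈ normalizer (Q : Set Γ) → g ∈ N0 := fun {g} hg =>
    Coprime.le_normalizer_inf (A := normalizer (Q : Set Γ)) le_rfl
      (Coprime.le_normalizer_centralizer le_rfl) hg
  have hQ0 : Q ≤ N0 := fun g hg => hnor (Subgroup.le_normalizer hg)
  have hP0 : P ≤ N0 := fun g hg => hnor (hc.PQ hg)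
  let cN : N0 := ⟨c, hnor hc.cQ⟩
  have hcNs : cN ^ s = 1 := Subtype.ext (by simpa [cN] using hc.cs)
  haveI : (Zc.subgroupOf N0).Normal := normal_subgroupOf_iff_le_normalizer Subgroup.le_normalizer |>.mpr le_rfl
  set f := QuotientGroup.mk' (Zc.subgroupOf N0) with hf
  have hker : f.ker ≤ Q.subgroupOf N0 := by
    rw [hf, QuotientGroup.ker_mk']
    exact comap_mono inf_le_left
  set U := (Q.subgroupOf N0).map f with hU
  haveI : IsMulCommutative U := ⟨⟨by
    rintro ⟨_, x, hx, rfl⟩ ⟨_, y, hy, rfl⟩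
    refine Subtype.ext (commutatorElement_eq_one_iff_mul_comm.mp ?_)
    show ⁅f x, f y⁆ = 1
    rw [← map_commutatorElement, ← MonoidHom.mem_ker, hf, QuotientGroup.ker_mk', mem_subgroupOf]
    have hxy : ⁅(x : Γ), (y : Γ)⁆ ∈ Z := commutator_mem_commutator hx hy
    exact ⟨hZQ hxy, le_centralizer_iff.mp hQZ hxy⟩⟩⟩
  have hmap : ∀ {g : N0} {H : Subgroup Γ}, (g : Γ) ∈ normalizer (H : Set Γ) →
      f g ∈ normalizer ((H.subgroupOf N0).map f : Set (N0 ⧸ Zc.subgroupOf N0)) := by
    intro g H hg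
    refine le_normalizer_map f ⟨g, ?_, rfl⟩
    rw [SetLike.mem_coe, mem_normalizer_iff]
    intro y
    exact (mem_normalizer_iff.mp hg (y : Γ))
  have key : (P.subgroupOf N0).map f ≤ centralizer (U : Set (N0 ⧸ Zc.subgroupOf N0)) := by
    refine FixedPointFree.le_centralizer_of_frobenius hc.hs (c := f cN)
      (by rw [← map_pow, hcNs, map_one]) ?_ (hmap hc.cQ) (hmap hc.cP) ?_ ?_ ?_
    · rintro _ ⟨y, hy, rfl⟩
      exact hmap (hc.PQ hy)
    · refine (hcopPQ.coprime_dvd_left ?_).coprime_dvd_right ?_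
      · exact (card_map_dvd _ f).trans (Coprime.card_subgroupOf hP0).dvd
      · exact (card_map_dvd _ f).trans (Coprime.card_subgroupOf hQ0).dvd
    · have hcle : zpowers cN ≤ normalizer (Q.subgroupOf N0 : Set N0) := by
        rw [zpowers_le, mem_normalizer_iff]
        exact fun y => mem_normalizer_iff.mp hc.cQ (y : Γ)
      have h1 := Coprime.map_inf_centralizer f hcle hker
        ((coprime_zpowers hcNs hsQ).coprime_dvd_right ((card_dvd_of_le hker).trans
          (Coprime.card_subgroupOf hQ0).dvd)) (Or.inl (isSolvable_zpowers cN))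
      rw [MonoidHom.map_zpowers, FixedPointFree.centralizer_zpowers,
        FixedPointFree.centralizer_zpowers] at h1
      rw [hU, ← h1, Subgroup.map_eq_bot_iff, hf, QuotientGroup.ker_mk']
      rintro y ⟨hy, hyc⟩
      exact hfc ⟨hy, mem_centralizer_singleton_iff.mpr
        (congrArg Subtype.val (mem_centralizer_singleton_iff.mp hyc))⟩
    · rw [eq_bot_iff]
      rintro _ ⟨⟨y, hy, rfl⟩, hyc⟩
      have h1 : ⁅cN, y⁆ ∈ Zc.subgroupOf N0 := by
        rw [← QuotientGroup.ker_mk' (Zc.subgroupOf N0), ← hf, MonoidHom.mem_ker,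
          map_commutatorElement, commutatorElement_eq_one_iff_mul_comm]
        exact (mem_centralizer_singleton_iff.mp hyc).symm
      have h2 : ⁅c, (y : Γ)⁆ ∈ P := by
        rw [commutatorElement_def]
        exact mul_mem ((mem_normalizer_iff.mp hc.cP _).mp hy) (inv_mem hy)
      have h3 : ⁅c, (y : Γ)⁆ ∈ P ⊓ Q := ⟨h2, h1.1⟩
      rw [Coprime.inf_eq_bot_of_coprime hcopPQ, mem_bot,
        commutatorElement_eq_one_iff_mul_comm] at h3
      have h4 : (y : Γ) = 1 := FixedPointFree.eq_one_of_fixed hc.fP hy h3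
      rw [show y = 1 from Subtype.ext h4, map_one]
      exact one_mem _
  refine hne ⟨⟨fun x y => Subtype.ext (mem_centralizer_iff.mp (show (y : Γ) ∈ centralizer (Q : Set Γ) from ?_)
    (x : Γ) x.2)⟩⟩
  have hle : Q ≤ Zc := by
    rw [← h.comm, commutator_le]
    intro a ha b hb
    have h1 := mem_centralizer_iff.mp (key (mem_map_of_mem f
      (show (⟨b, hP0 hb⟩ : N0) ∈ P.subgroupOf N0 from hb))) _
      (mem_map_of_mem f (show (⟨a, hQ0 ha⟩ : N0) ∈ Q.subgroupOf N0 from ha))
    rw [← commutatorElement_eq_one_iff_mul_comm, ← map_commutatorElement, ← MonoidHom.mem_ker, hf,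
      QuotientGroup.ker_mk'] at h1
    exact h1
  exact (hle y.2).2

/-- The configuration forces `P` to centralise `Q`. -/
theorem CfgZ.le_centralizer : ∀ Q : Subgroup Γ, CfgZ c s p q V Q P → P ≤ centralizer (Q : Set Γ) := by
  intro Q
  induction Q using WellFoundedLT.induction with
  | _ Q ih =>
    intro h
    by_contra hnc
    have := Fact.mk h.hq
    have hPQ := h.PQ
    have mkQ : ∀ L : Subgroup Γ, L ≤ Q → L ≠ Q → P ⊔ zpowers c ≤ normalizer (L : Set Γ) →
        P ≤ centralizer (L : Set Γ) := fun L hL hne hn =>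
      ih L (lt_of_le_of_ne hL hne)
        { h with
          hQ := h.hQ.to_le hL
          QV := hL.trans h.QV
          PQ := le_sup_left.trans hn
          cQ := hn (mem_sup_right (mem_zpowers c))
          hCQ := isCyclic_of_le h.hCQ (inf_le_inf_right _ hL)
          faithful := le_bot_iff.mp ((inf_le_inf_right _ hL).trans h.faithful.le) }
    have hsolv : Group.IsSolvable P := by
      have := Fact.mk h.hp
      have := h.hP.isNilpotent
      infer_instance
    have hcomm : ⁅Q, P⁆ = Q := by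
      by_contra hne
      have h1 := mkQ _ (Coprime.commutator_le_of_le_normalizer hPQ) hne
        (sup_le (normalizer_commutator_ge_right Q P)
          (zpowers_le.mpr (FixedPointFree.mem_normalizer_commutator h.cQ h.cP)))
      have h2 : ⁅⁅Q, P⁆, P⁆ = ⊥ :=
        commutator_eq_bot_iff_le_centralizer.mpr (le_centralizer_iff.mp h1)
      rw [Coprime.commutator_commutator_eq hPQ h.coprime_Q.2.1 (Or.inl hsolv),
        commutator_eq_bot_iff_le_centralizer] at h2
      exact hnc (le_centralizer_iff.mp h2)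
    have hne : Q ≠ ⊥ := fun h0 => hnc (by
      rw [h0]
      exact le_centralizer_iff.mp bot_le)
    have hmin : MinCfgZ c s p q V Q P := { cfg := h, comm := hcomm, minQ := mkQ, ne := hne }
    by_cases hab : IsMulCommutative Q
    · exact hmin.false_of_abelian hab
    · exact hmin.false_of_nonabelian hab

end Cfsg.Agent.OddLocal.ZFix
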