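import Cfsg.Agent.OddLocal.PLengthData
import Cfsg.Agent.OddLocal.ZGroupConfig
import Cfsg.Agent.Coprime.Hall

/-!
BG Theorem 3.6: `[K, R]` has `p`-length one if an element of prime order of `R` has a Z-group of
fixed points on `K`.
-/

set_option autoImplicit false
set_option linter.unusedSectionVars false
set_option linter.style.haveILetI false

namespace Cfsg.Agent.OddLocal

open Subgroup Cfsg
open scoped commutatorElement Pointwise

universe u

variable {G : Type u} [Group G] [Finite G] {p : ℕ} [hp : Fact p.Prime]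

theorem mem_of_pow_mem_of_coprime {M N : Subgroup G} {m : ℕ} (hNM : N ≤ M)
    (hn : M ≤ normalizer (N : Set G)) (hc : Nat.card M = Nat.card N * m) (hm : m.Coprime p) {x : G}
    (hx : x ∈ M) {k : ℕ} (hk : x ^ p ^ k ∈ N) : x ∈ N := by
  haveI : (N.subgroupOf M).Normal := (normal_subgroupOf_iff_le_normalizer hNM).mpr hn
  have hidx : (N.subgroupOf M).index = m := by
    have h1 := (N.subgroupOf M).card_mul_index
    rw [Coprime.card_subgroupOf hNM, hc] at h1
    exact Nat.eq_of_mul_eq_mul_left Nat.card_pos h1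
  have h2 : orderOf ((⟨x, hx⟩ : M) : M ⧸ N.subgroupOf M) ∣ p ^ k := by
    refine orderOf_dvd_of_pow_eq_one ?_
    rw [← QuotientGroup.mk_pow, QuotientGroup.eq_one_iff, mem_subgroupOf]
    exact hk
  have h3 : orderOf ((⟨x, hx⟩ : M) : M ⧸ N.subgroupOf M) ∣ m := by
    rw [← hidx, Subgroup.index_eq_card]
    exact orderOf_dvd_natCard _
  exact (QuotientGroup.eq_one_iff (N := N.subgroupOf M) _).mp
    (orderOf_eq_one_iff.mp (Nat.eq_one_of_dvd_coprimes (hm.pow_right k) h3 h2))

theorem isPGroup_of_forall {M : Subgroup G}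
    (h : ∀ r : ℕ, r.Prime → r ≠ p → ∀ x ∈ M, x ^ r = 1 → x = 1) : IsPGroup p M := by
  refine IsPGroup.of_card (Nat.eq_prime_pow_of_unique_prime_dvd Nat.card_pos.ne' fun {r} hr hd => ?_)
  by_contra hne
  haveI := Fact.mk hr
  obtain ⟨x, hx⟩ := exists_prime_orderOf_dvd_card' r hd
  have h1 : (x : G) = 1 := h r hr hne x x.2 (by
    rw [← SubmonoidClass.coe_pow, ← hx, pow_orderOf_eq_one, OneMemClass.coe_one])
  rw [show x = 1 from Subtype.ext h1, orderOf_one] at hx
  exact hr.ne_one hx.symm

theorem le_of_forall_sylow {Q X : Subgroup G}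
    (h : ∀ r : ℕ, r.Prime → ∃ T : Sylow r Q, (T : Subgroup Q).map Q.subtype ≤ X) : Q ≤ X := by
  rw [← relIndex_eq_one]
  by_contra hne
  obtain ⟨r, hr, hd⟩ := Nat.exists_prime_and_dvd hne
  haveI := Fact.mk hr
  obtain ⟨T, hT⟩ := h r hr
  exact T.not_dvd_index (hd.trans (index_dvd_of_le fun x hx => hT (mem_map_of_mem Q.subtype hx)))

theorem le_normalizer_of_conj_mem {L P : Subgroup G}
    (h : ∀ l ∈ L, ∀ y ∈ P, l * y * l⁻¹ ∈ P) : L ≤ normalizer (P : Set G) := fun l hl =>
  mem_normalizer_iff.mpr fun y => ⟨h l hl y, fun hy => by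
    simpa [mul_assoc] using h l⁻¹ (inv_mem hl) _ hy⟩

theorem card_mul_relIndex_eq {H K : Subgroup G} (h : H ≤ K) :
    Nat.card H * H.relIndex K = Nat.card K := by
  rw [← relIndex_bot_left, relIndex_mul_relIndex ⊥ H K bot_le h, relIndex_bot_left]

theorem card_map_mul_card {H : Type*} [Group H] [Finite H] (f : G →* H) {K : Subgroup G}
    (hK : f.ker ≤ K) : Nat.card (K.map f) * Nat.card f.ker = Nat.card K := by
  rw [← card_mul_relIndex_eq hK, relIndex_ker, mul_comm]

namespace PLenZ

/-- The minimal configuration. -/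
structure Setup (p : ℕ) (K R : Subgroup G) (c : G) : Prop where
  RK : R ≤ normalizer (K : Set G)
  cop : (Nat.card K).Coprime (Nat.card R)
  cR : c ∈ R
  hc : (orderOf c).Prime
  hc2 : orderOf c ≠ 2
  hp2 : p ≠ 2
  odd : Odd (Nat.card K)
  solv : Group.IsSolvable K
  Z : IsZGroup ↥(K ⊓ centralizer ({c} : Set G))
  comm : ⁅K, R⁆ = K
  /-- quotients have `p`-length one -/
  quot : ∀ N : Subgroup G, N ≤ K → N ≠ ⊥ → K ≤ normalizer (N : Set G) → R ≤ normalizer (N : Set G) →
    ∃ M₁ M₂ : Subgroup G, ∃ m : ℕ, N ≤ M₁ ∧ M₁ ≤ K ∧ M₂ ≤ K ∧ K ≤ normalizer (M₁ : Set G) ∧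
      R ≤ normalizer (M₁ : Set G) ∧ K ≤ normalizer (M₂ : Set G) ∧
      Nat.card M₁ = Nat.card N * m ∧ m.Coprime p ∧
      (∀ x ∈ M₂, ∃ n : ℕ, x ^ p ^ n ∈ M₁) ∧ ¬ p ∣ M₂.relIndex K

theorem Setup.pLength_of_subgroups {K : Subgroup G} {A B : Subgroup G}
    (hA : K ≤ normalizer (A : Set G)) (hB : K ≤ normalizer (B : Set G)) (hAK : A ≤ K)
    (hBK : B ≤ K) (hc : (Nat.card A).Coprime p) (h : ∀ x ∈ B, ∃ n : ℕ, x ^ p ^ n ∈ A)
    (hi : ¬ p ∣ B.relIndex K) : PLengthLE p 1 K := by
  haveI : (A.subgroupOf K).Normal := (normal_subgroupOf_iff_le_normalizer hAK).mpr hA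
  haveI : (B.subgroupOf K).Normal := (normal_subgroupOf_iff_le_normalizer hBK).mpr hB
  refine pLengthLE_one_of_series (A := A.subgroupOf K) (B := B.subgroupOf K)
    (by rwa [Coprime.card_subgroupOf hAK]) (fun x hx => ?_) hi
  obtain ⟨n, hn⟩ := h _ hx
  exact ⟨n, show ((x ^ p ^ n : K) : G) ∈ A by rwa [SubmonoidClass.coe_pow]⟩

theorem Setup.pLengthLE {K R : Subgroup G} {c : G} (S : Setup p K R c) : PLengthLE p 1 K := by
  classical
  by_contra hpl
  haveI := S.solv
  haveI := S.Z
  set s := orderOf c with hs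
  have hcs : c ^ s = 1 := pow_orderOf_eq_one c
  set C := zpowers c with hC
  have hCR : C ≤ R := zpowers_le.mpr S.cR
  have hsK : s.Coprime (Nat.card K) :=
    S.cop.symm.coprime_dvd_left (Subgroup.orderOf_dvd_natCard R S.cR)
  have hCK : C ≤ normalizer (K : Set G) := hCR.trans S.RK
  -- `O_{p'}(K) = 1`
  have hO : pPrimeCore p K = ⊥ := by
    by_contra hne
    set N := (pPrimeCore p K).map K.subtype with hN
    obtain ⟨M₁, M₂, m, -, h1, h2, h3, -, h5, h6, h7, h8, h9⟩ := S.quot N (map_subtype_le _)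
      (fun h => hne ((map_eq_bot_iff_of_injective _ K.subtype_injective).mp h))
      (Coprime.le_normalizer_map_of_characteristic Subgroup.le_normalizer _ inferInstance)
      (Coprime.le_normalizer_map_of_characteristic S.RK _ inferInstance)
    refine hpl (Setup.pLength_of_subgroups h3 h5 h1 h2 ?_ h8 h9)
    rw [h6, hN, card_map_of_injective K.subtype_injective]
    exact Core.coprime_card_pPrimeCore.mul_left h7
  set V := (pCore p K).map K.subtype with hV
  have hVK : V ≤ K := map_subtype_le _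
  have hVp : IsPGroup p V := Core.pCore_isPGroup.map _
  have hKV : K ≤ normalizer (V : Set G) :=
    Coprime.le_normalizer_map_of_characteristic Subgroup.le_normalizer _ inferInstance
  have hRV : R ≤ normalizer (V : Set G) :=
    Coprime.le_normalizer_map_of_characteristic S.RK _ inferInstance
  have hself : K ⊓ centralizer (V : Set G) ≤ V := by
    rintro x ⟨hxK, hxC⟩
    have h1 : (⟨x, hxK⟩ : K) ∈ centralizer (pCore p K : Set K) := mem_centralizer_iff.mpr fun y hy =>
      Subtype.ext (mem_centralizer_iff.mp hxC _ (mem_map_of_mem K.subtype hy))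
    rw [← Layer.fitting_eq_pCore_of_pPrimeCore_eq_bot hO] at h1
    have h2 := Core.centralizer_fittingSubgroup_le h1
    rw [Layer.fitting_eq_pCore_of_pPrimeCore_eq_bot hO] at h2
    exact mem_map_of_mem K.subtype h2
  have hmax : ∀ M : Subgroup G, M ≤ K → K ≤ normalizer (M : Set G) → IsPGroup p M → M ≤ V := by
    intro M hMK hn hM
    haveI : (M.subgroupOf K).Normal := (normal_subgroupOf_iff_le_normalizer hMK).mpr hn
    rw [← map_subgroupOf_eq_of_le hMK]
    exact map_mono (Core.le_pCore (hM.comap_of_injective K.subtype K.subtype_injective))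
  have hVidx : p ∣ V.relIndex K := by
    by_contra hd
    refine hpl (Setup.pLength_of_subgroups (A := ⊥) (B := V) (fun x _ => by
      rw [mem_normalizer_iff]; simp) hKV bot_le hVK (by rw [card_bot]; exact Nat.coprime_one_left p)
      (fun x hx => ?_) hd)
    obtain ⟨n, hn⟩ := hVp ⟨x, hx⟩
    exact ⟨n, by simpa using congrArg Subtype.val hn⟩
  -- no quotient data with a `p`-group at the bottom
  have hnoP : ∀ M₁ M₂ : Subgroup G, M₂ ≤ K → K ≤ normalizer (M₂ : Set G) → IsPGroup p M₁ →
      (∀ x ∈ M₂, ∃ n : ℕ, x ^ p ^ n ∈ M₁) → ¬ p ∣ M₂.relIndex K → False := by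
    intro M₁ M₂ h2 h5 hM₁ h8 h9
    have hM₂ : IsPGroup p M₂ := by
      rintro ⟨x, hx⟩
      obtain ⟨n, hn⟩ := h8 x hx
      obtain ⟨n', hn'⟩ := hM₁ ⟨_, hn⟩
      refine ⟨n + n', Subtype.ext ?_⟩
      show x ^ p ^ (n + n') = 1
      rw [pow_add, pow_mul]
      exact congrArg Subtype.val hn'
    exact h9 (hVidx.trans (relIndex_dvd_of_le_left K (hmax _ h2 h5 hM₂)))
  -- `V` is elementary
  have hVe : IsElementaryAbelian p V := by
    haveI := hVp.isNilpotent
    set Φ := (frattini V).map V.subtype with hΦ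
    have hΦV : Φ ≤ V := map_subtype_le _
    by_cases hΦ1 : Φ = ⊥
    · have hf : frattini V = ⊥ := (map_eq_bot_iff_of_injective _ V.subtype_injective).mp hΦ1
      refine ⟨⟨⟨fun a b => commutatorElement_eq_one_iff_mul_comm.mp (mem_bot.mp (hf ▸
        Core.commutator_le_frattini (commutator_mem_commutator (mem_top a) (mem_top b))))⟩⟩,
        fun v hv => ?_⟩
      have h1 := Core.pow_mem_frattini hVp ⟨v, hv⟩
      rw [hf, mem_bot] at h1
      exact congrArg Subtype.val h1
    exfalso
    obtain ⟨M₁, M₂, m, hNM, h1, h2, h3, -, h5, h6, h7, h8, h9⟩ := S.quot Φ (hΦV.trans hVK) hΦ1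
      (Coprime.le_normalizer_map_of_characteristic hKV _ inferInstance)
      (Coprime.le_normalizer_map_of_characteristic hRV _ inferInstance)
    refine hnoP M₁ M₂ h2 h5 (isPGroup_of_forall fun r hr hrp x hx hxr => ?_) h8 h9
    haveI := Fact.mk hr
    have hxV : zpowers x ≤ normalizer (V : Set G) := zpowers_le.mpr (hKV (h1 hx))
    have hcen : zpowers x ≤ centralizer (V : Set G) := by
      refine Coprime.le_centralizer_of_trivial_mod_frattini hxV ?_ fun a ha v hv => ?_
      · obtain ⟨k, hk⟩ := (hVp.to_subgroup (frattini V)).exists_card_eq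
        rw [hk]
        exact (ZFix.coprime_zpowers hxr ((Nat.coprime_primes hr hp.out).mpr hrp)).pow_right k
      · have ha' : a ∈ M₁ := zpowers_le.mpr hx ha
        have hmem : a * v * a⁻¹ * v⁻¹ ∈ M₁ ⊓ V := by
          refine mem_inf.mpr ⟨?_, V.mul_mem ((mem_normalizer_iff.mp (hxV ha) v).mp hv) (V.inv_mem hv)⟩
          have h4 := (mem_normalizer_iff.mp (h3 (hVK hv)) a⁻¹).mp (inv_mem ha')
          simpa [mul_assoc] using mul_mem ha' h4
        obtain ⟨k, hk⟩ := hVp ⟨_, hmem.2⟩
        exact mem_of_pow_mem_of_coprime (k := k) hNM (h1.trans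
          (Coprime.le_normalizer_map_of_characteristic hKV _ inferInstance)) h6 h7 hmem.1 (by
            rw [show (a * v * a⁻¹ * v⁻¹) ^ p ^ k = 1 from congrArg Subtype.val hk]
            exact one_mem _)
    obtain ⟨k, hk⟩ := hVp ⟨x, hself ⟨h1 hx, hcen (mem_zpowers x)⟩⟩
    exact orderOf_eq_one_iff.mp (Nat.eq_one_of_dvd_coprimes
      (((Nat.coprime_primes hr hp.out).mpr hrp).pow_right k) (orderOf_dvd_of_pow_eq_one hxr)
      (orderOf_dvd_of_pow_eq_one (congrArg Subtype.val hk)))
  haveI := hVe.1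
  have hVne : V ≠ ⊥ := fun h0 => by
    have h1 : K ≤ V := le_trans (le_inf le_rfl fun x _ => mem_centralizer_iff.mpr fun v hv => by
      rw [h0, SetLike.mem_coe, mem_bot] at hv
      subst hv
      simp) hself
    rw [relIndex_eq_one.mpr h1] at hVidx
    exact hp.out.ne_one (Nat.dvd_one.mp hVidx)
  -- the complement
  obtain ⟨M₁, M₂, m, hVM, h1, h2, h3, h4, h5, h6, h7, h8, h9⟩ := S.quot V hVK hVne hKV hRV
  obtain ⟨Q, hQ, hRQ⟩ := Coprime.exists_invariant_hall h4
    (S.cop.symm.coprime_dvd_right (card_dvd_of_le h1)) (Coprime.isSolvable_of_le h1 S.solv)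
    {r | r.Prime ∧ r ≠ p}
  have hQM : Q ≤ M₁ := hQ.1
  have hQp : (Nat.card Q).Coprime p :=
    (hp.out.coprime_iff_not_dvd.mpr fun hd => (hQ.2.1 p hp.out hd).2 rfl).symm
  have hVQ : V ⊓ Q = ⊥ := by
    obtain ⟨a, ha⟩ := hVp.exists_card_eq
    exact Coprime.inf_eq_bot_of_coprime (ha ▸ hQp.symm.pow_left a)
  have hQV : Q ≤ normalizer (V : Set G) := (hQM.trans h1).trans hKV
  have hVQM : V ⊔ Q = M₁ := by
    refine eq_of_le_of_card_ge (sup_le hVM hQM) ?_
    rw [Coprime.card_sup_eq_mul hQV hVQ, h6]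
    refine Nat.mul_le_mul_left _ (Nat.le_of_dvd Nat.card_pos ?_)
    have h10 : Nat.card Q * Q.relIndex M₁ = Nat.card V * m := by rw [card_mul_relIndex_eq hQM, h6]
    have hcop : m.Coprime (Q.relIndex M₁) := Nat.coprime_of_dvd fun r hr hrm hrd =>
      hQ.2.2 r hr ⟨hr, fun he => hp.out.not_dvd_one (h7 ▸ Nat.dvd_gcd (he ▸ hrm) dvd_rfl)⟩ hrd
    exact hcop.dvd_of_dvd_mul_right ⟨Nat.card V, by rw [h10, mul_comm]⟩
  set L := K ⊓ normalizer (Q : Set G) with hL
  have hLK : L ≤ K := inf_le_left
  have hQL : Q ≤ L := le_inf (hQM.trans h1) Subgroup.le_normalizer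
  have hfrat : ∀ k ∈ K, ∃ v ∈ V, v * k ∈ L := by
    intro k hk
    obtain ⟨v, hv, hvk⟩ := Coprime.exists_conj_eq (A := Q) (K := V) (B := MulAut.conj k • Q) hQV
      (by obtain ⟨a, ha⟩ := hVp.exists_card_eq; rw [ha]; exact hQp.pow_right a)
      (Or.inr (Coprime.isSolvable_of_le hVK S.solv))
      (by rw [hVQM]; exact (Coprime.conj_smul_le_self (h3 hk) hQM))
      (Coprime.card_conj_smul k Q)
    refine ⟨v, hv, mul_mem (hVK hv) hk, Coprime.mem_normalizer_of_conj_smul_eq ?_⟩
    rw [Coprime.conj_mul_smul, hvk]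
  have hKL : ∀ k ∈ K, ∃ v ∈ V, ∃ l ∈ L, k = v * l := fun k hk => by
    obtain ⟨v, hv, hvk⟩ := hfrat k hk
    exact ⟨v⁻¹, inv_mem hv, v * k, hvk, (inv_mul_cancel_left v k).symm⟩
  have hRL : R ≤ normalizer (L : Set G) :=
    Coprime.le_normalizer_inf S.RK (hRQ.trans Subgroup.le_normalizer)
  have hVL : V ⊓ L ≤ V ⊓ centralizer (Q : Set G) := fun x hx =>
    ⟨hx.1, Coprime.mem_centralizer_of_mem_normalizer hQV hVQ hx.1 hx.2.2⟩
  have hQne : Q ≠ ⊥ := fun h0 => hnoP M₁ M₂ h2 h5 (by rwa [← hVQM, h0, sup_bot_eq]) h8 h9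
  have hQfix : Q ⊓ centralizer (V : Set G) = ⊥ := by
    rw [eq_bot_iff, ← hVQ]
    exact fun x hx => ⟨hself ⟨hQM.trans h1 hx.1, hx.2⟩, hx.1⟩
  -- `C_V(Q) = 1`
  have hW : V ⊓ centralizer (Q : Set G) = ⊥ := by
    by_contra hW
    set W := V ⊓ centralizer (Q : Set G) with hWd
    set U := ⁅V, Q⁆ with hUd
    have hcop : (Nat.card Q).Coprime (Nat.card V) := by
      obtain ⟨a, ha⟩ := hVp.exists_card_eq
      rw [ha]
      exact hQp.pow_right a
    have hUne : U ≠ ⊥ := fun h0 => hQne (by
      rw [← hQfix, inf_eq_left.mpr (le_centralizer_iff.mp (commutator_eq_bot_iff_le_centralizer.mp h0))])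
    have hWU : W ⊓ U = ⊥ := (Coprime.abelian_decomposition hQV hcop).1
    have hUV : U ≤ V := Coprime.commutator_le_of_le_normalizer hQV
    have hVfix : ∀ {N : Subgroup G}, N ≤ V → V ≤ normalizer (N : Set G) := fun {N} hN =>
      ((le_centralizer V).trans (centralizer_le hN)).trans (centralizer_le_normalizer _)
    have hKn : ∀ {N : Subgroup G}, N ≤ V → L ≤ normalizer (N : Set G) →
        K ≤ normalizer (N : Set G) := fun {N} hN hLN k hk => by
      obtain ⟨v, hv, l, hl, rfl⟩ := hKL k hk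
      exact mul_mem (hVfix hN hv) (hLN hl)
    have hLW : L ≤ normalizer (W : Set G) :=
      Coprime.le_normalizer_inf (hLK.trans hKV) (Coprime.le_normalizer_centralizer inf_le_right)
    have hRW : R ≤ normalizer (W : Set G) :=
      Coprime.le_normalizer_inf hRV (Coprime.le_normalizer_centralizer hRQ)
    obtain ⟨A₁, B₁, m₁, a1, a2, a3, a4, -, a5, a6, a7, a8, a9⟩ := S.quot W (inf_le_left.trans hVK) hW
      (hKn inf_le_left hLW) hRW
    obtain ⟨A₂, B₂, m₂, b1, b2, b3, b4, -, b5, b6, b7, b8, b9⟩ := S.quot U (hUV.trans hVK) hUne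
      (hKn hUV (FixedPointFree.le_normalizer_commutator' (hLK.trans hKV) inf_le_right))
      (FixedPointFree.le_normalizer_commutator' hRV hRQ)
    refine hpl (Setup.pLength_of_subgroups (A := A₁ ⊓ A₂) (B := B₁ ⊓ B₂)
      (Coprime.le_normalizer_inf a4 b4) (Coprime.le_normalizer_inf a5 b5) (inf_le_left.trans a2)
      (inf_le_left.trans a3) ?_ (fun x hx => ?_) ?_)
    · refine (hp.out.coprime_iff_not_dvd.mpr fun hd => ?_).symm
      obtain ⟨x, hx⟩ := exists_prime_orderOf_dvd_card' p hd
      have hxp : (x : G) ^ p ^ 1 = 1 := by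
        rw [pow_one, ← SubmonoidClass.coe_pow, ← hx, pow_orderOf_eq_one, OneMemClass.coe_one]
      have e1 := mem_of_pow_mem_of_coprime a1 (a2.trans (hKn inf_le_left hLW)) a6 a7 x.2.1
        (k := 1) (by rw [hxp]; exact one_mem _)
      have e2 := mem_of_pow_mem_of_coprime b1
        (b2.trans (hKn hUV (FixedPointFree.le_normalizer_commutator' (hLK.trans hKV) inf_le_right)))
        b6 b7 x.2.2 (k := 1) (by rw [hxp]; exact one_mem _)
      have e3 : (x : G) = 1 := mem_bot.mp (hWU.le ⟨e1, e2⟩)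
      rw [show x = 1 from Subtype.ext e3, orderOf_one] at hx
      exact hp.out.ne_one hx.symm
    · obtain ⟨n, hn⟩ := a8 x hx.1
      obtain ⟨n', hn'⟩ := b8 x hx.2
      refine ⟨n + n', ?_, ?_⟩
      · rw [pow_add, pow_mul]; exact pow_mem hn _
      · rw [add_comm, pow_add, pow_mul]; exact pow_mem hn' _
    · intro hd
      haveI : (B₁.subgroupOf K).Normal := (normal_subgroupOf_iff_le_normalizer a3).mpr a5
      have h10 : (B₁ ⊓ B₂).relIndex K ∣ B₁.relIndex K * B₂.relIndex K := by
        have h11 := relIndex_mul_relIndex (B₁ ⊓ B₂) B₂ K inf_le_right b3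
        rw [← h11]
        refine Nat.mul_dvd_mul_right ?_ _
        rw [inf_relIndex_right, ← relIndex_subgroupOf b3]
        exact relIndex_dvd_index_of_normal _ _
      rcases hp.out.dvd_mul.mp (hd.trans h10) with h | h
      · exact a9 h
      · exact b9 h
  have hVLbot : V ⊓ L = ⊥ := le_bot_iff.mp (hVL.trans hW.le)
  have hQL' : ∀ x ∈ L, x ∈ M₁ → x ∈ Q := fun x hxL hxM => by
    obtain ⟨v, hv, q, hq, rfl⟩ := (Coprime.mem_sup_of_le_normalizer hQV).mp (hVQM.ge hxM)
    have : v ∈ V ⊓ L := ⟨hv, (Subgroup.mul_mem_cancel_right L (hQL hq)).mp hxL⟩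
    rw [hVLbot, mem_bot] at this
    rwa [this, one_mul]
  -- an invariant Sylow subgroup of `L`
  obtain ⟨P₀, hP₀⟩ := Coprime.exists_invariant_sylow (A := C) (K := L) (hCR.trans hRL)
    (ZFix.coprime_zpowers hcs (hsK.coprime_dvd_right (card_dvd_of_le hLK)))
    (Or.inl (ZFix.isSolvable_zpowers c)) p
  set P := (P₀ : Subgroup L).map L.subtype with hP
  have hPL : P ≤ L := map_subtype_le _
  have hPp : IsPGroup p P := P₀.2.map _
  have hPne : P ≠ ⊥ := fun h0 => by
    have h10 : ¬ p ∣ Nat.card L := fun hd => P₀.ne_bot_of_dvd_card hd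
      ((map_eq_bot_iff_of_injective _ L.subtype_injective).mp h0)
    refine h10 (hVidx.trans ?_)
    have hdvd : V.relIndex K ∣ Nat.card L := by
      have hKeq : V ⊔ L = K := le_antisymm (sup_le hVK hLK) fun k hk => by
        obtain ⟨v, hv, l, hl, rfl⟩ := hKL k hk
        exact Subgroup.mul_mem_sup hv hl
      have h11 := card_mul_relIndex_eq hVK
      rw [← hKeq, Coprime.card_sup_eq_mul (hLK.trans hKV) hVLbot, hKeq] at h11
      exact (Nat.eq_of_mul_eq_mul_left Nat.card_pos h11).dvd
    exact hdvd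
  have hPQ : ¬ P ≤ centralizer (Q : Set G) := by
    intro hPC
    -- then `P` is normal
    haveI : (Q.subgroupOf L).Normal := (normal_subgroupOf_iff_le_normalizer hQL).mpr inf_le_right
    set f := QuotientGroup.mk' (Q.subgroupOf L) with hf
    have hfs : Function.Surjective f := QuotientGroup.mk'_surjective _
    have hpM₂ : ∀ {X : Subgroup G}, X ≤ K → IsPGroup p X → X ≤ M₂ := by
      intro X hXK hX
      haveI : (M₂.subgroupOf K).Normal := (normal_subgroupOf_iff_le_normalizer h2).mpr h5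
      obtain ⟨a, ha⟩ := hX.exists_card_eq
      have h10 : X.subgroupOf K ≤ M₂.subgroupOf K := Core.le_of_coprime_index (by
        rw [Coprime.card_subgroupOf hXK, ha]
        exact ((hp.out.coprime_iff_not_dvd.mpr h9).pow_left a))
      exact fun x hx => h10 (show (⟨x, hXK hx⟩ : K) ∈ X.subgroupOf K from hx)
    haveI : (M₂.subgroupOf L).Normal := normal_subgroupOf_of_le_normalizer (hLK.trans h5)
    have hBp : IsPGroup p ((M₂.subgroupOf L).map f) := by
      rintro ⟨_, x, hx, rfl⟩
      obtain ⟨n, hn⟩ := h8 _ hx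
      refine ⟨n, Subtype.ext ?_⟩
      show (f x) ^ p ^ n = 1
      rw [← map_pow]
      exact (QuotientGroup.eq_one_iff _).mpr (hQL' _ (pow_mem x.2 _) hn)
    haveI : ((M₂.subgroupOf L).map f).Normal := Normal.map inferInstance f hfs
    have hle : (M₂.subgroupOf L).map f ≤ (P₀ : Subgroup L).map f :=
      (Core.le_pCore hBp).trans (Core.pCore_le_sylow (P₀.mapSurjective hfs))
    have hPn : L ≤ normalizer (P : Set G) := by
      refine le_normalizer_of_conj_mem fun l hl y hy => ?_
      have hzL : l * y * l⁻¹ ∈ L := mul_mem (mul_mem hl (hPL hy)) (inv_mem hl)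
      have hzM : l * y * l⁻¹ ∈ M₂ :=
        (mem_normalizer_iff.mp (h5 (hLK hl)) y).mp (hpM₂ (hPL.trans hLK) hPp hy)
      obtain ⟨a, ha, hae⟩ := hle (mem_map_of_mem f
        (show (⟨_, hzL⟩ : L) ∈ M₂.subgroupOf L from hzM))
      have haq : (a : G)⁻¹ * (l * y * l⁻¹) ∈ Q :=
        mem_subgroupOf.mp ((QuotientGroup.eq (s := Q.subgroupOf L)).mp hae)
      set q' := (a : G)⁻¹ * (l * y * l⁻¹) with hq'
      have haP : (a : G) ∈ P := mem_map_of_mem L.subtype ha
      obtain ⟨n₁, hn₁⟩ := hPp ⟨_, haP⟩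
      obtain ⟨n₂, hn₂⟩ := hPp ⟨_, hy⟩
      have hcm : Commute (a : G) q' := (mem_centralizer_iff.mp (hPC haP) q' haq).symm
      have h10 : ((a : G) * q') ^ p ^ (n₁ + n₂) = 1 := by
        rw [hq', mul_inv_cancel_left, ← MulAut.conj_apply l y, ← map_pow, add_comm, pow_add, pow_mul,
          show y ^ p ^ n₂ = 1 from congrArg Subtype.val hn₂, one_pow, map_one]
      rw [hcm.mul_pow, pow_add, pow_mul (a : G), show (a : G) ^ p ^ n₁ = 1 from
        congrArg Subtype.val hn₁, one_pow, one_mul, ← pow_add] at h10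
      have h11 : q' = 1 := orderOf_eq_one_iff.mp (Nat.eq_one_of_dvd_coprimes
        (hQp.pow_right (n₁ + n₂)) (Subgroup.orderOf_dvd_natCard Q haq) (orderOf_dvd_of_pow_eq_one h10))
      rw [hq', inv_mul_eq_one] at h11
      exact h11 ▸ haP
    have hsup : V ⊔ P ≤ V := by
      refine hmax _ (sup_le hVK (hPL.trans hLK)) (fun k hk => ?_)
        (hVp.to_sup_of_normal_left' hPp ((hPL.trans hLK).trans hKV))
      obtain ⟨v, hv, l, hl, rfl⟩ := hKL k hk
      exact mul_mem (Subgroup.le_normalizer (mem_sup_left hv))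
        (Coprime.le_normalizer_sup (hLK.trans hKV) hPn hl)
    exact hPne (le_bot_iff.mp ((le_inf (le_sup_right.trans hsup) hPL).trans hVLbot.le))
  have hVcop : (Nat.card Q).Coprime (Nat.card V) := by
    obtain ⟨a, ha⟩ := hVp.exists_card_eq
    rw [ha]
    exact hQp.pow_right a
  have hQC : C ≤ normalizer (Q : Set G) := hCR.trans hRQ
  have hCcopQ : (Nat.card C).Coprime (Nat.card Q) :=
    ZFix.coprime_zpowers hcs (hsK.coprime_dvd_right (card_dvd_of_le (hQM.trans h1)))
  by_cases hfix : V ⊓ centralizer {c} = ⊥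
  · -- `Q` is centralised by `c`, hence cyclic
    have hQc : Q ≤ centralizer {c} := by
      intro x hx
      refine (?_ : Q ≤ Q ⊓ centralizer {c}) hx |>.2
      refine le_of_forall_sylow fun r hr => ?_
      haveI := Fact.mk hr
      obtain ⟨T, hT⟩ := Coprime.exists_invariant_sylow hQC hCcopQ (Or.inl (ZFix.isSolvable_zpowers c)) r
      refine ⟨T, le_inf (map_subtype_le _) ?_⟩
      by_cases hrQ : r ∣ Nat.card Q
      swap
      · rw [show (T : Subgroup Q) = ⊥ from Subgroup.card_eq_one.mp ?_, Subgroup.map_bot]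
        · exact bot_le
        obtain ⟨a, ha⟩ := T.2.exists_card_eq
        rcases a with _ | a
        · simpa using ha
        · exact absurd (((dvd_pow_self r a.succ_ne_zero).trans ha.symm.dvd).trans
            (Subgroup.card_subgroup_dvd_card _)) hrQ
      refine ZFix.commute_of_fpf (p := p) (q := r) S.hc (fun h => S.odd.not_two_dvd_nat ?_) S.hc2
        (fun h => (hp.out.coprime_iff_not_dvd.mp hQp.symm) (h ▸ hrQ)) ?_ (fun h => ?_) hcs hVe
        (hRV (hCR (mem_zpowers c))) hfix _ (T.2.map _) (hT (mem_zpowers c))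
        ((map_subtype_le _).trans hQV)
        (le_bot_iff.mp ((inf_le_inf_right _ (map_subtype_le _)).trans hQfix.le))
      · exact h ▸ hrQ.trans (card_dvd_of_le (hQM.trans h1))
      · intro h
        exact hp.out.not_dvd_one ((h ▸ hsK : p.Coprime (Nat.card K)) ▸ Nat.dvd_gcd dvd_rfl
          ((hVidx.trans (relIndex_dvd_card V K))))
      · exact hr.not_dvd_one ((h ▸ hsK : r.Coprime (Nat.card K)) ▸ Nat.dvd_gcd dvd_rfl
          (hrQ.trans (card_dvd_of_le (hQM.trans h1))))
    haveI : IsZGroup Q := IsZGroup.of_injective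
      (f := inclusion (le_inf (hQM.trans h1) hQc : Q ≤ K ⊓ centralizer {c})) (inclusion_injective _)
    set F := (fittingSubgroup Q).map Q.subtype with hF
    haveI : Group.IsNilpotent (fittingSubgroup Q) := Core.fittingSubgroup_isNilpotent
    have hFcyc : IsCyclic F :=
      isCyclic_of_surjective _ ((fittingSubgroup Q).equivMapOfInjective _ Q.subtype_injective).surjective
    haveI := hFcyc
    have hFchar : normalizer (Q : Set G) ≤ normalizer (F : Set G) :=
      Coprime.le_normalizer_map_of_characteristic le_rfl _ inferInstance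
    have hLF : L ≤ normalizer (F : Set G) := inf_le_right.trans hFchar
    have hRF : R ≤ normalizer (F : Set G) := hRQ.trans hFchar
    have hcomL : L ≤ V ⊔ ⁅L, R⁆ → L ≤ ⁅L, R⁆ := fun h x hx => by
      obtain ⟨v, hv, y, hy, rfl⟩ := (Coprime.mem_sup_of_le_normalizer
        (((Coprime.commutator_le_of_le_normalizer hRL).trans hLK).trans hKV)).mp (h hx)
      have : v ∈ V ⊓ L := ⟨hv, (Subgroup.mul_mem_cancel_right L
        (Coprime.commutator_le_of_le_normalizer hRL hy)).mp hx⟩
      rw [hVLbot, mem_bot] at this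
      rwa [this, one_mul]
    have hLcomm : L ≤ ⁅L, R⁆ := hcomL (by
      refine hLK.trans (S.comm.ge.trans (commutator_le.mpr fun k hk t ht => ?_))
      obtain ⟨v, hv, l, hl, rfl⟩ := hKL k hk
      rw [show ⁅v * l, t⁆ = v * ⁅l, t⁆ * v⁻¹ * ⁅v, t⁆ by simp only [commutatorElement_def]; group]
      refine mul_mem (mul_mem (mul_mem (mem_sup_left hv) (mem_sup_right
        (commutator_mem_commutator hl ht))) (inv_mem (mem_sup_left hv))) (mem_sup_left ?_)
      exact Coprime.commutator_le_of_le_normalizer hRV (commutator_mem_commutator hv ht))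
    have hLC : L ≤ centralizer (F : Set G) := hLcomm.trans (commutator_le.mpr fun l hl t ht => by
      open scoped IsMulCommutative in
      let φ : normalizer (F : Set G) →* MulAut F := F.normalizerMonoidHom
      have h10 : φ ⁅(⟨l, hLF hl⟩ : normalizer (F : Set G)), ⟨t, hRF ht⟩⁆ = 1 := by
        rw [map_commutatorElement, commutatorElement_eq_one_iff_mul_comm]
        exact (IsCyclic.mulAutMulEquiv F).injective (by rw [map_mul, map_mul, mul_comm])
      have h11 : (⁅(⟨l, hLF hl⟩ : normalizer (F : Set G)), ⟨t, hRF ht⟩⁆) ∈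
          F.normalizerMonoidHom.ker := h10
      rw [normalizerMonoidHom_ker] at h11
      exact h11)
    have hQF : Q ≤ F := fun x hx => by
      have h10 : (⟨x, hx⟩ : Q) ∈ centralizer (fittingSubgroup Q : Set Q) :=
        mem_centralizer_iff.mpr fun y hy => Subtype.ext
          (mem_centralizer_iff.mp (hLC (hQL hx)) _ (mem_map_of_mem Q.subtype hy))
      exact mem_map_of_mem Q.subtype (Core.centralizer_fittingSubgroup_le h10)
    exact hPQ ((hPL.trans hLC).trans (centralizer_le hQF))
  · -- the fixed points of `c` on `V` have order `p`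
    set W := V ⊓ centralizer {c} with hWd
    have hWe : IsElementaryAbelian p W := Coprime.ea_mono hVe inf_le_left
    have hnoE : ∀ E : Subgroup G, E ≤ K ⊓ centralizer {c} → IsElementaryAbelian p E →
        Nat.card E ≤ p := by
      intro E hE hEe
      obtain ⟨a, ha⟩ := Coprime.ea_card hEe
      have hcy : IsCyclic E := by
        haveI : IsCyclic (E.subgroupOf (K ⊓ centralizer {c})) :=
          ((Coprime.ea_isPGroup hEe).comap_of_injective (K ⊓ centralizer {c}).subtype
            (Subgroup.subtype_injective _)).isCyclic_of_isZGroup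
        exact isCyclic_of_surjective _ (subgroupOfEquivOfLe hE).surjective
      rcases a with _ | _ | a
      · rw [ha]; simpa using hp.out.one_le
      · rw [ha]; simp
      · exact absurd hcy (Coprime.ea_not_isCyclic hEe
          (ha ▸ Nat.pow_le_pow_right hp.out.pos (by omega)))
    have hWp := hnoE W (inf_le_inf_right _ hVK) hWe
    have hPfix : P ⊓ centralizer {c} = ⊥ := by
      by_contra hne
      obtain ⟨a, ha⟩ := (hPp.to_le inf_le_left :
        IsPGroup p (P ⊓ centralizer {c} : Subgroup G)).exists_card_eq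
      have ha0 : a ≠ 0 := fun h0 => hne (Subgroup.card_eq_one.mp (by rw [ha, h0, pow_zero]))
      obtain ⟨y, hy⟩ := exists_prime_orderOf_dvd_card' p (ha.symm ▸ dvd_pow_self p ha0 :
        p ∣ Nat.card (P ⊓ centralizer {c} : Subgroup G))
      have hyp : (y : G) ^ p = 1 := by
        rw [← SubmonoidClass.coe_pow, ← hy, pow_orderOf_eq_one, OneMemClass.coe_one]
      have hyn : zpowers (y : G) ≤ normalizer (W : Set G) :=
        Coprime.le_normalizer_inf (zpowers_le.mpr (hKV (hLK (hPL y.2.1))))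
          (zpowers_le.mpr (Subgroup.le_normalizer y.2.2))
      have hyW := ZFix.le_centralizer_of_card_le (FixedPointFree.isPGroup_zpowers hyp)
        (Coprime.ea_isPGroup hWe) hyn hWp
      have hE := isElementaryAbelian_sup_zpowers hWe hyp (hyW (mem_zpowers _))
      have h10 : Nat.card (W ⊔ zpowers (y : G) : Subgroup G) ≤ p := hnoE _ (sup_le (inf_le_inf_right _ hVK)
        (zpowers_le.mpr ⟨hLK (hPL y.2.1), y.2.2⟩)) hE
      obtain ⟨b, hb⟩ := Coprime.ea_card hWe
      have hb0 : b ≠ 0 := fun h0 => hfix (Subgroup.card_eq_one.mp (by rw [hb, h0, pow_zero]))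
      have h11 : W < W ⊔ zpowers (y : G) := lt_of_le_of_ne le_sup_left fun he => by
        have h12 : (y : G) ∈ V ⊓ L := ⟨(he.ge (mem_sup_right (mem_zpowers _))).1, hPL y.2.1⟩
        rw [hVLbot, mem_bot] at h12
        rw [show y = 1 from Subtype.ext h12, orderOf_one] at hy
        exact hp.out.ne_one hy.symm
      have h13 := Core.card_lt_of_lt h11
      have h14 := Nat.le_self_pow hb0 p
      omega
    apply hPQ
    rw [le_centralizer_iff]
    have hPQn : P ≤ normalizer (Q : Set G) := hPL.trans inf_le_right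
    have hcP : c ∈ normalizer (P : Set G) := hP₀ (mem_zpowers c)
    have hA : P ⊔ C ≤ normalizer (Q : Set G) := sup_le hPQn hQC
    have hAcop : (Nat.card (P ⊔ C : Subgroup G)).Coprime (Nat.card Q) := by
      obtain ⟨a, ha⟩ := hPp.exists_card_eq
      have hd : P ⊓ C = ⊥ := Coprime.inf_eq_bot_of_coprime
        ((ZFix.coprime_zpowers hcs (hsK.coprime_dvd_right (card_dvd_of_le (hPL.trans hLK)))).symm)
      rw [Coprime.card_sup_eq_mul (zpowers_le.mpr hcP) hd, ha]
      exact (hQp.symm.pow_left a).mul_left hCcopQ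
    intro x hx
    refine (?_ : Q ≤ Q ⊓ centralizer (P : Set G)) hx |>.2
    refine le_of_forall_sylow fun r hr => ?_
    haveI := Fact.mk hr
    obtain ⟨T, hT⟩ := Coprime.exists_invariant_sylow hA hAcop
      (Or.inr (Coprime.isSolvable_of_le (hQM.trans h1) S.solv)) r
    refine ⟨T, le_inf (map_subtype_le _) (le_centralizer_iff.mp ?_)⟩
    by_cases hrQ : r ∣ Nat.card Q
    swap
    · rw [show (T : Subgroup Q) = ⊥ from Subgroup.card_eq_one.mp ?_, Subgroup.map_bot]
      · exact fun y _ => mem_centralizer_iff.mpr (by simp)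
      obtain ⟨a, ha⟩ := T.2.exists_card_eq
      rcases a with _ | a
      · simpa using ha
      · exact absurd (((dvd_pow_self r a.succ_ne_zero).trans ha.symm.dvd).trans
          (Subgroup.card_subgroup_dvd_card _)) hrQ
    refine ZFix.CfgZ.le_centralizer (c := c) (s := s) (p := p) (q := r) (V := V) _
      { hs := S.hc, hp := hp.out, hq := hr, hs2 := S.hc2, hp2 := S.hp2, cs := hcs
        sp := ?_, sq := ?_, qp := ?_
        commV := inferInstance, hV := hVp, hQ := T.2.map _, hP := hPp
        QV := (map_subtype_le _).trans hQV, PV := (hPL.trans hLK).trans hKV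
        cV := hRV S.cR, PQ := le_sup_left.trans hT, cQ := hT (mem_sup_right (mem_zpowers c))
        cP := hcP, fP := hPfix, hCV := hWp
        hCQ := ?_
        faithful := le_bot_iff.mp ((inf_le_inf_right _ (map_subtype_le _)).trans hQfix.le) }
    · intro h
      exact hp.out.not_dvd_one ((h ▸ hsK : p.Coprime (Nat.card K)) ▸ Nat.dvd_gcd dvd_rfl
        (hVidx.trans (relIndex_dvd_card V K)))
    · intro h
      exact hr.not_dvd_one ((h ▸ hsK : r.Coprime (Nat.card K)) ▸ Nat.dvd_gcd dvd_rfl
        (hrQ.trans (card_dvd_of_le (hQM.trans h1))))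
    · exact fun h => (hp.out.coprime_iff_not_dvd.mp hQp.symm) (h ▸ hrQ)
    · have hle : (T : Subgroup Q).map Q.subtype ⊓ centralizer {c} ≤ K ⊓ centralizer {c} :=
        inf_le_inf_right _ ((map_subtype_le _).trans (hQM.trans h1))
      have hTp : IsPGroup r ((T : Subgroup Q).map Q.subtype ⊓ centralizer {c} : Subgroup G) :=
        (T.2.map _).to_le inf_le_left
      haveI : IsCyclic (((T : Subgroup Q).map Q.subtype ⊓ centralizer {c}).subgroupOf
          (K ⊓ centralizer {c})) := (hTp.comap_of_injective (K ⊓ centralizer {c}).subtype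
          (Subgroup.subtype_injective _)).isCyclic_of_isZGroup
      exact isCyclic_of_surjective _ (subgroupOfEquivOfLe hle).surjective

end PLenZ

theorem pLengthLE_commutator_aux : ∀ (n : ℕ) (G : Type u) [Group G] [Finite G] (K R : Subgroup G)
    (c : G), R ≤ normalizer (K : Set G) → (Nat.card K).Coprime (Nat.card R) → c ∈ R →
    (orderOf c).Prime → orderOf c ≠ 2 → Odd (Nat.card K) → Group.IsSolvable K →
    IsZGroup ↥(K ⊓ centralizer ({c} : Set G)) → Nat.card K ≤ n → PLengthLE p 1 ↥⁅K, R⁆ := by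
  intro n
  induction n with
  | zero =>
    intro G _ _ K R c _ _ _ _ _ _ _ _ hn
    have := Nat.card_pos (α := K)
    omega
  | succ n ih =>
    intro G _ _ K R c hRK hcop hcR hc hc2 hodd hsolv hZ hn
    haveI := hsolv
    haveI := hZ
    have hle : ⁅K, R⁆ ≤ K := Coprime.commutator_le_of_le_normalizer hRK
    by_cases heq : ⁅K, R⁆ = K
    swap
    · have h1 := ih G ⁅K, R⁆ R c (normalizer_commutator_ge_right K R)
        (hcop.coprime_dvd_left (card_dvd_of_le hle)) hcR hc hc2
        (hodd.of_dvd_nat (card_dvd_of_le hle)) (Coprime.isSolvable_of_le hle hsolv)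
        (IsZGroup.of_injective (f := inclusion (inf_le_inf_right _ hle)) (inclusion_injective _))
        (by have := Core.card_lt_of_lt (lt_of_le_of_ne hle heq); omega)
      rwa [Coprime.commutator_commutator_eq hRK hcop.symm (Or.inr hsolv)] at h1
    rw [heq]
    by_cases hp2 : p = 2
    · refine PLenZ.Setup.pLength_of_subgroups (K := K) (A := K) (B := K) Subgroup.le_normalizer
        Subgroup.le_normalizer le_rfl le_rfl ?_ (fun x hx => ⟨0, by simpa using hx⟩) ?_
      · subst hp2
        exact (Nat.coprime_two_right).mpr hodd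
      · rw [relIndex_self]
        exact hp.out.not_dvd_one
    refine (PLenZ.Setup.pLengthLE (R := R) (c := c)
      ⟨hRK, hcop, hcR, hc, hc2, hp2, hodd, hsolv, hZ, heq, fun N hNK hN hKN hRN => ?_⟩)
    set G0 := normalizer (N : Set G) with hG0
    haveI : (N.subgroupOf G0).Normal :=
      (normal_subgroupOf_iff_le_normalizer Subgroup.le_normalizer).mpr le_rfl
    set π := QuotientGroup.mk' (N.subgroupOf G0) with hπ
    set Kb := (K.subgroupOf G0).map π with hKb
    set Rb := (R.subgroupOf G0).map π with hRb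
    have hKcard : Nat.card Kb * Nat.card N = Nat.card K := by
      have h1 := card_map_mul_card π (K := K.subgroupOf G0)
        (by rw [hπ, QuotientGroup.ker_mk']; exact comap_mono hNK)
      rwa [hπ, QuotientGroup.ker_mk', Coprime.card_subgroupOf Subgroup.le_normalizer,
        Coprime.card_subgroupOf hKN] at h1
    obtain ⟨B, hBn, hB, hi⟩ : ∃ B : Subgroup Kb, B.Normal ∧
        (∀ x ∈ B, ∃ n : ℕ, x ^ p ^ n ∈ pPrimeCore p Kb) ∧ ¬ p ∣ B.index := by
      refine exists_series_of_pLengthLE_one ?_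
      have hcomm : ⁅Kb, Rb⁆ = Kb := by
        rw [hKb, hRb, ← map_commutator]
        congr 1
        apply map_injective G0.subtype_injective
        rw [map_commutator, map_subgroupOf_eq_of_le hKN, map_subgroupOf_eq_of_le hRN, heq]
      have hcN : c ∈ G0 := hRN hcR
      have hzc : zpowers (⟨c, hcN⟩ : G0) ≤ normalizer (K.subgroupOf G0 : Set G0) := by
        rw [zpowers_le, mem_normalizer_iff]
        exact fun y => mem_normalizer_iff.mp (hRK hcR) (y : G)
      have hkerK : π.ker ≤ K.subgroupOf G0 := by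
        rw [hπ, QuotientGroup.ker_mk']
        exact comap_mono hNK
      have hocop : (Nat.card (zpowers (⟨c, hcN⟩ : G0))).Coprime (Nat.card π.ker) := by
        refine (ZFix.coprime_zpowers (Subtype.ext (pow_orderOf_eq_one c) : (⟨c, hcN⟩ : G0) ^ orderOf c = 1)
          (hcop.symm.coprime_dvd_left (Subgroup.orderOf_dvd_natCard R hcR))).coprime_dvd_right ?_
        exact (card_dvd_of_le hkerK).trans (Coprime.card_subgroupOf hKN).dvd
      have hmapc : Kb ⊓ centralizer ({π ⟨c, hcN⟩} : Set _) =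
          ((K ⊓ centralizer {c}).subgroupOf G0).map π := by
        have h1 := Coprime.map_inf_centralizer π hzc hkerK hocop (Or.inl (ZFix.isSolvable_zpowers _))
        rw [MonoidHom.map_zpowers, FixedPointFree.centralizer_zpowers,
          FixedPointFree.centralizer_zpowers] at h1
        rw [← h1]
        congr 1
        ext y
        simp [mem_subgroupOf, mem_centralizer_singleton_iff, Subtype.ext_iff]
      have hord : orderOf (π ⟨c, hcN⟩) = orderOf c := by
        refine (hc.eq_one_or_self_of_dvd _ ((orderOf_map_dvd π _).trans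
          (dvd_of_eq (Subgroup.orderOf_mk c hcN)))).resolve_left fun h1 => ?_
        rw [orderOf_eq_one_iff] at h1
        have h2 : c ∈ N := (QuotientGroup.eq_one_iff (N := N.subgroupOf G0) (⟨c, hcN⟩ : G0)).mp h1
        exact hc.ne_one (Nat.eq_one_of_dvd_coprimes hcop
          (Subgroup.orderOf_dvd_natCard K (hNK h2)) (Subgroup.orderOf_dvd_natCard R hcR))
      haveI hZb : IsZGroup ↥(Kb ⊓ centralizer ({π ⟨c, hcN⟩} : Set _)) := by
        rw [hmapc]
        haveI : IsZGroup ↥((K ⊓ centralizer {c}).subgroupOf G0) := IsZGroup.of_injective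
          (f := (G0.subtype.comp ((K ⊓ centralizer {c}).subgroupOf G0).subtype).codRestrict
            (K ⊓ centralizer {c}) fun y => y.2)
          (fun a b hab => Subtype.ext (Subtype.ext (congrArg Subtype.val hab :)))
        exact IsZGroup.of_surjective (π.subgroupMap_surjective _)
      have hlt : Nat.card Kb < Nat.card K := by
        rw [← hKcard]
        exact lt_mul_of_one_lt_right Nat.card_pos ((one_lt_card_iff_ne_bot N).mpr hN)
      haveI : Group.IsSolvable Kb := Coprime.isSolvable_map π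
        (Coprime.isSolvable_subgroupOf G0 hsolv)
      have h2 := ih _ Kb Rb (π ⟨c, hcN⟩) ?_ ?_ (mem_map_of_mem π (show (⟨c, hcN⟩ : G0) ∈ R.subgroupOf G0 from hcR))
        (hord ▸ hc) (hord ▸ hc2) (hodd.of_dvd_nat ⟨_, hKcard.symm⟩) inferInstance hZb (by omega)
      · rwa [hcomm] at h2
      · refine (le_normalizer_map π).trans' (map_mono ?_)
        intro y hy
        rw [mem_normalizer_iff]
        exact fun z => mem_normalizer_iff.mp (hRK hy) (z : G)
      · exact (hcop.coprime_dvd_left ⟨_, hKcard.symm⟩).coprime_dvd_right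
          ((card_map_dvd _ π).trans (Coprime.card_subgroupOf hRN).dvd)
    haveI := hBn
    set O := (pPrimeCore p Kb).map Kb.subtype with hO
    set B' := B.map Kb.subtype with hB'
    have hpre : ∀ X : Subgroup (G0 ⧸ N.subgroupOf G0), X ≤ Kb → (X.comap π).map G0.subtype ≤ K := by
      rintro X hX _ ⟨y, hy, rfl⟩
      obtain ⟨z, hz, hzy⟩ := hX hy
      have h1 : z⁻¹ * y ∈ N.subgroupOf G0 := (QuotientGroup.eq).mp hzy
      have h2 := mul_mem (show (z : G) ∈ K from hz) (hNK h1)
      simpa using h2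
    have hnorm : ∀ X : Subgroup (G0 ⧸ N.subgroupOf G0), ∀ {Y : Subgroup G}, Y ≤ G0 →
        (Y.subgroupOf G0).map π ≤ normalizer (X : Set _) →
        Y ≤ normalizer ((X.comap π).map G0.subtype : Set G) := by
      intro X Y hY hn y hy
      rw [mem_normalizer_iff]
      intro z
      have hyG := hY hy
      have h1 := hn (mem_map_of_mem π (show (⟨y, hyG⟩ : G0) ∈ Y.subgroupOf G0 from hy))
      constructor
      · rintro ⟨w, hw, rfl⟩
        refine ⟨⟨y, hyG⟩ * w * ⟨y, hyG⟩⁻¹, ?_, rfl⟩
        rw [SetLike.mem_coe, mem_comap, map_mul, map_mul, map_inv]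
        exact (mem_normalizer_iff.mp h1 _).mp hw
      · rintro ⟨w, hw, hwz⟩
        refine ⟨⟨y, hyG⟩⁻¹ * w * ⟨y, hyG⟩, ?_, ?_⟩
        · rw [SetLike.mem_coe, mem_comap, map_mul, map_mul, map_inv]
          exact (mem_normalizer_iff''.mp h1 _).mp hw
        · show y⁻¹ * (w : G) * y = z
          rw [show (w : G) = y * z * y⁻¹ from hwz]
          group
    refine ⟨(O.comap π).map G0.subtype, (B'.comap π).map G0.subtype, Nat.card O,
      fun x hx => ⟨⟨x, Subgroup.le_normalizer hx⟩, ?_, rfl⟩, hpre _ (map_subtype_le _),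
      hpre _ (map_subtype_le _),
      hnorm _ hKN (Coprime.le_normalizer_map_of_characteristic Subgroup.le_normalizer _ inferInstance),
      hnorm _ hRN (Coprime.le_normalizer_map_of_characteristic ?_ _ inferInstance),
      hnorm _ hKN ?_, ?_, ?_, fun x hx => ?_, ?_⟩
    · rw [SetLike.mem_coe, mem_comap, show π (⟨x, Subgroup.le_normalizer hx⟩ : G0) = 1 from
        (QuotientGroup.eq_one_iff _).mpr hx]
      exact one_mem _
    · refine (le_normalizer_map π).trans' (map_mono ?_)
      intro y hy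
      rw [mem_normalizer_iff]
      exact fun z => mem_normalizer_iff.mp (hRK hy) (z : G)
    · intro y hy
      rw [mem_normalizer_iff]
      intro z
      constructor
      · rintro ⟨b, hb, rfl⟩
        exact ⟨⟨y, hy⟩ * b * ⟨y, hy⟩⁻¹, hBn.conj_mem b hb _, rfl⟩
      · rintro ⟨b, hb, hbz⟩
        refine ⟨⟨y, hy⟩⁻¹ * b * ⟨y, hy⟩, by simpa using hBn.conj_mem b hb (⟨y, hy⟩⁻¹), ?_⟩
        show y⁻¹ * (b : G0 ⧸ N.subgroupOf G0) * y = z
        rw [show (b : G0 ⧸ N.subgroupOf G0) = y * z * y⁻¹ from hbz]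
        group
    · rw [card_map_of_injective G0.subtype_injective, coprime_card_comap,
        Coprime.card_subgroupOf Subgroup.le_normalizer]
    · rw [hO, card_map_of_injective Kb.subtype_injective]
      exact Core.coprime_card_pPrimeCore
    · obtain ⟨y, ⟨b, hb, hby⟩, rfl⟩ := hx
      obtain ⟨k, hk⟩ := hB b hb
      refine ⟨k, y ^ p ^ k, ?_, rfl⟩
      rw [SetLike.mem_coe, mem_comap, map_pow, ← hby]
      exact ⟨_, hk, rfl⟩
    · rw [← map_subgroupOf_eq_of_le hKN, relIndex_map_map_of_injective _ _ G0.subtype_injective,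
        relIndex_comap, ← hKb, hB', show B'.relIndex Kb = B.index from ?_]
      · exact hi
      rw [hB']
      show ((B.map Kb.subtype).comap Kb.subtype).index = B.index
      rw [comap_map_eq_self_of_injective Kb.subtype_injective]

/-- BG Theorem 3.6. -/
theorem pLengthLE_commutator {G : Type u} [Group G] [Finite G] (K R : Subgroup G) (c : G)
    (hRK : R ≤ normalizer (K : Set G)) (hcop : (Nat.card K).Coprime (Nat.card R)) (hcR : c ∈ R)
    (hc : (orderOf c).Prime) (hc2 : orderOf c ≠ 2) (hodd : Odd (Nat.card K))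
    (hsolv : Group.IsSolvable K) (hZ : IsZGroup ↥(K ⊓ centralizer ({c} : Set G))) :
    PLengthLE p 1 ↥⁅K, R⁆ :=
  pLengthLE_commutator_aux _ G K R c hRK hcop hcR hc hc2 hodd hsolv hZ le_rfl

end Cfsg.Agent.OddLocal
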