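import Cfsg.Agent.OddLocal.NonSigma
import Cfsg.Agent.OddLocal.PLengthCentralizer

/-!
Proper subgroups of a minimal simple group of odd order have `p`-length one (BG Theorem 10.6(a)).
-/

set_option autoImplicit false
set_option linter.unusedSectionVars false
set_option linter.style.haveILetI false

namespace Cfsg.Agent.OddLocal

open Subgroup Cfsg
open scoped commutatorElement

universe u

/-- A normal Hall subgroup inside the derived group equals its commutator with a complement. -/
theorem commutator_eq_of_le_commutator {M : Type u} [Group M] [Finite M] [Group.IsSolvable M]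
    {A R : Subgroup M} [A.Normal] (hA : A ≤ commutator M) (hsup : A ⊔ R = ⊤)
    (hcop : (Nat.card A).Coprime (Nat.card R)) : ⁅A, R⁆ = A := by
  have hle : ⁅A, R⁆ ≤ A := commutator_le_left A R
  refine le_antisymm hle ?_
  set N := ⁅A, R⁆ with hN
  haveI : N.Normal := by
    rw [← normalizer_eq_top_iff, eq_top_iff, ← hsup]
    exact sup_le (normalizer_commutator_ge_left A R) (normalizer_commutator_ge_right A R)
  set f := QuotientGroup.mk' N with hf
  have hfs : Function.Surjective f := QuotientGroup.mk'_surjective N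
  set Ab := A.map f with hAb
  set Rb := R.map f with hRb
  have hcomm : ∀ a ∈ Ab, ∀ b ∈ Rb, Commute a b := by
    rintro _ ⟨a, ha, rfl⟩ _ ⟨b, hb, rfl⟩
    refine commutatorElement_eq_one_iff_mul_comm.mp ?_
    rw [← map_commutatorElement]
    exact (QuotientGroup.eq_one_iff _).mpr (commutator_mem_commutator ha hb)
  have hRA : Rb ≤ normalizer (Ab : Set (M ⧸ N)) := by
    haveI : Ab.Normal := Normal.map inferInstance f hfs
    exact le_normalizer_of_normal
  have htop : Ab ⊔ Rb = ⊤ := by
    rw [hAb, hRb, ← Subgroup.map_sup, hsup, Subgroup.map_top_of_surjective f hfs]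
  have hRn : Rb.Normal := by
    rw [← normalizer_eq_top_iff, eq_top_iff, ← htop]
    exact sup_le ((show Ab ≤ centralizer (Rb : Set (M ⧸ N)) from fun a ha =>
      mem_centralizer_iff.mpr fun b hb => (hcomm a ha b hb).eq.symm).trans
      (centralizer_le_normalizer _)) Subgroup.le_normalizer
  haveI := hRn
  haveI : Ab.Normal := Normal.map inferInstance f hfs
  have h1 : Ab ≤ ⁅Ab, Ab⁆ ⊔ ⁅Rb, Rb⁆ := by
    refine (map_mono hA).trans ?_
    rw [_root_.commutator_def, map_commutator, Subgroup.map_top_of_surjective f hfs, commutator_le]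
    intro x hx' y hy'
    obtain ⟨a, ha, r, hr, rfl⟩ := (Coprime.mem_sup_of_le_normalizer hRA).mp (htop.symm ▸ mem_top x)
    obtain ⟨b, hb, t, ht, rfl⟩ := (Coprime.mem_sup_of_le_normalizer hRA).mp (htop.symm ▸ mem_top y)
    have c1 : Commute r b := (hcomm b hb r hr).symm
    have c2 : Commute t a := (hcomm a ha t ht).symm
    have : ⁅a * r, b * t⁆ = ⁅a, b⁆ * ⁅r, t⁆ := by
      rw [commutatorElement_def, commutatorElement_def, commutatorElement_def, mul_inv_rev, mul_inv_rev]
      have c3 : Commute a⁻¹ (t * r⁻¹ * t⁻¹) :=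
        ((hcomm _ (inv_mem ha) _ (mul_mem (mul_mem ht (inv_mem hr)) (inv_mem ht))))
      have c4 : Commute b⁻¹ (r * t * r⁻¹ * t⁻¹) :=
        hcomm _ (inv_mem hb) _ (mul_mem (mul_mem (mul_mem hr ht) (inv_mem hr)) (inv_mem ht))
      calc a * r * (b * t) * (r⁻¹ * a⁻¹) * (t⁻¹ * b⁻¹)
          = a * (r * b) * (t * r⁻¹) * (a⁻¹ * t⁻¹) * b⁻¹ := by group
        _ = a * (b * r) * (t * r⁻¹) * (t⁻¹ * a⁻¹) * b⁻¹ := by rw [c1.eq, c2.inv_inv.symm.eq]
        _ = a * b * ((r * t * r⁻¹ * t⁻¹) * a⁻¹) * b⁻¹ := by group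
        _ = a * b * (a⁻¹ * (r * t * r⁻¹ * t⁻¹)) * b⁻¹ := by
          rw [(hcomm _ (inv_mem ha) _ (mul_mem (mul_mem (mul_mem hr ht) (inv_mem hr)) (inv_mem ht))).eq]
        _ = a * b * a⁻¹ * ((r * t * r⁻¹ * t⁻¹) * b⁻¹) := by group
        _ = a * b * a⁻¹ * b⁻¹ * (r * t * r⁻¹ * t⁻¹) := by rw [← c4.eq]; group
    rw [this]
    exact Subgroup.mul_mem_sup (commutator_mem_commutator ha hb) (commutator_mem_commutator hr ht)
  have h2 : Ab ≤ ⁅Ab, Ab⁆ := fun x hx => by
    obtain ⟨u, hu, w, hw, rfl⟩ := (Coprime.mem_sup_of_le_normalizer (le_normalizer_of_normal)).mp (h1 hx)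
    have hwA : w ∈ Ab ⊓ Rb := ⟨(Subgroup.mul_mem_cancel_left Ab (commutator_le_self Ab hu)).mp hx,
      commutator_le_self Rb hw⟩
    rw [Coprime.inf_eq_bot_of_coprime ((hcop.coprime_dvd_left (card_map_dvd A f)).coprime_dvd_right
      (card_map_dvd R f)), mem_bot] at hwA
    rwa [hwA, mul_one]
  by_contra hne
  have hAne : Ab ≠ ⊥ := fun h => hne (by
    rw [hAb, Subgroup.map_eq_bot_iff, QuotientGroup.ker_mk'] at h
    exact h)
  exact absurd h2 (Group.IsSolvable.commutator_lt_of_ne_bot hAne).not_ge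

variable {G : Type u} [Group G] [Finite G] {p : ℕ} [hp : Fact p.Prime]

/-- BG Theorem 10.6(a) for maximal subgroups. -/
theorem pLengthLE_one_of_coatom (hG : IsMinSimpleOddOrder G) {M : Subgroup G} (hM : IsCoatom M) :
    PLengthLE p 1 M := by
  haveI : Group.IsSolvable M := hG.2.2.2 M hM.1
  have hModd : Odd (Nat.card M) := odd_card_subgroup hG M
  by_cases hpM : p ∣ Nat.card M
  swap
  · refine pLengthLE_one_of_series (A := (⊤ : Subgroup M)) (B := ⊤)
      (by rw [card_top]; exact (hp.out.coprime_iff_not_dvd.mpr hpM).symm)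
      (fun x _ => ⟨0, mem_top _⟩) ?_
    rw [index_top]
    exact hp.out.not_dvd_one
  by_cases hα : p ∈ alpha M
  swap
  · have hr : PRankLE p 2 M := by
      by_contra h
      exact hα ⟨hp.out, h⟩
    obtain ⟨S⟩ : Nonempty (Sylow p M) := inferInstance
    have hrS := pRankLE_of_injective _ (S : Subgroup M).subtype_injective hr
    obtain ⟨-, -, -, -, -, hidx⟩ :=
      Cfsg.Agent.S1455.result hModd p hpM S (Or.inl hrS) (fun h => absurd hrS h)
    refine pLengthLE_one_of_index fun hd => hp.out.not_dvd_one (hidx ▸ Nat.dvd_gcd ?_ dvd_rfl)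
    rwa [pPrimePCore, index_comap_of_surjective _ (QuotientGroup.mk'_surjective _)]
  -- a prime outside `σ(M)`
  obtain ⟨t, ht, htM, htσ⟩ : ∃ t, t.Prime ∧ t ∣ Nat.card M ∧ t ∉ sigma M := by
    by_contra! hall
    have htop : commutator M = ⊤ := by
      rw [← index_eq_one]
      by_contra hne
      obtain ⟨r, hr, hd⟩ := Nat.exists_prime_and_dvd hne
      haveI := Fact.mk hr
      obtain ⟨P⟩ : Nonempty (Sylow r M) := inferInstance
      exact P.not_dvd_index (hd.trans (index_dvd_of_le
        (sylow_le_commutator_self hG hM (hall r hr (hd.trans (commutator M).index_dvd_card)) P)))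
    haveI : Nontrivial M := Finite.one_lt_card_iff_nontrivial.mp
      (hp.out.one_lt.trans_le (Nat.le_of_dvd Nat.card_pos hpM))
    exact (Group.IsSolvable.commutator_lt_top_of_nontrivial M).ne htop
  haveI := Fact.mk ht
  obtain ⟨T⟩ : Nonempty (Sylow t M) := inferInstance
  set A := piCore (alpha M) M with hA
  haveI : A.Normal := piCore_normal _ _
  have hAH := isPiHallOf_alphaCore hG hM
  have hpA : p ∣ Nat.card A := by
    obtain ⟨P⟩ : Nonempty (Sylow p M) := inferInstance
    exact (P.dvd_card_of_dvd_card hpM).trans (card_dvd_of_le (sylow_le_piCore_alpha hG hM hα P))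
  have hMα : alphaCore M ≠ ⊥ := fun h => by
    rw [alphaCore, map_eq_bot_iff_of_injective _ M.subtype_injective, ← hA] at h
    rw [h, card_bot] at hpA
    exact hp.out.not_dvd_one hpA
  obtain ⟨x, hxZ, hx, hxz, -⟩ := exists_not_unique_centralizer hG hM hMα htM htσ T
  have hxM : x ∈ M := map_subtype_le _ (omegaCenter_le hxZ)
  set x' : M := ⟨x, hxM⟩ with hx'
  have hxo : orderOf x' = t := by rw [hx', Subgroup.orderOf_mk, hx]
  obtain ⟨R, hR, -, hxR⟩ := Coprime.exists_le_invariant_hall (A := (⊥ : Subgroup M))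
    (K := (⊤ : Subgroup M)) (U := zpowers x') bot_le (by rw [card_bot]; exact Nat.coprime_one_left _)
    (Group.isSolvable_of_surjective (f := (Subgroup.topEquiv (G := M)).symm.toMonoidHom)
      (Subgroup.topEquiv (G := M)).symm.surjective)
    (π := {r | r ∉ alpha M}) le_top bot_le (fun r hr hd => by
      rw [Nat.card_zpowers, hxo, Nat.prime_dvd_prime_iff_eq hr ht] at hd
      exact hd ▸ fun h => htσ (alpha_subset_sigma hG hM h))
  have hcop : (Nat.card A).Coprime (Nat.card R) := Nat.coprime_of_dvd fun r hr h1 h2 =>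
    hR.2.1 r hr h2 (piNum_piCore (alpha M) r hr h1)
  have hsup : A ⊔ R = ⊤ := by
    rw [← index_eq_one]
    by_contra hne
    obtain ⟨r, hr, hd⟩ := Nat.exists_prime_and_dvd hne
    haveI := Fact.mk hr
    by_cases hrα : r ∈ alpha M
    · obtain ⟨P⟩ : Nonempty (Sylow r M) := inferInstance
      exact P.not_dvd_index (hd.trans (index_dvd_of_le
        ((sylow_le_piCore_alpha hG hM hrα P).trans le_sup_left)))
    · refine hR.2.2 r hr hrα ?_
      rw [relIndex_top_right]
      exact hd.trans (index_dvd_of_le le_sup_right)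
  have hAc : A ≤ commutator M := by
    refine Core.le_of_coprime_index (Nat.coprime_of_dvd fun r hr h1 h2 => ?_)
    haveI := Fact.mk hr
    obtain ⟨P⟩ : Nonempty (Sylow r M) := inferInstance
    exact P.not_dvd_index (h2.trans (index_dvd_of_le (sylow_le_commutator_self hG hM
      (alpha_subset_sigma hG hM (piNum_piCore (alpha M) r hr h1)) P)))
  have hxR' : x' ∈ R := hxR (mem_zpowers x')
  have hz : IsZGroup ↥(A ⊓ centralizer ({x'} : Set M)) := by
    haveI := hxz
    exact IsZGroup.of_injective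
      (f := (M.subtype.comp (A ⊓ centralizer ({x'} : Set M)).subtype).codRestrict
        (alphaCore M ⊓ centralizer ({x} : Set G)) fun y => ⟨mem_map_of_mem M.subtype y.2.1,
          mem_centralizer_singleton_iff.mpr
            (congrArg Subtype.val (mem_centralizer_singleton_iff.mp y.2.2))⟩)
      (fun a b hab => Subtype.ext (Subtype.ext (congrArg Subtype.val hab :)))
  have hAodd : Odd (Nat.card A) := hModd.of_dvd_nat (Subgroup.card_subgroup_dvd_card A)
  have h1 := pLengthLE_commutator (p := p) A R x' (by rw [normalizer_eq_top]; exact le_top) hcop hxR'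
    (hxo ▸ ht) (by
      rw [hxo]
      exact fun h => (h ▸ hModd.not_two_dvd_nat : ¬ t ∣ Nat.card M) htM) hAodd inferInstance hz
  rw [commutator_eq_of_le_commutator hAc hsup hcop] at h1
  -- from `M_α` to `M`
  haveI : (pPrimePCore p A).Characteristic := Coprime.pPrimePCore_characteristic
  obtain ⟨S⟩ : Nonempty (Sylow p A) := inferInstance
  haveI hBc : (pPrimeCore p A ⊔ (S : Subgroup A)).Normal := normal_pPrimeCore_sup h1 S
  refine pLengthLE_one_of_series (A := (pPrimeCore p A).map A.subtype)
    (B := ((pPrimePCore p A)).map A.subtype) ?_ ?_ ?_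
  · rw [card_map_of_injective A.subtype_injective]
    exact Core.coprime_card_pPrimeCore
  · rintro _ ⟨y, hy, rfl⟩
    obtain ⟨n, hn⟩ := (Core.pCore_isPGroup (p := p) (G := A ⧸ pPrimeCore p A)) ⟨_, hy⟩
    refine ⟨n, y ^ p ^ n, (QuotientGroup.eq_one_iff _).mp ?_, map_pow _ _ _⟩
    rw [QuotientGroup.mk_pow]
    exact congrArg Subtype.val hn
  · intro hd
    have hle : pPrimeCore p A ⊔ (S : Subgroup A) ≤ pPrimePCore p A := by
      set g := QuotientGroup.mk' (pPrimeCore p A) with hg
      rw [pPrimePCore, ← map_le_iff_le_comap, Subgroup.map_sup, QuotientGroup.map_mk'_self, bot_sup_eq]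
      haveI : ((S : Subgroup A).map g).Normal := by
        have := Normal.map hBc g (QuotientGroup.mk'_surjective _)
        rwa [Subgroup.map_sup, QuotientGroup.map_mk'_self, bot_sup_eq] at this
      exact Core.le_pCore (S.2.map g)
    rw [index_map_subtype] at hd
    rcases hp.out.dvd_mul.mp hd with h | h
    · exact S.not_dvd_index (h.trans (index_dvd_of_le (le_sup_right.trans hle)))
    · obtain ⟨P⟩ : Nonempty (Sylow p M) := inferInstance
      exact P.not_dvd_index (h.trans (index_dvd_of_le (sylow_le_piCore_alpha hG hM hα P)))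

/-- BG Theorem 10.6(a). -/
theorem pLengthLE_one_of_proper (hG : IsMinSimpleOddOrder G) {H : Subgroup G} (hH : H ≠ ⊤) :
    PLengthLE p 1 H := by
  obtain ⟨M, hM, hHM⟩ := (eq_top_or_exists_le_coatom H).resolve_left hH
  exact pLengthLE_one_of_injective (inclusion hHM) (inclusion_injective _)
    (pLengthLE_one_of_coatom hG hM)

end Cfsg.Agent.OddLocal
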