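import Cfsg.Agent.OddLocal.SylowCentralizer
import Cfsg.Agent.OddLocal.TransCriteria
import Cfsg.Agent.OddLocal.InvTransitivity
import Cfsg.Agent.Coherence.ThompsonFPF
import Cfsg.Agent.S1410

/-!
BG §11: exceptional maximal subgroups (nilpotence of `M_σ`, abelian Sylow subgroups).
-/

set_option autoImplicit false
set_option linter.unusedSectionVars false
set_option linter.style.haveILetI false

namespace Cfsg.Agent.OddLocal

open Subgroup Cfsg
open scoped commutatorElement

universe u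

variable {G : Type u} [Group G] [Finite G] {p : ℕ} [hp : Fact p.Prime] {M A : Subgroup G}

/-- An elementary abelian subgroup of order `p²` of `M`, for `p ∉ σ(M)`. -/
structure IsTauPair (p : ℕ) (M A : Subgroup G) : Prop where
  le : A ≤ M
  elem : IsElementaryAbelian p A
  card : Nat.card A = p ^ 2
  not_sigma : p ∉ sigma M

/-- BG Hypothesis 11.1. -/
structure IsExceptional (p : ℕ) (M A : Subgroup G) : Prop extends IsTauPair p M A where
  line : ∃ A₀ : Subgroup G, A₀ ≤ A ∧ Nat.card A₀ = p ∧ normalizer (A₀ : Set G) ≤ M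

omit hp [Finite G] in
theorem exists_mem_ne_one (X : Subgroup G) (h : X ≠ ⊥) : ∃ x ∈ X, x ≠ 1 := by
  by_contra hno
  push Not at hno
  exact h ((eq_bot_iff_forall X).mpr hno)

omit hp in
theorem exists_prime_dvd_of_ne_bot {X : Subgroup G} (h : X ≠ ⊥) :
    ∃ r : ℕ, r.Prime ∧ r ∣ Nat.card X :=
  Nat.exists_prime_and_dvd fun h1 => h (card_eq_one.mp h1)

/-- A `p`-subgroup of `M` lies in a Sylow subgroup of `M`. -/
theorem exists_sylow_ge {X : Subgroup G} (hX : IsPGroup p X) (hXM : X ≤ M) :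
    ∃ P : Sylow p M, X ≤ (P : Subgroup M).map M.subtype := by
  obtain ⟨P, hP⟩ := (hX.comap_of_injective M.subtype M.subtype_injective).exists_le_sylow
  refine ⟨P, ?_⟩
  rw [← map_subgroupOf_eq_of_le hXM]
  exact map_mono hP

omit hp in
theorem mem_centralizer_of_map_conj {X : Subgroup G} {g c : G}
    (hc : c ∈ centralizer (X.map (MulAut.conj g).toMonoidHom : Set G)) :
    g⁻¹ * c * g ∈ centralizer (X : Set G) := by
  rw [mem_centralizer_iff]
  intro x hx
  have h := mem_centralizer_iff.mp hc (g * x * g⁻¹)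
    (by rw [SetLike.mem_coe, mem_map_conj_iff]; simpa [mul_assoc] using hx)
  calc x * (g⁻¹ * c * g) = g⁻¹ * (g * x * g⁻¹ * c) * g := by group
    _ = g⁻¹ * (c * (g * x * g⁻¹)) * g := by rw [h]
    _ = g⁻¹ * c * g * x := by group

omit hp in
theorem centralizer_map_conj_le {X H : Subgroup G} (h : centralizer (X : Set G) ≤ H) (g : G) :
    centralizer (X.map (MulAut.conj g).toMonoidHom : Set G) ≤ H.map (MulAut.conj g).toMonoidHom :=
  fun _ hc => mem_map_conj_iff.mpr (h (mem_centralizer_of_map_conj hc))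

variable (hG : IsMinSimpleOddOrder G) (hM : IsCoatom M)
include hG hM

section Sigma

variable {q : ℕ} [hq : Fact q.Prime]

omit hp in
theorem sylow_of_sigmaCore (hqσ : q ∈ sigma M) (P : Sylow q ↥(sigmaCore M)) :
    ∃ S : Sylow q G, (S : Subgroup G) = (P : Subgroup ↥(sigmaCore M)).map (sigmaCore M).subtype := by
  have hH : IsPiHall (sigma M) (sigmaCore M) :=
    isPiHall_of_sigma hG hM (fun _ h => h) (isPiHallOf_sigmaCore hG hM)
  refine ⟨Sylow.ofCard _ ?_, Sylow.coe_ofCard _ _⟩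
  rw [card_map_of_injective (sigmaCore M).subtype_injective, P.card_eq_multiplicity,
    ← (sigmaCore M).card_mul_index,
    Nat.factorization_mul Nat.card_pos.ne' (sigmaCore M).index_ne_zero_of_finite, Finsupp.add_apply,
    Nat.factorization_eq_zero_of_not_dvd (hH.2 q hq.out hqσ), add_zero]

omit hp in
theorem sylow_le_sigmaCore {S : Sylow q G} (hSM : (S : Subgroup G) ≤ M) (hqσ : q ∈ sigma M) :
    (S : Subgroup G) ≤ sigmaCore M :=
  le_sigmaCore_of_isPGroup hG hM hSM S.2 hqσ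

omit hp in
theorem normalizer_sylow_le {S : Sylow q G} (hSM : (S : Subgroup G) ≤ M) (hqσ : q ∈ sigma M) :
    normalizer ((S : Subgroup G) : Set G) ≤ M := by
  have h := sigma_normalizer_le hqσ (S.subtype hSM)
  rwa [Sylow.coe_subtype, map_subgroupOf_eq_of_le hSM] at h

omit hp in
theorem sylow_ne_bot_of_sigma (S : Sylow q G) (hqσ : q ∈ sigma M) : (S : Subgroup G) ≠ ⊥ :=
  S.ne_bot_of_dvd_card (hqσ.2.1.trans (card_subgroup_dvd_card M))

omit hp in
/-- For nilpotent `M_σ`, `M` normalises a Sylow subgroup of `G` for each prime in `σ(M)`. -/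
theorem exists_normal_sylow (hn : Group.IsNilpotent (sigmaCore M)) (hqσ : q ∈ sigma M) :
    ∃ S : Sylow q G, (S : Subgroup G) ≤ sigmaCore M ∧ M ≤ normalizer ((S : Subgroup G) : Set G) := by
  obtain ⟨S, hS⟩ := exists_sylow_of_sigma hqσ
  have hSK := sylow_le_sigmaCore hG hM hS hqσ
  refine ⟨S, hSK, ?_⟩
  rw [← S.3 isPGroup_rPart (le_rPart_of_isPGroup hn hSK S.2)]
  exact le_normalizer_rPart (le_normalizer_sigmaCore M)

omit hp in
theorem le_sylow_of_normal {S : Sylow q G} (hSM : (S : Subgroup G) ≤ M)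
    (hn : M ≤ normalizer ((S : Subgroup G) : Set G)) {R : Subgroup G} (hR : IsPGroup q R)
    (hRM : R ≤ M) : R ≤ (S : Subgroup G) := by
  haveI : ((S : Subgroup G).subgroupOf M).Normal := normal_subgroupOf_of_le_normalizer hn
  obtain ⟨T, hT⟩ := (hR.comap_of_injective M.subtype M.subtype_injective).exists_le_sylow
  haveI : (S.subtype hSM : Subgroup M).Normal := by rw [Sylow.coe_subtype]; assumption
  obtain ⟨x, hx⟩ := MulAction.exists_smul_eq M (S.subtype hSM) T
  have h : R.subgroupOf M ≤ (S : Subgroup G).subgroupOf M := by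
    rw [Sylow.smul_eq_of_normal] at hx
    rw [← Sylow.coe_subtype S hSM, hx]
    exact hT
  intro r hr
  exact (h (show (⟨r, hRM hr⟩ : M) ∈ R.subgroupOf M from hr) :)

end Sigma

namespace IsTauPair

variable (h : IsTauPair p M A)
include h

theorem maximal {B : Subgroup G} (hB : IsElementaryAbelian p B) (hAB : A ≤ B) : B = A :=
  elementary_maximal_of_not_sigma hG hM h.not_sigma h.le h.elem h.card hB hAB

theorem mem_of_pow {x : G} (hx : x ^ p = 1) (hxc : x ∈ centralizer (A : Set G)) : x ∈ A :=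
  h.maximal hG hM (isElementaryAbelian_sup_zpowers h.elem hx hxc) le_sup_left ▸
    mem_sup_right (mem_zpowers x)

omit hG hM in
theorem dvd_card : p ∣ Nat.card M :=
  ((dvd_pow_self p two_ne_zero).trans h.card.symm.dvd).trans (card_dvd_of_le h.le)

omit hM in
theorem p_ne_two : p ≠ 2 := by
  intro e
  have h1 : 2 ∣ Nat.card G := e ▸ h.dvd_card.trans (card_subgroup_dvd_card M)
  exact absurd (hG.1.of_dvd_nat h1) (by decide)

theorem trans_hyp : TransitivityHypothesis A := by
  haveI := h.elem.1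
  exact transitivityHypothesis_of_omega hG (h.dvd_card.trans (card_subgroup_dvd_card M))
    (Coprime.ea_isPGroup h.elem) fun x hxc hx => h.mem_of_pow hG hM hx hxc

omit hG hM in
theorem not_dvd {q : ℕ} (hq : q.Prime) (hqp : q ≠ p) : ¬ q ∣ Nat.card A := fun hd =>
  hqp ((Nat.prime_dvd_prime_iff_eq hq hp.out).mp (hq.dvd_of_dvd_pow (h.card ▸ hd)))

omit hG hM in
theorem not_isCyclic : ¬ IsCyclic A := by
  intro hc
  obtain ⟨g, hg⟩ := hc.exists_generator
  have h1 : Nat.card A ∣ p := by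
    rw [← orderOf_eq_card_of_forall_mem_zpowers hg]
    exact orderOf_dvd_of_pow_eq_one (Subtype.ext (by simpa using h.elem.2 _ g.2))
  rw [h.card] at h1
  have := Nat.le_of_dvd hp.out.pos h1
  nlinarith [hp.out.one_lt]

omit hG hM in
theorem not_rankLE_center : ¬ RankLE 1 ↥(A ⊓ centralizer (A : Set G)) :=
  fun hr => not_rankLE_of_elementary (k := 1) (le_inf le_rfl (Coprime.ea_le_centralizer h.elem))
    h.elem h.card.ge hr

theorem sylow_mem_maxInv {q : ℕ} [hq : Fact q.Prime] {S : Sylow q G}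
    (hAS : A ≤ normalizer ((S : Subgroup G) : Set G)) :
    (S : Subgroup G) ∈ maxInvSubgroups ⊤ A {q} :=
  ⟨⟨le_top, mem_singleton_of_isPGroup S.2, hAS⟩,
    fun _ hR hle => S.3 (isPGroup_of_singleton hR.2.1) hle⟩

theorem coprime_sigma {X : Subgroup G} (hX : X ≤ sigmaCore M) :
    (Nat.card A).Coprime (Nat.card X) := by
  refine Nat.coprime_of_dvd fun r hr h1 h2 => h.not_sigma ?_
  rw [← (Nat.prime_dvd_prime_iff_eq hr hp.out).mp (hr.dvd_of_dvd_pow (h.card ▸ h1))]
  exact piNum_sigmaCore M r hr (h2.trans (card_dvd_of_le hX))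

/-- A nontrivial invariant subgroup of `M_σ` has a fixed point of some element of `A`. -/
theorem exists_fixed {X : Subgroup G} (hX : X ≤ sigmaCore M) (hX1 : X ≠ ⊥)
    (hAX : A ≤ normalizer (X : Set G)) : ∃ a ∈ A, a ≠ 1 ∧ X ⊓ centralizer {a} ≠ ⊥ := by
  by_contra hno
  push Not at hno
  haveI := h.elem.1
  refine hX1 (le_bot_iff.mp ?_)
  rw [← Coprime.iSup_centralizer_eq h.not_isCyclic hAX (h.coprime_sigma hG hM hX)]
  exact iSup₂_le fun a ha => (hno a ha.1 ha.2).le

/-- Sylow subgroups of `M_σ` and of a conjugate are never linked by `C(A)`, if `C(A) ≤ M`. -/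
theorem eq_bot_of_meet (hCA : centralizer (A : Set G) ≤ M) {q : ℕ} [hq : Fact q.Prime]
    (hqσ : q ∈ sigma M) {g : G} (hg : g ∉ M) {S₁ S₂ : Sylow q G}
    (h₁ : (S₁ : Subgroup G) ≤ M) (h₂ : (S₂ : Subgroup G) ≤ M.map (MulAut.conj g).toMonoidHom)
    (hA₁ : A ≤ normalizer ((S₁ : Subgroup G) : Set G))
    (hA₂ : A ≤ normalizer ((S₂ : Subgroup G) : Set G)) {H : Subgroup G} (hH : H ≠ ⊤) (hAH : A ≤ H) :
    H ⊓ (S₁ : Subgroup G) = ⊥ ∨ H ⊓ (S₂ : Subgroup G) = ⊥ := by
  by_contra hcon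
  push Not at hcon
  obtain ⟨k, hk, hS⟩ := linked_of_common_overgroup hG (h.trans_hyp hG hM)
    (h.not_dvd hq.out fun e => h.not_sigma (e ▸ hqσ)) (h.sylow_mem_maxInv hG hM hA₁)
    (h.sylow_mem_maxInv hG hM hA₂) hH hAH hcon.1 hcon.2
  have hkM : k ∈ M := hCA (piCoreOf_le _ _ hk)
  have h2M : (S₂ : Subgroup G) ≤ M := hS ▸ map_conj_le_of_mem h₁ hkM
  obtain ⟨m, hm, c, hc, hgi⟩ := fusion_of_sigma hG hM hqσ S₂.2 (sylow_ne_bot_of_sigma hG hM S₂ hqσ)
    h2M (g := g⁻¹) ((map_mono h₂).trans (map_conj_inv_cancel M g).le)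
  refine hg (inv_mem_iff.mp ?_)
  rw [hgi]
  exact M.mul_mem hm (normalizer_sylow_le hG hM h2M hqσ (centralizer_le_normalizer _ hc))

/-- BG 11.2 (c). -/
theorem sigmaCore_inf_conj (hCA : centralizer (A : Set G) ≤ M) {g : G} (hg : g ∉ M)
    (hAg : A ≤ M.map (MulAut.conj g).toMonoidHom) :
    sigmaCore M ⊓ M.map (MulAut.conj g).toMonoidHom = ⊥ := by
  set M' := M.map (MulAut.conj g).toMonoidHom with hM'def
  have hM' : IsCoatom M' := isCoatom_map_conj hM g
  have hσ' : sigma M' = sigma M := sigma_map_conj M g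
  set X := sigmaCore M ⊓ M' with hXdef
  by_contra hX
  have hXK' : X ≤ sigmaCore M' :=
    le_sigmaCore hG hM' inf_le_right (hσ' ▸ (piNum_sigmaCore M).mono inf_le_left)
  have hAK : A ≤ normalizer (sigmaCore M : Set G) := h.le.trans (le_normalizer_sigmaCore M)
  have hAX : A ≤ normalizer (X : Set G) :=
    Coprime.le_normalizer_inf hAK (hAg.trans Subgroup.le_normalizer)
  obtain ⟨q, hq, hqd⟩ := exists_prime_dvd_of_ne_bot hX
  haveI := Fact.mk hq
  have hqσ : q ∈ sigma M := piNum_sigmaCore M q hq (hqd.trans (card_dvd_of_le inf_le_left))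
  have hsol : Group.IsSolvable A := Coprime.ea_isSolvable h.elem
  obtain ⟨R, hR⟩ := Coprime.exists_invariant_sylow hAX (h.coprime_sigma hG hM inf_le_left)
    (Or.inl hsol) q
  set R' := (R : Subgroup X).map X.subtype with hR'
  have hR1 : R' ≠ ⊥ := by
    rw [hR', ne_eq, map_eq_bot_iff_of_injective _ X.subtype_injective]
    exact R.ne_bot_of_dvd_card hqd
  obtain ⟨P₁, hP₁, hA₁⟩ := Coprime.exists_le_invariant_sylow hAK (h.coprime_sigma hG hM le_rfl)
    (Or.inl hsol) ((map_subtype_le _).trans inf_le_left) (R.2.map X.subtype) hR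
  have hcop' : (Nat.card A).Coprime (Nat.card (sigmaCore M')) :=
    IsTauPair.coprime_sigma hG hM' ⟨hAg, h.elem, h.card, hσ' ▸ h.not_sigma⟩ le_rfl
  obtain ⟨P₂, hP₂, hA₂⟩ := Coprime.exists_le_invariant_sylow
    (hAg.trans (le_normalizer_sigmaCore M')) hcop'
    (Or.inl hsol) ((map_subtype_le _).trans hXK') (R.2.map X.subtype) hR
  obtain ⟨S₁, hS₁⟩ := sylow_of_sigmaCore hG hM hqσ P₁
  obtain ⟨S₂, hS₂⟩ := sylow_of_sigmaCore hG hM' (hσ'.symm ▸ hqσ) P₂
  have hR'X : R' ≤ M := (map_subtype_le _).trans (inf_le_left.trans (sigmaCore_le M))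
  have hR'top : R' ≠ ⊤ := fun e => hM.1 (top_le_iff.mp (e ▸ hR'X))
  rcases h.eq_bot_of_meet hG hM hCA hqσ hg (S₁ := S₁) (S₂ := S₂)
      (hS₁.le.trans ((map_subtype_le _).trans (sigmaCore_le M)))
      (hS₂.le.trans ((map_subtype_le _).trans (sigmaCore_le M')))
      (hS₁.symm ▸ hA₁) (hS₂.symm ▸ hA₂) (H := normalizer (R' : Set G))
      (ne_top_of_normal_ne_bot hG hR1 hR'top) hR with e | e
  · exact hR1 (le_bot_iff.mp (e ▸ le_inf Subgroup.le_normalizer (hS₁ ▸ hP₁)))
  · exact hR1 (le_bot_iff.mp (e ▸ le_inf Subgroup.le_normalizer (hS₂ ▸ hP₂)))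

end IsTauPair

namespace IsExceptional

variable (h : IsExceptional p M A)
include h

omit hG hM in
theorem cent_le : centralizer (A : Set G) ≤ M := by
  obtain ⟨A₀, h0, -, hN⟩ := h.line
  exact ((centralizer_le (SetLike.coe_subset_coe.mpr h0)).trans (centralizer_le_normalizer _)).trans hN

/-- A moved line acts without fixed points on `M_σ`. -/
theorem exists_fpf : ∃ c ∈ M, c ^ p = 1 ∧ c ≠ 1 ∧ sigmaCore M ⊓ centralizer {c} = ⊥ := by
  obtain ⟨A₀, h0, hc0, hN⟩ := h.line
  obtain ⟨P, hAP⟩ := exists_sylow_ge (Coprime.ea_isPGroup h.elem) h.le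
  obtain ⟨n, hn, hnM⟩ := exists_not_mem_normalizer hG hM h.toIsTauPair.dvd_card h.not_sigma P
  have hA0ne : A₀ ≠ ⊥ := fun e => by rw [e, card_bot] at hc0; exact hp.out.ne_one hc0.symm
  obtain ⟨a, ha, ha1⟩ := exists_mem_ne_one A₀ hA0ne
  set R := (P : Subgroup M).map M.subtype with hR
  refine ⟨n * a * n⁻¹, map_subtype_le _ ((mem_normalizer_iff.mp hn a).mp (hAP (h0 ha))), ?_, ?_, ?_⟩
  · rw [conj_pow, h.elem.2 a (h0 ha), mul_one, mul_inv_cancel]
  · simpa using ha1
  rw [eq_bot_iff]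
  have hgen : zpowers a = A₀ := eq_of_le_of_card_ge (zpowers_le.mpr ha) (by
    rw [Nat.card_zpowers, hc0, orderOf_eq_prime (h.elem.2 a (h0 ha)) ha1])
  intro y hy
  have hAn : A ≤ M.map (MulAut.conj n).toMonoidHom :=
    hAP.trans ((map_conj_eq_self_of_mem hn).ge.trans (map_mono (map_subtype_le _)))
  rw [← h.toIsTauPair.sigmaCore_inf_conj hG hM h.cent_le hnM hAn]
  refine ⟨hy.1, centralizer_map_conj_le ((centralizer_le_normalizer _).trans hN) n ?_⟩
  rw [← hgen, MonoidHom.map_zpowers, zpowers_eq_closure, centralizer_closure]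
  exact hy.2

/-- BG 11.3. -/
theorem sigmaCore_nilpotent : Group.IsNilpotent (sigmaCore M) := by
  obtain ⟨c, hcM, hc, -, hfix⟩ := h.exists_fpf hG hM
  exact Cfsg.Agent.Coherence.isNilpotent_of_fpf_prime hp.out hc (le_normalizer_sigmaCore M hcM) hfix

/-- BG 11.4. -/
theorem eq_of_sigmaCore_meet {H : Subgroup G} (hH : IsCoatom H) (hAH : A ≤ H)
    (hpH : p ∉ sigma H) (hmeet : sigmaCore M ⊓ sigmaCore H ≠ ⊥) : H = M := by
  set D := sigmaCore M ⊓ sigmaCore H with hDdef
  obtain ⟨q, hq, hqd⟩ := exists_prime_dvd_of_ne_bot hmeet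
  haveI := Fact.mk hq
  have hqσ : q ∈ sigma M := piNum_sigmaCore M q hq (hqd.trans (card_dvd_of_le inf_le_left))
  have hqσH : q ∈ sigma H := piNum_sigmaCore H q hq (hqd.trans (card_dvd_of_le inf_le_right))
  have hsol : Group.IsSolvable A := Coprime.ea_isSolvable h.elem
  have hAD : A ≤ normalizer (D : Set G) := Coprime.le_normalizer_inf
    (h.le.trans (le_normalizer_sigmaCore M)) (hAH.trans (le_normalizer_sigmaCore H))
  obtain ⟨R, hR⟩ := Coprime.exists_invariant_sylow hAD
    (h.toIsTauPair.coprime_sigma hG hM inf_le_left) (Or.inl hsol) q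
  set R' := (R : Subgroup D).map D.subtype with hR'
  have hR1 : R' ≠ ⊥ := by
    rw [hR', ne_eq, map_eq_bot_iff_of_injective _ D.subtype_injective]
    exact R.ne_bot_of_dvd_card hqd
  obtain ⟨P₂, hP₂, hA₂⟩ := Coprime.exists_le_invariant_sylow
    (hAH.trans (le_normalizer_sigmaCore H))
    (IsTauPair.coprime_sigma hG hH ⟨hAH, h.elem, h.card, hpH⟩ le_rfl)
    (Or.inl hsol) ((map_subtype_le _).trans inf_le_right) (R.2.map D.subtype) hR
  obtain ⟨S₂, hS₂⟩ := sylow_of_sigmaCore hG hH hqσH P₂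
  obtain ⟨S₁, hS₁, hn₁⟩ := exists_normal_sylow hG hM (h.sigmaCore_nilpotent hG hM) hqσ
  have hRS₁ : R' ≤ (S₁ : Subgroup G) := le_sylow_of_normal hG hM (hS₁.trans (sigmaCore_le M)) hn₁
    (R.2.map _) ((map_subtype_le _).trans (inf_le_left.trans (sigmaCore_le M)))
  have hR'H : R' ≤ H := (map_subtype_le _).trans (inf_le_right.trans (sigmaCore_le H))
  obtain ⟨k, hk, hS⟩ := linked_of_common_overgroup hG (h.toIsTauPair.trans_hyp hG hM)
    (h.toIsTauPair.not_dvd hq fun e => h.not_sigma (e ▸ hqσ))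
    (h.toIsTauPair.sylow_mem_maxInv hG hM (h.le.trans hn₁))
    (h.toIsTauPair.sylow_mem_maxInv hG hM (S := S₂) (hS₂.symm ▸ hA₂)) hH.1 hAH
    (fun e => hR1 (le_bot_iff.mp (e ▸ le_inf hR'H hRS₁)))
    (fun e => hR1 (le_bot_iff.mp (e ▸ le_inf hR'H (hS₂ ▸ hP₂))))
  rw [map_conj_eq_self_of_mem (hn₁ (h.cent_le (piCoreOf_le _ _ hk)))] at hS
  have hS₁H : (S₁ : Subgroup G) ≤ H :=
    hS.ge.trans (hS₂.le.trans ((map_subtype_le _).trans (sigmaCore_le H)))
  exact ((hM.le_iff_eq hH.1).mp (hn₁.trans (normalizer_sylow_le hG hH hS₁H hqσH)))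

/-- BG 11.5. -/
theorem sylow_comm (P : Sylow p M) (hAP : A ≤ (P : Subgroup M).map M.subtype) :
    IsMulCommutative ↥((P : Subgroup M).map M.subtype) := by
  set R := (P : Subgroup M).map M.subtype with hR
  have hRp : IsPGroup p R := P.2.map _
  have hRM : R ≤ M := map_subtype_le _
  by_cases hcen : A ≤ centralizer (R : Set G)
  · obtain ⟨S, hS⟩ := hRp.exists_le_sylow
    have hle : R ≤ (S : Subgroup G) ⊓ centralizer (A : Set G) :=
      le_inf hS (le_centralizer_iff.mp hcen)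
    haveI := isMulCommutative_inf_centralizer hG (hAP.trans hS) h.elem h.card
      (fun B hB hAB => h.toIsTauPair.maximal hG hM hB hAB)
    exact ⟨⟨fun a b => Subtype.ext (congrArg
      (fun z : ↥((S : Subgroup G) ⊓ centralizer (A : Set G)) => (z : G))
      (mul_comm' (⟨a, hle a.2⟩ : ↥((S : Subgroup G) ⊓ centralizer (A : Set G))) ⟨b, hle b.2⟩))⟩⟩
  exfalso
  obtain ⟨n, hn, hnM⟩ := exists_not_mem_normalizer hG hM h.toIsTauPair.dvd_card h.not_sigma P
  have hnilp := h.sigmaCore_nilpotent hG hM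
  have hAne : A ≠ ⊥ := Coprime.ea_ne_bot two_ne_zero h.card.ge
  obtain ⟨z, hz, hz1⟩ := exists_mem_omegaCenter hRp (ne_bot_of_le_ne_bot hAne hAP)
  have hzo : orderOf z = p := orderOf_eq_prime (mem_omegaCenter_iff.mp hz).2.1 hz1
  set Z := omegaCenter p R with hZ
  have hZC : Z ≤ centralizer (A : Set G) := fun x hx => mem_centralizer_iff.mpr fun a ha =>
    ((mem_omegaCenter_iff.mp hx).2.2 a (hAP ha)).symm
  have hZA : Z ≤ A := fun x hx =>
    h.toIsTauPair.mem_of_pow hG hM (mem_omegaCenter_iff.mp hx).2.1 (hZC hx)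
  have hZlt : Z < A := lt_of_le_of_ne hZA fun e => hcen fun a ha =>
    mem_centralizer_iff.mpr fun r hr => ((mem_omegaCenter_iff.mp (e.ge ha)).2.2 r hr).symm
  have hZz : Z = zpowers z := by
    refine (eq_of_le_of_card_ge (zpowers_le.mpr hz) ?_).symm
    rw [Nat.card_zpowers, hzo]
    obtain ⟨k, -, hk'⟩ := (Nat.dvd_prime_pow hp.out).mp (h.card ▸ card_dvd_of_le hZA)
    have h1 := Core.card_lt_of_lt hZlt
    rw [hk', h.card, Nat.pow_lt_pow_iff_right hp.out.one_lt] at h1
    rw [hk']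
    calc p ^ k ≤ p ^ 1 := Nat.pow_le_pow_right hp.out.pos (by omega)
      _ = p := pow_one p
  -- some Sylow subgroup of `M_σ` is normal
  obtain ⟨q, hq⟩ := sigma_nonempty hG hM
  haveI := Fact.mk hq.1
  obtain ⟨S, hSK, hSn⟩ := exists_normal_sylow hG hM hnilp hq
  have hS1 := sylow_ne_bot_of_sigma hG hM S hq
  -- the central line fixes no point
  have hAn : A ≤ M.map (MulAut.conj n).toMonoidHom :=
    hAP.trans ((map_conj_eq_self_of_mem hn).ge.trans (map_mono hRM))
  have hzfix : (S : Subgroup G) ⊓ centralizer {z} = ⊥ := by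
    by_contra hne
    obtain ⟨x, hx⟩ := exists_mem_ne_one _ hne
    set S₂ := MulAut.conj n • S with hS₂def
    have hS₂ : (S₂ : Subgroup G) = (S : Subgroup G).map (MulAut.conj n).toMonoidHom := by
      rw [hS₂def]; rfl
    have hA₂ : A ≤ normalizer ((S₂ : Subgroup G) : Set G) := by
      intro a ha
      refine mem_normalizer_of_map_conj ?_
      have h1 := map_conj_eq_self_of_mem (hSn (mem_map_conj_iff.mp (hAn ha)))
      calc (S₂ : Subgroup G).map (MulAut.conj a).toMonoidHom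
          = ((S : Subgroup G).map (MulAut.conj (n⁻¹ * a * n)).toMonoidHom).map
              (MulAut.conj n).toMonoidHom := by
            rw [hS₂, map_conj_map_conj, map_conj_map_conj]
            congr 3
            group
        _ = (S₂ : Subgroup G) := by rw [h1, hS₂]
    rcases h.toIsTauPair.eq_bot_of_meet hG hM h.cent_le hq hnM (S₁ := S) (S₂ := S₂)
      (hSK.trans (sigmaCore_le M)) (hS₂.le.trans (map_mono (hSK.trans (sigmaCore_le M))))
      (h.le.trans hSn) hA₂ (H := centralizer {z})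
      (centralizer_ne_top hG fun e => hp.out.ne_one (by rw [← hzo, e, orderOf_one]))
      (fun a ha => mem_centralizer_singleton_iff.mpr
        ((mem_omegaCenter_iff.mp hz).2.2 a (hAP ha)).symm) with e | e
    · exact hne (by rwa [inf_comm])
    · refine hx.2 ?_
      have hxC : n * x * n⁻¹ ∈ centralizer ({z} : Set G) := by
        obtain ⟨i, hi⟩ := mem_zpowers_iff.mp (hZz ▸ (mem_normalizer_iff''.mp
          (normalizer_le_normalizer_omegaCenter hn) z).mp hz : n⁻¹ * z * n ∈ zpowers z)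
        have hc : Commute x (n⁻¹ * z * n) := by
          rw [← hi]
          exact (show Commute x z from mem_centralizer_singleton_iff.mp hx.1.2).zpow_right i
        rw [mem_centralizer_singleton_iff]
        calc n * x * n⁻¹ * z = n * (x * (n⁻¹ * z * n)) * n⁻¹ := by group
          _ = n * (n⁻¹ * z * n * x) * n⁻¹ := by rw [hc.eq]
          _ = z * (n * x * n⁻¹) := by group
      have h2 : n * x * n⁻¹ ∈ centralizer ({z} : Set G) ⊓ (S₂ : Subgroup G) :=
        ⟨hxC, hS₂ ▸ mem_map_conj_iff.mpr ((show n⁻¹ * (n * x * n⁻¹) * n = x by group).symm ▸ hx.1.1)⟩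
      rw [e, mem_bot] at h2
      simpa using h2
  -- outside `Z`, every element of a noncentral plane has a fixed point
  have key : ∀ B : Subgroup G, B ≤ R → IsElementaryAbelian p B → Nat.card B = p ^ 2 → Z ≤ B →
      ∀ b ∈ B, b ∉ Z → (S : Subgroup G) ⊓ centralizer {b} ≠ ⊥ := by
    intro B hBR hBe hB2 hZB b hb hbZ hfix
    have hBM : B ≤ M := hBR.trans hRM
    have hBp : IsTauPair p M B := ⟨hBM, hBe, hB2, h.not_sigma⟩
    obtain ⟨a, ha, ha1, hafix⟩ := hBp.exists_fixed hG hM hSK hS1 (hBM.trans hSn)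
    have haZ : a ∉ Z := by
      intro haZ
      rw [hZz] at haZ
      have hgen : zpowers a = zpowers z := eq_of_le_of_card_ge (zpowers_le.mpr haZ) (by
        rw [Nat.card_zpowers, Nat.card_zpowers, hzo, orderOf_eq_prime (hBe.2 a ha) ha1])
      refine hafix ?_
      rw [← hzfix, ← centralizer_closure {a}, ← zpowers_eq_closure, hgen, zpowers_eq_closure,
        centralizer_closure]
    -- `B` is not central in `R`
    have hnc : ¬ R ≤ centralizer (B : Set G) := fun hc => haZ (mem_omegaCenter_iff.mpr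
      ⟨hBR ha, hBe.2 a ha, fun v hv => mem_centralizer_iff.mp (hc hv) a ha⟩)
    haveI := hRp.isNilpotent
    have hlt : R ⊓ centralizer (B : Set G) < R :=
      lt_of_le_of_ne inf_le_left fun e => hnc (e.ge.trans inf_le_right)
    obtain ⟨y, ⟨hyN, hyR⟩, hy⟩ := SetLike.exists_of_lt (lt_normalizer_inf hlt)
    have hmemB : ∀ w : G, w ∈ R → w ^ p = 1 → w ∈ centralizer (B : Set G) → w ∈ B :=
      fun w _ hwp hwc => hBp.mem_of_pow hG hM hwp hwc
    have hyB : y ∈ normalizer (B : Set G) := by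
      have hfwd : ∀ m : G, m ∈ R → m ∈ normalizer ((R ⊓ centralizer (B : Set G) : Subgroup G) : Set G) →
          ∀ w ∈ B, m * w * m⁻¹ ∈ B := by
        intro m hmR hmN w hw
        have h1 := (mem_normalizer_iff.mp hmN w).mp ⟨hBR hw, Coprime.ea_le_centralizer hBe hw⟩
        exact hmemB _ h1.1 (by rw [conj_pow, hBe.2 w hw, mul_one, mul_inv_cancel]) h1.2
      refine mem_normalizer_iff.mpr fun w => ⟨hfwd y hyR hyN w, fun hw => ?_⟩
      have h1 := hfwd y⁻¹ (inv_mem hyR) (inv_mem hyN) _ hw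
      simpa [mul_assoc] using h1
    -- commutators of `B` with `y` lie in `Z`
    have hyp : IsPGroup p (zpowers y) := hRp.to_le (zpowers_le.mpr hyR)
    have hBg := Coprime.ea_isPGroup hBe
    have hyBle : zpowers y ≤ normalizer (B : Set G) := zpowers_le.mpr hyB
    set W := ⁅B, zpowers y⁆ with hW
    have hWB : W < B := Coprime.commutator_lt_of_isPGroup hyp hBg hyBle
      (Coprime.ea_ne_bot two_ne_zero hB2.ge)
    have hWne : W ≠ ⊥ := fun e => hy ⟨hyR, mem_centralizer_iff.mpr fun w hw => by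
      have h1 : ⁅w, y⁆ ∈ W := commutator_mem_commutator hw (mem_zpowers y)
      rw [e, mem_bot] at h1
      exact commutatorElement_eq_one_iff_mul_comm.mp h1⟩
    have hWc : Nat.card W = p := by
      obtain ⟨k, -, hk'⟩ := (Nat.dvd_prime_pow hp.out).mp (hB2 ▸ card_dvd_of_le hWB.le)
      have h1 := Core.card_lt_of_lt hWB
      rw [hk', hB2, Nat.pow_lt_pow_iff_right hp.out.one_lt] at h1
      rcases k with _ | _ | k
      · exact absurd (card_eq_one.mp (by simpa using hk')) hWne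
      · simpa using hk'
      · omega
    have hyW : zpowers y ≤ normalizer (W : Set G) := normalizer_commutator_ge_right B (zpowers y)
    have hWy : W ≤ centralizer ({y} : Set G) := by
      have h1 : ⁅W, zpowers y⁆ < W := Coprime.commutator_lt_of_isPGroup hyp (hBg.to_le hWB.le) hyW hWne
      have h2 : ⁅W, zpowers y⁆ = ⊥ := by
        rw [← card_eq_one]
        refine ((hp.out.eq_one_or_self_of_dvd _ (hWc ▸ card_dvd_of_le h1.le))).resolve_right fun e => ?_
        have := Core.card_lt_of_lt h1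
        omega
      intro w hw
      rw [mem_centralizer_singleton_iff]
      refine commutatorElement_eq_one_iff_mul_comm.mp (mem_bot.mp ?_)
      rw [← h2]
      exact commutator_mem_commutator hw (mem_zpowers y)
    have hWZ : W = Z := by
      have hlt' : B ⊓ centralizer ({y} : Set G) < B := lt_of_le_of_ne inf_le_left fun e =>
        hy ⟨hyR, mem_centralizer_iff.mpr fun w hw =>
          mem_centralizer_singleton_iff.mp (e.ge hw).2⟩
      have hle1 : W ≤ B ⊓ centralizer ({y} : Set G) := le_inf hWB.le hWy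
      have hle2 : Z ≤ B ⊓ centralizer ({y} : Set G) := le_inf hZB fun w hw =>
        mem_centralizer_singleton_iff.mpr ((mem_omegaCenter_iff.mp hw).2.2 y hyR)
      have hc : Nat.card ↥(B ⊓ centralizer ({y} : Set G)) ≤ p := by
        obtain ⟨k, -, hk'⟩ := (Nat.dvd_prime_pow hp.out).mp (hB2 ▸ card_dvd_of_le hlt'.le)
        have h1 := Core.card_lt_of_lt hlt'
        rw [hk', hB2, Nat.pow_lt_pow_iff_right hp.out.one_lt] at h1
        rw [hk']
        calc p ^ k ≤ p ^ 1 := Nat.pow_le_pow_right hp.out.pos (by omega)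
          _ = p := pow_one p
      rw [eq_of_le_of_card_ge hle1 (hWc.symm ▸ hc), eq_of_le_of_card_ge hle2
        (by rw [hZz, Nat.card_zpowers, hzo]; exact hc)]
    -- `b` and `a` are conjugate up to powers
    have haZ' : a ∉ Z := haZ
    set c := ⁅y, a⁆ with hcdef
    have hcW : c ∈ W := by
      have h1 : ⁅a, y⁆ ∈ W := commutator_mem_commutator ha (mem_zpowers y)
      have := W.inv_mem h1
      rwa [commutatorElement_inv] at this
    have hc1 : c ≠ 1 := fun e => haZ' (by
      rw [← hWZ]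
      refine (eq_of_le_of_card_ge (le_inf hWB.le hWy) ?_).ge ⟨ha,
        mem_centralizer_singleton_iff.mpr (commutatorElement_eq_one_iff_mul_comm.mp e).symm⟩
      have hlt' : B ⊓ centralizer ({y} : Set G) < B := lt_of_le_of_ne inf_le_left fun e =>
        hy ⟨hyR, mem_centralizer_iff.mpr fun w hw =>
          mem_centralizer_singleton_iff.mp (e.ge hw).2⟩
      obtain ⟨k, -, hk'⟩ := (Nat.dvd_prime_pow hp.out).mp (hB2 ▸ card_dvd_of_le hlt'.le)
      have h1 := Core.card_lt_of_lt hlt'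
      rw [hk', hB2, Nat.pow_lt_pow_iff_right hp.out.one_lt] at h1
      rw [hk', hWc]
      calc p ^ k ≤ p ^ 1 := Nat.pow_le_pow_right hp.out.pos (by omega)
        _ = p := pow_one p)
    have hcy : Commute y c := (mem_centralizer_singleton_iff.mp (hWy hcW)).symm
    have hca : Commute a c := Coprime.ea_comm hBe ha (hWB.le hcW)
    have hya : y * a * y⁻¹ = a * c := by
      rw [hca.eq, hcdef, commutatorElement_def]
      group
    have hpow : ∀ i : ℕ, y ^ i * a * (y ^ i)⁻¹ = a * c ^ i := by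
      intro i
      induction i with
      | zero => simp
      | succ i ih =>
        calc y ^ (i + 1) * a * (y ^ (i + 1))⁻¹ = y * (y ^ i * a * (y ^ i)⁻¹) * y⁻¹ := by
              rw [pow_succ']; group
          _ = y * a * y⁻¹ * (y * c ^ i * y⁻¹) := by rw [ih]; group
          _ = a * c ^ (i + 1) := by
              rw [hya, (hcy.pow_right i).eq, mul_inv_cancel_right, pow_succ', mul_assoc]
    -- `b = a ^ j * w` with `w ∈ W`
    have hgenB : zpowers a ⊔ W = B := by
      refine eq_of_le_of_card_ge (sup_le (zpowers_le.mpr ha) hWB.le) ?_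
      obtain ⟨k, -, hk'⟩ := (Nat.dvd_prime_pow hp.out).mp
        (hB2 ▸ card_dvd_of_le (sup_le (zpowers_le.mpr ha) hWB.le : zpowers a ⊔ W ≤ B))
      have h1 : W < zpowers a ⊔ W := lt_of_le_of_ne le_sup_right fun e =>
        haZ' (hWZ ▸ e ▸ mem_sup_left (mem_zpowers a))
      have h2 := Core.card_lt_of_lt h1
      rw [hk', hWc] at h2
      rw [hk', hB2]
      refine Nat.pow_le_pow_right hp.out.pos ?_
      by_contra hk2
      have : p ^ k ≤ p ^ 1 := Nat.pow_le_pow_right hp.out.pos (by omega)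
      rw [pow_one] at this
      omega
    obtain ⟨u, hu, w, hw, rfl⟩ := (Coprime.mem_sup_of_le_normalizer (N := zpowers a) (A := W)
      ((hWB.le.trans (Coprime.ea_le_centralizer hBe)).trans ((centralizer_le
        (SetLike.coe_subset_coe.mpr (zpowers_le.mpr ha))).trans (centralizer_le_normalizer _)))).mp
      (hgenB.ge hb)
    obtain ⟨j, rfl⟩ := mem_zpowers_iff.mp hu
    have hap : a ^ p = 1 := hBe.2 a ha
    have hwp : w ^ p = 1 := hBe.2 w (hWB.le hw)
    have hwzp : ∀ i : ℤ, (a ^ i) ^ p = 1 := fun i => by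
      rw [← zpow_natCast, ← zpow_mul, mul_comm, zpow_mul, zpow_natCast, hap, one_zpow]
    have hj : ¬ (p : ℤ) ∣ j := by
      rintro ⟨t, rfl⟩
      refine hbZ ?_
      rw [zpow_mul, zpow_natCast, hap, one_zpow, one_mul]
      exact hWZ ▸ hw
    obtain ⟨s, t, hst⟩ := ((Nat.prime_iff_prime_int.mp hp.out).coprime_iff_not_dvd.mpr hj)
    have hja : (a ^ j) ^ t = a := by
      rw [← zpow_mul, show j * t = 1 - (p : ℤ) * s by linarith, zpow_sub, zpow_one, zpow_mul,
        zpow_natCast, hap, one_zpow, inv_one, mul_one]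
    have hcomm : Commute (a ^ j) w := Coprime.ea_comm hBe (zpow_mem ha j) (hWB.le hw)
    obtain ⟨i, hi⟩ : ∃ i : ℕ, c ^ i = w ^ t := by
      have h1 : zpowers c = W := eq_of_le_of_card_ge (zpowers_le.mpr hcW) (by
        rw [hWc, Nat.card_zpowers, orderOf_eq_prime (hBe.2 c (hWB.le hcW)) hc1])
      exact (isOfFinOrder_of_finite c).mem_powers_iff_mem_zpowers.mpr (h1.ge (zpow_mem hw t))
    have hfixi : (S : Subgroup G) ⊓ centralizer {a * c ^ i} = ⊥ := by
      rw [eq_bot_iff, ← hfix]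
      refine le_inf inf_le_left fun x hx => ?_
      rw [mem_centralizer_singleton_iff]
      have hbt : (a ^ j * w) ^ t = a * c ^ i := by rw [hcomm.mul_zpow, hja, hi]
      have hord : orderOf (a * c ^ i) = p := orderOf_eq_prime
        (hBe.2 _ (B.mul_mem ha (B.pow_mem (hWB.le hcW) i))) fun e => haZ' (by
          rw [← hWZ, eq_inv_of_mul_eq_one_left e]
          exact W.inv_mem (W.pow_mem hcW i))
      have hgen : zpowers (a * c ^ i) = zpowers (a ^ j * w) := by
        refine eq_of_le_of_card_ge (zpowers_le.mpr (hbt ▸ zpow_mem (mem_zpowers _) t)) ?_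
        rw [Nat.card_zpowers, Nat.card_zpowers, hord]
        exact Nat.le_of_dvd hp.out.pos (orderOf_dvd_of_pow_eq_one
          (by rw [hcomm.mul_pow, hwzp j, hwp, one_mul]))
      obtain ⟨l, hl⟩ := mem_zpowers_iff.mp (hgen.ge (mem_zpowers (a ^ j * w)))
      rw [← hl]
      exact (show Commute x (a * c ^ i) from mem_centralizer_singleton_iff.mp hx.2).zpow_right l
    refine hafix ?_
    rw [eq_bot_iff]
    intro x hx
    have hxi : y ^ i * x * (y ^ i)⁻¹ ∈ (S : Subgroup G) ⊓ centralizer {a * c ^ i} := by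
      refine ⟨(mem_normalizer_iff.mp (hSn (hRM (pow_mem hyR i))) x).mp hx.1,
        mem_centralizer_singleton_iff.mpr ?_⟩
      rw [← hpow i]
      calc y ^ i * x * (y ^ i)⁻¹ * (y ^ i * a * (y ^ i)⁻¹) = y ^ i * (x * a) * (y ^ i)⁻¹ := by group
        _ = y ^ i * (a * x) * (y ^ i)⁻¹ := by rw [mem_centralizer_singleton_iff.mp hx.2]
        _ = y ^ i * a * (y ^ i)⁻¹ * (y ^ i * x * (y ^ i)⁻¹) := by group
    rw [hfixi, mem_bot] at hxi
    simpa using hxi
  -- the moved line
  obtain ⟨A₀, h0, hc0, hN⟩ := h.line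
  have hA0ne : A₀ ≠ ⊥ := fun e => by rw [e, card_bot] at hc0; exact hp.out.ne_one hc0.symm
  obtain ⟨a, ha, ha1⟩ := exists_mem_ne_one A₀ hA0ne
  set B := A.map (MulAut.conj n).toMonoidHom with hB
  have hBR : B ≤ R := (map_mono hAP).trans (map_conj_eq_self_of_mem hn).le
  have hBe : IsElementaryAbelian p B :=
    ⟨@Subgroup.map_isMulCommutative _ _ _ _ A (MulAut.conj n).toMonoidHom h.elem.1, by
      rintro _ ⟨x, hx, rfl⟩
      rw [← map_pow, h.elem.2 x hx, map_one]⟩
  have hZn : Z ≤ B :=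
    (map_conj_eq_self_of_mem (normalizer_le_normalizer_omegaCenter hn)).ge.trans (map_mono hZA)
  have hgen : zpowers a = A₀ := eq_of_le_of_card_ge (zpowers_le.mpr ha) (by
    rw [Nat.card_zpowers, hc0, orderOf_eq_prime (h.elem.2 a (h0 ha)) ha1])
  have hbmem : n * a * n⁻¹ ∈ B := ⟨a, h0 ha, rfl⟩
  refine key B hBR hBe (by rw [hB, card_map_conj, h.card]) hZn _ hbmem (fun e => hnM (hN ?_)) ?_
  · refine mem_normalizer_of_map_conj ?_
    have haZ : a ∈ Z := (mem_normalizer_iff.mp (normalizer_le_normalizer_omegaCenter hn) a).mpr e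
    have hA₀Z : A₀ = Z := eq_of_le_of_card_ge (hgen ▸ zpowers_le.mpr haZ)
      (by rw [hc0, hZz, Nat.card_zpowers, hzo])
    rw [hA₀Z]
    exact map_conj_eq_self_of_mem (normalizer_le_normalizer_omegaCenter hn)
  rw [eq_bot_iff]
  intro x hx
  rw [← h.toIsTauPair.sigmaCore_inf_conj hG hM h.cent_le hnM hAn]
  refine ⟨hSK hx.1, centralizer_map_conj_le ((centralizer_le_normalizer _).trans hN) n ?_⟩
  rw [← hgen, MonoidHom.map_zpowers, zpowers_eq_closure, centralizer_closure]
  exact hx.2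

/-- BG 11.6. -/
theorem structure_of_sylow (P : Sylow p M) (hAP : A ≤ (P : Subgroup M).map M.subtype) :
    (∀ x ∈ (P : Subgroup M).map M.subtype, x ^ p = 1 ↔ x ∈ A) ∧
      normalizer ((P : Subgroup M).map M.subtype : Set G) ≤ normalizer (A : Set G) ∧
      sigmaCore M ⊓ centralizer (A : Set G) = ⊥ ∧
      ∃ a₁ ∈ A, ∃ a₂ ∈ A, a₁ ≠ 1 ∧ zpowers a₁ ⊔ zpowers a₂ = A ∧
        sigmaCore M ⊓ centralizer {a₁} = ⊥ ∧ sigmaCore M ⊓ centralizer {a₂} = ⊥ := by
  have hcomm := h.sylow_comm hG hM P hAP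
  set R := (P : Subgroup M).map M.subtype with hR
  have hiff : ∀ x ∈ R, x ^ p = 1 ↔ x ∈ A := fun x hx =>
    ⟨fun hxp => h.toIsTauPair.mem_of_pow hG hM hxp (mem_centralizer_iff.mpr fun a ha =>
      congrArg (fun z : R => (z : G)) (mul_comm' (⟨a, hAP ha⟩ : R) ⟨x, hx⟩)), fun hxA => h.elem.2 x hxA⟩
  have hnorm : normalizer (R : Set G) ≤ normalizer (A : Set G) := fun n hn =>
    mem_normalizer_iff.mpr fun x => ⟨fun hx =>
      (hiff _ ((mem_normalizer_iff.mp hn x).mp (hAP hx))).mp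
        (by rw [conj_pow, h.elem.2 x hx, mul_one, mul_inv_cancel]), fun hx => by
      have hxR : x ∈ R := (mem_normalizer_iff.mp hn x).mpr (hAP hx)
      refine (hiff x hxR).mp ?_
      have := h.elem.2 _ hx
      rwa [conj_pow, mul_inv_eq_one, mul_eq_left] at this⟩
  obtain ⟨n, hn, hnM⟩ := exists_not_mem_normalizer hG hM h.toIsTauPair.dvd_card h.not_sigma P
  obtain ⟨A₀, h0, hc0, hN⟩ := h.line
  have hA0ne : A₀ ≠ ⊥ := fun e => by rw [e, card_bot] at hc0; exact hp.out.ne_one hc0.symm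
  obtain ⟨a, ha, ha1⟩ := exists_mem_ne_one A₀ hA0ne
  have hgen : zpowers a = A₀ := eq_of_le_of_card_ge (zpowers_le.mpr ha) (by
    rw [Nat.card_zpowers, hc0, orderOf_eq_prime (h.elem.2 a (h0 ha)) ha1])
  have hfpf : ∀ g : G, g ∈ normalizer (R : Set G) → g ∉ M →
      g * a * g⁻¹ ∈ A ∧ sigmaCore M ⊓ centralizer {g * a * g⁻¹} = ⊥ := by
    intro g hg hgM
    refine ⟨(mem_normalizer_iff.mp (hnorm hg) a).mp (h0 ha), eq_bot_iff.mpr fun y hy => ?_⟩
    rw [← h.toIsTauPair.sigmaCore_inf_conj hG hM h.cent_le hgM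
      (hAP.trans ((map_conj_eq_self_of_mem hg).ge.trans (map_mono (map_subtype_le _))))]
    refine ⟨hy.1, centralizer_map_conj_le ((centralizer_le_normalizer _).trans hN) g ?_⟩
    rw [← hgen, MonoidHom.map_zpowers, zpowers_eq_closure, centralizer_closure]
    exact hy.2
  have hn2 : n * n ∉ M := by
    intro h2
    refine hnM ?_
    obtain ⟨k, hk⟩ := hG.1.of_dvd_nat (orderOf_dvd_natCard n)
    have h1 : (n * n) ^ (k + 1) = n := by
      rw [← pow_two, ← pow_mul, show 2 * (k + 1) = orderOf n + 1 by omega, pow_succ,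
        pow_orderOf_eq_one, one_mul]
    exact h1 ▸ M.pow_mem h2 (k + 1)
  obtain ⟨h1A, h1f⟩ := hfpf n hn hnM
  obtain ⟨h2A, h2f⟩ := hfpf (n * n) (mul_mem hn hn) hn2
  refine ⟨hiff, hnorm, eq_bot_iff.mpr fun y hy => ?_, _, h1A, _, h2A, by simpa using ha1, ?_, h1f, h2f⟩
  · rw [← h1f]
    exact ⟨hy.1, mem_centralizer_singleton_iff.mpr (mem_centralizer_iff.mp hy.2 _ h1A).symm⟩
  · refine eq_of_le_of_card_ge (sup_le (zpowers_le.mpr h1A) (zpowers_le.mpr h2A)) ?_
    have hne : n * n * a * (n * n)⁻¹ ∉ zpowers (n * a * n⁻¹) := by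
      intro hm
      refine hnM (hN (mem_normalizer_of_map_conj ?_))
      have h3 : n * a * n⁻¹ ∈ zpowers a := by
        obtain ⟨i, hi⟩ := mem_zpowers_iff.mp hm
        refine mem_zpowers_iff.mpr ⟨i, ?_⟩
        rw [conj_zpow] at hi
        calc a ^ i = n⁻¹ * (n * a ^ i * n⁻¹) * n := by group
          _ = n * a * n⁻¹ := by rw [hi]; group
      refine eq_of_le_of_card_ge ?_ (card_map_conj _ _).ge
      rw [← hgen, MonoidHom.map_zpowers, zpowers_le]
      exact h3
    rw [card_sup_zpowers_of_not_mem (h.elem.2 _ h2A) (mem_centralizer_iff.mpr fun x hx =>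
      Coprime.ea_comm h.elem (zpowers_le.mpr h1A hx) h2A) hne, Nat.card_zpowers,
      orderOf_eq_prime (h.elem.2 _ h1A) (by simpa using ha1), h.card, pow_two]

end IsExceptional

end Cfsg.Agent.OddLocal
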