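import Cfsg.Agent.OddLocal.FittingCoreShape
import Cfsg.Agent.OddLocal.TauTwoTools
import Cfsg.Agent.S1352

/-!
# The chain `M_F ≤ M_σ ≤ M' < M` (BG 15.3)
-/

namespace Cfsg.Agent.OddLocal

open Subgroup
open scoped commutatorElement

variable {G : Type*} [Group G] [Finite G] {M K U : Subgroup G}

/-- Standard factorisations exist. -/
theorem exists_decomposition (hG : IsMinSimpleOddOrder G) (hM : IsCoatom M) :
    ∃ K U : Subgroup G, IsSigmaDecomposition M K U := by
  obtain ⟨K, hK⟩ := Coprime.exists_isPiHallOf (isSolvable_coatom hG hM) (kappa M)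
  have hc : IsCyclic K := by
    rcases eq_or_ne K ⊥ with rfl | hK1
    · infer_instance
    · exact (kappa_pair hG hM hK hK1).1
  obtain ⟨⟨U, hU⟩, -⟩ := S1352.result hG M hM K hc hK
  exact ⟨K, U, hU⟩

/-- A complement of `M_σ` exists. -/
theorem exists_compl_sigmaCore (hG : IsMinSimpleOddOrder G) (hM : IsCoatom M) :
    ∃ E : Subgroup G, IsComplIn E (sigmaCore M) M := by
  obtain ⟨E, hE, -⟩ := exists_compl_ge_of_not_sigma hG hM (X := ⊥) bot_le
    (fun r hr hd => absurd (Subgroup.card_bot (G := G) ▸ hd) hr.not_dvd_one)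
  exact ⟨E, hE⟩

theorem le_sup_of_isComplIn {A B M : Subgroup G} (h : IsComplIn A B M) : M = A ⊔ B := by
  refine le_antisymm (fun m hm => ?_) (sup_le h.1 h.2.1)
  obtain ⟨a, ha, b, hb, rfl⟩ := h.2.2.2 m hm
  exact mul_mem_sup ha hb

theorem coreData_of_ne (hG : IsMinSimpleOddOrder G) (hM : IsCoatom M)
    (h : IsSigmaDecomposition M K U) (hne : fittingHallOf M ≠ sigmaCore M) :
    U = ⊥ ∧ CoreData M K :=
  coreData_of_not_nilpotent hG hM h fun hn => hne (fittingHallOf_eq_of_nilpotent hG hM hn)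

theorem CoreData.kStar_le_fittingHallOf (h : CoreData M K) : kStar M K ≤ fittingHallOf M :=
  h.kStar_le_coreSylow.trans h.coreSylow_le_fittingHallOf

theorem fittingHallOf_ne_bot (hG : IsMinSimpleOddOrder G) (hM : IsCoatom M) :
    fittingHallOf M ≠ ⊥ := by
  by_cases hn : Group.IsNilpotent (sigmaCore M)
  · rw [fittingHallOf_eq_of_nilpotent hG hM hn]
    exact sigmaCore_ne_bot hG hM
  · obtain ⟨K, U, hd⟩ := exists_decomposition hG hM
    obtain ⟨-, h⟩ := coreData_of_not_nilpotent hG hM hd hn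
    intro he
    have := card_dvd_of_le h.kStar_le_fittingHallOf
    rw [he, card_bot] at this
    exact h.prime.not_dvd_one this

/-- `M'` is covered by `M_F` and a nilpotent subgroup. -/
theorem derived_le_fittingHall_sup (hG : IsMinSimpleOddOrder G) (hM : IsCoatom M) :
    ∃ B : Subgroup G, B ≤ M ∧ Group.IsNilpotent B ∧ ⁅M, M⁆ ≤ fittingHallOf M ⊔ B := by
  by_cases hn : Group.IsNilpotent (sigmaCore M)
  · obtain ⟨E, hE⟩ := exists_compl_sigmaCore hG hM
    refine ⟨⁅E, E⁆, (commutator_le_self E).trans hE.1, compl_commutator_nilpotent hG hM hE, ?_⟩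
    rw [fittingHallOf_eq_of_nilpotent hG hM hn]
    exact commutator_le_sup_of_eq (le_normalizer_sigmaCore M)
      ((le_sup_of_isComplIn hE).trans (sup_comm E (sigmaCore M)))
  · obtain ⟨K, U, hd⟩ := exists_decomposition hG hM
    obtain ⟨-, h⟩ := coreData_of_not_nilpotent hG hM hd hn
    obtain ⟨D, hD, -⟩ := h.exists_compl
    refine ⟨D, hD.2.1.trans (sigmaCore_le M), (h.compl_facts hD).1, ?_⟩
    rw [h.derived, h.sigmaCore_eq_sup hD]
    exact sup_le_sup h.coreSylow_le_fittingHallOf le_rfl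

theorem derived_quotient_nilpotent (hG : IsMinSimpleOddOrder G) (hM : IsCoatom M) :
    Group.IsNilpotent ↥((_root_.commutator ↥M).map (QuotientGroup.mk' (fittingHall ↥M))) := by
  obtain ⟨B, hBM, hBn, hle⟩ := derived_le_fittingHall_sup hG hM
  have hF : fittingHallOf M ≤ M := fittingHallOf_le M
  have h1 : _root_.commutator M ≤ fittingHall M ⊔ B.subgroupOf M := by
    rw [← map_le_map_iff_of_injective M.subtype_injective, Subgroup.map_sup,
      map_subgroupOf_eq_of_le hBM, ← commutator_eq_map_subtype]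
    exact hle
  have h2 := map_mono (f := QuotientGroup.mk' (fittingHall M)) h1
  rw [Subgroup.map_sup, (Subgroup.map_eq_bot_iff _).mpr (QuotientGroup.ker_mk' (fittingHall M)).ge,
    bot_sup_eq] at h2
  refine Core.isNilpotent_mono ?_ h2
  exact Core.isNilpotent_map ((Group.isNilpotent_congr (subgroupOfEquivOfLe hBM)).mpr hBn) _

end Cfsg.Agent.OddLocal
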