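import Cfsg.Agent.OddLocal.FrobeniusCriterion
import Mathlib.NumberTheory.Basic

/-!
BG 12.9: for an abelian `τ₂`-Sylow subgroup, an invariant cyclic subgroup of full exponent whose
socle acts without fixed points on `M_σ`.
-/

set_option autoImplicit false
set_option linter.unusedSectionVars false
set_option linter.style.haveILetI false

namespace Cfsg.Agent.OddLocal

open Subgroup Cfsg
open scoped commutatorElement

universe u

variable {G : Type u} [Group G] [Finite G] {p : ℕ} [hp : Fact p.Prime] {M A E : Subgroup G}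

/-- Averaging: an invariant socle lifts to an invariant cyclic subgroup of full order. -/
theorem exists_invariant_cyclic {P K : Subgroup G} (hPc : IsMulCommutative P)
    (hKP : K ≤ normalizer (P : Set G)) (hcop : p.Coprime (Nat.card K)) {b : ℕ}
    (hexp : ∀ y ∈ P, y ^ p ^ (b + 1) = 1) {x : G} (hx : x ∈ P) (hxb : x ^ p ^ b ≠ 1)
    (hKl : K ≤ normalizer (zpowers (x ^ p ^ b) : Set G)) :
    ∃ w ∈ P, orderOf w = p ^ (b + 1) ∧ K ≤ normalizer (zpowers w : Set G) ∧
      x ^ p ^ b ∈ zpowers w := by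
  classical
  haveI := Fintype.ofFinite K
  letI : CommGroup P := { (inferInstance : Group P) with mul_comm := fun a c => @mul_comm' _ _ hPc a c }
  set l := x ^ p ^ b with hl
  have hlp : l ^ p = 1 := by rw [hl, ← pow_mul, ← pow_succ]; exact hexp x hx
  have hlo : orderOf l = p := orderOf_eq_prime hlp hxb
  have hm : ∀ k : K, ∃ m : ℕ, (k : G) * l * (k : G)⁻¹ = l ^ m := fun k => by
    have h1 := (mem_normalizer_iff.mp (hKl k.2) l).mp (mem_zpowers l)
    obtain ⟨m, hm⟩ := mem_powers_iff_mem_zpowers.mpr h1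
    exact ⟨m, hm.symm⟩
  choose m hm using hm
  have hmul : ∀ k j : K, m (k * j) ≡ m k * m j [MOD p] := by
    intro k j
    rw [← hlo, ← pow_eq_pow_iff_modEq, ← hm, pow_mul, ← hm, conj_pow, ← hm]
    simp [mul_assoc]
  have hone : m 1 ≡ 1 [MOD p] := by
    rw [← hlo, ← pow_eq_pow_iff_modEq, ← hm, pow_one]
    simp
  set μ : K → ℕ := fun k => m k ^ p ^ b with hμ
  have hμmul : ∀ k j : K, μ (k * j) ≡ μ k * μ j [MOD p ^ (b + 1)] := by
    intro k j
    rw [hμ, ← mul_pow]
    refine (Int.natCast_modEq_iff.mp ?_)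
    rw [Int.modEq_comm, Int.modEq_iff_dvd]
    push_cast
    refine dvd_sub_pow_of_dvd_sub (R := ℤ) ?_ b
    have h1 := Int.natCast_modEq_iff.mpr (hmul k j)
    push_cast at h1
    exact Int.modEq_iff_dvd.mp h1.symm
  have hμm : ∀ k : K, μ k ≡ m k [MOD p] := by
    intro k
    rw [hμ, ← ZMod.natCast_eq_natCast_iff]
    push_cast
    exact ZMod.pow_card_pow _
  let cj : K →* MulAut P := P.normalizerMonoidHom.comp (inclusion hKP)
  have hcj : ∀ (k : K) (y : P), ((cj k y : P) : G) = (k : G) * y * (k : G)⁻¹ := fun k y => rfl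
  set x' : P := ⟨x, hx⟩ with hx'
  set w : P := ∏ k : K, cj k x' ^ μ k⁻¹ with hw
  have hpow : ∀ (y : P) {i j : ℕ}, i ≡ j [MOD p ^ (b + 1)] → y ^ i = y ^ j := by
    intro y i j hij
    rw [pow_eq_pow_iff_modEq]
    exact hij.of_dvd (orderOf_dvd_of_pow_eq_one (Subtype.ext (hexp y y.2)))
  have hinv : ∀ k₀ : K, cj k₀ w = w ^ μ k₀ := by
    intro k₀
    rw [hw, map_prod, ← Finset.prod_pow]
    refine Fintype.prod_equiv (Equiv.mulLeft k₀) _ _ fun k => ?_
    rw [Equiv.coe_mulLeft, map_pow, map_mul, MulAut.mul_apply, ← pow_mul]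
    refine hpow _ ?_
    have h1 := hμmul ((k₀ * k)⁻¹) k₀
    rwa [show (k₀ * k)⁻¹ * k₀ = k⁻¹ by group] at h1
  have hwl : ((w : P) : G) ^ p ^ b = l ^ Fintype.card K := by
    have h1 : ∀ k : K, (cj k x' ^ μ k⁻¹) ^ p ^ b = x' ^ p ^ b := by
      intro k
      apply Subtype.ext
      simp only [SubmonoidClass.coe_pow, hcj]
      rw [← pow_mul, mul_comm, pow_mul, conj_pow, hm, ← pow_mul, ← hl]
      conv_rhs => rw [← pow_one l]
      rw [pow_eq_pow_iff_modEq, hlo]
      refine ((hμm k⁻¹).mul_left (m k)).trans ((hmul k k⁻¹).symm.trans ?_)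
      rw [mul_inv_cancel]
      exact hone
    have h2 : w ^ p ^ b = (x' ^ p ^ b) ^ Fintype.card K := by
      rw [hw, ← Finset.prod_pow, Finset.prod_congr rfl fun k _ => h1 k, Finset.prod_const,
        Finset.card_univ]
    exact (congrArg Subtype.val h2 :)
  have hcop' : p.Coprime (Fintype.card K) := by rwa [← Nat.card_eq_fintype_card]
  have hne : ((w : P) : G) ^ p ^ b ≠ 1 := by
    rw [hwl]
    intro e
    have := orderOf_dvd_of_pow_eq_one e
    rw [hlo] at this
    exact hp.out.coprime_iff_not_dvd.mp hcop' this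
  refine ⟨w, w.2, orderOf_eq_prime_pow hne (hexp w w.2), fun k hk => ?_, ?_⟩
  · refine mem_normalizer_of_map_conj (eq_of_le_of_card_ge ?_ (card_map_conj _ _).ge)
    rw [MonoidHom.map_zpowers, zpowers_le]
    change k * (w : G) * k⁻¹ ∈ _
    have h1 : k * (w : G) * k⁻¹ = (w : G) ^ μ ⟨k, hk⟩ := congrArg Subtype.val (hinv ⟨k, hk⟩)
    rw [h1]
    exact pow_mem (mem_zpowers _) _
  · obtain ⟨i, hi⟩ := exists_pow_eq_self_of_coprime (x := l) (n := Fintype.card K)
      (by rw [hlo]; exact hcop'.symm)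
    rw [← hi, ← hwl]
    exact pow_mem (pow_mem (mem_zpowers _) _) _

variable (hG : IsMinSimpleOddOrder G) (hM : IsCoatom M) (hE : IsComplIn E (sigmaCore M) M)
  (h : IsTauPair p M A) (hAE : A ≤ E)
  (hab : ∀ S : Sylow p G, IsMulCommutative (S : Subgroup G))
include hG hM hE h hAE

/-- A line normalised by an element outside `M` acts without fixed points on `M_σ`. -/
theorem IsTauPair.fpf_of_normalized {u n : G} (hu : u ∈ A) (hu1 : u ≠ 1)
    (hn : n ∈ normalizer (zpowers u : Set G)) (hnM : n ∉ M) :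
    sigmaCore M ⊓ centralizer (zpowers u : Set G) = ⊥ := by
  by_contra hne
  obtain ⟨hC, huq⟩ := h.unique_centralizer hG hM (zpowers_le.mpr hu) hne
    (by rwa [Ne, zpowers_eq_bot])
  refine hnM (mem_of_map_conj_eq hG hM (huq _ (isCoatom_map_conj hM n) ?_))
  have h1 := centralizer_map_conj_le hC n
  rwa [map_conj_eq_self_of_mem hn] at h1

include hab

/-- An element of `τ₁ ∪ τ₃`-prime-power order of `E` fixes a line of `A`. -/
theorem IsTauPair.exists_fixed_line (hfr : FreeOutsideTau2 M E) {r : ℕ} [hr : Fact r.Prime]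
    (hr2 : r ∉ tau2 M) {k : G} (hk : k ∈ E) {n : ℕ} (hkr : k ^ r ^ n = 1)
    (hkA : k ∉ centralizer (A : Set G)) :
    ∃ u ∈ A, u ≠ 1 ∧ k ∈ normalizer (zpowers u : Set G) := by
  classical
  by_contra hno
  push Not at hno
  have hnA := (h.isExceptional hG hM).le_normalizer_of_compl hG hM hE hAE
  have hk1 : k ≠ 1 := fun e => hkA (e ▸ one_mem _)
  have hrp : r ≠ p := by
    rintro rfl
    exact hr2 ⟨hr.out, h.not_sigma, by
      by_contra hc; exact h.not_sigma (alpha_subset_sigma hG hM ⟨hr.out, hc⟩),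
      fun h1 => not_pRankLE_of_elementary (k := 1) h.le h.elem h.card.ge h1⟩
  obtain ⟨i, -, hi⟩ := (Nat.dvd_prime_pow hr.out).mp (orderOf_dvd_of_pow_eq_one hkr)
  have hrd : r ∣ orderOf k := by
    rcases i with _ | i
    · exact absurd (orderOf_eq_one_iff.mp (by rw [hi, pow_zero])) hk1
    · rw [hi]; exact dvd_pow_self r i.succ_ne_zero
  have hrE : r ∣ Nat.card E := hrd.trans (Subgroup.orderOf_dvd_natCard E hk)
  have hrσ : r ∉ sigma M := compl_prime_not_sigma hG hM hE hr.out hrE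
  have hr1 : PRankLE r 1 M := by
    rcases tau_cases hG hM hE hrE with h1 | h1 | h1
    exacts [h1.2.2.2.2, absurd h1 hr2, h1.2.2.2]
  -- elements commuting with `k` fix no line
  have hnofix : ∀ y : G, Commute k y → y ∈ normalizer (A : Set G) → y ∉ centralizer (A : Set G) →
      A ⊓ centralizer ({y} : Set G) = ⊥ := by
    intro y hky hyA hyC
    by_contra hne
    obtain ⟨u, hu, hu1⟩ := exists_mem_ne_one _ hne
    have hlt : A ⊓ centralizer ({y} : Set G) ≠ A := fun e => hyC (mem_centralizer_iff.mpr fun a ha =>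
      mem_centralizer_singleton_iff.mp ((inf_eq_left.mp e) ha))
    have huo : orderOf u = p := orderOf_eq_prime (h.elem.2 u hu.1) hu1
    have hcard : Nat.card ↥(A ⊓ centralizer ({y} : Set G)) = p := by
      obtain ⟨j, hj, hjc⟩ := (Nat.dvd_prime_pow hp.out).mp
        (h.card ▸ card_dvd_of_le (inf_le_left : A ⊓ centralizer ({y} : Set G) ≤ A))
      interval_cases j
      · exact absurd (Subgroup.card_eq_one.mp (by rw [hjc, pow_zero])) hne
      · rw [hjc, pow_one]
      · exact absurd (eq_of_le_of_card_ge inf_le_left (by rw [hjc, h.card])) hlt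
    refine hno u hu.1 hu1 ?_
    rw [h.line_eq hG hM hu.1 hu1 hcard hu]
    refine Coprime.le_normalizer_inf (A := zpowers k) ((zpowers_le.mpr (hnA hk)))
      (Coprime.le_normalizer_centralizer ?_) (mem_zpowers k)
    rw [zpowers_le, mem_normalizer_iff_conj_image_eq, Set.image_singleton, MulAut.conj_apply,
      hky.eq, mul_inv_cancel_right]
  -- the element of order `r`
  set z := k ^ (orderOf k / r) with hz
  have hzo : orderOf z = r := orderOf_pow_orderOf_div (orderOf_pos k).ne' hrd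
  have hzr : z ^ r = 1 := by rw [← hzo, pow_orderOf_eq_one]
  have hz1 : z ≠ 1 := fun e => hr.out.ne_one (by rw [← hzo, e, orderOf_one])
  have hzE : z ∈ E := E.pow_mem hk _
  have hkz : Commute k z := (Commute.refl k).pow_right _
  have hzA : z ∈ centralizer (A : Set G) := by
    by_contra hzC
    set K := sigmaCore M with hK
    have hKn : Group.IsNilpotent K := (h.isExceptional hG hM).sigmaCore_nilpotent hG hM
    haveI : Nontrivial K := (nontrivial_iff_ne_bot K).mpr (sigmaCore_ne_bot hG hM)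
    set U := (center K).map K.subtype with hU
    haveI : IsMulCommutative U := @Subgroup.map_isMulCommutative _ _ _ _ (center K) K.subtype inferInstance
    have hUn : M ≤ normalizer (U : Set G) :=
      LocalStructure.le_normalizer_map_characteristic (le_normalizer_sigmaCore M) _
    have hUK : U ≤ K := map_subtype_le _
    have hfU : U ⊓ centralizer {z} = ⊥ := by
      rw [eq_bot_iff, ← hfr z hzE hz1 fun s hs hd => by
        rw [(Nat.prime_dvd_prime_iff_eq hs hr.out).mp (hzo ▸ hd)]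
        rcases tau_cases hG hM hE hrE with h1 | h1 | h1
        exacts [Or.inl h1, absurd h1 hr2, Or.inr h1]]
      exact inf_le_inf_right _ hUK
    have h1 := FixedPointFree.le_centralizer_of_frobenius hr.out hzr (h.le.trans hUn)
      (hUn (hE.1 hzE)) (hnA hzE) ((h.coprime_sigma hG hM hUK)) hfU
      (hnofix z hkz (hnA hzE) hzC)
    have h2 : U ≤ K ⊓ centralizer (A : Set G) := le_inf hUK (le_centralizer_iff.mp h1)
    rw [hK, h.fixed_eq_bot hG hM, le_bot_iff, hU,
      Subgroup.map_eq_bot_iff_of_injective _ K.subtype_injective] at h2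
    haveI := hKn
    exact absurd h2 (Group.IsNilpotent.center_ne_bot _)
  -- `N(⟨z⟩)` leaves `M`
  have hzZ : Nat.card (zpowers z) = r := by rw [Nat.card_zpowers, hzo]
  have hNM : ¬ normalizer (zpowers z : Set G) ≤ M := fun hle => hr2
    ⟨hr.out, hrσ, (rank_two_of_normalizer_le hG hM hrσ hzZ hle).1⟩
  obtain ⟨H, hH, hNH⟩ := (eq_top_or_exists_le_coatom
    (normalizer (zpowers z : Set G))).resolve_left (ne_top_of_normal_ne_bot hG
      (by rwa [Ne, zpowers_eq_bot]) (ne_top_of_not_dvd hM (zpowers_le.mpr (hE.1 hzE))))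
  have hCH : centralizer ({z} : Set G) ≤ H := (centralizer_le_normalizer_zpowers z).trans hNH
  have hkH : k ∈ H := hCH (mem_centralizer_singleton_iff.mpr hkz.eq)
  have hAH : A ≤ H := fun a ha => hCH (mem_centralizer_singleton_iff.mpr
    (mem_centralizer_iff.mp hzA a ha))
  have hzH : z ∈ H := H.pow_mem hkH _
  have hkg : IsPGroup r (zpowers k) := IsPGroup.of_card (n := i) (by rw [Nat.card_zpowers, hi])
  have hAp : IsPGroup p A := Coprime.ea_isPGroup h.elem
  have hpid : ¬ IsIdealPrime p G := not_isIdealPrime_of_not_sigma hG hM h.not_sigma (by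
      by_contra hc; exact h.not_sigma (alpha_subset_sigma hG hM ⟨hp.out, hc⟩))
    (fun h1 => not_pRankLE_of_elementary (k := 1) h.le h.elem h.card.ge h1)
  by_cases hrH : r ∈ sigma H
  · refine hkA ?_
    have hkσ : zpowers k ≤ sigmaCore H :=
      le_sigmaCore_of_isPGroup hG hH (zpowers_le.mpr hkH) hkg hrH
    have hpH : p ∈ sigma H := by
      obtain ⟨a, ha, hca⟩ : ∃ a ∈ A, a * k ≠ k * a := by
        by_contra hc
        push Not at hc
        exact hkA (mem_centralizer_iff.mpr hc)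
      have h1 : k * a * k⁻¹ * a⁻¹ ∈ sigmaCore H := by
        have h2 := (sigmaCore H).mul_mem (hkσ (mem_zpowers k)) ((mem_normalizer_iff.mp
          (le_normalizer_sigmaCore H (hAH ha)) k⁻¹).mp
            ((sigmaCore H).inv_mem (hkσ (mem_zpowers k))))
        simpa [mul_assoc] using h2
      have h2 : k * a * k⁻¹ * a⁻¹ ∈ A :=
        A.mul_mem ((mem_normalizer_iff.mp (hnA hk) a).mp ha) (A.inv_mem ha)
      have h3 : k * a * k⁻¹ * a⁻¹ ≠ 1 := fun e => hca (by
        rw [mul_inv_eq_one, mul_inv_eq_iff_eq_mul] at e; exact e.symm)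
      exact piNum_sigmaCore H p hp.out
        (orderOf_eq_prime (h.elem.2 _ h2) h3 ▸ Subgroup.orderOf_dvd_natCard _ h1)
    exact le_centralizer_of_sigma hG hH hrH hpH (fun hb => hpid hb.2) hrp.symm hkg
      (zpowers_le.mpr hkH) hAp hAH (zpowers_le.mpr (hnA hk)) (mem_zpowers k)
  obtain ⟨⟨hH2, hH1⟩, -⟩ := rank_two_of_normalizer_le hG hH hrH hzZ hNH
  have hr2H : r ∈ tau2 H := ⟨hr.out, hrH, hH2, hH1⟩
  by_cases hpH : p ∈ sigma H
  swap
  · have hp2H : p ∈ tau2 H := ⟨hp.out, hpH, by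
        by_contra hc; exact hpH (alpha_subset_sigma hG hH ⟨hp.out, hc⟩),
      fun h1 => not_pRankLE_of_elementary (k := 1) hAH h.elem h.card.ge h1⟩
    obtain ⟨F, hF, hAF⟩ := exists_compl_ge hG hH hAp hAH hpH
    obtain ⟨B, hBF, h'⟩ := exists_plane_in_compl hG hH hF hr2H
    have hBC := le_centralizer_of_pair hG hH hrp hF ⟨hAH, h.elem, h.card, hpH⟩ h' hAF hBF
    exact not_pRankLE_of_elementary (k := 1) (hBC.trans (h.cent_le hG hM)) h'.elem h'.card.ge hr1
  obtain ⟨R, hR⟩ := exists_sylow_ge hkg (zpowers_le.mpr hkH)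
  obtain ⟨hRc, B, hBR, h'⟩ := sylow_comm_of_tau2 hG hH hr2H R
  have hkR := hR (mem_zpowers k)
  have hAnH : H ≤ normalizer (A : Set G) := by
    obtain ⟨S, hS, hSn⟩ := exists_normal_sylow hG hH
      ((h'.isExceptional hG hH).sigmaCore_nilpotent hG hH) hpH
    have hSH : (S : Subgroup G) ≤ H := hS.trans (sigmaCore_le H)
    have hAS : A ≤ (S : Subgroup G) := le_sylow_of_normal hG hH hSH hSn hAp hAH
    have hSC : (S : Subgroup G) ≤ centralizer (A : Set G) :=
      le_centralizer_of_isMulCommutative le_rfl hAS (hab S)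
    intro m hm
    refine mem_normalizer_of_map_conj (eq_of_le_of_card_ge ?_ (card_map_conj _ _).ge)
    rintro _ ⟨a, ha, rfl⟩
    exact h.mem_of_pow hG hM (by rw [← map_pow, h.elem.2 a ha, map_one])
      (hSC ((mem_normalizer_iff.mp (hSn hm) a).mp (hAS ha)))
  obtain ⟨b, hb, hbM⟩ : ∃ b ∈ B, b ∉ M := by
    by_contra hc
    push Not at hc
    exact not_pRankLE_of_elementary (k := 1) hc h'.elem h'.card.ge hr1
  have hkb : Commute k b := congrArg (fun y : ↥((R : Subgroup H).map H.subtype) => (y : G))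
    (@mul_comm' _ _ hRc ⟨k, hkR⟩ ⟨b, hBR hb⟩)
  have hbA : b ∈ normalizer (A : Set G) := hAnH (h'.le hb)
  have hex : ∃ j, k ^ r ^ j ∈ centralizer (A : Set G) := ⟨n, by rw [hkr]; exact one_mem _⟩
  obtain ⟨j, hj⟩ := Nat.exists_eq_succ_of_ne_zero (n := Nat.find hex) fun e => hkA (by
    have := Nat.find_spec hex
    rwa [e, pow_zero, pow_one] at this)
  set a := k ^ r ^ j with ha
  have haC : a ∉ centralizer (A : Set G) := Nat.find_min hex (hj ▸ j.lt_succ_self)
  have har : a ^ r ∈ centralizer (A : Set G) := by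
    have := Nat.find_spec hex
    rwa [hj, pow_succ, pow_mul] at this
  have hcopAr : (Nat.card (closure {a, b} : Subgroup G)).Coprime (Nat.card A) := by
    have hle : closure ({a, b} : Set G) ≤ (R : Subgroup H).map H.subtype := by
      rw [closure_le]
      rintro y (rfl | rfl)
      exacts [pow_mem hkR _, hBR hb]
    obtain ⟨s, hs⟩ := IsPGroup.iff_card.mp ((R.2.map H.subtype).to_le hle)
    rw [hs, h.card]
    exact (((Nat.coprime_primes hr.out hp.out).mpr hrp).pow_left s).pow_right 2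
  have hle : A ≤ (⊥ : Subgroup G) := by
    refine Coprime.le_of_centralizers_le (hkb.pow_left (r ^ j)) (pow_mem (hnA hk) _) hbA hr.out har
      (by rw [h'.elem.2 b hb]; exact one_mem _) ?_ hcopAr ?_ fun s => ?_
    · rw [h.card]; exact ((Nat.coprime_primes hr.out hp.out).mpr hrp).pow_right 2
    · exact (hnofix a ((Commute.refl k).pow_right _) (pow_mem (hnA hk) _) haC).le
    · refine (hnofix (a ^ s * b) ((((Commute.refl k).pow_right _).pow_right s).mul_right hkb)
        (mul_mem (pow_mem (pow_mem (hnA hk) _) s) hbA) fun hc => hbM ?_).le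
      have h1 := M.mul_mem (M.inv_mem (M.pow_mem (M.pow_mem (hE.1 hk) (r ^ j)) s))
        (h.cent_le hG hM hc)
      rwa [inv_mul_cancel_left] at h1
  exact Coprime.ea_ne_bot two_ne_zero h.card.ge (le_bot_iff.mp hle)

/-- BG 12.9: an invariant cyclic subgroup of full exponent with fixed-point-free socle. -/
theorem IsTauPair.exists_cyclic_factor (hfr : FreeOutsideTau2 M E) {K : Subgroup G} (hKE : K ≤ E)
    (hK : ∀ r : ℕ, r.Prime → r ∣ Nat.card K → r ∉ tau2 M) :
    ∃ C : Subgroup G, C ≤ E ∧ IsPGroup p C ∧ K ≤ normalizer (C : Set G) ∧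
      (∀ y ∈ E, (∃ j : ℕ, y ^ p ^ j = 1) → ∃ c ∈ C, orderOf y ∣ orderOf c) ∧
      ∀ c ∈ C, c ^ p = 1 → c ≠ 1 → sigmaCore M ⊓ centralizer (zpowers c : Set G) = ⊥ := by
  classical
  have hp2' : p ∈ tau2 M := ⟨hp.out, h.not_sigma, by
      by_contra hc; exact h.not_sigma (alpha_subset_sigma hG hM ⟨hp.out, hc⟩),
    fun h1 => not_pRankLE_of_elementary (k := 1) h.le h.elem h.card.ge h1⟩
  have hKp : p.Coprime (Nat.card K) :=
    hp.out.coprime_iff_not_dvd.mpr fun hd => hK p hp.out hd hp2'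
  have habt : AbelianTau2 M := by
    intro r _ hr S
    by_cases hrp : r = p
    · subst hrp; exact hab S
    · exact sylow_comm_of_two hG hM hr hp2' (Ne.symm hrp) S
  obtain ⟨T⟩ : Nonempty (Sylow p E) := inferInstance
  haveI := tau2_sylow_normal hG hM hE habt hp2' T
  set P := (T : Subgroup E).map E.subtype with hP
  have hPE : P ≤ E := map_subtype_le _
  have hPp : IsPGroup p P := T.2.map _
  have hPn : E ≤ normalizer (P : Set G) := fun e he => by
    refine mem_normalizer_of_map_conj (eq_of_le_of_card_ge ?_ (card_map_conj _ _).ge)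
    rintro _ ⟨_, ⟨y, hy, rfl⟩, rfl⟩
    exact ⟨_, Subgroup.Normal.conj_mem inferInstance y hy ⟨e, he⟩, rfl⟩
  have hmemP : ∀ y ∈ E, (∃ j : ℕ, y ^ p ^ j = 1) → y ∈ P := by
    rintro y hy ⟨j, hj⟩
    obtain ⟨s, -, hs⟩ := (Nat.dvd_prime_pow hp.out).mp (orderOf_dvd_of_pow_eq_one hj)
    have hz : IsPGroup p (zpowers (⟨y, hy⟩ : E)) :=
      IsPGroup.of_card (n := s) (by rw [Nat.card_zpowers, ← orderOf_coe, hs])
    obtain ⟨U, hU⟩ := hz.exists_le_sylow
    obtain ⟨g, hg⟩ := MulAction.exists_smul_eq E T U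
    rw [← hg, Sylow.smul_eq_of_normal] at hU
    exact ⟨⟨y, hy⟩, hU (mem_zpowers _), rfl⟩
  have hAP : A ≤ P := fun a ha => hmemP a (hAE ha) ⟨1, by rw [pow_one]; exact h.elem.2 a ha⟩
  have hPM : P ≤ M := hPE.trans hE.1
  have hPc := comm_of_not_sigma hG hM h.not_sigma hPp hPM
  haveI := hPc
  obtain ⟨Q, hQ⟩ := compl_sylow_exists hG hM hE T h.not_sigma
  obtain ⟨n, hn, hnM⟩ := exists_not_mem_normalizer hG hM h.dvd_card h.not_sigma Q
  rw [hQ] at hn
  set N := normalizer (P : Set G) with hN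
  have hPcA : P ≤ centralizer (A : Set G) := le_centralizer_of_isMulCommutative le_rfl hAP hPc
  have hmemA : ∀ y ∈ P, y ^ p = 1 → y ∈ A := fun y hy hyp => h.mem_of_pow hG hM hyp (hPcA hy)
  have hNA : N ≤ normalizer (A : Set G) := fun g hg =>
    mem_normalizer_of_map_conj (eq_of_le_of_card_ge (by
      rintro _ ⟨a, ha, rfl⟩
      exact hmemA _ ((mem_normalizer_iff.mp hg a).mp (hAP ha))
        (by rw [← map_pow, h.elem.2 a ha, map_one])) (card_map_conj _ _).ge)
  -- maximal order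
  letI : CommGroup P := { (inferInstance : Group P) with mul_comm := fun a c => mul_comm' a c }
  obtain ⟨⟨x, hx⟩, hxo⟩ := Monoid.exists_orderOf_eq_exponent
    (Monoid.ExponentExists.of_finite : Monoid.ExponentExists P)
  obtain ⟨B', hB'⟩ := hPp.exists_orderOf_eq_pow ⟨x, hx⟩
  have hexp' : ∀ y ∈ P, y ^ p ^ B' = 1 := fun y hy => by
    have h1 := Monoid.pow_exponent_eq_one (⟨y, hy⟩ : P)
    rw [← hxo, hB'] at h1
    exact congrArg Subtype.val h1
  obtain ⟨b, rfl⟩ := Nat.exists_eq_succ_of_ne_zero (n := B') fun e => by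
    refine Coprime.ea_ne_bot two_ne_zero h.card.ge ((eq_bot_iff_forall _).mpr fun a ha => ?_)
    have h1 := hexp' a (hAP ha)
    rwa [e, pow_zero, pow_one] at h1
  have hexp : ∀ y ∈ P, y ^ p ^ (b + 1) = 1 := hexp'
  have hxb : x ^ p ^ b ≠ 1 := by
    intro e
    rw [← orderOf_coe] at hB'
    change orderOf x = p ^ (b + 1) at hB'
    have h1 := orderOf_dvd_of_pow_eq_one e
    rw [hB', Nat.pow_dvd_pow_iff_le_right hp.out.one_lt] at h1
    omega
  -- an invariant fixed-point-free line in the image of the power map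
  obtain ⟨y, hy, hyb, hKy, hfy⟩ : ∃ y ∈ P, y ^ p ^ b ≠ 1 ∧
      K ≤ normalizer (zpowers (y ^ p ^ b) : Set G) ∧
      sigmaCore M ⊓ centralizer (zpowers (y ^ p ^ b) : Set G) = ⊥ := by
    set l := x ^ p ^ b with hl
    have hlA : l ∈ A := hmemA l (P.pow_mem hx _) (by rw [← pow_mul, ← pow_succ]; exact hexp x hx)
    by_cases hline : ∀ y ∈ P, y ^ p ^ b ∈ zpowers l
    · have hNl : N ≤ normalizer (zpowers l : Set G) := fun g hg => by
        refine mem_normalizer_of_map_conj (eq_of_le_of_card_ge ?_ (card_map_conj _ _).ge)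
        rw [MonoidHom.map_zpowers, zpowers_le]
        change MulAut.conj g (x ^ p ^ b) ∈ zpowers l
        rw [map_pow]
        exact hline _ ((mem_normalizer_iff.mp hg x).mp hx)
      exact ⟨x, hx, hxb, (hKE.trans hPn).trans hNl,
        h.fpf_of_normalized hG hM hE hAE hlA hxb (hNl hn) hnM⟩
    push Not at hline
    obtain ⟨y₂, hy₂, hl₂⟩ := hline
    set l₂ := y₂ ^ p ^ b with hl₂d
    have hl₂A : l₂ ∈ A := hmemA l₂ (P.pow_mem hy₂ _)
      (by rw [← pow_mul, ← pow_succ]; exact hexp y₂ hy₂)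
    have hsurj : ∀ u ∈ A, ∃ y ∈ P, y ^ p ^ b = u := by
      intro u hu
      have hsup : zpowers l ⊔ zpowers l₂ = A := by
        refine eq_of_le_of_card_ge (sup_le (zpowers_le.mpr hlA) (zpowers_le.mpr hl₂A)) ?_
        rw [card_sup_zpowers_of_not_mem (h.elem.2 _ hl₂A) (mem_centralizer_iff.mpr fun z hz =>
          Coprime.ea_comm h.elem ((zpowers_le.mpr hlA) hz) hl₂A) hl₂, Nat.card_zpowers,
          orderOf_eq_prime (h.elem.2 _ hlA) hxb, h.card, pow_two]
      let pw : Subgroup G :=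
        { carrier := {u | ∃ y ∈ P, y ^ p ^ b = u}
          one_mem' := ⟨1, P.one_mem, one_pow _⟩
          mul_mem' := by
            rintro _ _ ⟨y, hy, rfl⟩ ⟨y', hy', rfl⟩
            refine ⟨y * y', P.mul_mem hy hy', ?_⟩
            have hc : Commute y y' := congrArg (fun z : P => (z : G))
              (mul_comm' (⟨y, hy⟩ : P) ⟨y', hy'⟩)
            rw [hc.mul_pow]
          inv_mem' := by
            rintro _ ⟨y, hy, rfl⟩
            exact ⟨y⁻¹, P.inv_mem hy, inv_pow _ _⟩ }
      have hle : zpowers l ⊔ zpowers l₂ ≤ pw :=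
        sup_le (zpowers_le.mpr ⟨x, hx, rfl⟩) (zpowers_le.mpr ⟨y₂, hy₂, rfl⟩)
      rw [hsup] at hle
      exact hle hu
    suffices hs : ∃ u ∈ A, u ≠ 1 ∧ K ≤ normalizer (zpowers u : Set G) ∧
        sigmaCore M ⊓ centralizer (zpowers u : Set G) = ⊥ by
      obtain ⟨u, hu, hu1, hKu, hfu⟩ := hs
      obtain ⟨y, hy, rfl⟩ := hsurj u hu
      exact ⟨y, hy, hu1, hKu, hfu⟩
    set Sc : Subgroup G := ⨅ u : A, normalizer (zpowers (u : G) : Set G) with hSc
    by_cases hscal : K ≤ Sc
    · obtain ⟨A₁, hA₁A, hA₁c, hfA₁⟩ := h.exists_fpf_line hG hM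
      obtain ⟨u, hu, hu1⟩ := exists_mem_ne_one A₁ fun e => by
        rw [e, card_bot] at hA₁c; exact hp.out.ne_one hA₁c.symm
      refine ⟨u, hA₁A hu, hu1, fun k hk => (mem_iInf.mp (hscal hk)) ⟨u, hA₁A hu⟩, ?_⟩
      rw [h.line_eq hG hM (hA₁A hu) hu1 hA₁c hu]
      exact hfA₁
    obtain ⟨k₀, hk₀, hk₀S⟩ := SetLike.not_le_iff_exists.mp hscal
    obtain ⟨r, hr, k, hk, hrk, hkr, hkS⟩ : ∃ (r : ℕ) (_ : Fact r.Prime) (k : G),
        k ∈ zpowers k₀ ∧ r ∣ orderOf k₀ ∧ (∃ j : ℕ, k ^ r ^ j = 1) ∧ k ∉ Sc := by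
      by_contra hc
      push Not at hc
      exact hk₀S (mem_of_prime_power_parts fun r hr y hy hd hj => hc r hr y hy hd hj)
    have hkK : k ∈ K := (zpowers_le.mpr hk₀) hk
    have hr2 : r ∉ tau2 M := hK r hr.out (hrk.trans (Subgroup.orderOf_dvd_natCard K hk₀))
    have hkA : k ∉ centralizer (A : Set G) := by
      intro hc
      refine hkS (mem_iInf.mpr fun u => centralizer_le_normalizer_zpowers _ ?_)
      exact mem_centralizer_singleton_iff.mpr (mem_centralizer_iff.mp hc u u.2).symm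
    obtain ⟨j, hj⟩ := hkr
    obtain ⟨u, hu, hu1, hku⟩ := h.exists_fixed_line hG hM hE hAE hab hfr hr2 (hKE hkK) hj hkA
    -- at most two fixed lines
    have htwo : ∀ v ∈ A, ∀ w ∈ A, v ≠ 1 → w ≠ 1 → zpowers v ≠ zpowers u →
        k ∈ normalizer (zpowers v : Set G) → k ∈ normalizer (zpowers w : Set G) →
        zpowers w = zpowers u ∨ zpowers w = zpowers v := by
      intro v hv w hw hv1 hw1 hvu hkv hkw
      by_contra hc
      push Not at hc
      obtain ⟨hwu, hwv⟩ := hc
      have hoA : ∀ t ∈ A, t ≠ 1 → orderOf t = p := fun t ht ht1 =>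
        orderOf_eq_prime (h.elem.2 t ht) ht1
      have hdisj : zpowers u ⊓ zpowers v = ⊥ := by
        refine (eq_bot_iff_forall _).mpr fun t ht => by_contra fun ht1 => hvu ?_
        have htA : t ∈ A := (zpowers_le.mpr hu) ht.1
        rw [← h.line_eq hG hM htA ht1 (by rw [Nat.card_zpowers, hoA u hu hu1]) ht.1,
          ← h.line_eq hG hM htA ht1 (by rw [Nat.card_zpowers, hoA v hv hv1]) ht.2]
      have hun : zpowers v ≤ normalizer (zpowers u : Set G) := zpowers_le.mpr
        (centralizer_le_normalizer_zpowers u (mem_centralizer_singleton_iff.mpr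
          (Coprime.ea_comm h.elem hv hu)))
      have hsup : zpowers u ⊔ zpowers v = A := by
        refine eq_of_le_of_card_ge (sup_le (zpowers_le.mpr hu) (zpowers_le.mpr hv)) ?_
        rw [Coprime.card_sup_eq_mul hun hdisj, Nat.card_zpowers, Nat.card_zpowers,
          hoA u hu hu1, hoA v hv hv1, h.card, pow_two]
      have hdec : ∀ t ∈ A, ∃ t₁ ∈ zpowers u, ∃ t₂ ∈ zpowers v, t₁ * t₂ = t := fun t ht => by
        rw [← hsup] at ht
        exact (Coprime.mem_sup_of_le_normalizer hun).mp ht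
      obtain ⟨w₁, hw₁, w₂, hw₂, hw12⟩ := hdec w hw
      have hw₁A : w₁ ∈ A := (zpowers_le.mpr hu) hw₁
      have hw₂A : w₂ ∈ A := (zpowers_le.mpr hv) hw₂
      have hw₁1 : w₁ ≠ 1 := fun e => hwv (by
        rw [← hw12, e, one_mul]
        exact h.line_eq hG hM hw₂A (fun e2 => hw1 (by rw [← hw12, e, e2, one_mul]))
          (by rw [Nat.card_zpowers, hoA v hv hv1]) hw₂)
      have hw₂1 : w₂ ≠ 1 := fun e => hwu (by
        rw [← hw12, e, mul_one]
        exact h.line_eq hG hM hw₁A hw₁1 (by rw [Nat.card_zpowers, hoA u hu hu1]) hw₁)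
      have h₁ : zpowers w₁ = zpowers u :=
        h.line_eq hG hM hw₁A hw₁1 (by rw [Nat.card_zpowers, hoA u hu hu1]) hw₁
      have h₂ : zpowers w₂ = zpowers v :=
        h.line_eq hG hM hw₂A hw₂1 (by rw [Nat.card_zpowers, hoA v hv hv1]) hw₂
      obtain ⟨c, hc⟩ := mem_zpowers_iff.mp ((mem_normalizer_iff.mp hkw w).mp (mem_zpowers w))
      have hk₁ : k * w₁ * k⁻¹ ∈ zpowers u := (mem_normalizer_iff.mp hku w₁).mp hw₁
      have hk₂ : k * w₂ * k⁻¹ ∈ zpowers v := (mem_normalizer_iff.mp hkv w₂).mp hw₂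
      have heq : k * w₁ * k⁻¹ * (k * w₂ * k⁻¹) = w₁ ^ c * w₂ ^ c := by
        rw [← (show Commute w₁ w₂ from Coprime.ea_comm h.elem hw₁A hw₂A).mul_zpow, hw12, hc, ← hw12]
        group
      have hs := Subgroup.mul_injective_of_disjoint (disjoint_iff.mpr hdisj)
        (a₁ := (⟨_, hk₁⟩, ⟨_, hk₂⟩))
        (a₂ := (⟨_, (zpowers u).zpow_mem hw₁ c⟩, ⟨_, (zpowers v).zpow_mem hw₂ c⟩)) heq
      simp only [Prod.mk.injEq, Subtype.mk.injEq] at hs
      refine hkS (mem_iInf.mpr fun t => mem_normalizer_of_map_conj (eq_of_le_of_card_ge ?_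
        (card_map_conj _ _).ge))
      rw [MonoidHom.map_zpowers, zpowers_le]
      obtain ⟨t₁, ht₁, t₂, ht₂, ht12⟩ := hdec t t.2
      rw [← h₁] at ht₁
      rw [← h₂] at ht₂
      obtain ⟨a₁, rfl⟩ := mem_zpowers_iff.mp ht₁
      obtain ⟨a₂, rfl⟩ := mem_zpowers_iff.mp ht₂
      refine mem_zpowers_iff.mpr ⟨c, ?_⟩
      rw [← ht12, map_mul, map_zpow, map_zpow,
        ((show Commute w₁ w₂ from Coprime.ea_comm h.elem hw₁A hw₂A).zpow_zpow a₁ a₂).mul_zpow,
        zpow_comm, zpow_comm w₂]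
      change _ = (k * w₁ * k⁻¹) ^ a₁ * (k * w₂ * k⁻¹) ^ a₂
      rw [hs.1, hs.2]
    -- `N(P)` fixes the line
    have hkN : k ∈ N := hPn (hKE hkK)
    have hcomm : ∀ g ∈ N, ⁅k, g⁆ ∈ centralizer (A : Set G) := by
      intro g hg
      let φ : N →* MulAut A := A.normalizerMonoidHom.comp (inclusion hNA)
      have hPN : P ≤ N := Subgroup.le_normalizer
      haveI : Group.IsSolvable N := hG.2.2.2 N fun e => ne_top_of_normal_ne_bot hG
        (ne_bot_of_le_ne_bot (Coprime.ea_ne_bot two_ne_zero h.card.ge) hAP)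
        (ne_top_of_not_dvd hM hPM) e
      haveI : Group.IsSolvable φ.range := Group.isSolvable_of_surjective φ.rangeRestrict_surjective
      have hodd : Odd (Nat.card φ.range) :=
        (hG.1.of_dvd_nat (card_subgroup_dvd_card N)).of_dvd_nat (Subgroup.card_range_dvd φ)
      have hy : φ.rangeRestrict ⁅(⟨k, hkN⟩ : N), ⟨g, hg⟩⁆ ∈ commutator φ.range := by
        rw [map_commutatorElement]
        exact commutator_mem_commutator (mem_top _) (mem_top _)
      have h1 := pow_eq_one_mulAut_of_le (h.p_ne_two hG)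
        (fun a c : A => Subtype.ext (Coprime.ea_comm h.elem a.2 c.2))
        (fun a : A => Subtype.ext (by simpa using h.elem.2 a a.2)) le_rfl h.card hodd
        φ.range.subtype φ.range.subtype_injective hy
      have h2 : φ ⁅(⟨k, hkN⟩ : N), ⟨g, hg⟩⁆ ^ p = 1 := congrArg Subtype.val h1
      have hker : P.subgroupOf N ≤ φ.ker := by
        intro q hq
        rw [MonoidHom.mem_ker]
        refine MulEquiv.ext fun a => Subtype.ext ?_
        change (q : G) * a * (q : G)⁻¹ = a
        have hqa : (a : G) * q = q * a := mem_centralizer_iff.mp (hPcA hq) a a.2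
        rw [← hqa, mul_inv_cancel_right]
      have hidx : ¬ p ∣ (P.subgroupOf N).index := by
        obtain ⟨S, hS⟩ := hPp.exists_le_sylow
        have hSM : (S : Subgroup G) ≤ M :=
          (le_centralizer_of_isMulCommutative le_rfl (hAP.trans hS) (hab S)).trans (h.cent_le hG hM)
        have hPS : (S : Subgroup G) = P := by
          refine le_antisymm ?_ hS
          have h3 := Q.3 (S.2.comap_of_injective M.subtype M.subtype_injective)
            (fun q hq => hS (hQ.le (mem_map_of_mem M.subtype hq)))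
          intro s hs
          rw [hP, ← hQ, ← h3]
          exact ⟨⟨s, hSM hs⟩, hs, rfl⟩
        have h4 := (S.subtype (hPS.le.trans hPN)).not_dvd_index
        rwa [Sylow.coe_subtype, hPS] at h4
      have h5 : φ ⁅(⟨k, hkN⟩ : N), ⟨g, hg⟩⁆ = 1 := by
        rw [← orderOf_eq_one_iff]
        refine Nat.eq_one_of_dvd_coprimes (hp.out.coprime_iff_not_dvd.mpr hidx)
          (orderOf_dvd_of_pow_eq_one h2) ?_
        refine dvd_trans ?_ (index_dvd_of_le hker)
        rw [index_ker]
        exact Subgroup.orderOf_dvd_natCard _ ⟨_, rfl⟩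
      refine mem_centralizer_iff.mpr fun a ha => ?_
      have h6 := congrArg Subtype.val (DFunLike.congr_fun h5 (⟨a, ha⟩ : A))
      change ⁅k, g⁆ * a * (⁅k, g⁆)⁻¹ = a at h6
      exact (mul_inv_eq_iff_eq_mul.mp h6).symm
    have hfixg : ∀ g ∈ N, ∀ v ∈ A, k ∈ normalizer (zpowers v : Set G) →
        k ∈ normalizer (zpowers (g * v * g⁻¹) : Set G) := by
      intro g hg v hv hkv
      refine mem_normalizer_of_map_conj (eq_of_le_of_card_ge ?_ (card_map_conj _ _).ge)
      rw [MonoidHom.map_zpowers, zpowers_le]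
      obtain ⟨i, hi⟩ := mem_zpowers_iff.mp ((mem_normalizer_iff.mp hkv v).mp (mem_zpowers v))
      refine mem_zpowers_iff.mpr ⟨i, ?_⟩
      have hc := mem_centralizer_iff.mp (hcomm g hg) (g * v ^ i * g⁻¹)
        ((mem_normalizer_iff.mp (hNA hg) _).mp (A.zpow_mem hv i))
      calc (g * v * g⁻¹) ^ i = g * v ^ i * g⁻¹ := conj_zpow
        _ = g * v ^ i * g⁻¹ * ⁅k, g⁆ * (⁅k, g⁆)⁻¹ := by rw [mul_inv_cancel_right]
        _ = ⁅k, g⁆ * (g * v ^ i * g⁻¹) * (⁅k, g⁆)⁻¹ := by rw [hc]
        _ = MulAut.conj k (g * v * g⁻¹) := by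
          rw [hi, commutatorElement_def, MulAut.conj_apply]; group
    have hNu : N ≤ normalizer (zpowers u : Set G) := by
      intro g hg
      have hmap : ∀ v, (zpowers v).map (MulAut.conj g).toMonoidHom = zpowers (g * v * g⁻¹) :=
        fun v => MonoidHom.map_zpowers _ _
      have hne : ∀ v, v ≠ 1 → g * v * g⁻¹ ≠ 1 := fun v hv e => hv (conj_eq_one_iff.mp e)
      set v := g * u * g⁻¹ with hv
      have hvA : v ∈ A := (mem_normalizer_iff.mp (hNA hg) u).mp hu
      have hkv := hfixg g hg u hu hku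
      by_cases hvu : zpowers v = zpowers u
      · exact mem_normalizer_of_map_conj ((hmap u).trans hvu)
      have hwA : g * v * g⁻¹ ∈ A := (mem_normalizer_iff.mp (hNA hg) v).mp hvA
      rcases htwo v hvA _ hwA (hne u hu1) (hne v (hne u hu1)) hvu hkv (hfixg g hg v hvA hkv)
        with e | e
      · have hg2 : g ^ 2 ∈ normalizer (zpowers u : Set G) := by
          refine mem_normalizer_of_map_conj ?_
          rw [pow_two, ← map_conj_map_conj, hmap, ← hv, hmap, e]
        obtain ⟨i, hi⟩ := exists_pow_eq_self_of_coprime (x := g) (n := 2)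
          (Nat.coprime_two_left.mpr (hG.1.of_dvd_nat (orderOf_dvd_natCard g)))
        rw [← hi]
        exact pow_mem hg2 i
      · exact absurd (map_injective (MulAut.conj g).injective
          (((hmap v).trans e).trans (hmap u).symm)) hvu
    exact ⟨u, hu, hu1, (hKE.trans hPn).trans hNu,
      h.fpf_of_normalized hG hM hE hAE hu hu1 (hNu hn) hnM⟩
  obtain ⟨w, hw, hwo, hKw, hyw⟩ :=
    exists_invariant_cyclic hPc (hKE.trans hPn) hKp hexp hy hyb hKy
  refine ⟨zpowers w, zpowers_le.mpr (hPE hw), hPp.to_le (zpowers_le.mpr hw), hKw,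
    fun t ht htp => ⟨w, mem_zpowers w, ?_⟩, fun c hc hcp hc1 => ?_⟩
  · rw [hwo]
    exact orderOf_dvd_of_pow_eq_one (hexp t (hmemP t ht htp))
  · have heq : zpowers c = zpowers (y ^ p ^ b) := by
      refine eq_of_card_eq_of_isCyclic (S := zpowers w) inferInstance (zpowers_le.mpr hc)
        (zpowers_le.mpr hyw) ?_
      rw [Nat.card_zpowers, Nat.card_zpowers, orderOf_eq_prime hcp hc1,
        orderOf_eq_prime (by rw [← pow_mul, ← pow_succ]; exact hexp y hy) hyb]
    rw [heq]
    exact hfy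

end Cfsg.Agent.OddLocal
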