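import Mathlib
import Cfsg.Agent.Core.MinimalNormal
import Cfsg.Agent.Core.Basics

/-!
Solvable groups of odd order in `GL(2, F)`, `char F ≠ 2`: each is abelian or fixes a line, so the
derived subgroup consists of unipotent elements.
-/

set_option autoImplicit false
set_option linter.style.haveILetI false

namespace Cfsg.Agent.OddLocal

open Subgroup

universe u

variable {F : Type u} [Field F]

local notation "M₂" => Matrix (Fin 2) (Fin 2) F

/-- The off-diagonal entries and the difference of the diagonal ones are proportional for commuting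
matrices. -/
theorem commute_two_eqs {g h : M₂} (e : g * h = h * g) :
    g 0 1 * h 1 0 = h 0 1 * g 1 0 ∧ g 0 1 * (h 1 1 - h 0 0) = h 0 1 * (g 1 1 - g 0 0) ∧
      g 1 0 * (h 0 0 - h 1 1) = h 1 0 * (g 0 0 - g 1 1) := by
  have e1 := congrFun (congrFun e 0) 0
  have e2 := congrFun (congrFun e 0) 1
  have e3 := congrFun (congrFun e 1) 0
  simp only [Matrix.mul_apply, Fin.sum_univ_two] at e1 e2 e3
  refine ⟨?_, ?_, ?_⟩
  · linear_combination e1
  · linear_combination e2
  · linear_combination e3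

/-- Two matrices commuting with a non-scalar one commute. -/
theorem commute_of_commute_nonscalar {g h k : M₂}
    (hg : g 0 1 ≠ 0 ∨ g 1 0 ≠ 0 ∨ g 0 0 - g 1 1 ≠ 0) (eh : g * h = h * g) (ek : g * k = k * g) :
    h * k = k * h := by
  obtain ⟨a1, a2, a3⟩ := commute_two_eqs eh
  obtain ⟨b1, b2, b3⟩ := commute_two_eqs ek
  have key : h 0 1 * k 1 0 = k 0 1 * h 1 0 ∧ h 0 1 * (k 1 1 - k 0 0) = k 0 1 * (h 1 1 - h 0 0) ∧
      h 1 0 * (k 0 0 - k 1 1) = k 1 0 * (h 0 0 - h 1 1) := by
    rcases hg with hg | hg | hg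
    · have c1 : h 0 1 * k 1 0 = k 0 1 * h 1 0 :=
        mul_left_cancel₀ hg (by linear_combination h 0 1 * b1 - k 0 1 * a1)
      exact ⟨c1, mul_left_cancel₀ hg (by linear_combination h 0 1 * b2 - k 0 1 * a2),
        mul_left_cancel₀ hg (by
          linear_combination -h 1 0 * b2 + k 1 0 * a2 + (g 1 1 - g 0 0) * c1)⟩
    · have c1 : h 0 1 * k 1 0 = k 0 1 * h 1 0 :=
        mul_left_cancel₀ hg (by linear_combination -k 1 0 * a1 + h 1 0 * b1)
      exact ⟨c1, mul_left_cancel₀ hg (by
          linear_combination -h 0 1 * b3 + k 0 1 * a3 + (g 1 1 - g 0 0) * c1),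
        mul_left_cancel₀ hg (by linear_combination h 1 0 * b3 - k 1 0 * a3)⟩
    · exact ⟨mul_left_cancel₀ hg (by
          linear_combination k 1 0 * a2 + k 0 1 * a3 + (h 0 0 - h 1 1) * b1),
        mul_left_cancel₀ hg (by linear_combination (k 1 1 - k 0 0) * a2 - (h 1 1 - h 0 0) * b2),
        mul_left_cancel₀ hg (by linear_combination (h 0 0 - h 1 1) * b3 - (k 0 0 - k 1 1) * a3)⟩
  obtain ⟨c1, c2, c3⟩ := key
  ext i j
  fin_cases i <;> fin_cases j <;> simp only [Matrix.mul_apply, Fin.sum_univ_two, Fin.zero_eta,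
    Fin.mk_one]
  · linear_combination c1
  · linear_combination c2
  · linear_combination c3
  · linear_combination -c1

/-- The fundamental alternative: if `g` is not scalar and commutes with its conjugate by `h`, then
`h ^ 2` centralises `g`, or `h` maps the unique eigenline of `g` to itself. -/
theorem sq_commute_or_eigen (h2 : (2 : F) ≠ 0) {g g' : M₂}
    (htr : g' 0 0 + g' 1 1 = g 0 0 + g 1 1)
    (hdet : g' 0 0 * g' 1 1 - g' 0 1 * g' 1 0 = g 0 0 * g 1 1 - g 0 1 * g 1 0)
    (hcomm : g * g' = g' * g) :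
    g' = g ∨ g + g' = (g 0 0 + g 1 1) • (1 : M₂) ∨
      (g 0 0 - g 1 1) ^ 2 + 4 * g 0 1 * g 1 0 = 0 := by
  by_cases hd : (g 0 0 - g 1 1) ^ 2 + 4 * g 0 1 * g 1 0 = 0
  · exact Or.inr (Or.inr hd)
  obtain ⟨a1, a2, a3⟩ := commute_two_eqs hcomm
  -- the trace zero parts have proportional entries and the same determinant
  have hq : (g' 0 0 - g' 1 1) ^ 2 + 4 * g' 0 1 * g' 1 0 =
      (g 0 0 - g 1 1) ^ 2 + 4 * g 0 1 * g 1 0 := by
    linear_combination (g' 0 0 + g' 1 1 + g 0 0 + g 1 1) * htr - 4 * hdet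
  have hu : (g' 0 1) ^ 2 = (g 0 1) ^ 2 := mul_left_cancel₀ hd (by
    linear_combination (-4 * g 0 1 * g' 0 1) * a1 +
      (g 0 1 * (g' 1 1 - g' 0 0) + g' 0 1 * (g 1 1 - g 0 0)) * (-1) * a2 + (g 0 1) ^ 2 * hq)
  have hw : (g' 1 0) ^ 2 = (g 1 0) ^ 2 := mul_left_cancel₀ hd (by
    linear_combination (4 * g 1 0 * g' 1 0) * a1 +
      (g 1 0 * (g' 0 0 - g' 1 1) + g' 1 0 * (g 0 0 - g 1 1)) * (-1) * a3 + (g 1 0) ^ 2 * hq)
  have hz : (g' 0 0 - g' 1 1) ^ 2 = (g 0 0 - g 1 1) ^ 2 := by
    have h1 : g' 0 1 * g' 1 0 = g 0 1 * g 1 0 := by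
      refine mul_left_cancel₀ hd ?_
      linear_combination g 0 1 * g 1 0 * hq + (g 0 0 - g 1 1) * g' 1 0 * a2 +
        g 0 1 * (g' 0 0 - g' 1 1) * (-1) * a3 + 0 * hu
    linear_combination hq - 4 * h1
  -- the sign is the same for the three entries
  have sign : ∀ ε : F, ε = 1 ∨ ε = -1 → g' 0 1 = ε * g 0 1 → g' 1 0 = ε * g 1 0 →
      g' 0 0 - g' 1 1 = ε * (g 0 0 - g 1 1) →
      g' = g ∨ g + g' = (g 0 0 + g 1 1) • (1 : M₂) := by
    intro ε hε e1 e2 e3
    rcases hε with rfl | rfl
    · refine Or.inl ?_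
      have e4 : g' 0 0 = g 0 0 := mul_left_cancel₀ h2 (by linear_combination htr + e3)
      ext i j
      fin_cases i <;> fin_cases j
      · simpa using e4
      · simpa using e1
      · simpa using e2
      · show g' 1 1 = g 1 1
        linear_combination htr - e4
    · refine Or.inr ?_
      have e4 : g' 0 0 = g 1 1 := mul_left_cancel₀ h2 (by linear_combination htr + e3)
      ext i j
      fin_cases i <;> fin_cases j <;> simp only [Matrix.add_apply, Matrix.smul_apply, smul_eq_mul,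
        Matrix.one_apply, Fin.zero_eta, Fin.mk_one]
      · simp [e4]
      · simp [e1]
      · simp [e2]
      · simp only [if_true, mul_one]
        linear_combination htr - e4
  suffices h : ∃ ε : F, (ε = 1 ∨ ε = -1) ∧ g' 0 1 = ε * g 0 1 ∧ g' 1 0 = ε * g 1 0 ∧
      g' 0 0 - g' 1 1 = ε * (g 0 0 - g 1 1) by
    obtain ⟨ε, hε, e1, e2, e3⟩ := h
    exact (sign ε hε e1 e2 e3).imp id Or.inl
  by_cases hu0 : g 0 1 = 0
  · have hg'u : g' 0 1 = 0 := eq_zero_of_pow_eq_zero (hu.trans (by simp [hu0]))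
    have hz0 : g 0 0 - g 1 1 ≠ 0 := fun h => hd (by simp [h, hu0])
    obtain ⟨ε, hε, e3⟩ : ∃ ε : F, (ε = 1 ∨ ε = -1) ∧ g' 0 0 - g' 1 1 = ε * (g 0 0 - g 1 1) := by
      rcases sq_eq_sq_iff_eq_or_eq_neg.mp hz with h | h
      · exact ⟨1, Or.inl rfl, by rw [one_mul, h]⟩
      · exact ⟨-1, Or.inr rfl, by rw [neg_one_mul, h]⟩
    refine ⟨ε, hε, by rw [hg'u, hu0, mul_zero], mul_left_cancel₀ hz0 ?_, e3⟩
    linear_combination -a3 + g 1 0 * e3
  · obtain ⟨ε, hε, e1⟩ : ∃ ε : F, (ε = 1 ∨ ε = -1) ∧ g' 0 1 = ε * g 0 1 := by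
      rcases sq_eq_sq_iff_eq_or_eq_neg.mp hu with h | h
      · exact ⟨1, Or.inl rfl, by rw [one_mul, h]⟩
      · exact ⟨-1, Or.inr rfl, by rw [neg_one_mul, h]⟩
    refine ⟨ε, hε, e1, mul_left_cancel₀ hu0 ?_, mul_left_cancel₀ hu0 ?_⟩
    · linear_combination a1 + g 1 0 * e1
    · linear_combination -a2 + (g 0 0 - g 1 1) * e1

/-- The eigenvector in the degenerate case. -/
theorem exists_unique_eigen (h2 : (2 : F) ≠ 0) {g : M₂}
    (hd : (g 0 0 - g 1 1) ^ 2 + 4 * g 0 1 * g 1 0 = 0)
    (hg : g 0 1 ≠ 0 ∨ g 1 0 ≠ 0 ∨ g 0 0 - g 1 1 ≠ 0) :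
    ∃ v : Fin 2 → F, v ≠ 0 ∧ (∃ c : F, g.mulVec v = c • v) ∧
      ∀ w : Fin 2 → F, (∃ c : F, g.mulVec w = c • w) → w ∈ Submodule.span F {v} := by
  set c := (g 0 0 + g 1 1) / 2 with hc
  have hc2 : 2 * c = g 0 0 + g 1 1 := by rw [hc]; field_simp
  -- every eigenvalue is `c`
  have heig : ∀ w : Fin 2 → F, ∀ d : F, g.mulVec w = d • w → w ≠ 0 → d = c := by
    intro w d hw hw0
    have e0 := congrFun hw 0
    have e1 := congrFun hw 1
    simp only [Matrix.mulVec, dotProduct, Fin.sum_univ_two, Pi.smul_apply, smul_eq_mul] at e0 e1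
    by_contra hne
    have hne' : (2 * d - 2 * c) ≠ 0 := by
      rw [← mul_sub]; exact mul_ne_zero h2 (sub_ne_zero.mpr hne)
    have hsq : (2 * d - 2 * c) ^ 2 ≠ 0 := pow_ne_zero 2 hne'
    have h0 : w 0 = 0 := mul_left_cancel₀ hsq (by
      rw [hc2, mul_zero]
      linear_combination (-4) * ((d - g 1 1) * e0 + g 0 1 * e1) + w 0 * hd)
    have h1 : w 1 = 0 := mul_left_cancel₀ hsq (by
      rw [hc2, mul_zero]
      linear_combination (-4) * ((d - g 0 0) * e1 + g 1 0 * e0) + w 1 * hd)
    exact hw0 (funext fun i => by fin_cases i <;> simp [h0, h1])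
  -- a spanning eigenvector
  have h4 : (2 : F) * 2 ≠ 0 := mul_ne_zero h2 h2
  by_cases hu : g 0 1 = 0
  · have hz : g 0 0 - g 1 1 = 0 := by
      rw [hu] at hd
      exact eq_zero_of_pow_eq_zero (n := 2) (by linear_combination hd)
    have hw : g 1 0 ≠ 0 := by
      rcases hg with h | h | h
      exacts [absurd hu h, h, absurd hz h]
    have hcg : c = g 0 0 := mul_left_cancel₀ h2 (by linear_combination hc2 - hz)
    refine ⟨![0, 1], fun h => one_ne_zero (α := F) (by simpa using congrFun h 1), ⟨g 1 1, ?_⟩, ?_⟩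
    · ext i
      fin_cases i <;> simp [Matrix.mulVec, dotProduct, Fin.sum_univ_two, hu]
    rintro w ⟨d, hwd⟩
    by_cases hw0 : w = 0
    · rw [hw0]; exact zero_mem _
    have := heig w d hwd hw0
    have e1 := congrFun hwd 1
    simp only [Matrix.mulVec, dotProduct, Fin.sum_univ_two, Pi.smul_apply, smul_eq_mul] at e1
    have h0 : w 0 = 0 := mul_left_cancel₀ hw (by
      rw [this, hcg] at e1
      linear_combination e1 + w 1 * hz)
    refine Submodule.mem_span_singleton.mpr ⟨w 1, ?_⟩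
    ext i
    fin_cases i <;> simp [h0]
  · refine ⟨![g 0 1, c - g 0 0], fun h => hu (by simpa using congrFun h 0), ⟨c, ?_⟩, ?_⟩
    · ext i
      fin_cases i
      · simp [Matrix.mulVec, dotProduct, Fin.sum_univ_two]; ring
      · simp [Matrix.mulVec, dotProduct, Fin.sum_univ_two]
        refine mul_left_cancel₀ h4 ?_
        linear_combination hd +
          (2 * g 1 1 + 2 * g 0 0 - 2 * c - (g 0 0 + g 1 1)) * hc2
    rintro w ⟨d, hwd⟩
    by_cases hw0 : w = 0
    · rw [hw0]; exact zero_mem _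
    have := heig w d hwd hw0
    have e0 := congrFun hwd 0
    simp only [Matrix.mulVec, dotProduct, Fin.sum_univ_two, Pi.smul_apply, smul_eq_mul] at e0
    rw [this] at e0
    refine Submodule.mem_span_singleton.mpr ⟨w 0 / g 0 1, ?_⟩
    ext i
    fin_cases i
    · simp [div_mul_cancel₀ _ hu]
    · simp only [Pi.smul_apply, smul_eq_mul, Fin.mk_one, Matrix.cons_val_one, Matrix.cons_val_fin_one]
      field_simp
      linear_combination -e0

variable {Y : Type*} [Group Y] [Finite Y] [Group.IsSolvable Y]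

/-- A solvable group of odd order with a faithful representation in dimension two is abelian or
fixes a line. -/
theorem comm_or_exists_line (h2 : (2 : F) ≠ 0) (hodd : Odd (Nat.card Y))
    (f : Y →* GL (Fin 2) F) (hf : Function.Injective f) :
    (∀ a b : Y, a * b = b * a) ∨
      ∃ v : Fin 2 → F, v ≠ 0 ∧ ∀ y : Y, ∃ c : F, (f y : M₂).mulVec v = c • v := by
  by_cases hcm : commutator Y = ⊥
  · exact Or.inl fun a b => commutatorElement_eq_one_iff_mul_comm.mp
      (mem_bot.mp (hcm.le (commutator_mem_commutator (mem_top a) (mem_top b))))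
  obtain ⟨A, hAC, hA⟩ := Core.exists_isMinNormal_le hcm
  haveI := hA.normal
  haveI : Group.IsSolvable A := inferInstance
  haveI hAc := hA.isMulCommutative
  obtain ⟨a, ha, ha1⟩ := (A.bot_or_exists_ne_one).resolve_left hA.ne_bot
  set g : M₂ := (f a : M₂) with hgdef
  -- `det g = 1`
  have hdet : g.det = 1 := by
    have h0 : commutator Y ≤ (Matrix.GeneralLinearGroup.det.comp f).ker := by
      rw [_root_.commutator_def, commutator_le]
      intro x _ y _
      rw [MonoidHom.mem_ker, map_commutatorElement]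
      exact commutatorElement_eq_one_iff_mul_comm.mpr (mul_comm _ _)
    have := congrArg Units.val (MonoidHom.mem_ker.mp (h0 (hAC ha)))
    simpa using this
  -- elements of order dividing `2` are trivial
  have hsq : ∀ y : Y, y * y = 1 → y = 1 := by
    intro y hy
    have h1 : orderOf y ∣ 2 := orderOf_dvd_of_pow_eq_one (by rw [sq, hy])
    rcases (Nat.dvd_prime Nat.prime_two).mp h1 with h | h
    · exact orderOf_eq_one_iff.mp h
    · exact absurd (h ▸ orderOf_dvd_natCard y) hodd.not_two_dvd_nat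
  -- `g` is not scalar
  have hns : g 0 1 ≠ 0 ∨ g 1 0 ≠ 0 ∨ g 0 0 - g 1 1 ≠ 0 := by
    by_contra h
    push Not at h
    obtain ⟨e1, e2, e3⟩ := h
    refine ha1 (hsq a (hf (Units.ext ?_)))
    rw [map_mul, map_one, Units.val_mul, Units.val_one]
    rw [Matrix.det_fin_two] at hdet
    ext i j
    fin_cases i <;> fin_cases j <;> simp only [Matrix.mul_apply, Fin.sum_univ_two, Fin.zero_eta,
      Fin.mk_one, ← hgdef, Matrix.one_apply]
    · simp only [if_true]; linear_combination hdet + g 0 0 * e3 + g 1 0 * e1 + g 1 0 * e1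
    · simp [e1]
    · simp [e2]
    · simp only [if_true]; linear_combination hdet - g 1 1 * e3 + g 1 0 * e1 + g 1 0 * e1
  by_cases hcent : ∀ y : Y, y * a = a * y
  · refine Or.inl fun x y => hf (Units.ext ?_)
    rw [map_mul, map_mul, Units.val_mul, Units.val_mul]
    refine commute_of_commute_nonscalar hns ?_ ?_ <;>
      rw [hgdef, ← Units.val_mul, ← Units.val_mul, ← map_mul, ← map_mul, hcent]
  · push Not at hcent
    obtain ⟨y₀, hy₀⟩ := hcent
    have key : ∀ y : Y, Commute y a ∨ (g 0 0 - g 1 1) ^ 2 + 4 * g 0 1 * g 1 0 = 0 := by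
      intro y
      set a' := y * a * y⁻¹ with ha'
      have hcomm : a * a' = a' * a :=
        congrArg Subtype.val (hAc.is_comm.comm ⟨a, ha⟩ ⟨a', hA.normal.conj_mem a ha y⟩)
      set g' : M₂ := (f a' : M₂) with hg'
      have hconj : g' = (f y : M₂) * g * ((f y)⁻¹ : GL (Fin 2) F) := by
        rw [hg', ha', map_mul, map_mul, map_inv, Units.val_mul, Units.val_mul]
      have htr : g' 0 0 + g' 1 1 = g 0 0 + g 1 1 := by
        have := congrArg Matrix.trace hconj
        rwa [Matrix.trace_units_conj, Matrix.trace_fin_two, Matrix.trace_fin_two] at this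
      have hdt : g' 0 0 * g' 1 1 - g' 0 1 * g' 1 0 = g 0 0 * g 1 1 - g 0 1 * g 1 0 := by
        have := congrArg Matrix.det hconj
        rwa [Matrix.det_units_conj, Matrix.det_fin_two, Matrix.det_fin_two] at this
      have hgg : g * g' = g' * g := by
        rw [hgdef, hg', ← Units.val_mul, ← Units.val_mul, ← map_mul, ← map_mul, hcomm]
      rcases sq_commute_or_eigen h2 htr hdt hgg with e | e | e
      · exact Or.inl (mul_inv_eq_iff_eq_mul.mp (hf (Units.ext e)))
      · -- `y ^ 2` centralises `a`, so `y` does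
        have hyy : (f (y * a' * y⁻¹) : M₂) = g := by
          have e' : g' = (g 0 0 + g 1 1) • (1 : M₂) - g := eq_sub_of_add_eq' e
          rw [map_mul, map_mul, map_inv, Units.val_mul, Units.val_mul, ← hg', e', mul_sub, sub_mul,
            ← hconj, mul_smul_comm, smul_mul_assoc, mul_one, Units.mul_inv, e', sub_sub_cancel]
        have h5 : y * a' * y⁻¹ = a := hf (Units.ext hyy)
        have h3 : Commute (y ^ 2) a := mul_inv_eq_iff_eq_mul.mp (by
          calc y ^ 2 * a * (y ^ 2)⁻¹ = y * (y * a * y⁻¹) * y⁻¹ := by rw [sq]; group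
            _ = a := h5)
        obtain ⟨k, hk⟩ := hodd
        refine Or.inl ?_
        have h4 := h3.pow_left (k + 1)
        rwa [← pow_mul, show 2 * (k + 1) = Nat.card Y + 1 by omega, pow_succ,
          pow_card_eq_one', one_mul] at h4
      · exact Or.inr e
    have hd := (key y₀).resolve_left hy₀
    obtain ⟨v, hv, ⟨c, hc⟩, huniq⟩ := exists_unique_eigen h2 hd hns
    refine Or.inr ⟨v, hv, fun y => ?_⟩
    suffices hmem : ∃ e : F, g.mulVec ((f y : M₂).mulVec v) = e • (f y : M₂).mulVec v by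
      obtain ⟨d, hd'⟩ := Submodule.mem_span_singleton.mp (huniq ((f y : M₂).mulVec v) hmem)
      exact ⟨d, hd'.symm⟩
    -- `g (y v) = y ((y⁻¹ g y) v)`
    set b := y⁻¹ * a * y with hb
    have hbA : b ∈ A := by simpa [hb] using hA.normal.conj_mem a ha y⁻¹
    have hab : a * b = b * a := congrArg Subtype.val (hAc.is_comm.comm ⟨a, ha⟩ ⟨b, hbA⟩)
    have hbc : g * (f b : M₂) = (f b : M₂) * g := by
      rw [hgdef, ← Units.val_mul, ← Units.val_mul, ← map_mul, ← map_mul, hab]
    obtain ⟨e, he⟩ := Submodule.mem_span_singleton.mp (huniq ((f b : M₂).mulVec v) ⟨c, by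
      rw [Matrix.mulVec_mulVec, hbc, ← Matrix.mulVec_mulVec, hc, Matrix.mulVec_smul]⟩)
    refine ⟨e, ?_⟩
    rw [hgdef, Matrix.mulVec_mulVec, ← Units.val_mul, ← map_mul,
      show a * y = y * b by rw [hb]; group, map_mul, Units.val_mul, ← Matrix.mulVec_mulVec, ← he,
      Matrix.mulVec_smul]

/-- The derived subgroup acts by unipotent elements. -/
theorem pow_eq_one_of_mem_commutator {r : ℕ} [Fact r.Prime] [CharP F r] (hr : r ≠ 2)
    (hodd : Odd (Nat.card Y)) (f : Y →* GL (Fin 2) F) (hf : Function.Injective f) {y : Y}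
    (hy : y ∈ commutator Y) : y ^ r = 1 := by
  have h2 : (2 : F) ≠ 0 := by
    intro h
    have h' : ((2 : ℕ) : F) = 0 := by exact_mod_cast h
    exact hr ((Nat.prime_dvd_prime_iff_eq Fact.out Nat.prime_two).mp
      ((CharP.cast_eq_zero_iff F r 2).mp h'))
  rcases comm_or_exists_line h2 hodd f hf with hc | ⟨v, hv, hl⟩
  · have : commutator Y = ⊥ := by
      rw [eq_bot_iff, _root_.commutator_def, commutator_le]
      exact fun a _ b _ => mem_bot.mpr (commutatorElement_eq_one_iff_mul_comm.mpr (hc a b))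
    rw [mem_bot.mp (this.le hy), one_pow]
  choose c hc using hl
  have hcinj : ∀ s t : F, s • v = t • v → s = t := fun s t h => smul_left_injective F hv h
  let χ : Y →* F :=
    { toFun := c
      map_one' := hcinj _ _ (by rw [← hc 1]; simp)
      map_mul' := fun a b => hcinj _ _ (by
        rw [← hc (a * b), map_mul, Units.val_mul, ← Matrix.mulVec_mulVec, hc b, Matrix.mulVec_smul,
          hc a, smul_smul, mul_comm]) }
  have hχ : commutator Y ≤ χ.toHomUnits.ker ⊓ (Matrix.GeneralLinearGroup.det.comp f).ker := by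
    rw [_root_.commutator_def, commutator_le]
    intro a _ b _
    refine ⟨?_, ?_⟩ <;>
    · show _ ∈ MonoidHom.ker _
      rw [MonoidHom.mem_ker, map_commutatorElement]
      exact commutatorElement_eq_one_iff_mul_comm.mpr (mul_comm _ _)
  obtain ⟨hy1, hy2⟩ := hχ hy
  set g : M₂ := (f y : M₂) with hg
  have hc1 : c y = 1 := congrArg Units.val (MonoidHom.mem_ker.mp hy1)
  have hdet : g.det = 1 := by simpa using congrArg Units.val (MonoidHom.mem_ker.mp hy2)
  have hfix : g.mulVec v = v := by rw [hg, hc y, hc1, one_smul]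
  have e0 := congrFun hfix 0
  have e1 := congrFun hfix 1
  simp only [Matrix.mulVec, dotProduct, Fin.sum_univ_two] at e0 e1
  rw [Matrix.det_fin_two] at hdet
  have htr : g 0 0 + g 1 1 = 2 := by
    by_cases h0 : v 0 = 0
    · have h1 : v 1 ≠ 0 := fun h1 => hv (funext fun i => by fin_cases i <;> simp [h0, h1])
      exact mul_left_cancel₀ h1 (by
        linear_combination v 1 * hdet + g 1 0 * e0 - (g 0 0 - 1) * e1)
    · exact mul_left_cancel₀ h0 (by
        linear_combination v 0 * hdet + g 0 1 * e1 - (g 1 1 - 1) * e0)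
  set N : M₂ := g - 1 with hN
  have hNN : N * N = 0 := by
    ext i j
    fin_cases i <;> fin_cases j <;> simp only [hN, Matrix.mul_apply, Fin.sum_univ_two,
      Matrix.sub_apply, Matrix.one_apply, Matrix.zero_apply, Fin.zero_eta, Fin.mk_one,
      if_true, zero_ne_one, one_ne_zero, if_false, sub_zero]
    · linear_combination g 0 0 * htr - hdet
    · linear_combination g 0 1 * htr
    · linear_combination g 1 0 * htr
    · linear_combination g 1 1 * htr - hdet
  refine hf (Units.ext ?_)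
  rw [map_pow, Units.val_pow_eq_pow_val, map_one, Units.val_one, ← hg,
    show g = N + 1 by rw [hN, sub_add_cancel], (Commute.one_right N).add_pow]
  rw [Finset.sum_eq_single 0]
  · simp
  · intro k hk hk0
    rw [Finset.mem_range] at hk
    rcases Nat.lt_or_ge k 2 with h | h
    · obtain rfl : k = 1 := by omega
      simp [CharP.cast_eq_zero (Matrix (Fin 2) (Fin 2) F) r]
    · obtain ⟨j, rfl⟩ := Nat.exists_eq_add_of_le h
      simp [pow_add, sq, hNN]
  · intro h
    simp at h

end Cfsg.Agent.OddLocal
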