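import Cfsg.Agent.OddLocal.KappaPrime
import Cfsg.Agent.OddLocal.SupportCount
import Cfsg.Agent.S1431
import Cfsg.Agent.S1352

/-!
BG 14.7: the maximal subgroups attached to `K × K*` and the counting argument.
-/

set_option autoImplicit false
set_option linter.unusedSectionVars false
set_option linter.style.haveILetI false

namespace Cfsg.Agent.OddLocal

open Subgroup Cfsg
open scoped commutatorElement

universe u

variable {G : Type u} [Group G] [Finite G] {M L H H' K K' W : Subgroup G}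

/-- `K* = C(K) ∩ M_σ`. -/
abbrev kStar (M K : Subgroup G) : Subgroup G := sigmaCore M ⊓ centralizer (K : Set G)

theorem kStar_map_conj (hG : IsMinSimpleOddOrder G) (hM : IsCoatom M) (K : Subgroup G) (g : G) :
    kStar (M.map (MulAut.conj g).toMonoidHom) (K.map (MulAut.conj g).toMonoidHom) =
      (kStar M K).map (MulAut.conj g).toMonoidHom := by
  have hC : centralizer ((K.map (MulAut.conj g).toMonoidHom : Subgroup G) : Set G) =
      (centralizer (K : Set G)).map (MulAut.conj g).toMonoidHom := by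
    ext c
    rw [mem_map_conj_iff, mem_centralizer_iff, mem_centralizer_iff]
    constructor
    · intro hc k hk
      have h1 : g * k * g⁻¹ * c = c * (g * k * g⁻¹) :=
        hc _ (mem_map_of_mem (MulAut.conj g).toMonoidHom hk)
      calc k * (g⁻¹ * c * g) = g⁻¹ * (g * k * g⁻¹ * c) * g := by group
        _ = g⁻¹ * (c * (g * k * g⁻¹)) * g := by rw [h1]
        _ = g⁻¹ * c * g * k := by group
    · rintro hc _ ⟨k, hk, rfl⟩
      have h1 := hc k hk
      change g * k * g⁻¹ * c = c * (g * k * g⁻¹)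
      calc g * k * g⁻¹ * c = g * (k * (g⁻¹ * c * g)) * g⁻¹ := by group
        _ = g * (g⁻¹ * c * g * k) * g⁻¹ := by rw [h1]
        _ = c * (g * k * g⁻¹) := by group
  rw [kStar, kStar, sigmaCore_map_conj hG hM, hC,
    Subgroup.map_inf _ _ _ (MulAut.conj g).injective]

theorem le_normalizer_kStar (M K : Subgroup G) : K ≤ centralizer (kStar M K : Set G) :=
  le_centralizer_iff.mp inf_le_right

variable (hG : IsMinSimpleOddOrder G) (hM : IsCoatom M)
include hG hM

theorem kappa_W_card (hK : IsPiHallOf (kappa M) K M) :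
    Nat.card ↥(K ⊔ kStar M K) = Nat.card K * Nat.card (kStar M K) := by
  have hcop := (kappa_subgroup_coprime hG hM hK).coprime_dvd_right
    (card_dvd_of_le (inf_le_left : kStar M K ≤ sigmaCore M))
  rw [sup_comm, Coprime.card_sup_eq_mul ((le_normalizer_kStar M K).trans
    (centralizer_le_normalizer _)) (Coprime.inf_eq_bot_of_coprime hcop.symm), Nat.mul_comm]

theorem kappa_W_le (hK : IsPiHallOf (kappa M) K M) : K ⊔ kStar M K ≤ M :=
  sup_le hK.1 (inf_le_left.trans (sigmaCore_le M))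

/-- The `σ(M)`-elements of `K K*` lie in `K*`. -/
theorem mem_kStar_of_piNum (hK : IsPiHallOf (kappa M) K M) {X : Subgroup G}
    (hX : X ≤ K ⊔ kStar M K) (hπ : PiNum (sigma M) X) : X ≤ kStar M K := by
  refine mem_of_isPiHallOf_normal (π := sigma M) (M := K ⊔ kStar M K)
    ⟨le_sup_right, fun s hs hd => piNum_sigmaCore M s hs (hd.trans (card_dvd_of_le inf_le_left)),
      fun s hs hsσ hd => ?_⟩
    (sup_le ((le_normalizer_kStar M K).trans (centralizer_le_normalizer _))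
      Subgroup.le_normalizer) hX hπ
  have h1 := Coprime.card_mul_relIndex_of_le (le_sup_right : kStar M K ≤ K ⊔ kStar M K)
  rw [kappa_W_card hG hM hK, Nat.mul_comm (Nat.card K), Nat.mul_left_cancel_iff Nat.card_pos] at h1
  exact (hK.2.1 s hs (h1 ▸ hd)).2.2.1 hsσ

/-- The `σ(M)'`-elements of `K K*` lie in `K`. -/
theorem mem_of_piNum_not_sigma (hK : IsPiHallOf (kappa M) K M) {X : Subgroup G}
    (hX : X ≤ K ⊔ kStar M K) (hπ : PiNum {s | s ∉ sigma M} X) : X ≤ K := by
  refine mem_of_isPiHallOf_normal (π := {s | s ∉ sigma M}) (M := K ⊔ kStar M K)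
    ⟨le_sup_left, fun s hs hd => (hK.2.1 s hs hd).2.2.1, fun s hs hsσ hd => ?_⟩
    (sup_le Subgroup.le_normalizer (inf_le_right.trans (centralizer_le_normalizer _))) hX hπ
  have h1 := Coprime.card_mul_relIndex_of_le (le_sup_left : K ≤ K ⊔ kStar M K)
  rw [kappa_W_card hG hM hK, Nat.mul_left_cancel_iff Nat.card_pos] at h1
  exact hsσ (piNum_sigmaCore M s hs ((h1 ▸ hd).trans (card_dvd_of_le inf_le_left)))

/-- One inclusion of BG 14.7: the partner of a line of `K`. -/
theorem partner_le (hK : IsPiHallOf (kappa M) K M) (hK1 : K ≠ ⊥) {p : ℕ} [Fact p.Prime] {a : G}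
    (ha : a ∈ K) (hao : orderOf a = p) (hL : IsCoatom L)
    (hNL : normalizer (zpowers a : Set G) ≤ L) :
    p ∈ sigma L ∧ ∃ K₁ : Subgroup G, IsPiHallOf (kappa L) K₁ L ∧ K₁ ≠ ⊥ ∧ kStar M K ≤ K₁ ∧
      a ∈ kStar L K₁ ∧ K ⊔ kStar M K ≤ K₁ ⊔ kStar L K₁ ∧ K₁ ≤ K ⊔ kStar M K := by
  obtain ⟨E, hE, hKE⟩ := exists_compl_ge_of_not_sigma hG hM hK.1
    (fun s hs hd => (hK.2.1 s hs hd).2.2.1)
  obtain ⟨hne, hfix, -, hX⟩ := kappa_structure hG hM hE hK hK1 hKE
  have hp : p.Prime := Fact.out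
  have hac : Nat.card (zpowers a) = p := by rw [Nat.card_zpowers, hao]
  have haK : zpowers a ≤ K := zpowers_le.mpr ha
  have ha1 : a ≠ 1 := fun e => hp.ne_one (by rw [← hao, e, orderOf_one])
  have hκ := hK.2.1 p hp (hac ▸ card_dvd_of_le haK)
  have h13 := kappa_tau13 hG hM hκ
  have hfa := fixed_ne_bot_of_kappa hG hM hκ hac (haK.trans hK.1)
  have hpL := sigma_of_line_overgroup hG hM h13 hac (haK.trans hK.1) hfa hL hNL
  obtain ⟨-, -, hnc⟩ := line_overgroup hG hM h13 hL hac hNL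
  have haC : ∀ y ∈ kStar M K, Commute y a := fun y hy => (mem_centralizer_iff.mp hy.2 a ha).symm
  have hKL : kStar M K ≤ L := fun y hy => hNL (centralizer_le_normalizer _
    ((centralizer_zpowers a).ge (mem_centralizer_of_commute (haC y hy))))
  have haL : a ∈ L := hNL (Subgroup.le_normalizer (mem_zpowers a))
  have haσ : a ∈ sigmaCore L := le_sigmaCore_of_isPGroup hG hL (zpowers_le.mpr haL)
    (isPGroup_of_card_prime hac) hpL (mem_zpowers a)
  have hKπ : PiNum (kappa L) (kStar M K) := by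
    intro q hq hd
    haveI := Fact.mk hq
    obtain ⟨⟨y, hy⟩, hyo⟩ := exists_prime_orderOf_dvd_card' q hd
    rw [← orderOf_coe] at hyo
    change orderOf y = q at hyo
    have hqσ := piNum_sigmaCore M q hq (hd.trans (card_dvd_of_le inf_le_left))
    have hqL : q ∉ sigma L := fun hc => by
      obtain ⟨g, hg⟩ := exists_conj_of_sigma_inter hG hM hL hqσ hc
      exact hnc g hg
    have hy1 : y ≠ 1 := fun e => hq.ne_one (by rw [← hyo, e, orderOf_one])
    have hnt : q ∉ tau2 L := not_tau2_of_shared hG hM hL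
      (fun e => hnc 1 (by rw [map_conj_eq_self_of_mem (one_mem _), e])) hqσ
      (sigmaCore_le M hy.1) (hKL hy) (orderOf_dvd_iff_pow_eq_one.mp (dvd_of_eq hyo)) hy1
      ⟨haσ, hK.1 ha⟩ ha1 (haC y hy)
    refine kappa_of_fixed hG hL ((tau_of_not_sigma hG hL hqL (hd.trans
      (card_dvd_of_le hKL))).resolve_right hnt) (P := zpowers y)
      (by rw [Nat.card_zpowers, hyo]) (zpowers_le.mpr (hKL hy)) fun e => ha1
      ((eq_bot_iff_forall _).mp e a ⟨haσ, ?_⟩)
    rw [centralizer_zpowers]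
    exact mem_centralizer_of_commute (haC y hy).symm
  obtain ⟨E', hE', hKE'⟩ := exists_compl_ge_of_not_sigma hG hL hKL
    (fun s hs hd => (hKπ s hs hd).2.2.1)
  obtain ⟨K₁, hK₁, hKK₁, hK₁E⟩ := exists_kappa_hall hG hL hE' hKE' hKπ
  obtain ⟨y, hy, hy1⟩ := exists_mem_ne_one _ hne
  obtain ⟨q, hq, hqd⟩ := Nat.exists_prime_and_dvd (mt orderOf_eq_one_iff.mp hy1)
  haveI := Fact.mk hq
  set y' := y ^ (orderOf y / q) with hy'
  have hy'o : orderOf y' = q := orderOf_pow_orderOf_div (orderOf_pos y).ne' hqd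
  have hy'1 : y' ≠ 1 := fun e => hq.ne_one (by rw [← hy'o, e, orderOf_one])
  have hy'K : y' ∈ kStar M K := pow_mem hy _
  have hy'c : Nat.card (zpowers y') = q := by rw [Nat.card_zpowers, hy'o]
  have hK₁1 : K₁ ≠ ⊥ := fun e => hy'1 (mem_bot.mp (e ▸ hKK₁ hy'K))
  obtain ⟨-, hfix₁, -, hX₁⟩ := kappa_structure hG hL hE' hK₁ hK₁1 hK₁E
  have ha₁ : a ∈ kStar L K₁ := by
    show a ∈ sigmaCore L ⊓ centralizer (K₁ : Set G)
    rw [← hfix₁ y' (hKK₁ hy'K) hy'1]
    exact ⟨haσ, mem_centralizer_of_commute (haC y' hy'K).symm⟩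
  obtain ⟨hn₁, hEX₁⟩ := hX₁ hy'c (zpowers_le.mpr (hKK₁ hy'K))
  have hyq := kappa_fixed_prime hG hM hK hK1 (p := q) hy'K hy'1
    (orderOf_dvd_iff_pow_eq_one.mp (dvd_of_eq hy'o))
  have hNy : normalizer (zpowers y' : Set G) ≤ M :=
    unique_normalizer_of_centralizer hG hM (by rwa [Ne, zpowers_eq_bot])
      (zpowers_le.mpr (sigmaCore_le M hy'K.1)) fun H hH hle =>
        hyq.1.2 H hH (by rwa [← centralizer_zpowers])
  have hK₁W : K₁ ≤ K ⊔ kStar M K := by
    intro k hk
    obtain ⟨-, hEX⟩ := hX hac haK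
    refine ((inf_normalizer_compl_le hG hM hE (haK.trans hKE)).trans
      (sup_le_sup hEX ?_)) ⟨hNy (hn₁ hk), centralizer_le_normalizer _ ?_⟩
    · rw [centralizer_zpowers, hfix a ha ha1]
    · rw [centralizer_zpowers]
      exact mem_centralizer_of_commute
        (show Commute k a from (mem_centralizer_iff.mp ha₁.2 k hk))
  refine ⟨hpL, K₁, hK₁, hK₁1, hKK₁, ha₁, sup_le (fun k hk => ?_) (hKK₁.trans le_sup_left), hK₁W⟩
  obtain ⟨hKn, -⟩ := hX hac haK
  refine ((inf_normalizer_compl_le hG hL hE' ((zpowers_le.mpr (hKK₁ hy'K)).trans hK₁E)).trans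
    (sup_le_sup hEX₁ ?_)) ⟨hNL (hKn hk), centralizer_le_normalizer _ ?_⟩
  · rw [centralizer_zpowers, hfix₁ y' (hKK₁ hy'K) hy'1]
  · rw [centralizer_zpowers]
    exact mem_centralizer_of_commute
      (show Commute k y' from (mem_centralizer_iff.mp hy'K.2 k hk))

/-- BG 14.7: the partner of a line of `K` has the same `K × K*`. -/
theorem exists_partner (hK : IsPiHallOf (kappa M) K M) (hK1 : K ≠ ⊥) {p : ℕ} [Fact p.Prime]
    (hp : p ∣ Nat.card K) :
    ∃ L K₁ : Subgroup G, IsCoatom L ∧ IsPiHallOf (kappa L) K₁ L ∧ K₁ ≠ ⊥ ∧ p ∈ sigma L ∧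
      K₁ ⊔ kStar L K₁ = K ⊔ kStar M K ∧ p ∣ Nat.card (kStar L K₁) := by
  obtain ⟨⟨a, ha⟩, hao⟩ := exists_prime_orderOf_dvd_card' p hp
  rw [← orderOf_coe] at hao
  change orderOf a = p at hao
  have ha1 : a ≠ 1 := fun e => (Fact.out : p.Prime).ne_one (by rw [← hao, e, orderOf_one])
  obtain ⟨L, hL, hNL⟩ := exists_coatom_ge_normalizer hG hM (zpowers_le.mpr (hK.1 ha))
    (by rwa [Ne, zpowers_eq_bot])
  obtain ⟨hpL, K₁, hK₁, hK₁1, hKK₁, ha₁, hle, -⟩ := partner_le hG hM hK hK1 ha hao hL hNL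
  refine ⟨L, K₁, hL, hK₁, hK₁1, hpL, le_antisymm ?_ hle,
    hao ▸ Subgroup.orderOf_dvd_natCard _ ha₁⟩
  obtain ⟨hne, -⟩ : kStar M K ≠ ⊥ ∧ True := by
    obtain ⟨E, hE, hKE⟩ := exists_compl_ge_of_not_sigma hG hM hK.1
      (fun s hs hd => (hK.2.1 s hs hd).2.2.1)
    exact ⟨(kappa_structure hG hM hE hK hK1 hKE).1, trivial⟩
  obtain ⟨q, hq, hqd⟩ := exists_prime_dvd_of_ne_bot hne
  haveI := Fact.mk hq
  obtain ⟨⟨y, hy⟩, hyo⟩ := exists_prime_orderOf_dvd_card' q hqd
  rw [← orderOf_coe] at hyo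
  change orderOf y = q at hyo
  have hy1 : y ≠ 1 := fun e => hq.ne_one (by rw [← hyo, e, orderOf_one])
  have hyq := kappa_fixed_prime hG hM hK hK1 (p := q) hy hy1
    (orderOf_dvd_iff_pow_eq_one.mp (dvd_of_eq hyo))
  obtain ⟨-, K₂, hK₂, -, -, -, hle₂, -⟩ := partner_le hG hL hK₁ hK₁1 (hKK₁ hy) hyo hM
    (unique_normalizer_of_centralizer hG hM (by rwa [Ne, zpowers_eq_bot])
      (zpowers_le.mpr (sigmaCore_le M hy.1)) fun H hH h =>
        hyq.1.2 H hH (by rwa [← centralizer_zpowers]))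
  obtain ⟨m, hm, hmK⟩ := Coprime.exists_conj_isPiHallOf (isSolvable_coatom hG hM) hK hK₂
  change K.map (MulAut.conj m).toMonoidHom = K₂ at hmK
  have h2 : kStar M K₂ = (kStar M K).map (MulAut.conj m).toMonoidHom := by
    rw [← hmK, ← kStar_map_conj hG hM, map_conj_eq_self_of_mem (Subgroup.le_normalizer hm)]
  have hc : Nat.card ↥(K₂ ⊔ kStar M K₂) = Nat.card ↥(K ⊔ kStar M K) := by
    rw [h2, ← hmK, ← Subgroup.map_sup, card_map_conj]
  rw [eq_of_le_of_card_ge (hle.trans hle₂) hc.le]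
  exact hle₂

omit hM in
/-- A maximal subgroup with a Hall `κ`-subgroup `K'` such that `K' K'* = W`. -/
def IsMember (W H K' : Subgroup G) : Prop :=
  IsCoatom H ∧ IsPiHallOf (kappa H) K' H ∧ K' ≠ ⊥ ∧ K' ⊔ kStar H K' = W

omit hM in
theorem IsMember.kStar_ne_bot (h : IsMember W H K) : kStar H K ≠ ⊥ := by
  obtain ⟨E, hE, hKE⟩ := exists_compl_ge_of_not_sigma hG h.1 h.2.1.1
    (fun s hs hd => (h.2.1.2.1 s hs hd).2.2.1)
  exact (kappa_structure hG h.1 hE h.2.1 h.2.2.1 hKE).1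

omit hM in
theorem IsMember.eq_of_sigma (h : IsMember W H K) (h' : IsMember W H' K') {q : ℕ}
    (hq : q ∈ sigma H) (hq' : q ∈ sigma H') : H' = H ∧ K' = K := by
  have hσ := sigma_eq_of_inter hG h.1 h'.1 hq hq'
  haveI : Fact q.Prime := ⟨hq.1⟩
  obtain ⟨g, hg⟩ := exists_conj_of_sigma_inter hG h.1 h'.1 hq hq'
  have hHH : H' = H := by
    obtain ⟨y, hy, hy1⟩ := exists_mem_ne_one _ (h.kStar_ne_bot hG)
    have hyW : zpowers y ≤ K' ⊔ kStar H' K' := by
      rw [h'.2.2.2, ← h.2.2.2]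
      exact (zpowers_le.mpr hy).trans le_sup_right
    have hy' : y ∈ kStar H' K' := mem_kStar_of_piNum hG h'.1 h'.2.1 hyW (fun s hs hd => by
      rw [hσ]
      exact piNum_sigmaCore H s hs (hd.trans (card_dvd_of_le (zpowers_le.mpr hy.1))))
      (mem_zpowers y)
    rw [hg]
    refine map_conj_eq_self_of_mem (Subgroup.le_normalizer ?_)
    by_contra hgH
    exact hy1 ((eq_bot_iff_forall _).mp (kappa_fixed_inf_conj hG h.1 h.2.1 h.2.2.1 hgH) y
      ⟨hy, hg ▸ sigmaCore_le H' hy'.1⟩)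
  subst hHH
  refine ⟨rfl, le_antisymm ?_ ?_⟩
  · exact mem_of_piNum_not_sigma hG h.1 h.2.1 (h.2.2.2 ▸ h'.2.2.2 ▸ le_sup_left)
      fun s hs hd => (h'.2.1.2.1 s hs hd).2.2.1
  · exact mem_of_piNum_not_sigma hG h'.1 h'.2.1 (h'.2.2.2 ▸ h.2.2.2 ▸ le_sup_left)
      fun s hs hd => (h.2.1.2.1 s hs hd).2.2.1

omit hM in
theorem IsMember.exists_of_dvd (h : IsMember W H K) {p : ℕ} (hp : p.Prime)
    (hd : p ∣ Nat.card W) :
    ∃ H' K' : Subgroup G, IsMember W H' K' ∧ p ∈ sigma H' ∧ p ∣ Nat.card (kStar H' K') := by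
  haveI := Fact.mk hp
  rw [← h.2.2.2, kappa_W_card hG h.1 h.2.1] at hd
  rcases hp.dvd_mul.mp hd with h1 | h1
  · obtain ⟨L, K₁, hL, hK₁, hK₁1, hpL, heq, hdL⟩ := exists_partner hG h.1 h.2.1 h.2.2.1 h1
    exact ⟨L, K₁, ⟨hL, hK₁, hK₁1, heq.trans h.2.2.2⟩, hpL, hdL⟩
  · exact ⟨H, K, h, piNum_sigmaCore H p hp (h1.trans (card_dvd_of_le inf_le_left)), h1⟩

omit hM in
/-- The elements of `W` outside every `K'*`. -/
def memberRest (W : Subgroup G) : Set G :=
  {z | z ∈ W ∧ ∀ H K' : Subgroup G, IsMember W H K' → z ∉ kStar H K'}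

omit hM in
/-- `W` controls the fusion of `memberRest W`. -/
theorem IsMember.mem_of_conj (h : IsMember W H K) {z g : G} (hz : z ∈ memberRest W)
    (hz' : g * z * g⁻¹ ∈ memberRest W) : g ∈ W := by
  have hz1 : z ≠ 1 := fun e => hz.2 H K h (e ▸ one_mem _)
  obtain ⟨p, hp, hpd⟩ := Nat.exists_prime_and_dvd (mt orderOf_eq_one_iff.mp hz1)
  obtain ⟨H', K', h', hpσ, -⟩ :=
    h.exists_of_dvd hG hp (hpd.trans (Subgroup.orderOf_dvd_natCard W hz.1))
  have hdec : ∀ w ∈ W, ∃ s ∈ kStar H' K', ∃ k ∈ K', w = k * s ∧ Commute k s := by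
    intro w hw
    rw [← h'.2.2.2] at hw
    obtain ⟨k, hk, s, hs, rfl⟩ := (Coprime.mem_sup_of_le_normalizer (N := K')
      (A := kStar H' K') (inf_le_right.trans (centralizer_le_normalizer _))).mp hw
    exact ⟨s, hs, k, hk, rfl, mem_centralizer_iff.mp hs.2 k hk⟩
  obtain ⟨s, hs, k, hk, hzks, hks⟩ := hdec z hz.1
  obtain ⟨s', hs', k', hk', hzks', hks'⟩ := hdec _ hz'.1
  have hσ : ∀ {t : G}, t ∈ kStar H' K' → ∀ q : ℕ, q.Prime → q ∣ orderOf t → q ∈ sigma H' :=
    fun ht q hq hd => prime_mem_sigma_of_mem hG h'.1 ht.1 hq hd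
  have hσ' : ∀ {t : G}, t ∈ K' → ∀ q : ℕ, q.Prime → q ∣ orderOf t → q ∉ sigma H' :=
    fun ht q hq hd => (h'.2.1.2.1 q hq (hd.trans (Subgroup.orderOf_dvd_natCard _ ht))).2.2.1
  have hs1 : s ≠ 1 := by
    intro e
    rw [e, mul_one] at hzks
    exact hσ' hk p hp (hzks ▸ hpd) hpσ
  have hk1 : k ≠ 1 := fun e => hz.2 H' K' h' (by rwa [hzks, e, one_mul])
  have hconj : g * z * g⁻¹ = g * s * g⁻¹ * (g * k * g⁻¹) := by
    rw [hzks, hks.eq]; group
  have hord : ∀ t : G, orderOf (g * t * g⁻¹) = orderOf t := fun t => by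
    rw [← MulAut.conj_apply, MulEquiv.orderOf_eq]
  have hs'eq : g * s * g⁻¹ = s' := by
    refine eq_of_commuting_parts (π := fun q => q ∈ sigma H')
      (hks.symm.map (MulAut.conj g).toMonoidHom) hks'.symm
      (hconj.symm.trans (hzks'.trans hks'.eq)) (fun q hq hd => hσ hs q hq ?_) (hσ hs')
      (fun q hq hd => hσ' hk q hq ?_) (hσ' hk')
    · exact (hord s) ▸ hd
    · exact (hord k) ▸ hd
  have hgH : g ∈ H' := by
    by_contra hc
    refine hs1 (conj_eq_one_iff.mp ((eq_bot_iff_forall _).mp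
      (kappa_fixed_inf_conj hG h'.1 h'.2.1 h'.2.2.1 hc) (g * s * g⁻¹) ⟨hs'eq ▸ hs', ?_⟩))
    exact mem_map_of_mem (MulAut.conj g).toMonoidHom (sigmaCore_le H' hs.1)
  have hk'eq : g * k * g⁻¹ = k' := by
    have h1 := hconj.symm.trans (hzks'.trans hks'.eq)
    rw [hs'eq] at h1
    exact mul_left_cancel h1
  by_contra hgW
  rw [← h'.2.2.2] at hgW
  refine hk1 (conj_eq_one_iff.mp ((eq_bot_iff_forall _).mp
    ((Cfsg.Agent.S1431.result hG H' h'.1 K' h'.2.1 h'.2.2.1).2.1 g hgH hgW) (g * k * g⁻¹)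
    ⟨hk'eq ▸ hk', mem_map_of_mem (MulAut.conj g).toMonoidHom hk⟩))

omit hM in
/-- Conjugates of `memberRest W` avoid every `M̃`. -/
theorem IsMember.rest_not_mem_tilde (h : IsMember W H K) {z g : G} (hz : z ∈ memberRest W)
    {N : Subgroup G} (hN : IsCoatom N) :
    g * z * g⁻¹ ∉ tildeOf N ((sigmaCore N : Set G) \ {1}) := by
  rintro ⟨a, ⟨ha, ha1⟩, r, hr, y, hy⟩
  have ha1' : a ≠ 1 := ha1
  set c := g⁻¹ * y with hc
  have hzc : z = c * a * c⁻¹ * (c * r * c⁻¹) := by
    calc z = g⁻¹ * (g * z * g⁻¹) * g := by group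
      _ = g⁻¹ * (y * (a * r) * y⁻¹) * g := by rw [hy]
      _ = c * a * c⁻¹ * (c * r * c⁻¹) := by rw [hc]; group
  set N' := N.map (MulAut.conj c).toMonoidHom with hN'
  have hN'c : IsCoatom N' := isCoatom_map_conj hN c
  have hS := (isSupport_supportR hG hN ha ha1').map hG c
  have hx' := mem_sigmaCore_conj hG hN ha c
  set x' := c * a * c⁻¹ with hx'def
  have hx'1 : x' ≠ 1 := fun e => ha1' (conj_eq_one_iff.mp e)
  set r' := c * r * c⁻¹ with hr'def
  have hr' : r' ∈ (supportR N a).map (MulAut.conj c).toMonoidHom := mem_map_of_mem _ hr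
  have hcomm : Commute x' r' :=
    (mem_centralizer_singleton_iff.mp (hS.le_centralizer hr')).symm
  -- `x'` is a power of `z`
  have hx'W : x' ∈ W := by
    have hcop : (orderOf r').Coprime (orderOf x') := Nat.coprime_of_dvd fun q hq h1 h2 =>
      hS.prime_not_sigma hG hN'c hx' hx'1 hr' hq h1 (prime_mem_sigma_of_mem hG hN'c hx' hq h2)
    obtain ⟨k, hk⟩ := exists_pow_eq_self_of_coprime hcop
    have h2 : z ^ orderOf r' = x' ^ orderOf r' := by
      rw [hzc, hcomm.mul_pow, pow_orderOf_eq_one, mul_one]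
    rw [← hk, ← h2]
    exact pow_mem (pow_mem hz.1 _) _
  obtain ⟨p, hp, hpd⟩ := Nat.exists_prime_and_dvd (mt orderOf_eq_one_iff.mp hx'1)
  haveI := Fact.mk hp
  obtain ⟨H', K', h', hpσ, -⟩ :=
    h.exists_of_dvd hG hp (hpd.trans (Subgroup.orderOf_dvd_natCard W hx'W))
  have hpN := prime_mem_sigma_of_mem hG hN'c hx' hp hpd
  have hσ := sigma_eq_of_inter hG h'.1 hN'c hpσ hpN
  have hx'K : x' ∈ kStar H' K' := mem_kStar_of_piNum hG h'.1 h'.2.1
    (zpowers_le.mpr (h'.2.2.2.symm ▸ hx'W)) (fun q hq hd => by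
      rw [← hσ]
      exact prime_mem_sigma_of_mem hG hN'c hx' hq (by rwa [Nat.card_zpowers] at hd))
    (mem_zpowers x')
  obtain ⟨d, hd⟩ := exists_conj_of_sigma_inter hG h'.1 hN'c hpσ hpN
  have hNH : N' = H' := by
    rw [hd]
    refine map_conj_eq_self_of_mem (Subgroup.le_normalizer ?_)
    by_contra hdH
    exact hx'1 ((eq_bot_iff_forall _).mp
      (kappa_fixed_inf_conj hG h'.1 h'.2.1 h'.2.2.1 hdH) x' ⟨hx'K, hd ▸ sigmaCore_le N' hx'⟩)
  have hbot := IsSupport.unique hG hN'c hx' hx'1 hS (R' := ⊥)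
    (Or.inl ⟨hNH ▸ centralizer_kappa_fixed_le hG h'.1 h'.2.1 h'.2.2.1 hx'K hx'1, rfl⟩)
  rw [← hbot, mem_bot] at hr'
  rw [hr', mul_one] at hzc
  exact hz.2 H' K' h' (hzc ▸ hx'K)

omit hM in
theorem IsMember.three_mul_le (h : IsMember W H K) :
    3 * Nat.card (kStar H K) ≤ Nat.card (sigmaCore H) := by
  have hlt : kStar H K ≠ sigmaCore H := by
    intro e
    obtain ⟨q, hq, hqd⟩ := exists_prime_dvd_of_ne_bot (h.kStar_ne_bot hG)
    haveI := Fact.mk hq
    obtain ⟨S⟩ : Nonempty (Sylow q ↥(sigmaCore H)) := inferInstance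
    exact (kappa_fixed_sylow hG h.1 h.2.1 h.2.2.1 hqd S).2 ((map_subtype_le _).trans e.ge)
  obtain ⟨t, ht⟩ := card_dvd_of_le (inf_le_left : kStar H K ≤ sigmaCore H)
  have hodd : Odd t := (hG.1.of_dvd_nat (card_subgroup_dvd_card _)).of_dvd_nat
    (ht ▸ Dvd.intro_left _ rfl)
  have ht1 : t ≠ 1 := fun e => hlt (eq_of_le_of_card_ge inf_le_left (by rw [ht, e, mul_one]))
  rw [ht, Nat.mul_comm 3]
  refine Nat.mul_le_mul_left _ ?_
  obtain ⟨j, rfl⟩ := hodd
  omega

omit hM in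
/-- BG 14.7: the counting argument: some member is not of type `P₁`. -/
theorem IsMember.exists_not_P1 (h : IsMember W H K) :
    ∃ H' K' : Subgroup G, IsMember W H' K' ∧
      ∃ q : ℕ, q.Prime ∧ q ∣ Nat.card H' ∧ q ∉ sigma H' ∧ q ∉ kappa H' := by
  classical
  haveI := Fintype.ofFinite G
  by_contra hcon
  push Not at hcon
  have hch : ∀ X : Subgroup G, ∃ Y : Subgroup G, (∃ K', IsMember W X K') → IsMember W X Y := by
    intro X
    by_cases hX : ∃ K', IsMember W X K'
    · exact ⟨hX.choose, fun _ => hX.choose_spec⟩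
    · exact ⟨⊥, fun h' => absurd h' hX⟩
  choose KX hKX using hch
  haveI : Fintype (Subgroup G) := Fintype.ofFinite _
  set S : Finset (Subgroup G) := Finset.univ.filter (fun X => ∃ K', IsMember W X K') with hS
  have hmem : ∀ X ∈ S, IsMember W X (KX X) := fun X hX => hKX X (Finset.mem_filter.mp hX).2
  have hin : ∀ {X K' : Subgroup G}, IsMember W X K' → X ∈ S ∧ KX X = K' := by
    intro X K' hX
    have h1 : X ∈ S := Finset.mem_filter.mpr ⟨Finset.mem_univ _, K', hX⟩
    obtain ⟨q, hq⟩ := sigma_nonempty hG hX.1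
    exact ⟨h1, (IsMember.eq_of_sigma hG hX (hmem X h1) hq hq).2⟩
  -- at least two members
  have hm : 2 ≤ S.card := by
    obtain ⟨p, hp, hpd⟩ := exists_prime_dvd_of_ne_bot h.2.2.1
    haveI := Fact.mk hp
    obtain ⟨L, K₁, hL, hK₁, hK₁1, hpL, heq, -⟩ := exists_partner hG h.1 h.2.1 h.2.2.1 hpd
    have hL' : IsMember W L K₁ := ⟨hL, hK₁, hK₁1, heq.trans h.2.2.2⟩
    exact Finset.one_lt_card.mpr ⟨H, (hin h).1, L, (hin hL').1,
      fun e => (h.2.1.2.1 p hp hpd).2.2.1 (e ▸ hpL)⟩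
  -- the parts of `W`
  set Z : Finset G := Finset.univ.filter (· ∈ memberRest W) with hZ
  set P : Subgroup G → Finset G :=
    fun X => Finset.univ.filter (fun x => x ∈ kStar X (KX X) ∧ x ≠ 1) with hP
  have hPc : ∀ X : Subgroup G, (P X).card + 1 = Nat.card (kStar X (KX X)) := by
    intro X
    have e : P X = (Finset.univ.filter (fun x => x ∈ kStar X (KX X))).erase 1 := by
      ext x
      simp only [hP, Finset.mem_filter, Finset.mem_erase, Finset.mem_univ, true_and]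
      exact and_comm
    rw [e, Finset.card_erase_add_one (Finset.mem_filter.mpr ⟨Finset.mem_univ _, one_mem _⟩),
      Nat.card_eq_fintype_card, ← Fintype.card_coe]
    exact Fintype.card_congr (Equiv.subtypeEquivRight fun x => by simp)
  have hWle : Nat.card W ≤ Z.card + (∑ X ∈ S, (P X).card) + 1 := by
    have e : Nat.card W = (Finset.univ.filter (· ∈ W)).card := by
      rw [Nat.card_eq_fintype_card, ← Fintype.card_coe]
      exact Fintype.card_congr (Equiv.subtypeEquivRight fun x => by simp)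
    rw [e]
    refine (Finset.card_le_card (t := Z ∪ S.biUnion P ∪ {1}) fun x hx => ?_).trans
      ((Finset.card_union_le _ _).trans (Nat.add_le_add ((Finset.card_union_le _ _).trans
        (Nat.add_le_add_left Finset.card_biUnion_le _)) (Finset.card_singleton 1).le))
    by_cases hx1 : x = 1
    · exact Finset.mem_union_right _ (Finset.mem_singleton.mpr hx1)
    refine Finset.mem_union_left _ ?_
    by_cases hr : x ∈ memberRest W
    · exact Finset.mem_union_left _ (Finset.mem_filter.mpr ⟨Finset.mem_univ _, hr⟩)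
    refine Finset.mem_union_right _ ?_
    simp only [memberRest, Set.mem_ofPred_eq, not_and, not_forall, not_not] at hr
    obtain ⟨X, K', hX, hxX⟩ := hr (Finset.mem_filter.mp hx).2
    obtain ⟨h1, h2⟩ := hin hX
    exact Finset.mem_biUnion.mpr ⟨X, h1,
      Finset.mem_filter.mpr ⟨Finset.mem_univ _, h2.symm ▸ hxX, hx1⟩⟩
  -- the parts of `G`
  set T : Subgroup G → Finset G :=
    fun X => Finset.univ.filter (· ∈ tildeOf X ((sigmaCore X : Set G) \ {1})) with hT
  set Zc : Finset G := Finset.univ.filter (fun x => ∃ z ∈ memberRest W, ∃ g : G, x = g * z * g⁻¹)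
    with hZc
  have hTc : ∀ X ∈ S, (T X).card = (Nat.card (sigmaCore X) - 1) * X.index := by
    intro X hX
    rw [← ncard_tildeOf_sigma hG (hmem X hX).1, ← Set.ncard_coe_finset]
    congr 1
    ext x
    simp [hT]
  have hZc' : W.index * Z.card ≤ Zc.card := by
    have e : W.index * Z.card = ((Finset.univ : Finset (G ⧸ W)) ×ˢ Z).card := by
      rw [Finset.card_product, Finset.card_univ, Subgroup.index, Nat.card_eq_fintype_card]
    rw [e]
    refine Finset.card_le_card_of_injOn (fun x => x.1.out * x.2 * x.1.out⁻¹) ?_ ?_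
    · rintro ⟨q, z⟩ hx
      exact Finset.mem_filter.mpr ⟨Finset.mem_univ _, z,
        (Finset.mem_filter.mp (Finset.mem_product.mp hx).2).2, q.out, rfl⟩
    · rintro ⟨q, z⟩ hx ⟨q', z'⟩ hx' he
      dsimp only at he
      have hz := (Finset.mem_filter.mp (Finset.mem_product.mp (Finset.mem_coe.mp hx)).2).2
      have hz' := (Finset.mem_filter.mp (Finset.mem_product.mp (Finset.mem_coe.mp hx')).2).2
      have hg : q'.out⁻¹ * q.out ∈ W := h.mem_of_conj hG hz (by
        have e : q'.out⁻¹ * q.out * z * (q'.out⁻¹ * q.out)⁻¹ = z' := by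
          calc q'.out⁻¹ * q.out * z * (q'.out⁻¹ * q.out)⁻¹
              = q'.out⁻¹ * (q.out * z * q.out⁻¹) * q'.out := by group
            _ = q'.out⁻¹ * (q'.out * z' * q'.out⁻¹) * q'.out := by rw [he]
            _ = z' := by group
        rw [e]; exact hz')
      obtain rfl : q' = q := by
        rw [← QuotientGroup.out_eq' q, ← QuotientGroup.out_eq' q']
        exact QuotientGroup.eq.mpr hg
      exact Prod.ext rfl (mul_left_cancel (mul_right_cancel he))
  have htot : (∑ X ∈ S, (T X).card) + Zc.card ≤ Nat.card G := by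
    rw [← Finset.card_biUnion, ← Finset.card_union_of_disjoint, Nat.card_eq_fintype_card]
    · exact Finset.card_le_univ _
    · rw [Finset.disjoint_left]
      intro x hx hx'
      obtain ⟨X, hX, hxX⟩ := Finset.mem_biUnion.mp hx
      obtain ⟨z, hz, g, rfl⟩ := (Finset.mem_filter.mp hx').2
      exact h.rest_not_mem_tilde hG hz (hmem X hX).1 (Finset.mem_filter.mp hxX).2
    · intro X hX Y hY hne
      rw [Function.onFun, Finset.disjoint_left]
      intro x hx hx'
      have hnc : ∀ g : G, Y ≠ X.map (MulAut.conj g).toMonoidHom := fun g e => by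
        obtain ⟨q, hq⟩ := sigma_nonempty hG (hmem X hX).1
        exact hne (IsMember.eq_of_sigma hG (hmem X hX) (hmem Y hY) hq
          (by rw [e, sigma_map_conj]; exact hq)).1.symm
      exact Set.eq_empty_iff_forall_notMem.mp
        (tildeOf_sigma_disjoint hG (hmem X hX).1 (hmem Y hY).1 hnc) x
        ⟨(Finset.mem_filter.mp hx).2, (Finset.mem_filter.mp hx').2⟩
  -- the count
  set g := Nat.card G with hg
  set w := Nat.card W with hw
  have hgpos : 0 < g := Nat.card_pos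
  have hkey : ∀ X ∈ S, 3 * g * Nat.card (kStar X (KX X)) ≤ 3 * w * (T X).card + g := by
    intro X hX
    have hXm := hmem X hX
    set s := Nat.card (sigmaCore X) with hs
    set k := Nat.card (kStar X (KX X)) with hk
    set c := Nat.card (KX X) with hc
    have hcard : Nat.card X = c * s := by
      obtain ⟨E, hE, hKE⟩ := exists_compl_ge_of_not_sigma hG hXm.1 hXm.2.1.1
        (fun q hq hd => (hXm.2.1.2.1 q hq hd).2.2.1)
      have hEK : KX X = E := by
        refine eq_of_le_of_card_ge hKE (Nat.le_of_dvd Nat.card_pos ?_)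
        have h1 := Coprime.card_mul_relIndex_of_le hKE
        have h2 : (KX X).relIndex E = 1 := by
          by_contra hc'
          obtain ⟨q, hq, hqd⟩ := Nat.exists_prime_and_dvd hc'
          have hqE : q ∣ Nat.card E := hqd.trans (Dvd.intro_left _ h1)
          have hqκ := hcon X (KX X) hXm q hq (hqE.trans (card_dvd_of_le hE.1))
            (compl_prime_not_sigma hG hXm.1 hE hq hqE)
          exact hXm.2.1.2.2 q hq hqκ (hqd.trans (Dvd.intro _ (relIndex_mul_relIndex _ E X hKE hE.1)))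
        rw [← h1, h2, mul_one]
      rw [hc, hEK, hs]
      exact (compl_card hE).symm
    have hgX : c * s * X.index = g := hcard ▸ X.card_mul_index
    have hwX : w = c * k := by rw [hw, ← hXm.2.2.2, kappa_W_card hG hXm.1 hXm.2.1]
    have h3 := hXm.three_mul_le hG
    rw [hTc X hX, hwX, ← hgX]
    have hs1 : s - 1 + 1 = s := Nat.succ_pred_eq_of_pos Nat.card_pos
    nlinarith [Nat.mul_le_mul_left (c * X.index) h3]
  have hsum := Finset.sum_le_sum hkey
  rw [Finset.sum_add_distrib, Finset.sum_const, smul_eq_mul, ← Finset.mul_sum,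
    ← Finset.mul_sum] at hsum
  have hk' : (∑ X ∈ S, Nat.card (kStar X (KX X))) = (∑ X ∈ S, (P X).card) + S.card := by
    rw [← Finset.sum_congr rfl (fun X _ => hPc X), Finset.sum_add_distrib, Finset.sum_const,
      smul_eq_mul, mul_one]
  have hgW : W.index * w = g := W.index_mul_card
  have h4 : g * Z.card ≤ w * Zc.card := by
    rw [← hgW]
    nlinarith [Nat.mul_le_mul_left w hZc']
  have h5 := Nat.mul_le_mul_left (3 * w) htot
  have h6 := Nat.mul_le_mul_left (3 * g) hWle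
  rw [hk'] at hsum
  nlinarith [Nat.mul_le_mul_left g hm]

end Cfsg.Agent.OddLocal
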