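import Cfsg.Agent.OddLocal.KappaTwo
import Cfsg.Agent.S1430

/-!
`N(K*) = C(K*)` and the complements through `K` of maximal subgroups outside the pair `M`, `M*`.
-/

set_option autoImplicit false
set_option linter.unusedSectionVars false
set_option linter.style.haveILetI false

namespace Cfsg.Agent.OddLocal

open Subgroup Cfsg
open scoped commutatorElement

universe u

variable {G : Type u} [Group G] [Finite G] {M L H E K U : Subgroup G}

variable (hG : IsMinSimpleOddOrder G) (hM : IsCoatom M)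
include hG hM

/-- The normaliser of `K*` centralises it. -/
theorem normalizer_kStar_le_centralizer (hK : IsPiHallOf (kappa M) K M) (hK1 : K ≠ ⊥) :
    normalizer (kStar M K : Set G) ≤ centralizer (kStar M K : Set G) := by
  have hs1 := IsMember.kStar_ne_bot hG (⟨hM, hK, hK1, rfl⟩ : IsMember (K ⊔ kStar M K) M K)
  obtain ⟨y, hy, hy1⟩ := exists_mem_ne_one _ hs1
  have hNM : normalizer (kStar M K : Set G) ≤ M := by
    intro n hn
    by_contra hnM
    have hn' : n⁻¹ ∉ M := fun h => hnM (inv_inv n ▸ M.inv_mem h)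
    refine hy1 ((eq_bot_iff_forall _).mp (kappa_fixed_inf_conj hG hM hK hK1 hn') y ⟨hy, ?_⟩)
    exact mem_map_conj_iff.mpr (by rw [inv_inv]; exact sigmaCore_le M ((mem_normalizer_iff.mp hn y).mp hy).1)
  intro n hn
  have hnM := hNM hn
  set C := M ⊓ centralizer (kStar M K : Set G) with hC
  have hKC : K ≤ C := le_inf hK.1 (le_normalizer_kStar M K)
  have hKnC : K.map (MulAut.conj n).toMonoidHom ≤ C := by
    rintro _ ⟨k, hk, rfl⟩
    refine ⟨M.mul_mem (M.mul_mem hnM (hK.1 hk)) (M.inv_mem hnM), mem_centralizer_iff.mpr fun s hs => ?_⟩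
    have h1 : n⁻¹ * s * n ∈ kStar M K := by
      simpa using (mem_normalizer_iff.mp ((normalizer (kStar M K : Set G)).inv_mem hn) s).mp hs
    have h2 := mem_centralizer_iff.mp (le_normalizer_kStar M K hk) _ h1
    show s * (n * k * n⁻¹) = n * k * n⁻¹ * s
    calc s * (n * k * n⁻¹) = n * (n⁻¹ * s * n * k) * n⁻¹ := by group
      _ = n * (k * (n⁻¹ * s * n)) * n⁻¹ := by rw [h2]
      _ = n * k * n⁻¹ * s := by group
  have hKi : IsPiHallOf (kappa M) K C := ⟨hKC, hK.2.1, fun s hs hsκ hd => hK.2.2 s hs hsκ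
    (hd.trans (Dvd.intro _ (relIndex_mul_relIndex K C M hKC inf_le_left)))⟩
  have hKni : IsPiHallOf (kappa M) (K.map (MulAut.conj n).toMonoidHom) C := by
    refine ⟨hKnC, fun s hs hd => hK.2.1 s hs (by rwa [card_map_conj] at hd), fun s hs hsκ hd => ?_⟩
    have h1 := Coprime.card_mul_relIndex_of_le hKnC
    rw [card_map_conj, ← Coprime.card_mul_relIndex_of_le hKC,
      Nat.mul_left_cancel_iff Nat.card_pos] at h1
    exact hKi.2.2 s hs hsκ (h1 ▸ hd)
  obtain ⟨c, hc, hcK⟩ := Coprime.exists_conj_isPiHallOf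
    (Coprime.isSolvable_of_le inf_le_left (isSolvable_coatom hG hM)) hKi hKni
  change K.map (MulAut.conj c).toMonoidHom = K.map (MulAut.conj n).toMonoidHom at hcK
  have hcn : (c⁻¹ * n) ∈ M ⊓ normalizer (K : Set G) :=
    ⟨M.mul_mem (M.inv_mem hc.1) hnM, mem_normalizer_of_map_conj (by
      rw [← map_conj_map_conj, ← hcK, map_conj_inv_cancel])⟩
  obtain ⟨p, hp, hpd⟩ := exists_prime_dvd_of_ne_bot hK1
  haveI := Fact.mk hp
  obtain ⟨⟨a, ha⟩, hao⟩ := exists_prime_orderOf_dvd_card' p hpd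
  rw [← orderOf_coe] at hao
  change orderOf a = p at hao
  obtain ⟨-, hN, -⟩ := (Cfsg.Agent.S1430.result hG M hM K hK hK1).2.2 (zpowers a)
    (zpowers_le.mpr ha) (by rw [Nat.card_zpowers, hao]; exact hp)
  rw [hN] at hcn
  haveI := kappa_W_comm hG hM hK hK1
  have hWC : K ⊔ kStar M K ≤ centralizer (kStar M K : Set G) := fun w hw =>
    mem_centralizer_iff.mpr fun s hs => setLike_mul_comm (mem_sup_right hs) hw
  have := (centralizer (kStar M K : Set G)).mul_mem hc.2 (hWC hcn)
  rwa [mul_inv_cancel_left] at this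

variable (h : IsSigmaDecomposition M K U) (hK1 : K ≠ ⊥) (hU1 : U ≠ ⊥) (hL : IsCoatom L)
  (hKst : K = kStar L (kStar M K)) (hKH : IsPiHallOf (kappa L) (kStar M K) L) (hH : IsCoatom H)
  (hKle : K ≤ H) (hncM : ∀ g : G, H ≠ M.map (MulAut.conj g).toMonoidHom)
  (hncL : ∀ g : G, H ≠ L.map (MulAut.conj g).toMonoidHom)
include h hK1 hU1 hL hKst hKH hH hKle hncM hncL

theorem outside_kappa_empty : ∀ s : ℕ, s ∉ kappa H := by
  intro s hs
  haveI := Fact.mk hs.1
  obtain ⟨KH, hKH'⟩ : ∃ KH : Subgroup G, IsPiHallOf (kappa H) KH H :=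
    ⟨_, (Coprime.exists_isPiHallOf (isSolvable_coatom hG hH) (kappa H)).choose_spec⟩
  have hKH1 : KH ≠ ⊥ := by
    intro e
    refine hKH'.2.2 s hs.1 hs ?_
    rw [e, relIndex_bot_left]
    exact hs.2.1
  have hm : IsMember (KH ⊔ kStar H KH) H KH := ⟨hH, hKH', hKH1, rfl⟩
  obtain ⟨z, hz⟩ : (memberRest (K ⊔ kStar M K)).Nonempty := by
    obtain ⟨a, ha, ha1⟩ := exists_mem_ne_one _ hK1
    obtain ⟨b, hb, hb1⟩ := exists_mem_ne_one _
      (IsMember.kStar_ne_bot hG (⟨hM, h.hall, hK1, rfl⟩ : IsMember (K ⊔ kStar M K) M K))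
    exact ⟨a * b, mul_mem_rest hG hM h.hall hK1 ha ha1 hb hb1⟩
  obtain ⟨c, z', hz', he⟩ := rest_conj_into hG hH hKH' hKH1 hM h.hall hK1 hz
  have hcard : Nat.card ↥(KH ⊔ kStar H KH) ∣ Nat.card ↥(K ⊔ kStar M K) := by
    rw [← centralizer_rest hG hM h.hall hK1 hz, ← centralizer_rest hG hH hKH' hKH1 hz',
      ← card_map_conj (centralizer ({z'} : Set G)) c]
    refine card_dvd_of_le ?_
    rintro _ ⟨w, hw, rfl⟩
    refine mem_centralizer_singleton_iff.mpr ?_
    have hw' := mem_centralizer_singleton_iff.mp hw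
    change c * w * c⁻¹ * z = z * (c * w * c⁻¹)
    rw [he]
    calc c * w * c⁻¹ * (c * z' * c⁻¹) = c * (w * z') * c⁻¹ := by group
      _ = _ := by rw [hw']; group
  obtain ⟨q, hq, hqd⟩ := exists_prime_dvd_of_ne_bot (hm.kStar_ne_bot hG)
  haveI := Fact.mk hq
  have hqH := piNum_sigmaCore H q hq (hqd.trans (card_dvd_of_le inf_le_left))
  have hqW := (hqd.trans (card_dvd_of_le le_sup_right)).trans hcard
  rw [kappa_W_card hG hM h.hall] at hqW
  rcases hq.dvd_mul.mp hqW with h1 | h1
  · have h2 : q ∈ sigma L := piNum_sigmaCore L q hq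
      (h1.trans (card_dvd_of_le (hKst.le.trans inf_le_left)))
    obtain ⟨g, hg⟩ := exists_conj_of_sigma_inter hG hL hH h2 hqH
    exact hncL g hg
  · have h2 : q ∈ sigma M := piNum_sigmaCore M q hq (h1.trans (card_dvd_of_le inf_le_left))
    obtain ⟨g, hg⟩ := exists_conj_of_sigma_inter hG hM hH h2 hqH
    exact hncM g hg

theorem outside_not_sigma {q : ℕ} (hq : q.Prime) (hd : q ∣ Nat.card K) : q ∉ sigma H := fun hc => by
  haveI := Fact.mk hq
  obtain ⟨g, hg⟩ := exists_conj_of_sigma_inter hG hL hH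
    (piNum_sigmaCore L q hq (hd.trans (card_dvd_of_le (hKst.le.trans inf_le_left)))) hc
  exact hncL g hg

omit hH hKle hncM hncL in
theorem outside_centralizer {y : G} (hy : y ∈ K) (hy1 : y ≠ 1) :
    centralizer ({y} : Set G) ≤ L ∧
      ∀ X : Subgroup G, IsCoatom X → centralizer ({y} : Set G) ≤ X → X = L := by
  haveI := Fact.mk (card_kappa_prime hG hM h hK1 hU1)
  have hs1 := IsMember.kStar_ne_bot hG (⟨hM, h.hall, hK1, rfl⟩ : IsMember (K ⊔ kStar M K) M K)
  refine (kappa_fixed_prime hG hL hKH hs1 (p := Nat.card K) (hKst.le hy) hy1 ?_).1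
  exact orderOf_dvd_iff_pow_eq_one.mp (Subgroup.orderOf_dvd_natCard K hy)

/-- `C_{H_σ}(K) = 1`. -/
theorem outside_fixed_eq_bot {y : G} (hy : y ∈ K) (hy1 : y ≠ 1) :
    sigmaCore H ⊓ centralizer ({y} : Set G) = ⊥ := by
  by_contra hne
  have hp := card_kappa_prime hG hM h hK1 hU1
  haveI := Fact.mk hp
  obtain ⟨E, hE, hKE⟩ := exists_compl_ge_of_not_sigma hG hH hKle
    (fun s hs hd => outside_not_sigma hG hM h hK1 hU1 hL hKst hKH hH hKle hncM hncL hs hd)
  have hyc : Nat.card (zpowers y) = Nat.card K := by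
    rw [Nat.card_zpowers]
    exact ((Nat.dvd_prime hp).mp (Subgroup.orderOf_dvd_natCard K hy)).resolve_left
      (mt orderOf_eq_one_iff.mp hy1)
  have hyE : zpowers y ≤ E := zpowers_le.mpr (hKE hy)
  have hfix : sigmaCore H ⊓ centralizer (zpowers y : Set G) ≠ ⊥ := by rwa [centralizer_zpowers]
  have hnoκ := outside_kappa_empty hG hM h hK1 hU1 hL hKst hKH hH hKle hncM hncL (Nat.card K)
  rcases tau_cases hG hH hE (hyc ▸ card_dvd_of_le hyE) with h1 | h2 | h3
  · exact hnoκ (kappa_of_fixed hG hH (Or.inl h1) hyc (zpowers_le.mpr (hKle hy)) hfix)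
  · obtain ⟨s, hs, hs1⟩ := exists_mem_ne_one _ hne
    have := (unique_of_tau2_elt hG hH (hKle hy) hy1 (fun r hr hd => ?_) ⟨hKle hy, s, hs.1, hs1,
      (mem_centralizer_singleton_iff.mp hs.2).symm⟩).2 L hL
      (outside_centralizer hG hM h hK1 hU1 hL hKst hKH hy hy1).1
    · exact hncL 1 (by rw [map_conj_eq_self_of_mem (one_mem _)]; exact this.symm)
    · rwa [(Nat.prime_dvd_prime_iff_eq hr hp).mp
        (hd.trans (Subgroup.orderOf_dvd_natCard K hy))]
  · exact hnoκ (kappa_of_fixed hG hH (Or.inr h3) hyc (zpowers_le.mpr (hKle hy)) hfix)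

/-- A fixed point free `y`-invariant subgroup of a complement centralises `H_σ`. -/
theorem outside_fpf_centralizes (hE : IsComplIn E (sigmaCore H) H) {y : G} (hy : y ∈ K) (hy1 : y ≠ 1)
    (hyE : y ∈ E) {X : Subgroup G} (hX : X ≤ E) (hXn : y ∈ normalizer (X : Set G))
    (hfree : X ⊓ centralizer ({y} : Set G) = ⊥) : X ≤ centralizer (sigmaCore H : Set G) := by
  have hp := card_kappa_prime hG hM h hK1 hU1
  set N := X ⊔ sigmaCore H with hN
  have hXH : X ≤ normalizer (sigmaCore H : Set G) :=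
    (hX.trans hE.1).trans (le_normalizer_sigmaCore H)
  have hfix0 := outside_fixed_eq_bot hG hM h hK1 hU1 hL hKst hKH hH hKle hncM hncL hy hy1
  have hnN : y ∈ normalizer (N : Set G) := mem_normalizer_of_map_conj (by
    rw [hN, Subgroup.map_sup, map_conj_eq_self_of_mem hXn,
      map_conj_eq_self_of_mem (le_normalizer_sigmaCore H (hKle hy))])
  have hfixN : N ⊓ centralizer ({y} : Set G) = ⊥ := by
    rw [eq_bot_iff]
    rintro z ⟨hz, hzy⟩
    obtain ⟨s, hs, x, hx, rfl⟩ := (Coprime.mem_sup_of_le_normalizer (N := sigmaCore H) (A := X)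
      hXH).mp (show z ∈ sigmaCore H ⊔ X by rwa [sup_comm])
    have h1 : x * (x⁻¹ * s * x) = s * x := by group
    have hs' : x⁻¹ * s * x ∈ sigmaCore H := by
      simpa using (mem_normalizer_iff.mp
        (hXH (X.inv_mem hx)) s).mp hs
    obtain ⟨hxy, hsy⟩ := commute_components hE (hX hx) hs' hyE
      (show Commute (x * (x⁻¹ * s * x)) y by
        rw [h1]; exact mem_centralizer_singleton_iff.mp hzy)
    have hx1 : x = 1 := mem_bot.mp (hfree ▸ ⟨hx, mem_centralizer_of_commute hxy⟩)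
    have hs1 : x⁻¹ * s * x = 1 := mem_bot.mp (hfix0 ▸ ⟨hs', mem_centralizer_of_commute hsy⟩)
    rw [← h1, hs1, hx1, mul_one]
    exact one_mem _
  have hnil : Group.IsNilpotent N := FixedPointFree.isNilpotent_of_fpf hp (c := y)
    (orderOf_dvd_iff_pow_eq_one.mp (Subgroup.orderOf_dvd_natCard K hy)) hnN
    (Coprime.isSolvable_of_le (sup_le (hX.trans hE.1) (sigmaCore_le H)) (isSolvable_coatom hG hH))
    hfixN
  intro x hx
  refine mem_centralizer_iff.mpr fun s hs => (commute_of_mem hnil (mem_sup_right hs)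
    (mem_sup_left hx) ?_).eq
  refine ((compl_coprime hG hH hE).symm.coprime_dvd_left
    (Subgroup.orderOf_dvd_natCard _ hs)).coprime_dvd_right
    (Subgroup.orderOf_dvd_natCard _ (hX hx))

/-- A `τ₂(H)`-plane through `K` is impossible unless `E` centralises `K`. -/
theorem outside_compl_of_tau2 (hE : IsComplIn E (sigmaCore H) H) (hKE : K ≤ E)
    (h2 : Nat.card K ∈ tau2 H) : E ≤ centralizer (K : Set G) := by
  have hp := card_kappa_prime hG hM h hK1 hU1
  haveI := Fact.mk hp
  set q := Nat.card K with hqdef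
  have hs1 := IsMember.kStar_ne_bot hG (⟨hM, h.hall, hK1, rfl⟩ : IsMember (K ⊔ kStar M K) M K)
  have hqL : q ∈ sigma L := piNum_sigmaCore L q hp
    ((dvd_of_eq hqdef).trans (card_dvd_of_le (hKst.le.trans inf_le_left)))
  obtain ⟨y, hy, hy1, hyq, hyK⟩ := exists_generator_of_card (P := K) (p := q) rfl
  obtain ⟨hCy, -⟩ := outside_centralizer hG hM h hK1 hU1 hL hKst hKH hy hy1
  have hNK : normalizer (K : Set G) ≤ centralizer (K : Set G) := by
    have := normalizer_kStar_le_centralizer hG hL hKH hs1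
    rwa [← hKst] at this
  obtain ⟨B, hBE, hB⟩ := exists_plane_in_compl hG hH hE h2
  have hEn := (hB.isExceptional hG hH).le_normalizer_of_compl hG hH hE hBE
  have hKB : K ≤ B := by
    rw [← hyK, zpowers_le]
    exact hB.mem_of_mem_compl hG hH hE hBE (hKE hy) hyq
  have hBL : B ≤ L := fun b hb => hCy (mem_centralizer_singleton_iff.mpr
    (Coprime.ea_comm hB.elem hb (hKB hy)))
  have hLH : L ≠ H := fun e => hncL 1 (by rw [map_conj_eq_self_of_mem (one_mem _), e])
  have hNB : normalizer (B : Set G) ≤ L := normalizer_le_of_not_isCyclic hG hL hqL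
    (Coprime.ea_isPGroup hB.elem) hBL (hB.isExceptional hG hH).not_isCyclic
  have hbot := hB.inf_other_eq_bot hG hH hL hLH hBL
  have hab : ∀ S : Sylow q G, ¬ IsMulCommutative (S : Subgroup G) := by
    intro S hS
    obtain ⟨T, hT⟩ := (Coprime.ea_isPGroup hB.elem).exists_le_sylow
    obtain ⟨g, hg⟩ := MulAction.exists_smul_eq G S T
    haveI : IsMulCommutative (T : Subgroup G) := by
      rw [← hg, Sylow.coe_subgroup_smul]
      exact Subgroup.map_isMulCommutative _ _
    have hTH : (T : Subgroup G) ≤ H :=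
      ((le_centralizer_of_isMulCommutative le_rfl hT inferInstance)).trans (hB.cent_le hG hH)
    have hTL : (T : Subgroup G) ≤ L := fun t ht => hCy (mem_centralizer_singleton_iff.mpr
      (setLike_mul_comm ht (hT (hKB hy))))
    have hTσ := sylow_le_sigmaCore hG hL hTL hqL
    obtain ⟨hu, -⟩ := kappa_fixed_sylow hG hL hKH hs1
      ((dvd_of_eq hqdef).trans (card_dvd_of_le hKst.le)) (T.subtype hTσ)
    rw [Sylow.coe_subtype, map_subgroupOf_eq_of_le hTσ] at hu
    exact hLH (hu.unique ⟨hL, hTL⟩ ⟨hH, hTH⟩)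
  obtain ⟨hA₀, hline⟩ := hB.nonabelian_structure hG hH hab
  obtain ⟨S, hBS, htr⟩ := hB.exists_transitive hG hH hab
  set A₀ := B ⊓ centralizer (sigmaCore H : Set G) with hA₀def
  obtain ⟨a, ha, ha1, -, haA⟩ := exists_generator_of_card (P := A₀) hA₀
  have hnot : ∀ n ∈ L, A₀.map (MulAut.conj n).toMonoidHom ≠ K := by
    intro n hn e
    refine sigmaCore_ne_bot hG hH (le_bot_iff.mp (hbot ▸ le_inf le_rfl fun s hs => ?_))
    have hsC : s ∈ centralizer (A₀ : Set G) :=
      le_centralizer_iff.mp (inf_le_right : A₀ ≤ centralizer (sigmaCore H : Set G)) hs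
    have h1 : n * s * n⁻¹ ∈ centralizer ({y} : Set G) := by
      refine mem_centralizer_singleton_iff.mpr ?_
      have hy' : n⁻¹ * y * n ∈ A₀ := by
        rw [← mem_map_conj_iff, e]; exact hy
      have h2 := mem_centralizer_iff.mp hsC _ hy'
      calc n * s * n⁻¹ * y = n * (s * (n⁻¹ * y * n)) * n⁻¹ := by group
        _ = n * (n⁻¹ * y * n * s) * n⁻¹ := by rw [h2]
        _ = y * (n * s * n⁻¹) := by group
    have h3 := L.mul_mem (L.mul_mem (L.inv_mem hn) (hCy h1)) hn
    rwa [show n⁻¹ * (n * s * n⁻¹) * n = s by group] at h3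
  have hnc : ¬ ∀ s ∈ (S : Subgroup G), Commute a s := fun hc => by
    refine sigmaCore_ne_bot hG hH (le_bot_iff.mp ?_)
    rw [← (hB.central_line hG hH hab ha.1 ha1 hc).1]
    exact le_inf le_rfl (by rw [haA]; exact le_centralizer_iff.mp inf_le_right)
  have hcentral : ∀ e ∈ E, ∀ s ∈ (S : Subgroup G), Commute (e * y * e⁻¹) s := by
    intro e he
    by_contra hc
    have heB : e * y * e⁻¹ ∈ B := (mem_normalizer_iff.mp (hEn he) y).mp (hKB hy)
    obtain ⟨k, hk, hka⟩ := htr a ha.1 _ heB hnc hc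
    rw [haA] at hka
    refine hnot (e⁻¹ * k) (L.mul_mem (L.inv_mem (hNB (hEn he))) (hNB hk.2)) ?_
    rw [← map_conj_map_conj, hka, MonoidHom.map_zpowers, ← hyK]
    congr 1
    show e⁻¹ * (e * y * e⁻¹) * e⁻¹⁻¹ = y
    group
  intro e he
  refine hNK (mem_normalizer_of_map_conj ?_)
  by_contra hne
  have heB : e * y * e⁻¹ ∈ B := (mem_normalizer_iff.mp (hEn he) y).mp (hKB hy)
  have heK : e * y * e⁻¹ ∉ K := by
    intro hc
    refine hne (eq_of_le_of_card_ge ?_ (by rw [card_map_conj]))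
    rw [← hyK, MonoidHom.map_zpowers, zpowers_le, hyK]
    exact hc
  have hBS' : B ≤ centralizer ((S : Subgroup G) : Set G) := by
    have hle : zpowers y ⊔ zpowers (e * y * e⁻¹) = B := by
      refine eq_of_le_of_card_ge (sup_le (zpowers_le.mpr (hKB hy)) (zpowers_le.mpr heB)) ?_
      rw [card_sup_zpowers_of_not_mem (hB.elem.2 _ heB) (mem_centralizer_iff.mpr fun z hz =>
        Coprime.ea_comm hB.elem ((zpowers_le.mpr (hKB hy)) hz) heB) (by rwa [hyK]), hyK,
        hB.card, pow_two]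
    rw [← hle]
    refine sup_le (zpowers_le.mpr ?_) (zpowers_le.mpr ?_)
    · refine mem_centralizer_iff.mpr fun s hs => ?_
      have := hcentral 1 E.one_mem s hs
      rw [one_mul, inv_one, mul_one] at this
      exact this.symm.eq
    · exact mem_centralizer_iff.mpr fun s hs => (hcentral e he s hs).symm.eq
  exact hB.sylow_not_le hG hH hab S ((le_centralizer_iff.mp hBS').trans (hB.cent_le hG hH))

/-- BG 14.11: a complement of `H_σ` through `K` centralises `K`. -/
theorem outside_compl_le (hE : IsComplIn E (sigmaCore H) H) (hKE : K ≤ E) :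
    E ≤ centralizer (K : Set G) := by
  have hp := card_kappa_prime hG hM h hK1 hU1
  haveI := Fact.mk hp
  set q := Nat.card K with hqdef
  have hs1 := IsMember.kStar_ne_bot hG (⟨hM, h.hall, hK1, rfl⟩ : IsMember (K ⊔ kStar M K) M K)
  have hqσ := outside_not_sigma hG hM h hK1 hU1 hL hKst hKH hH hKle hncM hncL hp (dvd_of_eq hqdef)
  have hEs : Group.IsSolvable E := Coprime.isSolvable_of_le hE.1 (isSolvable_coatom hG hH)
  rcases tau_cases hG hH hE (card_dvd_of_le hKE) with h1 | h2 | h3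
  rotate_left
  · exact outside_compl_of_tau2 hG hM h hK1 hU1 hL hKst hKH hH hKle hncM hncL hE hKE h2
  · have := normalizer_kStar_le_centralizer hG hL hKH hs1
    rw [← hKst] at this
    exact (tau3_line_normal hG hH hE h3 rfl hKE).trans this
  obtain ⟨y, hy, hy1, hyq, hyK⟩ := exists_generator_of_card (P := K) (p := q) rfl
  obtain ⟨hCy, -⟩ := outside_centralizer hG hM h hK1 hU1 hL hKst hKH hy hy1
  have hqL : q ∈ sigma L := piNum_sigmaCore L q hp
    ((dvd_of_eq hqdef).trans (card_dvd_of_le (hKst.le.trans inf_le_left)))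
  have hKcomm : IsMulCommutative K := by
    haveI := h.cyclic
    infer_instance
  obtain ⟨F, hF, hDF⟩ := exists_hall_ge (π := {s | s ≠ q}) hEs (commutator_le_self E)
    (fun s hs hd hsq => h1.2.2.2.1 ((dvd_card_commutator_iff hG hH hE h1.2.1).mpr (by rw [hsq] at hd; exact hd)))
  have hFn : E ≤ normalizer (F : Set G) := by
    intro x hx
    refine mem_normalizer_of_map_conj (eq_of_le_of_card_ge ?_ (by rw [card_map_conj]))
    rintro _ ⟨v, hv, rfl⟩
    have h2 := F.mul_mem (hDF (commutator_mem_commutator hx (hF.1 hv))) hv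
    rw [commutatorElement_def, inv_mul_cancel_right] at h2
    exact h2
  have hcop : (Nat.card K).Coprime (Nat.card F) := (hp.coprime_iff_not_dvd).mpr
    fun hd => hF.2.1 q hp hd rfl
  refine Coprime.le_of_forall_sylow_le fun s hs => ?_
  haveI := Fact.mk hs
  by_cases hsq : s = q
  · subst hsq
    obtain ⟨T, hT⟩ := exists_sylow_ge (isPGroup_of_card_prime (P := K) rfl) hKE
    exact ⟨T, le_centralizer_of_isMulCommutative le_rfl hT
      (comm_of_not_sigma hG hH hqσ (T.2.map E.subtype) ((map_subtype_le _).trans hE.1))⟩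
  obtain ⟨T, hT⟩ := Coprime.exists_invariant_sylow (hKE.trans hFn) hcop
    (Or.inr (Coprime.isSolvable_of_le hF.1 hEs)) s
  obtain ⟨T', hT'⟩ := exists_sylow_of_relIndex hF.1 (hF.2.2 s hs hsq) T
  refine ⟨T', hT' ▸ ?_⟩
  set S := (T : Subgroup F).map F.subtype with hSdef
  have hSE : S ≤ E := (map_subtype_le _).trans hF.1
  have hSp : IsPGroup s S := T.2.map _
  haveI : IsMulCommutative S := by
    by_cases hsd : s ∣ Nat.card S
    · exact comm_of_not_sigma hG hH
        (compl_prime_not_sigma hG hH hE hs (hsd.trans (card_dvd_of_le hSE))) hSp (hSE.trans hE.1)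
    · obtain ⟨j, hj⟩ := IsPGroup.iff_card.mp hSp
      rcases Nat.eq_zero_or_pos j with h0 | h0
      · rw [Subgroup.card_eq_one.mp (by rw [hj, h0, pow_zero] : Nat.card S = 1)]
        infer_instance
      · exact absurd (hj ▸ dvd_pow_self s h0.ne') hsd
  refine le_centralizer_iff.mp (Coprime.le_centralizer_of_fixes_prime_order hT
    (hcop.coprime_dvd_right (card_dvd_of_le (map_subtype_le _))) fun v hv hvp w hw => ?_)
  have hvo : orderOf v = s := by
    obtain ⟨j, hj⟩ := hSp.exists_orderOf_eq_pow ⟨v, hv⟩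
    rw [← orderOf_coe] at hj
    exact (Nat.prime_dvd_prime_iff_eq hvp hs).mp (hvp.dvd_of_dvd_pow (dvd_of_eq hj))
  suffices hvy : v * y = y * v by
    rw [← hyK] at hw
    obtain ⟨i, rfl⟩ := mem_zpowers_iff.mp hw
    exact (((show Commute y v from hvy.symm)).zpow_left i).eq
  by_contra hvy
  have hvE : v ∈ E := hSE hv
  have hv1 : v ≠ 1 := fun e => hvy (by rw [e, one_mul, mul_one])
  have hvc : Nat.card (zpowers v) = s := by rw [Nat.card_zpowers, hvo]
  have hsσ : s ∉ sigma H := compl_prime_not_sigma hG hH hE hs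
    (hvo ▸ Subgroup.orderOf_dvd_natCard E hvE)
  have hline : ∀ {z : G}, z ∈ E → orderOf z = s → y ∈ normalizer (zpowers z : Set G) →
      ¬ Commute z y → sigmaCore H ≤ centralizer (zpowers z : Set G) := by
    intro z hz hzo hzn hzy
    refine le_centralizer_iff.mp (outside_fpf_centralizes hG hM h hK1 hU1 hL hKst hKH hH hKle hncM
      hncL hE hy hy1 (hKE hy) (zpowers_le.mpr hz) hzn ?_)
    by_contra hne
    obtain ⟨r, hr, hrd⟩ := exists_prime_dvd_of_ne_bot hne
    have hle : zpowers z ⊓ centralizer ({y} : Set G) = zpowers z := by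
      refine eq_of_le_of_card_ge inf_le_left ?_
      rw [Nat.card_zpowers, hzo]
      have h4 : r ∣ s := hzo ▸ Nat.card_zpowers z ▸ hrd.trans (card_dvd_of_le inf_le_left)
      rw [(Nat.prime_dvd_prime_iff_eq hr hs).mp h4] at hrd
      exact Nat.le_of_dvd Nat.card_pos hrd
    exact hzy (mem_centralizer_singleton_iff.mp (hle.ge (mem_zpowers z)).2)
  have hcyc : s ∈ tau1 H ∪ tau3 H → False := by
    intro h13
    haveI : IsCyclic S := isCyclic_of_rankLE_one_odd hG.1 hSp (hSE.trans hE.1)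
      (h13.elim (·.2.2.2.2) (·.2.2.2))
    have hyn : y ∈ normalizer (zpowers v : Set G) :=
      normalizer_le_normalizer_of_isCyclic inferInstance (zpowers_le.mpr hv) (hT hy)
    refine outside_kappa_empty hG hM h hK1 hU1 hL hKst hKH hH hKle hncM hncL s
      (kappa_of_fixed hG hH h13 hvc (zpowers_le.mpr (hE.1 hvE)) fun e => ?_)
    exact sigmaCore_ne_bot hG hH (le_bot_iff.mp (e ▸ le_inf le_rfl (hline hvE hvo hyn hvy)))
  rcases tau_cases hG hH hE (hvo ▸ Subgroup.orderOf_dvd_natCard E hvE) with t1 | t2 | t3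
  · exact hcyc (Or.inl t1)
  rotate_left
  · exact hcyc (Or.inr t3)
  obtain ⟨B, hBE, hB⟩ := exists_plane_in_compl hG hH hE t2
  have hEn := (hB.isExceptional hG hH).le_normalizer_of_compl hG hH hE hBE
  have hvB := hB.mem_of_mem_compl hG hH hE hBE hvE (by rw [← hvo, pow_orderOf_eq_one])
  have hyB : y ∈ normalizer (B : Set G) := hEn (hKE hy)
  have hBc : ∀ b ∈ B, ∀ c ∈ B, b * c = c * b := fun b hb c hc => Coprime.ea_comm hB.elem hb hc
  obtain ⟨w, ⟨hwB, hwy⟩, hw1⟩ : ∃ w ∈ B ⊓ centralizer ({y} : Set G), w ≠ 1 := by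
    refine exists_mem_ne_one _ fun e => sigmaCore_ne_bot hG hH (le_bot_iff.mp ?_)
    rw [← hB.fixed_eq_bot hG hH]
    exact le_inf le_rfl (le_centralizer_iff.mp (outside_fpf_centralizes hG hM h hK1 hU1 hL hKst hKH
      hH hKle hncM hncL hE hy hy1 (hKE hy) hBE hyB e))
  -- the line moved by `y`
  have hyconj : ∀ b ∈ B, y * b * y⁻¹ ∈ B := fun b hb => (mem_normalizer_iff.mp hyB b).mp hb
  set z := y * v * y⁻¹ * v⁻¹ with hzdef
  have hzB : z ∈ B := B.mul_mem (hyconj v hvB) (B.inv_mem hvB)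
  have hz1 : z ≠ 1 := fun e => hvy (by
    rw [hzdef, mul_inv_eq_one, mul_inv_eq_iff_eq_mul] at e; exact e.symm)
  have hzo : orderOf z = s := orderOf_eq_prime (hB.elem.2 z hzB) hz1
  have hzy : ¬ Commute z y := by
    intro hc
    have hpow : ∀ i : ℕ, y ^ i * v * (y ^ i)⁻¹ = z ^ i * v := by
      intro i
      induction i with
      | zero => simp
      | succ i ih =>
        calc y ^ (i + 1) * v * (y ^ (i + 1))⁻¹ = y * (y ^ i * v * (y ^ i)⁻¹) * y⁻¹ := by
              rw [pow_succ']; group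
          _ = y * z ^ i * y⁻¹ * (y * v * y⁻¹) := by rw [ih]; group
          _ = z ^ i * (z * v) := by
              rw [← (hc.pow_left i).eq, mul_inv_cancel_right,
                show y * v * y⁻¹ = z * v by rw [hzdef, inv_mul_cancel_right]]
          _ = z ^ (i + 1) * v := by rw [pow_succ]; exact (mul_assoc _ _ _).symm
    have h4 := hpow q
    rw [hyq, one_mul, inv_one, mul_one, right_eq_mul] at h4
    have h5 := orderOf_dvd_of_pow_eq_one h4
    rw [hzo] at h5
    exact hsq ((Nat.prime_dvd_prime_iff_eq hs hp).mp h5)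
  -- the line of `z` is invariant under `y`
  have hzn : y ∈ normalizer (zpowers z : Set G) := by
    have hBzw : zpowers w ⊔ zpowers z = B := by
      refine eq_of_le_of_card_ge (sup_le (zpowers_le.mpr hwB) (zpowers_le.mpr hzB)) ?_
      have hzw : z ∉ zpowers w := fun hc => hzy (by
        obtain ⟨i, hi⟩ := mem_zpowers_iff.mp hc
        rw [← hi]
        exact (show Commute w y from mem_centralizer_singleton_iff.mp hwy).zpow_left i)
      rw [card_sup_zpowers_of_not_mem (hB.elem.2 _ hzB) (mem_centralizer_iff.mpr fun c hc =>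
        hBc _ ((zpowers_le.mpr hwB) hc) _ hzB) hzw, Nat.card_zpowers,
        orderOf_eq_prime (hB.elem.2 w hwB) hw1, hB.card, pow_two]
    have hv' : v ∈ zpowers w ⊔ zpowers z := hBzw.symm ▸ hvB
    obtain ⟨a, ha, b, hb, hab⟩ := (Coprime.mem_sup_of_le_normalizer (N := zpowers w)
      (A := zpowers z) ((zpowers_le.mpr (mem_centralizer_iff.mpr fun c hc =>
        hBc c ((zpowers_le.mpr hwB) hc) z hzB)).trans
        (centralizer_le_normalizer _))).mp hv'
    have hay : y * a * y⁻¹ = a := by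
      obtain ⟨i, rfl⟩ := mem_zpowers_iff.mp ha
      rw [← ((show Commute w y from mem_centralizer_singleton_iff.mp hwy).zpow_left i).eq,
        mul_inv_cancel_right]
    obtain ⟨j, rfl⟩ := mem_zpowers_iff.mp hb
    -- `y b y⁻¹ = z b` gives `y z y⁻¹ ∈ ⟨z⟩`
    have hbz : y * z ^ j * y⁻¹ = z * z ^ j := by
      have h4 : y * v * y⁻¹ = z * v := by rw [hzdef, inv_mul_cancel_right]
      have h5 : a * (y * z ^ j * y⁻¹) = a * (z * z ^ j) := by
        calc a * (y * z ^ j * y⁻¹) = y * a * y⁻¹ * (y * z ^ j * y⁻¹) := by rw [hay]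
          _ = y * v * y⁻¹ := by rw [← hab]; group
          _ = z * (a * z ^ j) := by rw [h4, ← hab]
          _ = _ := by rw [← mul_assoc, hBc z hzB a ((zpowers_le.mpr hwB) ha), mul_assoc]
      exact mul_left_cancel h5
    have hj : z ^ j ≠ 1 := fun e => hz1 (by rw [e, mul_one, mul_one, mul_inv_cancel] at hbz; exact hbz.symm)
    have hgen : zpowers (z ^ j) = zpowers z := eq_of_le_of_card_ge (zpowers_le.mpr hb) (by
      rw [Nat.card_zpowers, Nat.card_zpowers, hzo,
        orderOf_eq_prime (hB.elem.2 _ ((zpowers_le.mpr hzB) hb)) hj])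
    refine mem_normalizer_of_map_conj (eq_of_le_of_card_ge ?_ (by rw [card_map_conj]))
    conv_lhs => rw [← hgen]
    rw [MonoidHom.map_zpowers, zpowers_le]
    show y * z ^ j * y⁻¹ ∈ zpowers z
    rw [hbz]
    exact mul_mem (mem_zpowers z) hb
  have hzc := hline (hBE hzB) hzo hzn hzy
  have hwo : orderOf w = s := orderOf_eq_prime (hB.elem.2 w hwB) hw1
  by_cases hsL : s ∈ sigma L
  · -- `s ∈ σ(M*)`
    have hBL : B ≤ L := by
      obtain ⟨S₀, hS₀⟩ := exists_sylow_of_sigma hsL
      obtain ⟨T₀, hT₀⟩ := (Coprime.ea_isPGroup hB.elem).exists_le_sylow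
      obtain ⟨g, hg⟩ := MulAction.exists_smul_eq G S₀ T₀
      have hBg : B ≤ L.map (MulAut.conj g).toMonoidHom := by
        refine hT₀.trans ?_
        rw [← hg, Sylow.coe_subgroup_smul]
        exact map_mono hS₀
      have hNg : normalizer (B : Set G) ≤ L.map (MulAut.conj g).toMonoidHom :=
        normalizer_le_of_not_isCyclic hG (isCoatom_map_conj hL g)
          (by rw [sigma_map_conj]; exact hsL) (Coprime.ea_isPGroup hB.elem) hBg
          (hB.isExceptional hG hH).not_isCyclic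
      have hgL : g ∈ L := by
        by_contra hc
        exact hy1 ((eq_bot_iff_forall _).mp (kappa_fixed_inf_conj hG hL hKH hs1 hc) y
          ⟨hKst.le hy, hNg hyB⟩)
      rwa [map_conj_eq_self_of_mem (Subgroup.le_normalizer hgL)] at hBg
    have hsβ : s ∉ beta L := fun hb =>
      not_isIdealPrime_of_not_sigma hG hH hsσ t2.2.2.1 t2.2.2.2 hb.2
    have hyBc := le_centralizer_of_sigma hG hL (p := q) (q := s) hqL hsL hsβ hsq
      (A := K) (R := B) (isPGroup_of_card_prime rfl) (hKst.le.trans (inf_le_left.trans (sigmaCore_le L)))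
      (Coprime.ea_isPGroup hB.elem) hBL (hKE.trans hEn)
    exact hvy (mem_centralizer_iff.mp (hyBc hy) v hvB)
  have hyLσ : y ∈ sigmaCore L := (hKst.le hy).1
  rcases Cfsg.Agent.S1432.result hG L hL y hyLσ hy1 w ⟨hCy hwy, hwy⟩ hw1
      (fun r hr hd => by
        rw [hwo] at hd
        rwa [(Nat.prime_dvd_prime_iff_eq hr hs).mp hd]) with ⟨hκ, -⟩ | ⟨-, -, hCw, -⟩
  · have hsκ := hκ s hs (dvd_of_eq hwo.symm)
    have hsk : s ∣ Nat.card (kStar M K) := by
      have h4 := hsκ.2.1
      rw [← Coprime.card_mul_relIndex_of_le hKH.1] at h4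
      exact (hs.dvd_mul.mp h4).resolve_right (hKH.2.2 s hs hsκ)
    have hsM : s ∈ sigma M := piNum_sigmaCore M s hs (hsk.trans (card_dvd_of_le inf_le_left))
    obtain ⟨S₀, hS₀⟩ := exists_sylow_of_sigma hsM
    obtain ⟨T₀, hT₀⟩ := (Coprime.ea_isPGroup hB.elem).exists_le_sylow
    obtain ⟨g, hg⟩ := MulAction.exists_smul_eq G S₀ T₀
    have hBg : B ≤ M.map (MulAut.conj g).toMonoidHom := by
      refine hT₀.trans ?_
      rw [← hg, Sylow.coe_subgroup_smul]
      exact map_mono hS₀
    have hzσ : g⁻¹ * z * g ∈ sigmaCore M := by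
      have h4 := hBg hzB
      rw [mem_map_conj_iff] at h4
      refine le_sigmaCore_of_isPGroup hG hM (zpowers_le.mpr h4) (isPGroup_of_card_prime ?_) hsM
        (mem_zpowers _)
      rw [Nat.card_zpowers, show g⁻¹ * z * g = MulAut.conj g⁻¹ z by simp, MulEquiv.orderOf_eq, hzo]
    have hne : M.map (MulAut.conj g).toMonoidHom ≠ H := fun e => hncM g e.symm
    refine sigmaCore_ne_bot hG hH (le_bot_iff.mp
      (hB.inf_other_eq_bot hG hH (isCoatom_map_conj hM g) hne hBg ▸ le_inf le_rfl fun x hx => ?_))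
    rw [mem_map_conj_iff]
    refine centralizer_le_of_P2 hG hM h hK1 hU1 hzσ (fun e => hz1 ?_)
      (mem_centralizer_singleton_iff.mpr ?_)
    · calc z = g * (g⁻¹ * z * g) * g⁻¹ := by group
        _ = 1 := by rw [e]; group
    · have h4 : z * x = x * z := mem_centralizer_iff.mp (hzc hx) z (mem_zpowers z)
      calc g⁻¹ * x * g * (g⁻¹ * z * g) = g⁻¹ * (x * z) * g := by group
        _ = _ := by rw [← h4]; group
  · refine hsL ?_
    have hvL : v ∈ L := hCw (mem_centralizer_singleton_iff.mpr (hBc v hvB w hwB))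
    have hzL : z ∈ sigmaCore L := by
      have h4 := (mem_normalizer_iff.mp (le_normalizer_sigmaCore L hvL) y⁻¹).mp
        ((sigmaCore L).inv_mem hyLσ)
      have h5 := (sigmaCore L).mul_mem hyLσ h4
      rwa [← mul_assoc, ← mul_assoc] at h5
    exact prime_mem_sigma_of_mem hG hL hzL hs (dvd_of_eq hzo.symm)

end Cfsg.Agent.OddLocal
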