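import Cfsg.Agent.OddLocal.KappaFixed
import Cfsg.Agent.WielandtFixed.Main

/-!
BG 14.2 (g): for `M ∈ M_{P₂}` the group `K` has prime order.
-/

set_option autoImplicit false
set_option linter.unusedSectionVars false
set_option linter.style.haveILetI false

namespace Cfsg.Agent.OddLocal

open Subgroup Cfsg
open Cfsg.Agent.WielandtFixed (fixCard order_formula)

universe u

variable {G : Type u} [Group G] [Finite G] {M K U : Subgroup G}

theorem centralizer_sup_eq (A B : Subgroup G) :
    centralizer ((A ⊔ B : Subgroup G) : Set G) =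
      centralizer (A : Set G) ⊓ centralizer (B : Set G) := by
  refine le_antisymm (le_inf (centralizer_le (SetLike.coe_subset_coe.mpr le_sup_left))
    (centralizer_le (SetLike.coe_subset_coe.mpr le_sup_right))) fun x hx => ?_
  rw [mem_centralizer_iff]
  intro y hy
  have hle : A ⊔ B ≤ centralizer ({x} : Set G) :=
    sup_le (fun a ha => mem_centralizer_singleton_iff.mpr (mem_centralizer_iff.mp hx.1 a ha))
      fun b hb => mem_centralizer_singleton_iff.mpr (mem_centralizer_iff.mp hx.2 b hb)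
  exact mem_centralizer_singleton_iff.mp (hle hy)

variable (hG : IsMinSimpleOddOrder G) (hM : IsCoatom M)
include hG hM

/-- `U` does not centralise `M_σ`. -/
theorem not_sigmaCore_le_centralizer (h : IsSigmaDecomposition M K U) (hK1 : K ≠ ⊥) (hU1 : U ≠ ⊥) :
    ¬ sigmaCore M ≤ centralizer (U : Set G) := by
  intro hle
  obtain ⟨hE, hUp⟩ := sigmaDecomposition_compl hG hM h
  obtain ⟨-, hn, -⟩ := sigmaDecomposition_structure hG hM h hK1
  obtain ⟨r, hr, hrU⟩ := exists_prime_dvd_of_ne_bot hU1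
  haveI := Fact.mk hr
  have hrE : r ∣ Nat.card ↥(U ⊔ K) := hrU.trans (card_dvd_of_le le_sup_left)
  rcases tau_cases hG hM hE hrE with h1 | h2 | h3
  rotate_left
  · obtain ⟨A, hAE, hA⟩ := exists_plane_in_compl hG hM hE h2
    have hAU : A ≤ U := by
      refine mem_of_isPiHallOf_normal (π := {s | s ∉ kappa M}) (M := U ⊔ K)
        ⟨le_sup_left, fun s hs hd => (hUp s hs hd).1, fun s hs hsκ hd => ?_⟩ hn hAE
        (piNum_of_isPGroup (fun hc => ?_) (Coprime.ea_isPGroup hA.elem))
      · have h1 := Coprime.card_mul_relIndex_of_le (le_sup_left : U ≤ U ⊔ K)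
        have h2 : U.relIndex (U ⊔ K) ∣ Nat.card K := Nat.dvd_of_mul_dvd_mul_left Nat.card_pos
          (h1 ▸ card_sup_dvd_mul h.normal)
        exact hsκ (h.hall.2.1 s hs (hd.trans h2))
      · rcases kappa_tau13 hG hM hc with h' | h'
        · exact h2.2.2.2 h'.2.2.2.2
        · exact h2.2.2.2 h'.2.2.2
    exact sigmaCore_ne_bot hG hM (le_bot_iff.mp (hA.fixed_eq_bot hG hM ▸
      le_inf le_rfl (hle.trans (centralizer_le (SetLike.coe_subset_coe.mpr hAU)))))
  all_goals
    obtain ⟨⟨z, hz⟩, hzo⟩ := exists_prime_orderOf_dvd_card' r hrU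
    rw [← orderOf_coe] at hzo
    change orderOf z = r at hzo
    refine (hUp r hr hrU).1 (kappa_of_fixed hG hM (P := zpowers z) ?_
      (by rw [Nat.card_zpowers, hzo]) (zpowers_le.mpr (h.compl.1 hz)) fun e => ?_)
    · first | exact Or.inl h1 | exact Or.inr h3
    · exact sigmaCore_ne_bot hG hM (le_bot_iff.mp (e ▸ le_inf le_rfl
        (hle.trans (centralizer_le (SetLike.coe_subset_coe.mpr (zpowers_le.mpr hz))))))

/-- BG 14.2 (g): `|K|` is prime for `M ∈ M_{P₂}`. -/
theorem card_kappa_prime (h : IsSigmaDecomposition M K U) (hK1 : K ≠ ⊥) (hU1 : U ≠ ⊥) :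
    (Nat.card K).Prime := by
  obtain ⟨hE, hUp⟩ := sigmaDecomposition_compl hG hM h
  obtain ⟨-, -, hfree⟩ := sigmaDecomposition_structure hG hM h hK1
  obtain ⟨-, hfix, -, -⟩ := kappa_structure hG hM hE h.hall hK1 le_sup_right
  obtain ⟨p, hp, hpK⟩ := exists_prime_dvd_of_ne_bot hK1
  haveI := Fact.mk hp
  obtain ⟨⟨a, ha⟩, hao⟩ := exists_prime_orderOf_dvd_card' p hpK
  rw [← orderOf_coe] at hao
  change orderOf a = p at hao
  set H := sigmaCore M with hH
  set K₀ := zpowers a with hK₀
  have hK₀K : K₀ ≤ K := zpowers_le.mpr ha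
  have hK₀c : Nat.card K₀ = p := by rw [hK₀, Nat.card_zpowers, hao]
  have hUK : U ⊔ K ≤ M := hE.1
  have hsolv : Group.IsSolvable H :=
    Coprime.isSolvable_of_le (sigmaCore_le M) (isSolvable_coatom hG hM)
  have hcop : (Nat.card H).Coprime (Nat.card ↥(U ⊔ K)) := (compl_coprime hG hM hE).symm
  have hUKbot : U ⊓ K = ⊥ := Coprime.inf_eq_bot_of_coprime
    (Nat.coprime_of_dvd fun q hq h1 h2 => (hUp q hq h1).1 (h.hall.2.1 q hq h2))
  have key : ∀ E : Subgroup G, E ≤ K →
      fixCard H (U ⊔ E) ^ Nat.card E * Nat.card H = fixCard H E ^ Nat.card E * fixCard H U := by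
    intro E hEK
    refine order_formula (Nat.card H) G U E H rfl ?_
      (fun e he u hu => (mem_normalizer_iff.mp (h.normal (hEK he)) u).mp hu) ?_ ?_ hsolv
      (hcop.coprime_dvd_right (card_dvd_of_le (sup_le_sup_left hEK U)))
    · rw [eq_bot_iff, ← hUKbot]
      exact inf_le_inf_left _ hEK
    · intro e he he1 u hu hc
      exact mem_bot.mp (hfree e (hEK he) he1 ▸
        (⟨hu, mem_centralizer_singleton_iff.mpr hc.symm⟩ : u ∈ U ⊓ centralizer ({e} : Set G)))
    · intro x hx y hy
      exact (mem_normalizer_iff.mp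
        (le_normalizer_sigmaCore M (hUK (sup_le_sup_left hEK U hx))) y).mp hy
  have h1 := key K le_rfl
  have h2 := key K₀ hK₀K
  have ha1 : a ≠ 1 := fun e => hp.ne_one (by rw [← hao, e, orderOf_one])
  have hCK : H ⊓ centralizer (K₀ : Set G) = H ⊓ centralizer (K : Set G) := by
    rw [hK₀, centralizer_zpowers, hfix a ha ha1]
  have hCUK : H ⊓ centralizer ((U ⊔ K₀ : Subgroup G) : Set G) =
      H ⊓ centralizer ((U ⊔ K : Subgroup G) : Set G) := by
    rw [centralizer_sup_eq, centralizer_sup_eq, ← inf_assoc, inf_right_comm, hCK,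
      ← inf_right_comm, inf_assoc]
  simp only [fixCard] at h1 h2
  rw [hCUK, hCK, hK₀c] at h2
  have hle : H ⊓ centralizer ((U ⊔ K : Subgroup G) : Set G) ≤ H ⊓ centralizer (K : Set G) :=
    inf_le_inf_left _ (centralizer_le (SetLike.coe_subset_coe.mpr le_sup_right))
  obtain ⟨t, ht⟩ := card_dvd_of_le hle
  rw [ht, mul_pow, mul_assoc, Nat.mul_left_cancel_iff (pow_pos Nat.card_pos _)] at h1 h2
  by_cases ht1 : t = 1
  · exfalso
    refine not_sigmaCore_le_centralizer hG hM h hK1 hU1 ?_
    rw [ht1, one_pow, one_mul] at h1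
    exact (eq_of_le_of_card_ge inf_le_left h1.le).ge.trans inf_le_right
  · have ht2 : 1 < t := by
      refine lt_of_le_of_ne ?_ (Ne.symm ht1)
      refine Nat.pos_of_ne_zero fun e => ?_
      rw [e, mul_zero] at ht
      exact Nat.card_pos.ne' ht
    have h3 : t ^ Nat.card K = t ^ p := Nat.mul_right_cancel Nat.card_pos (h1.symm.trans h2)
    rwa [Nat.pow_right_injective ht2 h3]

end Cfsg.Agent.OddLocal
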