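import Cfsg.Agent.OddLocal.SkewLine
import Cfsg.Agent.FixedPointFree.Prime

/-!
BG 14.1, 14.2: the structure of a maximal subgroup with `κ(M) ≠ ∅`.
-/

set_option autoImplicit false
set_option linter.unusedSectionVars false
set_option linter.style.haveILetI false

namespace Cfsg.Agent.OddLocal

open Subgroup Cfsg
open scoped commutatorElement

universe u

variable {G : Type u} [Group G] [Finite G] {p : ℕ} [hp : Fact p.Prime] {M L E P K X : Subgroup G}

omit hp in
theorem inf_centralizer_ne_bot_conj {N : Subgroup G} {g : G}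
    (hN : g ∈ normalizer (N : Set G)) (h : N ⊓ centralizer (X : Set G) ≠ ⊥) :
    N ⊓ centralizer ((X.map (MulAut.conj g).toMonoidHom : Subgroup G) : Set G) ≠ ⊥ := by
  obtain ⟨x, ⟨hxN, hxC⟩, hx1⟩ := exists_mem_ne_one _ h
  refine fun e => hx1 (conj_eq_one_iff.mp ((eq_bot_iff_forall _).mp e (g * x * g⁻¹)
    ⟨(mem_normalizer_iff.mp hN x).mp hxN, ?_⟩))
  show g * x * g⁻¹ ∈ centralizer _
  rw [mem_centralizer_iff]
  rintro _ ⟨y, hy, rfl⟩
  change g * y * g⁻¹ * (g * x * g⁻¹) = g * x * g⁻¹ * (g * y * g⁻¹)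
  calc g * y * g⁻¹ * (g * x * g⁻¹) = g * (y * x) * g⁻¹ := by group
    _ = g * x * g⁻¹ * (g * y * g⁻¹) := by rw [mem_centralizer_iff.mp hxC y hy]; group

variable (hG : IsMinSimpleOddOrder G) (hM : IsCoatom M)
include hG hM

theorem kappa_tau13 (hκ : p ∈ kappa M) : p ∈ tau1 M ∪ tau3 M := by
  obtain ⟨T⟩ : Nonempty (Sylow p M) := inferInstance
  exact (tau_of_not_sigma hG hM hκ.2.2.1 hκ.2.1).resolve_right
    fun h2 => h2.2.2.2 (pRankLE_of_sylow T (pRankLE_one_of_isCyclic (hκ.2.2.2 T).1))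

/-- For `p ∈ κ(M)` every line of `M` at `p` has fixed points on `M_σ`. -/
theorem fixed_ne_bot_of_kappa (hκ : p ∈ kappa M) (hP : Nat.card P = p) (hPM : P ≤ M) :
    sigmaCore M ⊓ centralizer (P : Set G) ≠ ⊥ := by
  obtain ⟨T, hT⟩ := exists_sylow_ge (isPGroup_of_card_prime hP) hPM
  obtain ⟨hc, x, hxT, hx1, y, hy, hy1, hxy⟩ := hκ.2.2.2 T
  obtain ⟨z, hz, -, -, hzc⟩ := exists_zpowers_card (r := p)
    ((T.2.map M.subtype).to_le (zpowers_le.mpr (mem_map_of_mem M.subtype hxT)))
    (by rw [Ne, zpowers_eq_bot]; exact fun e => hx1 (Subtype.ext e))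
  have hc' : IsCyclic ↥((T : Subgroup M).map M.subtype) :=
    isCyclic_of_surjective _ (equivMapOfInjective _ M.subtype M.subtype_injective).surjective
  have hPz : zpowers z = P := eq_of_card_eq_of_isCyclic hc'
    ((zpowers_le.mpr hz).trans (zpowers_le.mpr (mem_map_of_mem M.subtype hxT))) hT (by rw [hzc, hP])
  refine fun e => hy1 ((eq_bot_iff_forall _).mp e y ⟨hy, ?_⟩)
  rw [← hPz, centralizer_zpowers]
  obtain ⟨i, rfl⟩ := mem_zpowers_iff.mp hz
  exact mem_centralizer_of_commute ((show Commute (x : G) y from hxy).zpow_left i).symm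

theorem kappa_of_fixed (h13 : p ∈ tau1 M ∪ tau3 M) (hP : Nat.card P = p) (hPM : P ≤ M)
    (hfix : sigmaCore M ⊓ centralizer (P : Set G) ≠ ⊥) : p ∈ kappa M := by
  refine ⟨hp.out, hP ▸ card_dvd_of_le hPM, h13.elim (·.2.1) (·.2.1), fun T => ⟨?_, ?_⟩⟩
  · have hc := isCyclic_of_rankLE_one_odd hG.1 (T.2.map M.subtype) (map_subtype_le _)
      (h13.elim (·.2.2.2.2) (·.2.2.2))
    exact isCyclic_of_surjective _
      (equivMapOfInjective (T : Subgroup M) M.subtype M.subtype_injective).symm.surjective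
  obtain ⟨T₀, hT₀⟩ := exists_sylow_ge (isPGroup_of_card_prime hP) hPM
  obtain ⟨m, hm⟩ := MulAction.exists_smul_eq M T₀ T
  have hle : P.map (MulAut.conj (m : G)).toMonoidHom ≤ (T : Subgroup M).map M.subtype := by
    rw [← hm, map_subtype_sylow_smul]
    exact map_mono hT₀
  obtain ⟨y, ⟨hyσ, hyC⟩, hy1⟩ := exists_mem_ne_one _
    (inf_centralizer_ne_bot_conj (le_normalizer_sigmaCore M m.2) hfix)
  obtain ⟨x, hx, hx1⟩ := exists_mem_ne_one (P.map (MulAut.conj (m : G)).toMonoidHom) (fun e =>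
    hp.out.ne_one (by rw [← hP, ← card_map_conj P (m : G), e, card_bot]))
  obtain ⟨x', hx', hxx'⟩ := hle hx
  refine ⟨x', hx', fun e => hx1 ?_, y, hyσ, hy1, ?_⟩
  · rw [← hxx', e]; rfl
  · have := mem_centralizer_iff.mp hyC x hx
    rwa [← hxx'] at this

omit hp in
/-- `N_M(X)` for a subgroup of a complement of `M_σ`. -/
theorem inf_normalizer_compl_le (hE : IsComplIn E (sigmaCore M) M) (hXE : X ≤ E) :
    M ⊓ normalizer (X : Set G) ≤
      (E ⊓ normalizer (X : Set G)) ⊔ (sigmaCore M ⊓ centralizer (X : Set G)) := by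
  rintro m ⟨hm, hmN⟩
  obtain ⟨a, ha, b, hb, rfl⟩ := hE.2.2.2 m hm
  have hbM : b ∈ M := sigmaCore_le M hb
  have hone : ∀ z, z ∈ E → z ∈ sigmaCore M → z = 1 := fun z h1 h2 =>
    mem_bot.mp (hE.2.2.1 ▸ ⟨h1, h2⟩)
  have hcomm : ∀ x ∈ X, b * x * b⁻¹ = x := by
    intro x hx
    have hxM : x ∈ M := hE.1 (hXE hx)
    have hn : b * x * b⁻¹ * x⁻¹ ∈ sigmaCore M := by
      have h1 := (mem_normalizer_iff.mp (le_normalizer_sigmaCore M hxM) b⁻¹).mp (inv_mem hb)
      simpa [mul_assoc] using (sigmaCore M).mul_mem hb h1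
    have he : b * x * b⁻¹ * x⁻¹ ∈ E := by
      have h1 : a * b * x * (a * b)⁻¹ ∈ E := hXE ((mem_normalizer_iff.mp hmN x).mp hx)
      have h2 := E.mul_mem (E.mul_mem (E.mul_mem (inv_mem ha) h1) ha) (inv_mem (hXE hx))
      simpa [mul_assoc] using h2
    exact mul_inv_eq_one.mp (hone _ he hn)
  have hbC : b ∈ centralizer (X : Set G) := mem_centralizer_iff.mpr fun x hx =>
    (mul_inv_eq_iff_eq_mul.mp (hcomm x hx)).symm
  refine mul_mem (mem_sup_left ⟨ha, ?_⟩) (mem_sup_right ⟨hb, hbC⟩)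
  show a ∈ normalizer (X : Set G)
  have := (normalizer (X : Set G)).mul_mem hmN
    ((normalizer (X : Set G)).inv_mem (centralizer_le_normalizer _ hbC))
  rwa [mul_inv_cancel_right] at this

omit hM in
/-- Every line of `E` centralises `M_σ ∩ L` in the configuration of a `τ₃(M)`-line. -/
theorem Tau3Fixed.line_fixes (h : Tau3Fixed p M L E P) {s : ℕ} [hs : Fact s.Prime]
    {W : Subgroup G} (hW : Nat.card W = s) (hWE : W ≤ E) :
    sigmaCore M ⊓ L ≤ centralizer (W : Set G) := by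
  have hM := h.coatom
  have hL := h.coatom'
  have hWM := hWE.trans h.compl.1
  have hWL := hWE.trans (h.compl_le hG)
  have hsσ : s ∉ sigma M :=
    compl_prime_not_sigma hG hM h.compl hs.out (hW ▸ card_dvd_of_le hWE)
  by_cases hs1 : s ∈ tau1 L
  swap
  · exact le_centralizer_iff.mp (le_centralizer_inf_sigmaCore hG hM hL (h.nonconj hG) hsσ hs1
      (isPGroup_of_card_prime hW) hWM hWL)
  set C := sigmaCore M ⊓ L with hC
  have hWC : W ≤ normalizer (C : Set G) := Coprime.le_normalizer_inf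
    (hWM.trans (le_normalizer_sigmaCore M)) (hWL.trans Subgroup.le_normalizer)
  have hcop : (Nat.card W).Coprime (Nat.card C) :=
    ((compl_coprime hG hM h.compl).coprime_dvd_left (card_dvd_of_le hWE)).coprime_dvd_right
      (card_dvd_of_le inf_le_left)
  refine Coprime.le_of_forall_sylow_le fun q hq => ?_
  haveI := Fact.mk hq
  obtain ⟨T, hT⟩ := Coprime.exists_invariant_sylow hWC hcop
    (Or.inr (Coprime.isSolvable_of_le inf_le_right (isSolvable_coatom hG hL))) q
  refine ⟨T, ?_⟩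
  set S := (T : Subgroup C).map C.subtype with hS
  have hSC : S ≤ C := map_subtype_le _
  by_cases hqd : q ∣ Nat.card C
  swap
  · have h1 : (T : Subgroup C) = ⊥ := by
      rw [← card_eq_one, T.card_eq_multiplicity, Nat.factorization_eq_zero_of_not_dvd hqd, pow_zero]
    rw [hS, h1, Subgroup.map_bot]
    exact bot_le
  obtain ⟨-, hqL, hq1 | hq3⟩ := h.tau_of_dvd hG hqd
  · have h1 : ⁅S, W⁆ = ⊥ := by
      rw [eq_bot_iff]
      intro x hx
      obtain ⟨j, hj⟩ := (T.2.map C.subtype).exists_orderOf_eq_pow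
        ⟨x, Coprime.commutator_le_of_le_normalizer hT hx⟩
      rw [← orderOf_coe] at hj
      rw [mem_bot, ← orderOf_eq_one_iff]
      rcases Nat.eq_zero_or_pos j with h0 | h0
      · rw [hj, h0, pow_zero]
      · exact absurd (((dvd_pow_self q h0.ne').trans hj.symm.dvd).trans
          (Subgroup.orderOf_dvd_natCard _ (commutator_mono (hSC.trans inf_le_right) hWL hx)))
          hq1.2.2.2.1
    exact commutator_eq_bot_iff_le_centralizer.mp h1
  · have hScyc := isCyclic_of_rankLE_one_odd hG.1 (T.2.map C.subtype) (hSC.trans inf_le_right)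
      hq3.2.2.2
    haveI := hScyc
    haveI : IsMulCommutative S := inferInstance
    have hcopS : (Nat.card W).Coprime (Nat.card S) :=
      hcop.coprime_dvd_right (card_dvd_of_le hSC)
    obtain ⟨E', hE', hle⟩ := exists_compl_ge_of_not_sigma hG hL
      (sup_le (hSC.trans inf_le_right) hWL) (fun l hl hd => by
        rcases hl.dvd_mul.mp (hd.trans (card_sup_dvd_mul hT)) with h1 | h1
        · obtain ⟨j, hj⟩ := IsPGroup.iff_card.mp (T.2.map C.subtype)
          rw [(Nat.prime_dvd_prime_iff_eq hl hq).mp (hl.dvd_of_dvd_pow (hj ▸ h1))]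
          exact hqL
        · rw [hW] at h1
          rw [(Nat.prime_dvd_prime_iff_eq hl hs.out).mp h1]
          exact hs1.2.1)
    refine le_centralizer_iff.mp (Coprime.le_centralizer_of_fixes_prime_order hT hcopS ?_)
    intro v hv hvp w hw
    have hvo : orderOf v = q := by
      obtain ⟨j, hj⟩ := (T.2.map C.subtype).exists_orderOf_eq_pow ⟨v, hv⟩
      rw [← orderOf_coe] at hj
      exact (Nat.prime_dvd_prime_iff_eq hvp hq).mp (hvp.dvd_of_dvd_pow (dvd_of_eq hj))
    have hfix : sigmaCore L ⊓ centralizer (zpowers v : Set G) ≠ ⊥ := fun e => ne_bot_of_card h.cardP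
      (le_bot_iff.mp (e ▸ le_inf (h.le_sigmaCore' hG) (le_centralizer_iff.mp
        ((zpowers_le.mpr (hSC hv)).trans (h.inf_le_centralizer hG)))))
    have h2 := tau1_centralizes_tau3_line hG hL hE' hq3 (P := zpowers v)
      (by rw [Nat.card_zpowers, hvo]) ((zpowers_le.mpr (mem_sup_left hv)).trans hle) hfix hs1 hW
      (le_sup_right.trans hle)
    exact (mem_centralizer_iff.mp (h2 hw) v (mem_zpowers v)).symm

/-- BG 14.2, the case of a `τ₃(M)`-line with fixed points. -/
theorem all_fix_of_tau3 (hE : IsComplIn E (sigmaCore M) M) (hp3 : p ∈ tau3 M)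
    (hP : Nat.card P = p) (hPE : P ≤ E) (hfix : sigmaCore M ⊓ centralizer (P : Set G) ≠ ⊥) :
    (∀ s, s ∉ tau2 M) ∧
      (∀ e ∈ E, e ≠ 1 → sigmaCore M ⊓ centralizer ({e} : Set G) =
        sigmaCore M ⊓ centralizer (P : Set G)) ∧
      sigmaCore M ⊓ centralizer (E : Set G) = sigmaCore M ⊓ centralizer (P : Set G) := by
  obtain ⟨L, hL, hNL⟩ := exists_coatom_ge_normalizer hG hM (hPE.trans hE.1) (ne_bot_of_card hP)
  have h : Tau3Fixed p M L E P := ⟨hM, hL, hE, hp3, hP, hPE, hfix, hNL⟩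
  have hEs : Group.IsSolvable E := Coprime.isSolvable_of_le hE.1 (isSolvable_coatom hG hM)
  set C := sigmaCore M ⊓ centralizer (P : Set G) with hCdef
  have hCL : C ≤ sigmaCore M ⊓ L := h.centralizer_le_inf hG
  have hnL : L ≠ M := fun e => h.nonconj hG 1 (by rw [map_conj_eq_self_of_mem (one_mem _), e])
  have htau2 : ∀ s, s ∉ tau2 M := by
    intro s h2
    haveI := Fact.mk h2.1
    obtain ⟨A, hAE, hA⟩ := exists_plane_in_compl hG hM hE h2
    refine hfix (le_bot_iff.mp ?_)
    rw [← hA.inf_other_eq_bot hG hM hL hnL (hAE.trans (h.compl_le hG))]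
    exact hCL
  refine ⟨htau2, ?_⟩
  -- every line has the same fixed points
  have hline : ∀ {s : ℕ} [Fact s.Prime] {W : Subgroup G}, Nat.card W = s → W ≤ E →
      sigmaCore M ⊓ centralizer (W : Set G) = C := by
    intro s _ W hW hWE
    have hle : C ≤ sigmaCore M ⊓ centralizer (W : Set G) :=
      le_inf inf_le_left (hCL.trans (h.line_fixes hG hW hWE))
    refine le_antisymm (le_inf inf_le_left ?_) hle
    have hfW : sigmaCore M ⊓ centralizer (W : Set G) ≠ ⊥ := fun e => hfix (le_bot_iff.mp (e ▸ hle))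
    have hsd : s ∣ Nat.card E := hW ▸ card_dvd_of_le hWE
    rcases tau_cases hG hM hE hsd with h1 | h2 | h3
    · have hc := tau1_centralizes_tau3_line hG hM hE hp3 hP hPE hfix h1 hW hWE
      exact (Cfsg.Agent.S1428.result hG M hM E hE s h1 W hWE hW P
        (le_inf hPE (le_centralizer_iff.mp hc)) (hP ▸ hp.out)).trans inf_le_right
    · exact absurd h2 (htau2 s)
    · obtain ⟨L', hL', hNL'⟩ := exists_coatom_ge_normalizer hG hM (hWE.trans hE.1) (ne_bot_of_card hW)
      have h' : Tau3Fixed s M L' E W := ⟨hM, hL', hE, h3, hW, hWE, hfW, hNL'⟩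
      exact (h'.centralizer_le_inf hG).trans (h'.line_fixes hG hP hPE)
  have hsyl : ∀ {s : ℕ} [Fact s.Prime] (T : Sylow s E), (T : Subgroup E) ≠ ⊥ →
      sigmaCore M ⊓ centralizer (((T : Subgroup E).map E.subtype : Subgroup G) : Set G) = C := by
    intro s _ T hT1
    obtain ⟨z, hz, -, hz1, hzc⟩ := exists_zpowers_card (r := s) (T.2.map E.subtype)
      (fun e => hT1 ((map_eq_bot_iff_of_injective _ E.subtype_injective).mp e))
    have hsd : s ∣ Nat.card E :=
      hzc ▸ card_dvd_of_le (zpowers_le.mpr (map_subtype_le _ hz))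
    have hr : PRankLE s 1 M := by
      rcases tau_cases hG hM hE hsd with h1 | h2 | h3
      · exact h1.2.2.2.2
      · exact absurd h2 (htau2 s)
      · exact h3.2.2.2
    rw [← Cfsg.Agent.S1427.result hG M hM E hE s T hT1 (compl_isCyclic_sylow hG hM hE hr T) z hz hz1,
      ← centralizer_zpowers]
    exact hline hzc (zpowers_le.mpr (map_subtype_le _ hz))
  have hall : C ≤ centralizer (E : Set G) := by
    refine le_centralizer_iff.mp (Coprime.le_of_forall_sylow_le fun s hs => ?_)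
    haveI := Fact.mk hs
    obtain ⟨T⟩ : Nonempty (Sylow s E) := inferInstance
    refine ⟨T, ?_⟩
    by_cases hT1 : (T : Subgroup E) = ⊥
    · rw [hT1, Subgroup.map_bot]; exact bot_le
    · exact le_centralizer_iff.mp ((hsyl T hT1).ge.trans inf_le_right)
  refine ⟨fun e he he1 => le_antisymm ?_ ?_, le_antisymm ?_ (le_inf inf_le_left hall)⟩
  · obtain ⟨s, hs, hsd⟩ := Nat.exists_prime_and_dvd (mt orderOf_eq_one_iff.mp he1)
    haveI := Fact.mk hs
    set e' := e ^ (orderOf e / s) with he'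
    have ho : orderOf e' = s := orderOf_pow_orderOf_div (orderOf_pos e).ne' hsd
    refine le_trans ?_ (hline (s := s) (W := zpowers e') (by rw [Nat.card_zpowers, ho])
      (zpowers_le.mpr (pow_mem he _))).le
    rw [centralizer_zpowers]
    refine inf_le_inf_left _ fun x hx => mem_centralizer_of_commute ?_
    exact (show Commute x e from mem_centralizer_singleton_iff.mp hx).pow_right _
  · exact le_inf inf_le_left (hall.trans (centralizer_le (Set.singleton_subset_iff.mpr he)))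
  · exact inf_le_inf_left _ (centralizer_le (SetLike.coe_subset_coe.mpr hPE))

/-- In the `τ₃` case every line of `E` is central in `E`. -/
theorem compl_centralizes_line (hE : IsComplIn E (sigmaCore M) M) (hp3 : p ∈ tau3 M)
    (hP : Nat.card P = p) (hPE : P ≤ E) (hfix : sigmaCore M ⊓ centralizer (P : Set G) ≠ ⊥)
    {s : ℕ} [Fact s.Prime] {W : Subgroup G} (hW : Nat.card W = s) (hWE : W ≤ E) :
    E ≤ normalizer (W : Set G) := by
  obtain ⟨htau2, hfixed, hCE⟩ := all_fix_of_tau3 hG hM hE hp3 hP hPE hfix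
  have hEs : Group.IsSolvable E := Coprime.isSolvable_of_le hE.1 (isSolvable_coatom hG hM)
  have hne : ∀ {t : ℕ} [Fact t.Prime] {V : Subgroup G}, Nat.card V = t → V ≤ E →
      sigmaCore M ⊓ centralizer (V : Set G) ≠ ⊥ := fun hV hVE e => hfix (le_bot_iff.mp
    (e ▸ hCE ▸ inf_le_inf_left _ (centralizer_le (SetLike.coe_subset_coe.mpr hVE))))
  rcases tau_cases hG hM hE (hW ▸ card_dvd_of_le hWE) with h1 | h2 | h3
  · refine le_trans ?_ (centralizer_le_normalizer _)
    obtain ⟨E₁, hE₁, hWE₁⟩ := exists_hall_ge (π := tau1 M) hEs hWE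
      (piNum_of_card_prime hW Fact.out h1)
    haveI := tau1_hall_cyclic hG hM hE hE₁
    refine Coprime.le_of_forall_sylow_le fun t ht => ?_
    haveI := Fact.mk ht
    by_cases htE : t ∣ Nat.card E
    swap
    · obtain ⟨T⟩ : Nonempty (Sylow t E) := inferInstance
      refine ⟨T, ?_⟩
      have h1 : (T : Subgroup E) = ⊥ := by
        rw [← card_eq_one, T.card_eq_multiplicity, Nat.factorization_eq_zero_of_not_dvd htE, pow_zero]
      rw [h1, Subgroup.map_bot]
      exact bot_le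
    rcases tau_cases hG hM hE htE with t1 | t2 | t3
    · obtain ⟨T⟩ : Nonempty (Sylow t E₁) := inferInstance
      obtain ⟨T', hT'⟩ := exists_sylow_of_relIndex hE₁.1 (hE₁.2.2 t ht t1) T
      exact ⟨T', hT' ▸ le_centralizer_of_isMulCommutative (map_subtype_le _) hWE₁ inferInstance⟩
    · exact absurd t2 (htau2 t)
    · obtain ⟨E₃, hE₃, -⟩ := exists_hall_ge (π := tau3 M) hEs (bot_le : (⊥ : Subgroup G) ≤ E)
        (fun l hl hd => absurd (card_bot (G := G) ▸ hd) hl.not_dvd_one)
      have hE₃n := tau3_hall_normal hG hM hE hE₃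
      haveI := tau3_hall_cyclic hG hM hE hE₃
      obtain ⟨T⟩ : Nonempty (Sylow t E₃) := inferInstance
      obtain ⟨T', hT'⟩ := exists_sylow_of_relIndex hE₃.1 (hE₃.2.2 t ht t3) T
      refine ⟨T', hT' ▸ ?_⟩
      set S := (T : Subgroup E₃).map E₃.subtype with hS
      have hSE : S ≤ E := (map_subtype_le _).trans hE₃.1
      have hSn : E ≤ normalizer (S : Set G) :=
        hE₃n.trans (normalizer_le_normalizer_of_isCyclic inferInstance (map_subtype_le _))
      haveI : IsCyclic S := isCyclic_of_le inferInstance (map_subtype_le _)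
      have hcop : (Nat.card W).Coprime (Nat.card S) := by
        obtain ⟨j, hj⟩ := IsPGroup.iff_card.mp (T.2.map E₃.subtype)
        rw [hW, hj]
        exact ((Nat.coprime_primes Fact.out ht).mpr fun e => h1.2.2.2.1 (by rw [e]; exact t3.2.2.1)).pow_right j
      refine le_centralizer_iff.mp
        (Coprime.le_centralizer_of_fixes_prime_order (hWE.trans hSn) hcop ?_)
      intro v hv hvp w hw
      have hvo : orderOf v = t := by
        obtain ⟨j, hj⟩ := (T.2.map E₃.subtype).exists_orderOf_eq_pow ⟨v, hv⟩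
        rw [← orderOf_coe] at hj
        exact (Nat.prime_dvd_prime_iff_eq hvp ht).mp (hvp.dvd_of_dvd_pow (dvd_of_eq hj))
      have hv' : Nat.card (zpowers v) = t := by rw [Nat.card_zpowers, hvo]
      have hvE : zpowers v ≤ E := zpowers_le.mpr (hSE hv)
      exact (mem_centralizer_iff.mp
        (tau1_centralizes_tau3_line hG hM hE t3 hv' hvE (hne hv' hvE) h1 hW hWE hw) v
        (mem_zpowers v)).symm
  · exact absurd h2 (htau2 s)
  · exact tau3_line_normal hG hM hE h3 hW hWE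

omit hp in
/-- BG 14.2: the Hall `κ(M)`-subgroup and its complement inside a complement of `M_σ`. -/
theorem kappa_structure (hE : IsComplIn E (sigmaCore M) M) (hK : IsPiHallOf (kappa M) K M)
    (hK1 : K ≠ ⊥) (hKE : K ≤ E) :
    (sigmaCore M ⊓ centralizer (K : Set G) ≠ ⊥) ∧
      (∀ k ∈ K, k ≠ 1 → sigmaCore M ⊓ centralizer ({k} : Set G) =
        sigmaCore M ⊓ centralizer (K : Set G)) ∧
      (∃ U : Subgroup G, U ≤ E ∧ E ≤ normalizer (U : Set G) ∧ E ≤ U ⊔ K ∧ IsMulCommutative U ∧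
        IsPiHallOf {q | q.Prime ∧ q ∉ kappa M ∧ q ∉ sigma M} U M ∧
        ∀ k ∈ K, k ≠ 1 → U ⊓ centralizer ({k} : Set G) = ⊥) ∧
      ∀ {s : ℕ} [Fact s.Prime] {X : Subgroup G}, Nat.card X = s → X ≤ K →
        K ≤ normalizer (X : Set G) ∧ E ⊓ normalizer (X : Set G) ≤ K := by
  have hEs : Group.IsSolvable E := Coprime.isSolvable_of_le hE.1 (isSolvable_coatom hG hM)
  have hEH := compl_isPiHallOf hG hM hE
  have hKrel : ∀ s : ℕ, s.Prime → s ∈ kappa M → ¬ s ∣ K.relIndex E := fun s hs hsκ hd =>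
    hK.2.2 s hs hsκ (hd.trans (Dvd.intro _ (relIndex_mul_relIndex K E M hKE hE.1)))
  -- a prime `t ∈ κ(M)` of `K`
  obtain ⟨t, ht, htK⟩ := exists_prime_dvd_of_ne_bot hK1
  haveI := Fact.mk ht
  obtain ⟨⟨e₀, he₀⟩, he₀o⟩ := exists_prime_orderOf_dvd_card' t htK
  rw [← orderOf_coe] at he₀o
  change orderOf e₀ = t at he₀o
  have hW₀ : Nat.card (zpowers e₀) = t := by rw [Nat.card_zpowers, he₀o]
  have hW₀K : zpowers e₀ ≤ K := zpowers_le.mpr he₀
  have htκ := hK.2.1 t ht htK
  have hne₀ := fixed_ne_bot_of_kappa hG hM htκ hW₀ (hW₀K.trans hK.1)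
  by_cases hA : ∃ (s : ℕ) (_ : Fact s.Prime), s ∈ tau3 M ∧ s ∈ kappa M
  · obtain ⟨s, hs, hs3, hsκ⟩ := hA
    obtain ⟨⟨w, hwM⟩, hw⟩ := exists_prime_orderOf_dvd_card' s hsκ.2.1
    rw [← orderOf_coe] at hw
    change orderOf w = s at hw
    obtain ⟨m, hm, hle⟩ := exists_conj_le_of_relIndex (π := {l | l ∉ sigma M})
      (isSolvable_coatom hG hM) hE.1 hEH.2.2 (zpowers_le.mpr hwM)
      (piNum_of_card_prime (by rw [Nat.card_zpowers, hw]) Fact.out hs3.2.1)
    set W := (zpowers w).map (MulAut.conj m).toMonoidHom with hWdef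
    have hW : Nat.card W = s := by rw [hWdef, card_map_conj, Nat.card_zpowers, hw]
    have hfix := fixed_ne_bot_of_kappa hG hM hsκ hW (hle.trans hE.1)
    obtain ⟨htau2, hfixed, hCE⟩ := all_fix_of_tau3 hG hM hE hs3 hW hle hfix
    have hne : sigmaCore M ⊓ centralizer (E : Set G) ≠ ⊥ := hCE ▸ hfix
    have hκall : ∀ l : ℕ, l.Prime → l ∣ Nat.card E → l ∈ kappa M := by
      intro l hl hd
      haveI := Fact.mk hl
      obtain ⟨⟨z, hzE⟩, hz⟩ := exists_prime_orderOf_dvd_card' l hd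
      rw [← orderOf_coe] at hz
      change orderOf z = l at hz
      refine kappa_of_fixed hG hM (P := zpowers z) ?_ (by rw [Nat.card_zpowers, hz])
        (zpowers_le.mpr (hE.1 hzE)) fun e => hne (le_bot_iff.mp (e ▸ inf_le_inf_left _
          (centralizer_le (SetLike.coe_subset_coe.mpr (zpowers_le.mpr hzE)))))
      rcases tau_cases hG hM hE hd with h | h | h
      · exact Or.inl h
      · exact absurd h (htau2 l)
      · exact Or.inr h
    obtain rfl : K = E := by
      refine eq_of_le_of_card_ge hKE (Nat.le_of_dvd Nat.card_pos ?_)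
      have h1 := Coprime.card_mul_relIndex_of_le hKE
      have h2 : K.relIndex E = 1 := by
        by_contra hc
        obtain ⟨l, hl, hld⟩ := Nat.exists_prime_and_dvd hc
        exact hKrel l hl (hκall l hl (hld.trans (Dvd.intro_left _ h1))) hld
      rw [← h1, h2, mul_one]
    refine ⟨hne, fun k hk hk1 => (hfixed k hk hk1).trans hCE.symm,
      ⟨⊥, bot_le, ?_, le_sup_right, ?_, ⟨bot_le, ?_, ?_⟩, ?_⟩, ?_⟩
    · rw [normalizer_eq_top_iff.mpr inferInstance]; exact le_top
    · infer_instance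
    · intro l hl hd
      exact absurd (card_bot (G := G) ▸ hd) hl.not_dvd_one
    · intro l hl hlπ hd
      rw [relIndex_bot_left, ← compl_card hE] at hd
      rcases hl.dvd_mul.mp hd with h | h
      · exact hlπ.2.1 (hκall l hl h)
      · exact hlπ.2.2 (piNum_sigmaCore M l hl h)
    · intro k _ _
      exact bot_inf_eq _
    · intro l _ X hX hXE
      exact ⟨compl_centralizes_line hG hM hE hs3 hW hle hfix hX hXE, inf_le_left⟩
  push Not at hA
  have hκ1 : ∀ s : ℕ, s ∈ kappa M → s ∈ tau1 M := fun s hs => by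
    haveI := Fact.mk hs.1
    exact (kappa_tau13 hG hM hs).resolve_right fun h3 => hA s ⟨hs.1⟩ h3 hs
  obtain ⟨E₁, hE₁, hKE₁⟩ := exists_hall_ge (π := tau1 M) hEs hKE
    (fun s hs hd => hκ1 s (hK.2.1 s hs hd))
  haveI := tau1_hall_cyclic hG hM hE hE₁
  have hfixle : ∀ {s : ℕ} [Fact s.Prime] {W : Subgroup G}, Nat.card W = s → W ≤ K →
      ∀ {l : ℕ} [Fact l.Prime] {R : Subgroup G}, l ∈ tau1 M → IsPGroup l R → R ≤ E₁ →
      sigmaCore M ⊓ centralizer (W : Set G) ≤ centralizer (R : Set G) :=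
    fun {s} _ {W} hW hWK {l} _ {R} hl hR hRE₁ => fixed_le_of_tau1 hG hM hE
      (hκ1 s (hK.2.1 s Fact.out (hW ▸ card_dvd_of_le hWK))) (hWK.trans hKE) hW hl
      (hRE₁.trans hE₁.1) hR
      (le_centralizer_of_isMulCommutative hRE₁ (hWK.trans hKE₁) inferInstance)
  have hKC : ∀ {s : ℕ} [Fact s.Prime] {W : Subgroup G}, Nat.card W = s → W ≤ K →
      sigmaCore M ⊓ centralizer (W : Set G) = sigmaCore M ⊓ centralizer (K : Set G) := by
    intro s _ W hW hWK
    refine le_antisymm (le_inf inf_le_left (le_centralizer_iff.mp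
      (Coprime.le_of_forall_sylow_le fun l hl => ?_)))
      (inf_le_inf_left _ (centralizer_le (SetLike.coe_subset_coe.mpr hWK)))
    haveI := Fact.mk hl
    obtain ⟨T⟩ : Nonempty (Sylow l K) := inferInstance
    refine ⟨T, ?_⟩
    by_cases hlK : l ∣ Nat.card K
    · exact le_centralizer_iff.mp (hfixle hW hWK (hκ1 l (hK.2.1 l hl hlK)) (T.2.map K.subtype)
        ((map_subtype_le _).trans hKE₁))
    · have h1 : (T : Subgroup K) = ⊥ := by
        rw [← card_eq_one, T.card_eq_multiplicity, Nat.factorization_eq_zero_of_not_dvd hlK, pow_zero]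
      rw [h1, Subgroup.map_bot]
      exact bot_le
  have hτκ : ∀ s : ℕ, s ∈ tau1 M → s ∣ Nat.card M → s ∈ kappa M := by
    intro s hs hd
    haveI := Fact.mk hs.1
    have hd' : s ∣ Nat.card E₁ := by
      have h1 : s ∣ Nat.card E := (dvd_compl_iff hG hM hE).mpr ⟨hd, hs.2.1⟩
      rw [← Coprime.card_mul_relIndex_of_le hE₁.1] at h1
      exact (hs.1.dvd_mul.mp h1).resolve_right (hE₁.2.2 s hs.1 hs)
    obtain ⟨⟨z, hz⟩, hzo⟩ := exists_prime_orderOf_dvd_card' s hd'
    rw [← orderOf_coe] at hzo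
    change orderOf z = s at hzo
    have hzc : Nat.card (zpowers z) = s := by rw [Nat.card_zpowers, hzo]
    refine kappa_of_fixed hG hM (P := zpowers z) (Or.inl hs) hzc
      (zpowers_le.mpr (hE.1 (hE₁.1 hz))) fun e => hne₀ (le_bot_iff.mp (e ▸ le_inf inf_le_left
        (hfixle hW₀ hW₀K hs (isPGroup_of_card_prime hzc) (zpowers_le.mpr hz))))
  -- the complement
  have hder : PiNum {s | s ∉ tau1 M} ⁅E, E⁆ := fun s hs hd h1 => by
    haveI := Fact.mk hs
    exact h1.2.2.2.1 ((dvd_card_commutator_iff hG hM hE h1.2.1).mpr hd)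
  obtain ⟨U, hU, hDU⟩ := exists_hall_ge (π := {s | s ∉ tau1 M}) hEs (commutator_le_self E) hder
  have hUn : E ≤ normalizer (U : Set G) := by
    intro x hx
    refine mem_normalizer_of_map_conj (eq_of_le_of_card_ge ?_ (by rw [card_map_conj]))
    rintro _ ⟨y, hy, rfl⟩
    have h1 : ⁅x, y⁆ ∈ U := hDU (commutator_mem_commutator hx (hU.1 hy))
    have h2 := U.mul_mem h1 hy
    rw [commutatorElement_def, inv_mul_cancel_right] at h2
    exact h2
  have hfree : ∀ k ∈ K, k ≠ 1 → U ⊓ centralizer ({k} : Set G) = ⊥ := by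
    intro k hk hk1
    by_contra hne
    obtain ⟨s, hs, hsd⟩ := Nat.exists_prime_and_dvd (mt orderOf_eq_one_iff.mp hk1)
    haveI := Fact.mk hs
    set k' := k ^ (orderOf k / s) with hk'
    have hko : orderOf k' = s := orderOf_pow_orderOf_div (orderOf_pos k).ne' hsd
    have hQ : Nat.card (zpowers k') = s := by rw [Nat.card_zpowers, hko]
    have hQK : zpowers k' ≤ K := zpowers_le.mpr (pow_mem hk _)
    have hsκ := hK.2.1 s hs (hQ ▸ card_dvd_of_le hQK)
    obtain ⟨l, hl, hld⟩ := exists_prime_dvd_of_ne_bot hne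
    haveI := Fact.mk hl
    obtain ⟨⟨v, hvU, hvC⟩, hv⟩ := exists_prime_orderOf_dvd_card' l hld
    rw [← orderOf_coe] at hv
    change orderOf v = l at hv
    have hvQ : v ∈ centralizer (zpowers k' : Set G) := by
      rw [centralizer_zpowers]
      exact mem_centralizer_of_commute
        ((show Commute v k from mem_centralizer_singleton_iff.mp hvC).pow_right _)
    have hlU : l ∣ Nat.card U := hv ▸ Subgroup.orderOf_dvd_natCard U hvU
    have hfQ := fixed_ne_bot_of_kappa hG hM hsκ hQ (hQK.trans hK.1)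
    rcases tau_cases hG hM hE (hlU.trans (card_dvd_of_le hU.1)) with h1 | h2 | h3
    · exact hU.2.1 l hl hlU h1
    · obtain ⟨A, hAE, hA'⟩ := exists_plane_in_compl hG hM hE h2
      have hvA := hA'.mem_of_mem_compl hG hM hE hAE (hU.1 hvU)
        (by rw [← hv, pow_orderOf_eq_one])
      have h0 := plane_inf_centralizer_eq_bot hG hM h2 hA' (hκ1 s hsκ) hQ (hQK.trans hK.1)
        ((hQK.trans hKE).trans
          ((hA'.isExceptional hG hM).le_normalizer_of_compl hG hM hE hAE)) hfQ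
      have hv1 : v = 1 := mem_bot.mp (h0 ▸ (⟨hvA, hvQ⟩ : v ∈ A ⊓ centralizer (zpowers k' : Set G)))
      rw [hv1, orderOf_one] at hv
      exact hl.ne_one hv.symm
    · have hvl : Nat.card (zpowers v) = l := by rw [Nat.card_zpowers, hv]
      refine hA l ⟨hl⟩ h3 (kappa_of_fixed hG hM (Or.inr h3) hvl
        (zpowers_le.mpr (hE.1 (hU.1 hvU))) fun e => hfQ (le_bot_iff.mp (e ▸ ?_)))
      exact Cfsg.Agent.S1428.result hG M hM E hE s (hκ1 s hsκ) (zpowers k') (hQK.trans hKE) hQ
        (zpowers v) (zpowers_le.mpr ⟨hU.1 hvU, hvQ⟩) (hvl ▸ hl)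
  have hUc : IsMulCommutative U := by
    refine comm_of_nilpotent hG hM (hU.1.trans hE.1)
      (FixedPointFree.isNilpotent_of_fpf ht (c := e₀) (by rw [← he₀o, pow_orderOf_eq_one])
        (hUn (hKE he₀)) (Coprime.isSolvable_of_le hU.1 hEs) (hfree e₀ he₀ fun e => by
          rw [e, orderOf_one] at he₀o
          exact ht.ne_one he₀o.symm))
      fun s hs hd => compl_prime_not_sigma hG hM hE hs (hd.trans (card_dvd_of_le hU.1))
  have hUK : E ≤ U ⊔ K := by
    refine Coprime.le_of_forall_sylow_le fun s hs => ?_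
    haveI := Fact.mk hs
    by_cases h1 : s ∈ tau1 M ∧ s ∣ Nat.card M
    · obtain ⟨T⟩ : Nonempty (Sylow s K) := inferInstance
      obtain ⟨T', hT'⟩ := exists_sylow_of_relIndex hKE (hKrel s hs (hτκ s h1.1 h1.2)) T
      exact ⟨T', hT' ▸ (map_subtype_le _).trans le_sup_right⟩
    · obtain ⟨T⟩ : Nonempty (Sylow s U) := inferInstance
      obtain ⟨T', hT'⟩ := exists_sylow_of_relIndex hU.1 (fun hd => hU.2.2 s hs (fun hc => h1
        ⟨hc, (hd.trans (Dvd.intro_left _ (Coprime.card_mul_relIndex_of_le hU.1))).trans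
          (card_dvd_of_le hE.1)⟩) hd) T
      exact ⟨T', hT' ▸ (map_subtype_le _).trans le_sup_left⟩
  refine ⟨fun e => hne₀ ((hKC hW₀ hW₀K).trans e), fun k hk hk1 => le_antisymm ?_
    (inf_le_inf_left _ (centralizer_le (Set.singleton_subset_iff.mpr hk))),
    ⟨U, hU.1, hUn, hUK, hUc, ⟨hU.1.trans hE.1, fun s hs hd => ⟨hs, fun hc =>
      hU.2.1 s hs hd (hκ1 s hc), compl_prime_not_sigma hG hM hE hs (hd.trans (card_dvd_of_le hU.1))⟩,
      ?_⟩, hfree⟩, ?_⟩
  · obtain ⟨s, hs, hsd⟩ := Nat.exists_prime_and_dvd (mt orderOf_eq_one_iff.mp hk1)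
    haveI := Fact.mk hs
    set k' := k ^ (orderOf k / s) with hk'
    have hko : orderOf k' = s := orderOf_pow_orderOf_div (orderOf_pos k).ne' hsd
    refine le_trans ?_ (hKC (W := zpowers k') (by rw [Nat.card_zpowers, hko])
      (zpowers_le.mpr (pow_mem hk _))).le
    rw [centralizer_zpowers]
    exact inf_le_inf_left _ fun x hx => mem_centralizer_of_commute
      ((show Commute x k from mem_centralizer_singleton_iff.mp hx).pow_right _)
  · intro s hs hsπ hd
    rw [← relIndex_mul_relIndex U E M hU.1 hE.1] at hd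
    rcases hs.dvd_mul.mp hd with h | h
    · exact hU.2.2 s hs (fun hc => hsπ.2.1 (hτκ s hc ((h.trans (Dvd.intro_left _
        (Coprime.card_mul_relIndex_of_le hU.1))).trans (card_dvd_of_le hE.1)))) h
    · exact hEH.2.2 s hs hsπ.2.2 h
  · intro s _ X hX hXK
    haveI : IsMulCommutative K := isMulCommutative_of_le hKE₁ inferInstance
    have hKX : K ≤ normalizer (X : Set G) :=
      (le_centralizer_of_isMulCommutative le_rfl hXK inferInstance).trans
        (centralizer_le_normalizer _)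
    refine ⟨hKX, ?_⟩
    rintro x ⟨hxE, hxN⟩
    obtain ⟨v, hv, k, hk, rfl⟩ :=
      (Coprime.mem_sup_of_le_normalizer (hKE.trans hUn)).mp (hUK hxE)
    obtain ⟨x₀, hx₀, hx₀1, -, hx₀X⟩ := exists_generator_of_card hX
    have hvN : v ∈ normalizer (X : Set G) := by
      have := (normalizer (X : Set G)).mul_mem hxN ((normalizer (X : Set G)).inv_mem (hKX hk))
      rwa [mul_inv_cancel_right] at this
    have hd : v * x₀ * v⁻¹ * x₀⁻¹ ∈ U ⊓ K := by
      refine ⟨?_, hXK (X.mul_mem ((mem_normalizer_iff.mp hvN x₀).mp hx₀) (inv_mem hx₀))⟩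
      have h1 := (mem_normalizer_iff.mp (hUn (hKE (hXK hx₀))) v⁻¹).mp (inv_mem hv)
      simpa [mul_assoc] using U.mul_mem hv h1
    have hUKbot : U ⊓ K = ⊥ := Coprime.inf_eq_bot_of_coprime (Nat.coprime_of_dvd
      fun l hl h1 h2 => hU.2.1 l hl h1 (hκ1 l (hK.2.1 l hl h2)))
    rw [hUKbot, mem_bot, mul_inv_eq_one, mul_inv_eq_iff_eq_mul] at hd
    have hv1 : v = 1 := mem_bot.mp (hfree x₀ (hXK hx₀) hx₀1 ▸
      (⟨hv, mem_centralizer_singleton_iff.mpr hd⟩ : v ∈ U ⊓ centralizer ({x₀} : Set G)))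
    rw [hv1, one_mul]
    exact hk

end Cfsg.Agent.OddLocal
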