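import Cfsg.Agent.OddLocal.KappaPartner
import Cfsg.Agent.OddLocal.SigmaCoreAction

/-!
BG 14.7: `κ = τ₁`, the set `Ẑ` and its conjugates, and `K*` as a Hall `σ(M)`-subgroup of `M*`.
-/

set_option autoImplicit false
set_option linter.unusedSectionVars false
set_option linter.style.haveILetI false

namespace Cfsg.Agent.OddLocal

open Subgroup Cfsg
open scoped commutatorElement

universe u

variable {G : Type u} [Group G] [Finite G] {M L H K U W : Subgroup G}

/-- `⁅UK, UK⁆ ≤ U` for an abelian `K` normalising an abelian `U`. -/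
theorem commutator_sup_le {A B : Subgroup G} (hn : B ≤ normalizer (A : Set G))
    (hB : IsMulCommutative B) : ⁅A ⊔ B, A ⊔ B⁆ ≤ A := by
  rw [commutator_le]
  intro x hx y hy
  obtain ⟨u, hu, k, hk, rfl⟩ := (Coprime.mem_sup_of_le_normalizer hn).mp hx
  obtain ⟨v, hv, l, hl, rfl⟩ := (Coprime.mem_sup_of_le_normalizer hn).mp hy
  have hkl : k * l = l * k := setLike_mul_comm hk hl
  have e : ⁅u * k, v * l⁆ = u * (k * v * k⁻¹) * (l * u⁻¹ * l⁻¹) * v⁻¹ := by
    calc ⁅u * k, v * l⁆ = u * (k * v * k⁻¹) * (k * l * k⁻¹) * u⁻¹ * l⁻¹ * v⁻¹ := by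
          rw [commutatorElement_def]; group
      _ = u * (k * v * k⁻¹) * (l * u⁻¹ * l⁻¹) * v⁻¹ := by rw [hkl]; group
  rw [e]
  exact A.mul_mem (A.mul_mem (A.mul_mem hu ((mem_normalizer_iff.mp (hn hk) v).mp hv))
    ((mem_normalizer_iff.mp (hn hl) u⁻¹).mp (A.inv_mem hu))) (A.inv_mem hv)

/-- A fixed point free automorphism of a finite subgroup makes it consist of commutators. -/
theorem le_commutator_of_free {a : G} {A B : Subgroup G} (haB : a ∈ B)
    (ha : a ∈ normalizer (A : Set G)) (h : A ⊓ centralizer ({a} : Set G) = ⊥) : A ≤ ⁅A, B⁆ := by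
  let f : A → A := fun u => ⟨⁅(u : G), a⁆, by
    rw [commutatorElement_def, mul_assoc, mul_assoc, ← mul_assoc a]
    exact A.mul_mem u.2 ((mem_normalizer_iff.mp ha _).mp (A.inv_mem u.2))⟩
  have hinj : Function.Injective f := by
    intro u v huv
    have h1 : ⁅(u : G), a⁆ = ⁅(v : G), a⁆ := congrArg Subtype.val huv
    rw [commutatorElement_def, commutatorElement_def, mul_left_inj] at h1
    have h3 : (v : G)⁻¹ * u * a = a * ((v : G)⁻¹ * u) := by
      calc (v : G)⁻¹ * u * a = (v : G)⁻¹ * (u * a * (u : G)⁻¹) * u := by group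
        _ = (v : G)⁻¹ * (v * a * (v : G)⁻¹) * u := by rw [h1]
        _ = a * ((v : G)⁻¹ * u) := by group
    have h2 : (v : G)⁻¹ * u ∈ A ⊓ centralizer ({a} : Set G) :=
      ⟨A.mul_mem (A.inv_mem v.2) u.2, mem_centralizer_singleton_iff.mpr h3⟩
    rw [h, mem_bot, inv_mul_eq_one] at h2
    exact Subtype.ext h2.symm
  intro x hx
  obtain ⟨u, hu⟩ := (Finite.injective_iff_surjective.mp hinj) ⟨x, hx⟩
  rw [show x = ⁅(u : G), a⁆ from (congrArg Subtype.val hu).symm]
  exact commutator_mem_commutator u.2 haB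

variable (hG : IsMinSimpleOddOrder G) (hM : IsCoatom M)
include hG hM

/-- `κ(M) = τ₁(M)` when `κ(M) ≠ ∅`. -/
theorem kappa_eq_tau1 (h : IsSigmaDecomposition M K U) (hK1 : K ≠ ⊥) : kappa M = tau1 M := by
  obtain ⟨hE, hUp⟩ := sigmaDecomposition_compl hG hM h
  obtain ⟨-, hn, hfree⟩ := sigmaDecomposition_structure hG hM h hK1
  have hKU : K ≤ normalizer (U : Set G) := le_sup_right.trans hn
  haveI : IsMulCommutative K := by
    haveI := h.cyclic
    infer_instance
  ext p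
  constructor
  · intro hp
    haveI := Fact.mk hp.1
    refine (kappa_tau13 hG hM hp).resolve_right fun h3 => ?_
    have h1 := (dvd_card_commutator_iff hG hM hE hp.2.2.1).mp h3.2.2.1
    exact (hUp p hp.1 (h1.trans (card_dvd_of_le (commutator_sup_le hKU inferInstance)))).1 hp
  · intro hp
    haveI := Fact.mk hp.1
    by_contra hpκ
    have hpE : p ∣ Nat.card ↥(U ⊔ K) := (dvd_compl_iff hG hM hE).mpr ⟨hp.2.2.1, hp.2.1⟩
    rcases hp.1.dvd_mul.mp (hpE.trans (card_sup_dvd_mul hKU)) with h1 | h1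
    · obtain ⟨a, ha, ha1⟩ := exists_mem_ne_one _ hK1
      have hUle : U ≤ ⁅M, M⁆ := (le_commutator_of_free ha (hKU ha) (hfree a ha ha1)).trans
        (commutator_mono h.compl.1 h.hall.1)
      exact hp.2.2.2.1 (h1.trans (card_dvd_of_le hUle))
    · exact hpκ (h.hall.2.1 p hp.1 h1)

/-- `C_M(x) = K K*` for `1 ≠ x ∈ K`. -/
theorem kappa_inf_centralizer (hK : IsPiHallOf (kappa M) K M) (hK1 : K ≠ ⊥) {x : G} (hx : x ∈ K)
    (hx1 : x ≠ 1) : M ⊓ centralizer ({x} : Set G) = K ⊔ kStar M K := by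
  obtain ⟨E, hE, hKE⟩ := exists_compl_ge_of_not_sigma hG hM hK.1
    (fun s hs hd => (hK.2.1 s hs hd).2.2.1)
  obtain ⟨-, hfix, -, hX⟩ := kappa_structure hG hM hE hK hK1 hKE
  obtain ⟨p, hp, hpd⟩ := Nat.exists_prime_and_dvd (mt orderOf_eq_one_iff.mp hx1)
  haveI := Fact.mk hp
  set a := x ^ (orderOf x / p) with ha'
  have hao : orderOf a = p := orderOf_pow_orderOf_div (orderOf_pos x).ne' hpd
  have ha : a ∈ K := pow_mem hx _
  have ha1 : a ≠ 1 := fun e => hp.ne_one (by rw [← hao, e, orderOf_one])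
  obtain ⟨-, hEX⟩ := hX (show Nat.card (zpowers a) = p by rw [Nat.card_zpowers, hao])
    (zpowers_le.mpr ha)
  refine le_antisymm ?_ (sup_le (fun k hk => ⟨hK.1 hk, ?_⟩) fun y hy => ⟨sigmaCore_le M hy.1, ?_⟩)
  · intro c hc
    refine ((inf_normalizer_compl_le hG hM hE ((zpowers_le.mpr ha).trans hKE)).trans
      (sup_le_sup hEX ?_)) ⟨hc.1, centralizer_le_normalizer _ ?_⟩
    · rw [centralizer_zpowers, hfix a ha ha1]
    · rw [centralizer_zpowers]
      exact mem_centralizer_of_commute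
        ((show Commute c x from mem_centralizer_singleton_iff.mp hc.2).pow_right _)
  · haveI : IsMulCommutative K := by
      haveI := (kappa_pair hG hM hK hK1).1
      infer_instance
    exact mem_centralizer_singleton_iff.mpr (setLike_mul_comm hk hx)
  · exact centralizer_le (Set.singleton_subset_iff.mpr hx) hy.2

theorem kappa_W_comm (hK : IsPiHallOf (kappa M) K M) (hK1 : K ≠ ⊥) :
    IsMulCommutative ↥(K ⊔ kStar M K) := by
  haveI := kappa_W_cyclic hG hM hK hK1
  infer_instance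

/-- `Ẑ` is the set of elements of `K K*` outside every member's `K*`. -/
theorem memberRest_eq (hK : IsPiHallOf (kappa M) K M) (hK1 : K ≠ ⊥) :
    memberRest (K ⊔ kStar M K) =
      (↑(K ⊔ kStar M K) : Set G) \ ((K : Set G) ∪ ↑(kStar M K)) := by
  obtain ⟨-, -, -, L, hL, he, huniq⟩ := kappa_pair hG hM hK hK1
  ext z
  constructor
  · rintro ⟨hzW, hz⟩
    refine ⟨hzW, ?_⟩
    rintro (h | h)
    · exact hz L _ hL (he.symm ▸ h)
    · exact hz M K ⟨hM, hK, hK1, rfl⟩ h
  · rintro ⟨hzW, hz⟩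
    refine ⟨hzW, fun X K' hX hzX => hz ?_⟩
    rcases huniq X K' hX with ⟨rfl, rfl⟩ | ⟨rfl, rfl⟩
    · exact Or.inr hzX
    · exact Or.inl (he ▸ hzX)

/-- BG 14.7 (d): `C(z) = K K*` for `z ∈ Ẑ`. -/
theorem centralizer_rest (hK : IsPiHallOf (kappa M) K M) (hK1 : K ≠ ⊥) {z : G}
    (hz : z ∈ memberRest (K ⊔ kStar M K)) :
    centralizer ({z} : Set G) = K ⊔ kStar M K := by
  haveI := kappa_W_comm hG hM hK hK1
  refine le_antisymm (fun g hg => ?_) fun g hg => ?_
  · refine IsMember.mem_of_conj hG (⟨hM, hK, hK1, rfl⟩ : IsMember (K ⊔ kStar M K) M K) hz ?_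
    rw [mem_centralizer_singleton_iff.mp hg, mul_inv_cancel_right]
    exact hz
  · exact mem_centralizer_singleton_iff.mpr (setLike_mul_comm hg hz.1)

theorem mul_mem_rest (hK : IsPiHallOf (kappa M) K M) (hK1 : K ≠ ⊥) {x y : G} (hx : x ∈ K)
    (hx1 : x ≠ 1) (hy : y ∈ kStar M K) (hy1 : y ≠ 1) :
    x * y ∈ memberRest (K ⊔ kStar M K) := by
  have hbot : K ⊓ kStar M K = ⊥ :=
    Coprime.inf_eq_bot_of_coprime (kappa_kStar_coprime hG hM hK)
  rw [memberRest_eq hG hM hK hK1]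
  refine ⟨mul_mem (mem_sup_left hx) (mem_sup_right hy), ?_⟩
  rintro (h | h)
  · exact hy1 (mem_bot.mp (hbot ▸ ⟨(mul_mem_cancel_left hx).mp h, hy⟩))
  · exact hx1 (mem_bot.mp (hbot ▸ ⟨hx, (mul_mem_cancel_right hy).mp h⟩))

/-- `Ẑ` avoids the other conjugates of `M`. -/
theorem rest_not_mem_conj (hK : IsPiHallOf (kappa M) K M) (hK1 : K ≠ ⊥) {g z : G} (hg : g ∉ M)
    (hz : z ∈ memberRest (K ⊔ kStar M K)) : z ∉ M.map (MulAut.conj g).toMonoidHom := by
  intro hzg
  rw [memberRest_eq hG hM hK hK1] at hz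
  obtain ⟨x, hx, y, hy, rfl⟩ := (Coprime.mem_sup_of_le_normalizer (N := K) (A := kStar M K)
    (inf_le_right.trans (centralizer_le_normalizer _))).mp hz.1
  have hy1 : y ≠ 1 := fun e => hz.2 (Or.inl (by rw [e, mul_one]; exact hx))
  have hcomm : Commute x y := mem_centralizer_iff.mp hy.2 x hx
  obtain ⟨k, hk⟩ := exists_pow_eq_self_of_coprime (x := y) (n := orderOf x)
    (((kappa_kStar_coprime hG hM hK).coprime_dvd_left
      (Subgroup.orderOf_dvd_natCard _ hx)).coprime_dvd_right (Subgroup.orderOf_dvd_natCard _ hy))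
  have h1 := pow_mem (pow_mem hzg (orderOf x)) k
  rw [hcomm.mul_pow, pow_orderOf_eq_one, one_mul, hk] at h1
  exact hy1 ((eq_bot_iff_forall _).mp (kappa_fixed_inf_conj hG hM hK hK1 hg) y ⟨hy, h1⟩)

theorem ncard_rest (hK : IsPiHallOf (kappa M) K M) (hK1 : K ≠ ⊥) :
    (memberRest (K ⊔ kStar M K)).ncard + Nat.card K + Nat.card (kStar M K) =
      Nat.card K * Nat.card (kStar M K) + 1 := by
  rw [memberRest_eq hG hM hK hK1, ← kappa_W_card hG hM hK]
  have h1 := Set.ncard_union_add_ncard_inter (K : Set G) (kStar M K : Set G)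
  have h2 : ((K : Set G) ∩ (kStar M K : Set G)) = {1} := by
    rw [← Subgroup.coe_inf, Coprime.inf_eq_bot_of_coprime (kappa_kStar_coprime hG hM hK)]
    rfl
  rw [h2, Set.ncard_singleton] at h1
  have h3 : (K : Set G) ∪ ↑(kStar M K) ⊆ (↑(K ⊔ kStar M K) : Set G) :=
    Set.union_subset (SetLike.coe_subset_coe.mpr le_sup_left)
      (SetLike.coe_subset_coe.mpr le_sup_right)
  have h4 := Set.ncard_sdiff_add_ncard_of_subset h3
  have hc : ∀ S : Subgroup G, (S : Set G).ncard = Nat.card S := fun S =>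
    (Nat.card_coe_set_eq _).symm
  rw [hc, hc] at h1
  rw [hc] at h4
  omega

/-- The union of the conjugates of `Ẑ`. -/
theorem ncard_conj_rest (hK : IsPiHallOf (kappa M) K M) (hK1 : K ≠ ⊥) :
    {a : G | ∃ g : G, ∃ z ∈ memberRest (K ⊔ kStar M K), a = g * z * g⁻¹}.ncard =
      (K ⊔ kStar M K).index * (memberRest (K ⊔ kStar M K)).ncard := by
  set W := K ⊔ kStar M K with hW
  set Z := memberRest W with hZ
  haveI := kappa_W_comm hG hM hK hK1
  have hm : IsMember W M K := ⟨hM, hK, hK1, rfl⟩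
  let f : (G ⧸ W) × Z → {a : G | ∃ g : G, ∃ z ∈ Z, a = g * z * g⁻¹} :=
    fun x => ⟨x.1.out * x.2 * x.1.out⁻¹, x.1.out, x.2, x.2.2, rfl⟩
  have hf : Function.Bijective f := by
    constructor
    · rintro ⟨q, z, hz⟩ ⟨q', z', hz'⟩ he
      have he' : q.out * z * q.out⁻¹ = q'.out * z' * q'.out⁻¹ := congrArg Subtype.val he
      have e : q'.out⁻¹ * q.out * z * (q'.out⁻¹ * q.out)⁻¹ = z' := by
        calc q'.out⁻¹ * q.out * z * (q'.out⁻¹ * q.out)⁻¹
            = q'.out⁻¹ * (q.out * z * q.out⁻¹) * q'.out := by group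
          _ = q'.out⁻¹ * (q'.out * z' * q'.out⁻¹) * q'.out := by rw [he']
          _ = z' := by group
      have hg : q'.out⁻¹ * q.out ∈ W := hm.mem_of_conj hG hz (by rw [e]; exact hz')
      obtain rfl : q' = q := by
        rw [← QuotientGroup.out_eq' q, ← QuotientGroup.out_eq' q']
        exact QuotientGroup.eq.mpr hg
      exact Prod.ext rfl (Subtype.ext (mul_left_cancel (mul_right_cancel he')))
    · rintro ⟨a, g, z, hz, rfl⟩
      refine ⟨((g : G ⧸ W), ⟨z, hz⟩), Subtype.ext ?_⟩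
      obtain ⟨w, hw⟩ := QuotientGroup.mk_out_eq_mul W g
      show (g : G ⧸ W).out * z * (g : G ⧸ W).out⁻¹ = g * z * g⁻¹
      rw [hw, mul_assoc g, show (w : G) * z = z * w from setLike_mul_comm w.2 hz.1]
      group
  rw [← Nat.card_coe_set_eq, ← Nat.card_coe_set_eq, ← Nat.card_eq_of_bijective f hf,
    Nat.card_prod, ← Subgroup.index]

/-- The conjugates of `Ẑ` cover more than half of `G`. -/
theorem half_lt_conj_rest (hK : IsPiHallOf (kappa M) K M) (hK1 : K ≠ ⊥) :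
    Nat.card G < 2 * {a : G | ∃ g : G, ∃ z ∈ memberRest (K ⊔ kStar M K), a = g * z * g⁻¹}.ncard := by
  have h1 := ncard_rest hG hM hK hK1
  have h2 := ncard_conj_rest hG hM hK hK1
  have h3 := (K ⊔ kStar M K).index_mul_card
  rw [kappa_W_card hG hM hK] at h3
  have hs1 := IsMember.kStar_ne_bot hG (⟨hM, hK, hK1, rfl⟩ : IsMember (K ⊔ kStar M K) M K)
  have hge : ∀ {S : Subgroup G}, S ≠ ⊥ → 3 ≤ Nat.card S ∧ Odd (Nat.card S) := by
    intro S hS
    have ho : Odd (Nat.card S) := hG.1.of_dvd_nat (card_subgroup_dvd_card S)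
    refine ⟨?_, ho⟩
    have h0 : 0 < Nat.card S := Nat.card_pos
    have hne : Nat.card S ≠ 1 := fun e => hS (card_eq_one.mp e)
    rcases ho with ⟨j, hj⟩
    omega
  obtain ⟨hk, hko⟩ := hge hK1
  obtain ⟨hs, hso⟩ := hge hs1
  have hne : Nat.card K ≠ 3 ∨ Nat.card (kStar M K) ≠ 3 := by
    by_contra hc
    push Not at hc
    exact absurd (kappa_kStar_coprime hG hM hK) (by rw [hc.1, hc.2]; decide)
  rw [h2]
  generalize (K ⊔ kStar M K).index = i at *
  generalize (memberRest (K ⊔ kStar M K)).ncard = z at *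
  generalize Nat.card K = k at *
  generalize Nat.card (kStar M K) = s at *
  have hi : 0 < i := by
    rcases Nat.eq_zero_or_pos i with h | h
    · rw [h, zero_mul] at h3
      exact absurd h3.symm Nat.card_pos.ne'
    · exact h
  have h4 : k * s < 2 * z := by
    obtain ⟨a, rfl⟩ := hko
    obtain ⟨b, rfl⟩ := hso
    rcases hne with h | h
    · nlinarith [Nat.mul_le_mul (show 2 ≤ a by omega) (show 1 ≤ b by omega)]
    · nlinarith [Nat.mul_le_mul (show 1 ≤ a by omega) (show 2 ≤ b by omega)]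
  rw [← h3]
  nlinarith [Nat.mul_lt_mul_of_pos_left h4 hi]

/-- No prime of `σ(M)` outside `κ(M*)` divides `|M*|`. -/
theorem kStar_hall_sigma (hK : IsPiHallOf (kappa M) K M) (hK1 : K ≠ ⊥) (hL : IsCoatom L)
    (hKst : K = kStar L (kStar M K)) (hKH : IsPiHallOf (kappa L) (kStar M K) L) :
    IsPiHallOf (sigma M) (kStar M K) L := by
  refine ⟨hKH.1, fun s hs hd => piNum_sigmaCore M s hs (hd.trans (card_dvd_of_le inf_le_left)),
    fun q hq hqM hd => ?_⟩
  haveI := Fact.mk hq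
  have hm₀ : IsMember (K ⊔ kStar M K) M K := ⟨hM, hK, hK1, rfl⟩
  have hm := isMember_partner hG hM hK hK1 hL hKst hKH
  have hs1 : kStar M K ≠ ⊥ := hm₀.kStar_ne_bot hG
  have hqκ : q ∉ kappa L := fun hc => hKH.2.2 q hq hc hd
  have hqL : q ∣ Nat.card L := hd.trans (Dvd.intro_left _ (Coprime.card_mul_relIndex_of_le hKH.1))
  have hqσ : q ∉ sigma L := by
    intro hc
    obtain ⟨-, he⟩ := IsMember.eq_of_sigma hG hm₀ hm hqM hc
    obtain ⟨p, hp, hpd⟩ := exists_prime_dvd_of_ne_bot hK1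
    exact (hK.2.1 p hp hpd).2.2.1
      (piNum_sigmaCore M p hp ((he ▸ hpd).trans (card_dvd_of_le inf_le_left)))
  have hpr := kappa_prime_of_not_P1 hG hL hKH hs1 hq hqL hqσ hqκ
  haveI := Fact.mk hpr
  set t := Nat.card (kStar M K) with ht
  obtain ⟨V, hV⟩ := (Cfsg.Agent.S1352.result hG L hL _ (isCyclic_of_prime_card rfl) hKH).1
  obtain ⟨hE, -⟩ := sigmaDecomposition_compl hG hL hV
  obtain ⟨hVc, hVn, -⟩ := sigmaDecomposition_structure hG hL hV hs1
  have hqV : q ∣ Nat.card V := by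
    rcases hq.dvd_mul.mp (((dvd_compl_iff hG hL hE).mpr ⟨hqL, hqσ⟩).trans
      (card_sup_dvd_mul (le_sup_right.trans hVn))) with h | h
    · exact h
    · exact absurd (hKH.2.1 q hq h) hqκ
  -- the `q`-torsion of `V`
  let Q : Subgroup G :=
    { carrier := {x | x ∈ V ∧ x ^ q = 1}
      one_mem' := ⟨one_mem _, one_pow _⟩
      mul_mem' := fun {a b} ha hb => ⟨V.mul_mem ha.1 hb.1, by
        rw [(show Commute a b from setLike_mul_comm ha.1 hb.1).mul_pow, ha.2, hb.2, one_mul]⟩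
      inv_mem' := fun {a} ha => ⟨V.inv_mem ha.1, by rw [inv_pow, ha.2, inv_one]⟩ }
  have hQp : IsPGroup q Q := fun x => ⟨1, Subtype.ext (by simpa using x.2.2)⟩
  obtain ⟨⟨x, hxV⟩, hxo⟩ := exists_prime_orderOf_dvd_card' q hqV
  rw [← orderOf_coe] at hxo
  change orderOf x = q at hxo
  have hxQ : x ∈ Q := ⟨hxV, by rw [← hxo, pow_orderOf_eq_one]⟩
  have hx1 : x ≠ 1 := fun e => hq.ne_one (by rw [← hxo, e, orderOf_one])
  obtain ⟨S, hS⟩ := exists_sylow_of_sigma hqM
  obtain ⟨T, hT⟩ := hQp.exists_le_sylow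
  obtain ⟨g, hg⟩ := MulAction.exists_smul_eq G S T
  set N₀ := M.map (MulAut.conj g).toMonoidHom with hN₀
  have hN₀c : IsCoatom N₀ := isCoatom_map_conj hM g
  have hQN : Q ≤ N₀ := by
    refine hT.trans ?_
    rw [← hg, Sylow.coe_subgroup_smul]
    exact map_mono hS
  have hQσ : Q ≤ sigmaCore N₀ :=
    le_sigmaCore_of_isPGroup hG hN₀c hQN hQp (by rw [sigma_map_conj]; exact hqM)
  have hR := isSupport_supportR hG hN₀c (hQσ hxQ) hx1
  set R := supportR N₀ x with hRdef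
  set D := R ⊓ centralizer (Q : Set G) with hD
  set S' := {X : Subgroup G | (∃ h : G, X = M.map (MulAut.conj h).toMonoidHom) ∧ Q ≤ X} with hS'
  have hconj : ∀ r ∈ D, N₀.map (MulAut.conj r).toMonoidHom ∈ S' := by
    intro r hr
    refine ⟨⟨r * g, by rw [hN₀, map_conj_map_conj]⟩, fun a ha => mem_map_conj_iff.mpr ?_⟩
    rw [mul_assoc, mem_centralizer_iff.mp hr.2 a ha, inv_mul_cancel_left]
    exact hQN ha
  let F : D → S' := fun r => ⟨_, hconj r r.2⟩
  have hF : Function.Bijective F := by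
    constructor
    · intro r r' he
      have he' : N₀.map (MulAut.conj (r : G)).toMonoidHom = N₀.map (MulAut.conj (r' : G)).toMonoidHom :=
        congrArg Subtype.val he
      obtain ⟨r₀, -, hu⟩ := hR.existsUnique_conj hG hN₀c (hQσ hxQ) hx1 (g := r)
        ((hconj r r.2).2 hxQ)
      exact Subtype.ext ((hu r ⟨r.2.1, rfl⟩).trans (hu r' ⟨r'.2.1, he'.symm⟩).symm)
    · rintro ⟨X, ⟨h, rfl⟩, hQX⟩
      have hXh : M.map (MulAut.conj h).toMonoidHom = N₀.map (MulAut.conj (h * g⁻¹)).toMonoidHom := by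
        rw [hN₀, map_conj_map_conj, inv_mul_cancel_right]
      obtain ⟨r, ⟨hr, hrX⟩, hu⟩ := hR.existsUnique_conj hG hN₀c (hQσ hxQ) hx1 (g := h * g⁻¹)
        (hXh ▸ hQX hxQ)
      refine ⟨⟨r, hr, mem_centralizer_iff.mpr fun a ha => ?_⟩, Subtype.ext (hrX.trans hXh.symm)⟩
      have haC : a ∈ centralizer ({x} : Set G) :=
        mem_centralizer_singleton_iff.mpr (by
          rw [(show Commute a x from setLike_mul_comm ha.1 hxQ.1).eq])
      have har : a * r * a⁻¹ ∈ R :=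
        (mem_normalizer_iff.mp ((hR.structure hG hN₀c (hQσ hxQ) hx1).1 haC) r).mp hr
      have e : a * r * a⁻¹ = r := hu _ ⟨har, by
        rw [← map_conj_map_conj, ← map_conj_map_conj, map_conj_eq_self_of_mem
          (Subgroup.le_normalizer ((N₀).inv_mem (hQN ha))), hrX,
          map_conj_eq_self_of_mem (Subgroup.le_normalizer (hXh ▸ hQX ha))]⟩
      exact mul_inv_eq_iff_eq_mul.mp e
  obtain ⟨y, hy, hy1, hyt, -⟩ := exists_generator_of_card (p := t) (P := kStar M K) rfl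
  have hyQ : ∀ a ∈ Q, y * a * y⁻¹ ∈ Q := fun a ha =>
    ⟨(mem_normalizer_iff.mp (hVn (mem_sup_right hy)) a).mp ha.1, by rw [conj_pow, ha.2]; group⟩
  have hyQ' : Q.map (MulAut.conj y).toMonoidHom = Q :=
    eq_of_le_of_card_ge (by rintro _ ⟨a, ha, rfl⟩; exact hyQ a ha) (by rw [card_map_conj])
  have hfS : ∀ X ∈ S', X.map (MulAut.conj y).toMonoidHom ∈ S' := by
    rintro X ⟨⟨h, rfl⟩, hQX⟩
    exact ⟨⟨y * h, by rw [map_conj_map_conj]⟩, hyQ'.ge.trans (map_mono hQX)⟩
  haveI : Fintype S' := Fintype.ofFinite _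
  let f : Equiv.Perm S' := Equiv.ofBijective
    (fun X => (⟨X.1.map (MulAut.conj y).toMonoidHom, hfS X.1 X.2⟩ : S'))
    (Finite.injective_iff_bijective.mp fun X Y he => Subtype.ext
      (map_injective (MulAut.conj y).injective (congrArg Subtype.val he)))
  have hfn : ∀ n : ℕ, ∀ X : S',
      ((f ^ n) X).1 = X.1.map (MulAut.conj (y ^ n)).toMonoidHom := by
    intro n
    induction n with
    | zero =>
      intro X
      rw [pow_zero, pow_zero, Equiv.Perm.coe_one, id_eq,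
        map_conj_eq_self_of_mem (one_mem _)]
    | succ n ih =>
      intro X
      rw [pow_succ', Equiv.Perm.mul_apply, pow_succ', ← map_conj_map_conj, ← ih X]
      rfl
  have hft : f ^ (t ^ 1) = 1 := by
    refine Equiv.ext fun X => Subtype.ext ?_
    rw [pow_one, hfn, hyt, Equiv.Perm.coe_one, id_eq, map_conj_eq_self_of_mem (one_mem _)]
  have hSc : ¬ t ∣ Fintype.card S' := by
    rw [← Nat.card_eq_fintype_card, ← Nat.card_eq_of_bijective F hF]
    intro hdt
    obtain ⟨⟨r, hr⟩, hro⟩ := exists_prime_orderOf_dvd_card' t hdt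
    rw [← orderOf_coe] at hro
    change orderOf r = t at hro
    refine hR.prime_not_sigma hG hN₀c (hQσ hxQ) hx1 hr.1 hpr (dvd_of_eq hro.symm) ?_
    rw [sigma_map_conj]
    exact piNum_sigmaCore M t hpr ((dvd_of_eq ht).trans (card_dvd_of_le inf_le_left))
  obtain ⟨⟨X, ⟨h, rfl⟩, hQX⟩, hfix⟩ := Equiv.Perm.exists_fixed_point_of_prime hSc hft
  have hyX : y ∈ M.map (MulAut.conj h).toMonoidHom :=
    mem_of_map_conj_eq hG (isCoatom_map_conj hM h) (congrArg Subtype.val hfix)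
  have hhM : h ∈ M := by
    by_contra hc
    exact hy1 ((eq_bot_iff_forall _).mp (kappa_fixed_inf_conj hG hM hK hK1 hc) y ⟨hy, hyX⟩)
  rw [map_conj_eq_self_of_mem (Subgroup.le_normalizer hhM)] at hQX
  have hxW : x ∈ K ⊔ kStar M K :=
    (inf_partner_eq hG hM hK hK1 hL hKst hKH).le ⟨hQX hxQ, hE.1 (mem_sup_left hxV)⟩
  have hxK : zpowers x ≤ kStar M K := mem_kStar_of_piNum hG hM hK (zpowers_le.mpr hxW)
    (piNum_of_card_prime (by rw [Nat.card_zpowers, hxo]) hq hqM)
  exact hqκ (hKH.2.1 q hq (hxo ▸ Nat.card_zpowers x ▸ card_dvd_of_le hxK))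

end Cfsg.Agent.OddLocal
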