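import Cfsg.Agent.OddLocal.NonTIKappa

/-!
BG 15.7: the structure of `M` when `F(M) ∩ F(M)ᵍ ≠ 1` for some `g ∉ M`.

The inclusion `M' ≤ F(M)` is proved in general, the equality when `K ≠ 1`.
-/

set_option autoImplicit false
set_option linter.unusedSectionVars false
set_option linter.style.haveILetI false

namespace Cfsg.Agent.OddLocal

open Subgroup Cfsg
open scoped commutatorElement

universe u

variable {G : Type u} [Group G] [Finite G] {M K U N B : Subgroup G} {p : ℕ} [hp : Fact p.Prime]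
  {x : G}

variable (hG : IsMinSimpleOddOrder G) (hM : IsCoatom M)
include hG hM

omit hp in
theorem exponent_quotient_fittingHall_dvd {E : Subgroup G} (hE : IsComplIn E (sigmaCore M) M)
    (hF : fittingHallOf M = sigmaCore M) {n : ℕ} (hn : ∀ e ∈ E, e ^ n = 1) :
    Monoid.exponent (↥M ⧸ fittingHall ↥M) ∣ n := by
  refine Monoid.exponent_dvd_of_forall_pow_eq_one fun c => ?_
  obtain ⟨⟨m, hm⟩, rfl⟩ := QuotientGroup.mk_surjective c
  obtain ⟨e, he, s, hs, rfl⟩ := hE.2.2.2 m hm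
  have h1 : ((⟨e * s, hm⟩ : M) : ↥M ⧸ fittingHall ↥M) =
      ((⟨e, hE.1 he⟩ : M) : ↥M ⧸ fittingHall ↥M) := by
    rw [QuotientGroup.eq]
    have h2 : ((⟨e * s, hm⟩ : M)⁻¹ * ⟨e, hE.1 he⟩ : M) =
        ⟨s⁻¹, M.inv_mem (sigmaCore_le M hs)⟩ := Subtype.ext (by simp [mul_assoc])
    rw [h2]
    have h3 : s⁻¹ ∈ fittingHallOf M := hF.ge (inv_mem hs)
    obtain ⟨t, ht, hts⟩ := h3
    exact (Subtype.ext hts : t = ⟨s⁻¹, M.inv_mem (sigmaCore_le M hs)⟩) ▸ ht
  rw [h1, ← QuotientGroup.mk_pow]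
  exact (QuotientGroup.eq_one_iff _).mpr
    ((Subtype.ext (hn e he) : (⟨e, hE.1 he⟩ : M) ^ n = 1) ▸ one_mem _)

section Line

variable (h : LineSupport p M N B x) (hn : Group.IsNilpotent (sigmaCore M))
  (hnc : ¬ IsMulCommutative (rPart p (sigmaCore M)))
include h hn hnc

/-- In the absence of `K` the exponent of `U` divides `q - 1` for all primes `q` of `H`. -/
theorem LineSupport.exponent_free (hKU : IsSigmaDecomposition M ⊥ U) {q : ℕ} [Fact q.Prime]
    (hqH : q ∣ Nat.card (sigmaCore M)) : ∀ e ∈ U, e ^ (q - 1) = 1 := by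
  obtain ⟨L, hLσ, hL, hLn, -⟩ := h.exists_line hG hM hn hnc hqH
  obtain ⟨U₀, hU₀, hexp, hfree⟩ := exists_fpf_exponent hG hM hKU
  obtain ⟨hE, -⟩ := sigmaDecomposition_compl hG hM hKU
  rw [sup_bot_eq] at hE
  have hd : Monoid.exponent U₀ ∣ q - 1 := by
    refine Monoid.exponent_dvd_of_forall_pow_eq_one fun ⟨u, hu⟩ => Subtype.ext ?_
    have huM : u ∈ M := hE.1 (hU₀ hu)
    have hc := pow_pred_mem_centralizer_line hL (hLσ.trans (sigmaCore_le M)) hLn huM
    refine hfree _ (pow_mem hu _) ?_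
    obtain ⟨l, hl, hl1⟩ := exists_mem_ne_one L (fun e => (Fact.out : q.Prime).ne_one (by
      rw [← hL, e, card_bot]))
    exact ⟨M.pow_mem huM _, l, hLσ hl, hl1, (mem_centralizer_iff.mp hc l hl).symm⟩
  intro e he
  obtain ⟨c, hc⟩ := hexp ▸ hd
  rw [hc, pow_mul, show e ^ Monoid.exponent U = 1 from
    congrArg Subtype.val (Monoid.pow_exponent_eq_one (⟨e, he⟩ : U)), one_pow]

/-- With `|K|` dividing `p - 1`, it divides `q - 1` for all primes `q` of `H`. -/
theorem LineSupport.exponent_kappa (hKU : IsSigmaDecomposition M K ⊥) (hK1 : K ≠ ⊥)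
    (hpK : ∀ e ∈ K, e ^ (p - 1) = 1) {q : ℕ} [Fact q.Prime]
    (hqH : q ∣ Nat.card (sigmaCore M)) : ∀ e ∈ K, e ^ (q - 1) = 1 := by
  intro e he
  by_cases hqp : q = p
  · rw [hqp]
    exact hpK e he
  obtain ⟨L, hLσ, hL, hLn, -⟩ := h.exists_line hG hM hn hnc hqH
  by_contra he1
  have hc := pow_pred_mem_centralizer_line hL (hLσ.trans (sigmaCore_le M)) hLn (hKU.hall.1 he)
  obtain ⟨-, -, hkc⟩ := h.kStar_facts hG hM hn hnc hKU hK1
  have hle : L ≤ kStar M K :=
    (le_inf hLσ fun l hl => mem_centralizer_singleton_iff.mpr (mem_centralizer_iff.mp hc l hl)).trans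
      (fixed_le_kStar hG hM hKU.hall hK1 (K.pow_mem he _) he1)
  have hd := card_dvd_of_le hle
  rw [hL, hkc] at hd
  exact hqp ((Nat.prime_dvd_prime_iff_eq Fact.out hp.out).mp hd)

theorem LineSupport.rank_two_of_ne {q : ℕ} [Fact q.Prime] (hqp : q ≠ p) :
    PRankLE q 2 (rPart q (sigmaCore M)) := by
  haveI := h.rPart_isCyclic hG hM hn hnc hqp
  intro A hA hAq
  haveI := hA
  have hd : Nat.card A ∣ q := by
    rw [← IsCyclic.exponent_eq_card]
    exact Monoid.exponent_dvd_of_forall_pow_eq_one fun a => Subtype.ext (hAq a a.2)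
  exact (Nat.le_of_dvd (Fact.out : q.Prime).pos hd).trans (Nat.le_self_pow two_ne_zero q)

end Line

omit hp in
/-- `M' ≤ F(M)` when each primary part of the nilpotent `M_σ` has rank two or is narrow. -/
theorem derived_le_fittingOf (hn : Group.IsNilpotent (sigmaCore M))
    (hr : ∀ s : ℕ, s.Prime → PRankLE s 2 (rPart s (sigmaCore M)) ∨ s ∈ sigma M ∧ s ∉ beta M) :
    ⁅M, M⁆ ≤ fittingOf M := by
  obtain ⟨E, hE⟩ := exists_compl_sigmaCore' hG hM
  haveI := isSolvable_coatom hG hM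
  have hsup : M = sigmaCore M ⊔ E := (le_sup_of_isComplIn hE).trans (sup_comm E (sigmaCore M))
  refine (commutator_le_sup_of_eq (le_normalizer_sigmaCore M) hsup).trans
    (sup_le (sigmaCore_le_fittingOf hG hM hn) ?_)
  have hC : M ⊓ centralizer (sigmaCore M : Set G) ≤ fittingOf M := by
    have he := fittingOf_eq_sup (centralizer_fittingHallOf_nilpotent hG hM)
    rw [he, fittingHallOf_eq_of_nilpotent hG hM hn]
    exact le_sup_left
  refine le_trans (le_inf ((commutator_le_self E).trans hE.1) ?_) hC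
  intro y hy
  have hyM : y ∈ M := hE.1 (commutator_le_self E hy)
  have hyd : (⟨y, hyM⟩ : M) ∈ commutator ↥M := by
    have h1 : y ∈ (commutator ↥M).map M.subtype := by
      rw [commutator_def, map_commutator, ← MonoidHom.range_eq_map, M.range_subtype]
      exact commutator_mono hE.1 hE.1 hy
    obtain ⟨t, ht, rfl⟩ := h1
    exact ht
  have hcopy : (orderOf y).Coprime (Nat.card (sigmaCore M)) :=
    (compl_coprime hG hM hE).coprime_dvd_left
      ((Subgroup.orderOf_dvd_natCard _ hy).trans (card_dvd_of_le (commutator_le_self E)))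
  have hoM : Odd (Nat.card M) := hG.1.of_dvd_nat (card_subgroup_dvd_card M)
  suffices hle : sigmaCore M ≤ centralizer ({y} : Set G) from
    mem_centralizer_iff.mpr fun z hz => mem_centralizer_singleton_iff.mp (hle hz)
  refine (le_iSup_rPart hn).trans (iSup_le fun s => ?_)
  haveI := Fact.mk s.2
  by_cases hs1 : rPart (s : ℕ) (sigmaCore M) = ⊥
  · rw [hs1]; exact bot_le
  have hsd : (s : ℕ) ∣ Nat.card (sigmaCore M) := by
    obtain ⟨r, hr', hrd⟩ := exists_prime_dvd_of_ne_bot hs1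
    obtain rfl : r = s := mem_singleton_of_isPGroup isPGroup_rPart r hr' hrd
    exact hrd.trans (card_dvd_of_le rPart_le)
  have hs2 : (s : ℕ) ≠ 2 := fun e => hG.1.not_two_dvd_nat
    (e ▸ hsd.trans (card_subgroup_dvd_card _))
  have hsy : (orderOf (⟨y, hyM⟩ : M)).Coprime (s : ℕ) := by
    rw [Subgroup.orderOf_mk]
    exact hcopy.coprime_dvd_right hsd
  have hPM : rPart (s : ℕ) (sigmaCore M) ≤ M := rPart_le.trans (sigmaCore_le M)
  set R := (rPart (s : ℕ) (sigmaCore M)).subgroupOf M with hR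
  haveI : R.Normal := (normal_subgroupOf_iff_le_normalizer hPM).mpr
    (le_normalizer_rPart (le_normalizer_sigmaCore M))
  have hRp : IsPGroup (s : ℕ) R :=
    isPGroup_rPart.comap_of_injective M.subtype M.subtype_injective
  have key : (⟨y, hyM⟩ : M) ∈ centralizer (R : Set M) := by
    by_cases hr2 : PRankLE (s : ℕ) 2 R
    · exact mem_centralizer_of_rank_two hoM hs2 hRp hr2 hyd hsy
    obtain ⟨hsσ, hsβ⟩ := (hr s s.2).resolve_left fun hc => hr2
      (pRankLE_of_injective (subgroupOfEquivOfLe hPM).toMonoidHom (subgroupOfEquivOfLe hPM).injective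
        hc)
    obtain ⟨P₀, -, hP₀, -⟩ := exists_sylow_eq_rPart hG hM hn hsσ
    have heq : (P₀ : Subgroup M) = R := by
      rw [hR, ← hP₀, subgroupOf, comap_map_eq_self_of_injective M.subtype_injective]
    exact mem_centralizer_of_narrow hs2 hRp hr2
      (heq ▸ sylow_narrow_of_not_beta hG hM hsσ.2.1 hsβ P₀) hsy
      (trivialOnSmallFactors_commutator hyd)
  intro v hv
  refine mem_centralizer_singleton_iff.mpr ?_
  simpa using congrArg M.subtype (mem_centralizer_iff.mp key ⟨v, hPM hv⟩ hv)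

omit hp in
/-- BG 15.7. -/
theorem nonTI_structure (hKU : IsSigmaDecomposition M K U) {g : G} (hg : g ∉ M)
    (hX : fittingOf M ⊓ (fittingOf M).map (MulAut.conj g).toMonoidHom ≠ ⊥) :
    fittingHallOf M = sigmaCore M ∧
    (fittingOf M ⊓ (fittingOf M).map (MulAut.conj g).toMonoidHom ≤ fittingHallOf M ∧
      IsCyclic ↥(fittingOf M ⊓ (fittingOf M).map (MulAut.conj g).toMonoidHom)) ∧
    (⁅M, M⁆ ≤ fittingOf M ∧ (K ≠ ⊥ → ⁅M, M⁆ = fittingOf M) ∧
      fittingOf M = sigmaCore M ⊔ piCoreOf {q | q.Prime ∧ q ∉ sigma M} (fittingOf M)) ∧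
    ((K = ⊥ ∧ IsMulCommutative (fittingHallOf M) ∧ RankLE 2 (fittingHallOf M) ∧
        ¬ RankLE 1 (fittingHallOf M)) ∨
     (∃ p : ℕ, p.Prime ∧
        Nat.card ↥(fittingOf M ⊓ (fittingOf M).map (MulAut.conj g).toMonoidHom) = p ∧
        p ∈ sigma M ∧ p ∉ beta M ∧
        ¬ IsMulCommutative (pCore p ↥(fittingHallOf M)) ∧
        IsCyclic (pPrimeCore p ↥(fittingHallOf M)) ∧
        ∀ q : ℕ, q.Prime → q ∣ Nat.card (fittingHallOf M) →
          Monoid.exponent (↥M ⧸ fittingHall ↥M) ∣ q - 1) ∨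
     (∃ p : ℕ, p.Prime ∧
        Nat.card ↥(fittingOf M ⊓ (fittingOf M).map (MulAut.conj g).toMonoidHom) = p ∧
        p ∈ sigma M ∧ p ∉ beta M ∧ IsCyclic (pPrimeCore p ↥(fittingHallOf M)) ∧
        Nat.card (pCore p ↥(fittingHallOf M)) = p ^ 3 ∧
        ¬ IsMulCommutative (pCore p ↥(fittingHallOf M)) ∧ K ≠ ⊥ ∧ U = ⊥ ∧
        (fittingHallOf M).relIndex M ∣ p + 1)) := by
  have hF := fittingHallOf_eq_of_nonTI hG hM hg hX
  have hn := sigmaCore_nilpotent_of_nonTI hG hM hg hX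
  have hU : K ≠ ⊥ → U = ⊥ := fun hK1 => by
    by_contra hU1
    obtain ⟨x, ⟨hx, hxg⟩, hx1⟩ := exists_mem_ne_one _ hX
    have hgi : g⁻¹ ∉ normalizer (fittingOf M : Set G) := fun hc => by
      rw [normalizer_eq_of_coatom hG hM (ne_bot_of_le_ne_bot hX inf_le_left)
        (ne_top_of_not_dvd hM (fittingOf_le M)) (le_normalizer_fittingOf M), inv_mem_iff] at hc
      exact hg hc
    exact hx1 (fittingOf_TI_of_P2 hG hM hKU hK1 hU1 g⁻¹ hgi x hx
      (by simpa using mem_map_conj_iff.mp hxg))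
  -- a line of the intersection
  obtain ⟨p, hp', hpd⟩ := exists_prime_dvd_of_ne_bot hX
  haveI := Fact.mk hp'
  obtain ⟨⟨x, hx⟩, hxo⟩ := exists_prime_orderOf_dvd_card' p hpd
  rw [Subgroup.orderOf_mk] at hxo
  obtain ⟨N, B, h⟩ := exists_lineSupport hG hM hg hX hx hxo
  obtain ⟨-, -, hFY⟩ := S1439.result hG M hM
  have hFσ : fittingOf (sigmaCore M) = sigmaCore M :=
    le_antisymm (fittingOf_le _) (le_fittingOf_of_normal le_rfl Subgroup.le_normalizer hn)
  rw [hFσ] at hFY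
  have hder : ⁅M, M⁆ ≤ fittingOf M := by
    refine derived_le_fittingOf hG hM hn fun s hs => ?_
    haveI := Fact.mk hs
    by_cases hc : IsMulCommutative (rPart p (sigmaCore M))
    · exact Or.inl (pRankLE_of_injective (inclusion rPart_le) (inclusion_injective _)
        ((h.comm_of_central hG hM hn (h.le_centralizer_of_comm hG hM hn hc)).2.1 s hs))
    · by_cases hsp : s = p
      · exact Or.inr (hsp ▸ ⟨h.mem_sigma, h.not_beta⟩)
      · exact Or.inl (h.rank_two_of_ne hG hM hn hc hsp)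
  refine ⟨hF, ⟨hF.symm ▸ nonTI_inter_le hG hM hg hX, nonTI_inter_cyclic hG hM hg hX⟩,
    ⟨hder, fun hK1 => le_antisymm hder (fittingOf_le_derived hG hM ?_), hFY⟩, ?_⟩
  · obtain ⟨r, hr, hrd⟩ := exists_prime_dvd_of_ne_bot hK1
    exact ⟨r, hKU.hall.2.1 r hr hrd⟩
  by_cases hc : IsMulCommutative (rPart p (sigmaCore M))
  · left
    obtain ⟨h1, h2, h3⟩ := h.comm_of_central hG hM hn (h.le_centralizer_of_comm hG hM hn hc)
    refine ⟨?_, hF.symm ▸ h1, hF.symm ▸ h2, hF.symm ▸ h3⟩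
    by_contra hK1
    obtain rfl := hU hK1
    have h4 := kStar_le_derived hG hM hKU hK1
    rw [derived_eq hG hM hKU hK1, bot_sup_eq,
      commutator_eq_bot_iff_le_centralizer.mpr (le_centralizer_iff_isMulCommutative.mpr h1)] at h4
    exact IsMember.kStar_ne_bot hG (⟨hM, hKU.hall, hK1, rfl⟩ : IsMember (K ⊔ kStar M K) M K)
      (le_bot_iff.mp h4)
  right
  have hcard := nonTI_inter_card hG hM hn hg hX h hx hc
  have hcp : IsCyclic (pPrimeCore p ↥(fittingHallOf M)) := by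
    rw [hF]
    exact ((pPrimeCore p ↥(sigmaCore M)).equivMapOfInjective _
      (sigmaCore M).subtype_injective).isCyclic.mpr (h.prime_part_cyclic hG hM hn hc)
  have hnc' : ¬ IsMulCommutative (pCore p ↥(fittingHallOf M)) := by
    rw [hF]
    intro hA
    haveI := hA
    exact hc (map_isMulCommutative (pCore p ↥(sigmaCore M)) (sigmaCore M).subtype)
  obtain ⟨hE, -⟩ := sigmaDecomposition_compl hG hM hKU
  by_cases hK1 : K = ⊥
  · subst hK1
    left
    refine ⟨p, hp', hcard, h.mem_sigma, h.not_beta, hnc', hcp, fun q hq hqH => ?_⟩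
    haveI := Fact.mk hq
    rw [sup_bot_eq] at hE
    exact exponent_quotient_fittingHall_dvd hG hM hE hF
      (h.exponent_free hG hM hn hc hKU (hF ▸ hqH))
  obtain rfl := hU hK1
  rw [bot_sup_eq] at hE
  rcases h.kappa_cases hG hM hn hc hKU hK1 with hpK | ⟨h3, hd⟩
  · left
    refine ⟨p, hp', hcard, h.mem_sigma, h.not_beta, hnc', hcp, fun q hq hqH => ?_⟩
    haveI := Fact.mk hq
    exact exponent_quotient_fittingHall_dvd hG hM hE hF
      (h.exponent_kappa hG hM hn hc hKU hK1 hpK (hF ▸ hqH))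
  · right
    refine ⟨p, hp', hcard, h.mem_sigma, h.not_beta, hcp, ?_, hnc', hK1, rfl, ?_⟩
    · rw [hF, ← h3, rPart, card_map_of_injective (sigmaCore M).subtype_injective]
    · rw [hF, compl_relIndex hE]
      exact hd

end Cfsg.Agent.OddLocal
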