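import Cfsg.Agent.OddLocal.FittingTI
import Cfsg.Agent.OddLocal.SigmaNormalizer
import Cfsg.Agent.OddLocal.SupportPrimes
import Cfsg.Agent.OddLocal.NarrowAction
import Cfsg.Agent.OddLocal.SylowCentralizer
import Cfsg.Agent.OddLocal.BetaCore
import Cfsg.Agent.S1439

/-!
BG 15.7, first part: if `F(M) ∩ F(M)ᵍ ≠ 1` for some `g ∉ M` then `M_F = M_σ`, the intersection
lies in `M_σ`, and each of its lines gives a second maximal subgroup meeting `M_σ` in a plane.
-/

set_option autoImplicit false
set_option linter.unusedSectionVars false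
set_option linter.style.haveILetI false

namespace Cfsg.Agent.OddLocal

open Subgroup Cfsg
open scoped commutatorElement

universe u

variable {G : Type u} [Group G] [Finite G] {M : Subgroup G}

/-- An element of `M` raised to the power `q - 1` centralises a normal line of order `q`. -/
theorem pow_pred_mem_centralizer_line {q : ℕ} [Fact q.Prime] {L : Subgroup G}
    (hL : Nat.card L = q) (hLM : L ≤ M) (hn : M ≤ normalizer (L : Set G)) {e : G} (he : e ∈ M) :
    e ^ (q - 1) ∈ centralizer (L : Set G) := by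
  haveI : (L.subgroupOf M).Normal := (normal_subgroupOf_iff_le_normalizer hLM).mpr hn
  refine mem_centralizer_iff.mpr fun l hl => ?_
  have h := trivialOnSmallFactors_pow (p := q) (⟨e, he⟩ : M) (L.subgroupOf M) ⊥ inferInstance
    inferInstance bot_le (by rw [relIndex_bot_left, Coprime.card_subgroupOf hLM, hL])
    ⟨l, hLM hl⟩ (by simpa [mem_subgroupOf] using hl)
  have h1 := congrArg M.subtype (mem_bot.mp h)
  rw [map_commutatorElement, map_one] at h1
  have h2 := commutatorElement_eq_one_iff_mul_comm.mp h1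
  simp only [map_pow, coe_subtype] at h2
  exact h2.symm

/-- The `r`-parts of a nilpotent group centralise what the `p`-part centralises in it. -/
theorem le_centralizer_of_rPart {p : ℕ} [Fact p.Prime] {H : Subgroup G} (hH : Group.IsNilpotent H)
    {x : G} (hxP : x ∈ rPart p H) (hx : rPart p H ≤ centralizer ({x} : Set G)) :
    H ≤ centralizer ({x} : Set G) := by
  refine (le_iSup_rPart hH).trans (iSup_le fun s => ?_)
  haveI := Fact.mk s.2
  rcases eq_or_ne (s : ℕ) p with h | h
  · subst h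
    exact hx
  · exact ((rPart_le_rPrimePart (r := (s : ℕ)) (s := p) h).trans
      rPrimePart_le_centralizer_rPart).trans (centralizer_le (Set.singleton_subset_iff.mpr hxP))

/-- The data attached to a line `⟨x⟩` of `F(M) ∩ F(M)ᵍ`: the maximal subgroup `N` over `C(x)`
and the plane `B` of `M ∩ N` through `x`. -/
structure LineSupport (p : ℕ) (M N B : Subgroup G) (x : G) : Prop where
  order : orderOf x = p
  coatom : IsCoatom N
  cent_le : centralizer ({x} : Set G) ≤ N
  compl : IsComplIn (M ⊓ N) (sigmaCore N) N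
  mem_tau2 : p ∈ tau2 N
  pair : IsTauPair p N B
  mem : x ∈ B
  le_meet : B ≤ M ⊓ N
  le_core : B ≤ sigmaCore M
  mem_sigma : p ∈ sigma M
  not_beta : p ∉ beta M

variable (hG : IsMinSimpleOddOrder G) (hM : IsCoatom M)
include hG hM

theorem mem_fitting_of_not_sigma {r : ℕ} [Fact r.Prime] (hr : r ∉ sigma M) {y : G}
    (hy : y ∈ fittingOf M) (hyr : y ^ r = 1) :
    y ∈ piCoreOf {q | q.Prime ∧ q ∉ sigma M} (fittingOf M) :=
  le_piCoreOf rPart_le (le_normalizer_rPart (H := fittingOf M) Subgroup.le_normalizer)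
    (piNum_of_isPGroup (π := {q | q.Prime ∧ q ∉ sigma M}) (q := r) ⟨Fact.out, hr⟩ isPGroup_rPart)
    (mem_rPart_of_pow (isNilpotent_fittingOf M) hy (k := 1) (by rwa [pow_one]))

variable {g : G} (hg : g ∉ M)
  (hX : fittingOf M ⊓ (fittingOf M).map (MulAut.conj g).toMonoidHom ≠ ⊥)
include hg hX

/-- BG 15.7 (a): `M_F = M_σ`. -/
theorem fittingHallOf_eq_of_nonTI : fittingHallOf M = sigmaCore M := by
  by_contra hne
  obtain ⟨K, U, hKU⟩ := exists_decomposition hG hM
  obtain ⟨-, hd⟩ := coreData_of_ne hG hM hKU hne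
  obtain ⟨x, ⟨hx, hxg⟩, hx1⟩ := exists_mem_ne_one _ hX
  have hgi : g⁻¹ ∉ normalizer (fittingOf M : Set G) := fun h => by
    rw [normalizer_eq_of_coatom hG hM (ne_bot_of_le_ne_bot hX inf_le_left)
      (ne_top_of_not_dvd hM (fittingOf_le M)) (le_normalizer_fittingOf M), inv_mem_iff] at h
    exact hg h
  exact hx1 (hd.fittingOf_TI g⁻¹ hgi x hx (by simpa using mem_map_conj_iff.mp hxg))

theorem sigmaCore_nilpotent_of_nonTI : Group.IsNilpotent (sigmaCore M) :=
  fittingHallOf_eq_of_nonTI hG hM hg hX ▸ fittingHallOf_nilpotent M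

/-- BG 15.7 (b): the intersection lies in `M_σ`. -/
theorem nonTI_inter_le :
    fittingOf M ⊓ (fittingOf M).map (MulAut.conj g).toMonoidHom ≤ sigmaCore M := by
  intro x hx
  refine mem_of_prime_power_parts fun r hr z hz hd hzk => ?_
  have hzX : z ∈ fittingOf M ⊓ (fittingOf M).map (MulAut.conj g).toMonoidHom :=
    (zpowers_le.mpr hx) hz
  obtain ⟨k, hzk⟩ := hzk
  obtain ⟨i, -, hi⟩ := (Nat.dvd_prime_pow hr.out).mp (orderOf_dvd_of_pow_eq_one hzk)
  by_cases hrσ : r ∈ sigma M
  · exact le_sigmaCore_of_isPGroup hG hM (zpowers_le.mpr (fittingOf_le M hzX.1))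
      (IsPGroup.of_card (n := i) (by rw [Nat.card_zpowers, hi])) hrσ (mem_zpowers z)
  by_cases hz1 : z = 1
  · rw [hz1]; exact one_mem _
  exfalso
  have hrd : r ∣ orderOf z := by
    rw [hi]
    refine dvd_pow_self r fun e => hz1 ?_
    rw [← orderOf_eq_one_iff, hi, e, pow_zero]
  set y := z ^ (orderOf z / r) with hy
  have hyo : orderOf y = r := orderOf_pow_orderOf_div (orderOf_pos z).ne' hrd
  have hyX := pow_mem hzX (orderOf z / r)
  rw [← hy] at hyX
  have hyr : y ^ r = 1 := by rw [← hyo, pow_orderOf_eq_one]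
  have hyF : y ∈ fittingOf M := hyX.1
  have hyg := mem_map_conj_iff.mp hyX.2
  obtain ⟨hYc, -, -⟩ := S1439.result hG M hM
  have hy1 := mem_fitting_of_not_sigma hG hM hrσ hyF hyr
  have hy2 := mem_fitting_of_not_sigma hG hM hrσ hyg (by
    have h := (MulAut.conj g⁻¹).toMonoidHom.map_pow y r
    simpa [hyr] using h.symm)
  set y' := g⁻¹ * y * g with hy'
  have hy'o : orderOf y' = r := by
    rw [← hyo, hy', show g⁻¹ * y * g = MulAut.conj g⁻¹ y by simp, MulEquiv.orderOf_eq]
  have heq : zpowers y' = zpowers y :=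
    eq_of_card_eq_of_isCyclic hYc (zpowers_le.mpr hy2) (zpowers_le.mpr hy1)
      (by rw [Nat.card_zpowers, Nat.card_zpowers, hy'o, hyo])
  have hgn : g⁻¹ ∈ normalizer (zpowers y : Set G) := by
    refine mem_normalizer_of_map_conj ?_
    rw [MonoidHom.map_zpowers]
    simpa [hy'] using heq
  have hMY : M ≤ normalizer (piCoreOf {q | q.Prime ∧ q ∉ sigma M} (fittingOf M) : Set G) :=
    LocalStructure.le_normalizer_map_characteristic (le_normalizer_fittingOf M) _
  rw [normalizer_eq_of_coatom hG hM (by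
      rw [Ne, zpowers_eq_bot]; exact fun e => hr.out.ne_one (by rw [← hyo, e, orderOf_one]))
    (ne_top_of_not_dvd hM (zpowers_le.mpr (fittingOf_le M hyF)))
    (hMY.trans (normalizer_le_normalizer_of_isCyclic hYc (zpowers_le.mpr hy1))), inv_mem_iff] at hgn
  exact hg hgn

theorem nonTI_inter_le_inf : fittingOf M ⊓ (fittingOf M).map (MulAut.conj g).toMonoidHom ≤
    sigmaCore M ⊓ M.map (MulAut.conj g).toMonoidHom :=
  le_inf (nonTI_inter_le hG hM hg hX) (inf_le_right.trans (map_mono (fittingOf_le M)))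

theorem nonTI_inter_cyclic :
    IsCyclic ↥(fittingOf M ⊓ (fittingOf M).map (MulAut.conj g).toMonoidHom) :=
  haveI := (inf_conj_structure hG hM hg).1
  Subgroup.isCyclic_of_le (nonTI_inter_le_inf hG hM hg hX)

/-- A line of the intersection determines a second maximal subgroup and a plane. -/
theorem exists_lineSupport {p : ℕ} [Fact p.Prime] {x : G}
    (hx : x ∈ fittingOf M ⊓ (fittingOf M).map (MulAut.conj g).toMonoidHom) (hxo : orderOf x = p) :
    ∃ N B : Subgroup G, LineSupport p M N B x := by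
  have hxD := nonTI_inter_le_inf hG hM hg hX hx
  have hpD : p ∣ Nat.card ↥(sigmaCore M ⊓ M.map (MulAut.conj g).toMonoidHom) :=
    hxo ▸ Subgroup.orderOf_dvd_natCard _ hxD
  have hpσ : p ∈ sigma M :=
    piNum_sigmaCore M p Fact.out (hpD.trans (card_dvd_of_le inf_le_left))
  have hpβ := (inf_conj_structure hG hM hg).2.1 p Fact.out hpD
  have hx1 : x ≠ 1 := fun e => (Fact.out : p.Prime).ne_one (by rw [← hxo, e, orderOf_one])
  have hxp : x ^ p = 1 := by rw [← hxo, pow_orderOf_eq_one]
  have hxC : ¬ centralizer ({x} : Set G) ≤ M := fun hle =>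
    hg (mem_of_centralizer_le hG hM hpσ (X := zpowers x)
      (isPGroup_of_card_prime (by rw [Nat.card_zpowers, hxo]))
      (by rwa [Ne, zpowers_eq_bot]) (zpowers_le.mpr (sigmaCore_le M hxD.1))
      (zpowers_le.mpr hxD.2) (by rwa [centralizer_zpowers]))
  obtain ⟨N, hN, -, hCN, -, h2, hMN, -, -⟩ := exists_support hG hM hxD.1 hx1 hxC
  have hp2 := h2 p Fact.out (dvd_of_eq hxo.symm)
  obtain ⟨B, hBD, hB⟩ := exists_plane_in_compl hG hN hMN hp2
  have hxMN : x ∈ M ⊓ N :=
    ⟨sigmaCore_le M hxD.1, hCN (mem_centralizer_singleton_iff.mpr rfl)⟩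
  have hBn := (hB.isExceptional hG hN).le_normalizer_of_compl hG hN hMN hBD
  have hxB : x ∈ centralizer (B : Set G) := by
    refine le_centralizer_of_isMulCommutative le_rfl le_sup_right (comm_of_not_sigma hG hN
      hB.not_sigma ((isPGroup_of_card_prime (p := p) (P := zpowers x)
        (by rw [Nat.card_zpowers, hxo])).to_sup_of_normal_right' (Coprime.ea_isPGroup hB.elem)
          (zpowers_le.mpr (hBn hxMN))) (sup_le (zpowers_le.mpr hxMN.2) hB.le))
      (mem_sup_left (mem_zpowers x))
  exact ⟨N, B, hxo, hN, hCN, hMN, hp2, hB, hB.mem_of_pow hG hN hxp hxB, hBD,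
    le_sigmaCore_of_isPGroup hG hM (hBD.trans inf_le_left) (Coprime.ea_isPGroup hB.elem) hpσ,
    hpσ, hpβ⟩

end Cfsg.Agent.OddLocal
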