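import Cfsg.Agent.OddLocal.NonTILine

/-!
BG 15.7, second part: what one line of `F(M) ∩ F(M)ᵍ` says about the primary parts of `H = M_σ`.
-/

set_option autoImplicit false
set_option linter.unusedSectionVars false
set_option linter.style.haveILetI false

namespace Cfsg.Agent.OddLocal

open Subgroup Cfsg
open scoped commutatorElement

universe u

variable {G : Type u} [Group G] [Finite G] {M N B : Subgroup G} {p : ℕ} [hp : Fact p.Prime] {x : G}

variable (hG : IsMinSimpleOddOrder G) (hM : IsCoatom M)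
include hG hM

/-- `O_p(M_σ)` is a Sylow subgroup of `G` for `p ∈ σ(M)` and nilpotent `M_σ`. -/
theorem exists_sylow_eq_rPart (hn : Group.IsNilpotent (sigmaCore M)) (hσ : p ∈ sigma M) :
    ∃ (P : Sylow p M) (S : Sylow p G), (P : Subgroup M).map M.subtype = rPart p (sigmaCore M) ∧
      (S : Subgroup G) = rPart p (sigmaCore M) := by
  obtain ⟨P⟩ : Nonempty (Sylow p M) := inferInstance
  obtain ⟨S, hS⟩ := sigma_sylow hσ P
  have hSM : (S : Subgroup G) ≤ M := hS ▸ map_subtype_le _
  have h1 : (S : Subgroup G) ≤ rPart p (sigmaCore M) :=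
    le_rPart_of_isPGroup hn (le_sigmaCore_of_isPGroup hG hM hSM S.2 hσ) S.2
  have h2 : rPart p (sigmaCore M) = (S : Subgroup G) := S.is_maximal' isPGroup_rPart h1
  exact ⟨P, S, by rw [← hS, h2], h2.symm⟩

variable (h : LineSupport p M N B x) (hn : Group.IsNilpotent (sigmaCore M))
include h hn

theorem LineSupport.ne_one : x ≠ 1 :=
  fun e => hp.out.ne_one (by rw [← h.order, e, orderOf_one])

theorem LineSupport.pow_eq_one : x ^ p = 1 := by rw [← h.order, pow_orderOf_eq_one]

theorem LineSupport.mem_rPart : x ∈ rPart p (sigmaCore M) :=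
  mem_rPart_of_pow hn (h.le_core h.mem) (k := 1) (by rw [pow_one]; exact h.pow_eq_one hG hM hn)

theorem LineSupport.le_rPart : B ≤ rPart p (sigmaCore M) :=
  le_rPart_of_isPGroup hn h.le_core (Coprime.ea_isPGroup h.pair.elem)

/-- When `x` is central, `H` is abelian of rank exactly two. -/
theorem LineSupport.comm_of_central (hc : sigmaCore M ≤ centralizer ({x} : Set G)) :
    IsMulCommutative (sigmaCore M) ∧ RankLE 2 (sigmaCore M) ∧ ¬ RankLE 1 (sigmaCore M) := by
  have hHN : sigmaCore M ≤ N := hc.trans h.cent_le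
  have hHD : sigmaCore M ≤ M ⊓ N := le_inf (sigmaCore_le M) hHN
  have hσN : ∀ r : ℕ, r.Prime → r ∣ Nat.card (sigmaCore M) → r ∉ sigma N := fun r hr hd =>
    compl_prime_not_sigma hG h.coatom h.compl hr (hd.trans (card_dvd_of_le hHD))
  refine ⟨comm_of_nilpotent hG h.coatom hHN hn hσN, fun q hq => ?_, fun h1 => ?_⟩
  · haveI := Fact.mk hq
    by_contra hne
    have h3 : ¬ PRankLE q 2 N := fun hr =>
      hne (pRankLE_of_injective (inclusion hHN) (inclusion_injective _) hr)
    refine hσN q hq ?_ (alpha_subset_sigma hG h.coatom ⟨hq, h3⟩)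
    obtain ⟨E, hEH, hEe, hE⟩ := exists_elementary_of_not_pRankLE hne
    obtain ⟨j, hj⟩ := IsPGroup.iff_card.mp (Coprime.ea_isPGroup hEe)
    refine dvd_trans ?_ (card_dvd_of_le hEH)
    rw [hj] at hE ⊢
    refine dvd_pow_self q fun e => ?_
    rw [e, pow_zero] at hE
    exact (Nat.one_lt_pow (by norm_num) hq.one_lt).not_ge hE
  · exact not_pRankLE_of_elementary (k := 1) h.le_core h.pair.elem h.pair.card.ge (h1 p hp.out)

theorem LineSupport.le_centralizer_of_comm (hc : IsMulCommutative (rPart p (sigmaCore M))) :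
    sigmaCore M ≤ centralizer ({x} : Set G) := by
  refine le_centralizer_of_rPart hn (h.mem_rPart hG hM hn) ?_
  exact (le_centralizer_of_isMulCommutative le_rfl le_rfl hc).trans
    (centralizer_le (Set.singleton_subset_iff.mpr (h.mem_rPart hG hM hn)))

variable (hnc : ¬ IsMulCommutative (rPart p (sigmaCore M)))
include hnc

theorem LineSupport.no_comm_sylow (S : Sylow p G) : ¬ IsMulCommutative (S : Subgroup G) := by
  intro hS
  obtain ⟨-, T, -, hT⟩ := exists_sylow_eq_rPart hG hM hn h.mem_sigma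
  exact hnc (hT ▸ sylow_comm_all hS)

theorem LineSupport.tau2_unique {q : ℕ} (hq : q ∈ tau2 N) : q = p := by
  by_contra hqp
  haveI := Fact.mk hq.1
  obtain ⟨-, S, -, -⟩ := exists_sylow_eq_rPart hG hM hn h.mem_sigma
  exact h.no_comm_sylow hG hM hn hnc S (sylow_comm_of_two hG h.coatom h.mem_tau2 hq hqp S)

theorem LineSupport.not_le_centralizer :
    ¬ rPart p (sigmaCore M) ≤ centralizer ({x} : Set G) := by
  intro hc
  obtain ⟨-, S, -, hS⟩ := exists_sylow_eq_rPart hG hM hn h.mem_sigma
  refine h.pair.sylow_not_le hG h.coatom (h.no_comm_sylow hG hM hn hnc) S ?_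
  rw [hS]
  exact hc.trans h.cent_le

/-- `O_{p'}(H)` is cyclic. -/
theorem LineSupport.prime_part_cyclic : IsCyclic (rPrimePart p (sigmaCore M)) := by
  set W := rPrimePart p (sigmaCore M) with hW
  have hWC : W ≤ centralizer ({x} : Set G) := rPrimePart_le_centralizer_rPart.trans
    (centralizer_le (Set.singleton_subset_iff.mpr (h.mem_rPart hG hM hn)))
  have hWN : W ≤ N := hWC.trans h.cent_le
  have hWD : W ≤ M ⊓ N := le_inf (rPrimePart_le.trans (sigmaCore_le M)) hWN
  have hσN : ∀ r : ℕ, r.Prime → r ∣ Nat.card W → r ∉ sigma N := fun r hr hd =>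
    compl_prime_not_sigma hG h.coatom h.compl hr (hd.trans (card_dvd_of_le hWD))
  have hWn : Group.IsNilpotent W := Core.isNilpotent_mono hn rPrimePart_le
  haveI : IsZGroup W := isZGroup_of_rankLE_one (hG.1.of_dvd_nat (card_subgroup_dvd_card W))
    fun q hq => by
      haveI := Fact.mk hq
      by_contra hne
      obtain ⟨E, hEW, hEe, hE⟩ := exists_elementary_of_not_pRankLE hne
      obtain ⟨j, hj⟩ := IsPGroup.iff_card.mp (Coprime.ea_isPGroup hEe)
      have hqW : q ∣ Nat.card W := by
        refine dvd_trans ?_ (card_dvd_of_le hEW)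
        rw [hj] at hE ⊢
        refine dvd_pow_self q fun e => ?_
        rw [e, pow_zero] at hE
        exact (Nat.one_lt_pow (by norm_num) hq.one_lt).not_ge hE
      have hqσ := hσN q hq hqW
      have h2 : PRankLE q 2 N := by
        by_contra hc
        exact hqσ (alpha_subset_sigma hG h.coatom ⟨hq, hc⟩)
      have h1 : ¬ PRankLE q 1 N := fun hc =>
        hne (pRankLE_of_injective (inclusion hWN) (inclusion_injective _) hc)
      have hqp := h.tau2_unique hG hM hn hnc ⟨hq, hqσ, h2, h1⟩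
      exact (hp.out.coprime_iff_not_dvd.mp
        ((coprime_card_rPrimePart (r := p) (F := sigmaCore M)).symm)) (by rw [hqp] at hqW; exact hqW)
  haveI := hWn
  infer_instance

theorem LineSupport.rPart_isCyclic {q : ℕ} [Fact q.Prime] (hqp : q ≠ p) :
    IsCyclic (rPart q (sigmaCore M)) :=
  haveI := h.prime_part_cyclic hG hM hn hnc
  Subgroup.isCyclic_of_le (rPart_le_rPrimePart hqp)

theorem LineSupport.mem_of_center {z : G} (hz : z ∈ rCenter p (sigmaCore M)) (hzp : z ^ p = 1) :
    z ∈ B := by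
  have hzC : z ∈ centralizer (sigmaCore M : Set G) := rCenter_le_centralizer hn hz
  refine h.pair.mem_of_pow hG h.coatom hzp (mem_centralizer_iff.mpr fun b hb =>
    mem_centralizer_iff.mp hzC b (h.le_core hb))

theorem LineSupport.not_mem_center : x ∉ rCenter p (sigmaCore M) := fun hxc =>
  h.not_le_centralizer hG hM hn hnc fun _ hy => mem_centralizer_singleton_iff.mpr
    (mem_centralizer_iff.mp (rCenter_le_centralizer hn hxc) _ (rPart_le hy))

/-- The line of order `p` of `Z(O_p(H))`. -/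
theorem LineSupport.center_line_card : Nat.card ↥(B ⊓ rCenter p (sigmaCore M)) = p := by
  obtain ⟨i, hi, hic⟩ := (Nat.dvd_prime_pow hp.out).mp
    (h.pair.card ▸ card_dvd_of_le (inf_le_left : B ⊓ rCenter p (sigmaCore M) ≤ B))
  interval_cases i
  · exfalso
    have hbot : B ⊓ rCenter p (sigmaCore M) = ⊥ := card_eq_one.mp (by rw [hic, pow_zero])
    have hpH : p ∣ Nat.card (sigmaCore M) :=
      h.order ▸ Subgroup.orderOf_dvd_natCard _ (h.le_core h.mem)
    obtain ⟨q, hq, hqd⟩ := exists_prime_dvd_of_ne_bot (rCenter_ne_bot (r := p) hn hpH)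
    obtain rfl : q = p := mem_singleton_of_isPGroup isPGroup_rCenter q hq hqd
    obtain ⟨z, hz⟩ := exists_prime_orderOf_dvd_card' q hqd
    rw [← orderOf_coe] at hz
    have hz1 : (z : G) ^ q = 1 := orderOf_dvd_iff_pow_eq_one.mp (dvd_of_eq hz)
    have := hbot.le ⟨h.mem_of_center hG hM hn hnc z.2 hz1, z.2⟩
    rw [mem_bot] at this
    rw [this, orderOf_one] at hz
    exact hq.ne_one hz.symm
  · rw [hic, pow_one]
  · exfalso
    have he : B ⊓ rCenter p (sigmaCore M) = B :=
      eq_of_le_of_card_ge inf_le_left (by rw [hic, h.pair.card])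
    exact h.not_mem_center hG hM hn hnc (he.ge h.mem).2

theorem LineSupport.center_line_normal :
    M ≤ normalizer ((B ⊓ rCenter p (sigmaCore M) : Subgroup G) : Set G) := by
  intro m hm
  refine mem_normalizer_of_map_conj (eq_of_le_of_card_ge ?_ (card_map_conj _ _).ge)
  rintro _ ⟨z, ⟨hzB, hzC⟩, rfl⟩
  have hc : MulAut.conj m z ∈ rCenter p (sigmaCore M) :=
    (mem_normalizer_iff.mp (le_normalizer_rCenter (le_normalizer_sigmaCore M) hm) z).mp hzC
  refine ⟨h.mem_of_center hG hM hn hnc hc ?_, hc⟩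
  rw [← map_pow, h.pair.elem.2 z hzB, map_one]

/-- For each prime of `H` there is a normal line of `M` in `H`. -/
theorem LineSupport.exists_line {q : ℕ} [Fact q.Prime] (hqH : q ∣ Nat.card (sigmaCore M)) :
    ∃ L : Subgroup G, L ≤ sigmaCore M ∧ Nat.card L = q ∧ M ≤ normalizer (L : Set G) ∧
      (q ≠ p → L ≤ rPrimePart p (sigmaCore M)) := by
  by_cases hqp : q = p
  · subst hqp
    exact ⟨B ⊓ rCenter q (sigmaCore M), inf_le_left.trans h.le_core,
      h.center_line_card hG hM hn hnc, h.center_line_normal hG hM hn hnc, fun e => absurd rfl e⟩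
  obtain ⟨⟨z, hz⟩, hzo⟩ := exists_prime_orderOf_dvd_card' q hqH
  rw [Subgroup.orderOf_mk] at hzo
  have hzP : z ∈ rPart q (sigmaCore M) :=
    mem_rPart_of_pow hn hz (k := 1) (by rw [pow_one, ← hzo, pow_orderOf_eq_one])
  refine ⟨zpowers z, zpowers_le.mpr hz, by rw [Nat.card_zpowers, hzo], ?_,
    fun _ => zpowers_le.mpr (rPart_le_rPrimePart hqp hzP)⟩
  exact (le_normalizer_rPart (le_normalizer_sigmaCore M)).trans
    (normalizer_le_normalizer_of_isCyclic (h.rPart_isCyclic hG hM hn hnc hqp) (zpowers_le.mpr hzP))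

omit h hnc in
/-- `|F(M) ∩ F(M)ᵍ| = p` when `O_p(H)` is not abelian. -/
theorem nonTI_inter_card {g : G} (hg : g ∉ M)
    (hX : fittingOf M ⊓ (fittingOf M).map (MulAut.conj g).toMonoidHom ≠ ⊥)
    (h : LineSupport p M N B x)
    (hx : x ∈ fittingOf M ⊓ (fittingOf M).map (MulAut.conj g).toMonoidHom)
    (hnc : ¬ IsMulCommutative (rPart p (sigmaCore M))) :
    Nat.card ↥(fittingOf M ⊓ (fittingOf M).map (MulAut.conj g).toMonoidHom) = p := by
  set X := fittingOf M ⊓ (fittingOf M).map (MulAut.conj g).toMonoidHom with hXdef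
  haveI := nonTI_inter_cyclic hG hM hg hX
  have hpX : IsPGroup p X := by
    have hne : Nat.card X ≠ 0 := Nat.card_pos.ne'
    refine IsPGroup.of_card (Nat.eq_prime_pow_of_unique_prime_dvd hne ?_)
    intro q hq hqd
    haveI := Fact.mk hq
    by_contra hqp
    obtain ⟨⟨y, hy⟩, hyo⟩ := exists_prime_orderOf_dvd_card' q hqd
    rw [Subgroup.orderOf_mk] at hyo
    obtain ⟨N', B', h'⟩ := exists_lineSupport hG hM hg hX hy hyo
    haveI := h.rPart_isCyclic hG hM hn hnc hqp
    exact h'.pair.not_isCyclic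
      (Subgroup.isCyclic_of_le (le_rPart_of_isPGroup hn h'.le_core
        (Coprime.ea_isPGroup h'.pair.elem)))
  obtain ⟨⟨w, hw⟩, hgen⟩ := IsCyclic.exists_generator (α := X)
  obtain ⟨k, hk⟩ := IsPGroup.iff_card.mp hpX
  have hwo : orderOf w = p ^ k := by
    rw [← hk, ← Subgroup.orderOf_mk w hw, orderOf_eq_card_of_forall_mem_zpowers hgen]
  match k, hk, hwo with
  | 0, hk, _ =>
    exact absurd (card_eq_one.mp (by rw [hk, pow_zero])) hX
  | 1, hk, _ => rw [hk, pow_one]
  | j + 2, hk, hwo =>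
    exfalso
    set v := w ^ p ^ j with hv
    have hvo : orderOf v = p ^ 2 := by
      rw [hv, orderOf_pow' _ (pow_pos hp.out.pos j).ne', hwo,
        Nat.gcd_eq_right (pow_dvd_pow p (by omega)), Nat.pow_div (by omega) hp.out.pos]
      congr 1
      omega
    set x' := v ^ p with hx'
    have hx'o : orderOf x' = p := by
      rw [hx', orderOf_pow' _ hp.out.ne_zero, hvo,
        Nat.gcd_eq_right (dvd_pow_self p two_ne_zero), pow_two, Nat.mul_div_cancel _ hp.out.pos]
    have hvX : v ∈ X := pow_mem hw _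
    obtain ⟨N', B', h'⟩ := exists_lineSupport hG hM hg hX (pow_mem hvX p) hx'o
    rw [← hx'] at h'
    have hvN : v ∈ N' := h'.cent_le (mem_centralizer_singleton_iff.mpr
      ((Commute.refl v).pow_right p).eq)
    have hvD : v ∈ M ⊓ N' := ⟨sigmaCore_le M (nonTI_inter_le hG hM hg hX hvX), hvN⟩
    have hBn := (h'.pair.isExceptional hG h'.coatom).le_normalizer_of_compl hG h'.coatom h'.compl
      h'.le_meet
    have hpT : IsPGroup p ↥(zpowers v ⊔ B') :=
      (IsPGroup.of_card (n := 2) (by rw [Nat.card_zpowers, hvo]) :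
        IsPGroup p (zpowers v)).to_sup_of_normal_right' (Coprime.ea_isPGroup h'.pair.elem)
        (zpowers_le.mpr (hBn hvD))
    have hvB : v ∈ centralizer (B' : Set G) := le_centralizer_of_isMulCommutative le_rfl le_sup_right
      (comm_of_not_sigma hG h'.coatom h'.pair.not_sigma hpT
        (sup_le (zpowers_le.mpr hvN) h'.pair.le)) (mem_sup_left (mem_zpowers v))
    obtain ⟨S, hS⟩ := hpT.exists_le_sylow
    have hab := h.no_comm_sylow hG hM hn hnc
    obtain ⟨C₁, -, -, hpow, hcent, -⟩ := centralizer_split hG (S := S) (le_sup_right.trans hS)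
      h'.pair.elem h'.pair.card (fun C hC hBC => h'.pair.maximal hG h'.coatom hC hBC) (hab S)
    have hx'C : x' ∈ C₁ := hpow v ⟨hS (mem_sup_left (mem_zpowers v)), hvB⟩
    refine (h'.pair.central_line hG h'.coatom hab h'.mem (h'.ne_one hG hM hn)
      (hcent x' hx'C (h'.pow_eq_one hG hM hn))).2 ?_
    rw [centralizer_zpowers]
    exact h'.cent_le

end Cfsg.Agent.OddLocal
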