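import Cfsg.Agent.OddLocal.TauTwoTools
import Cfsg.Agent.S1412
import Cfsg.Agent.S1414
import Cfsg.Agent.S1416

/-!
BG 12.10 (a): every nonabelian `p`-subgroup lies in exactly one maximal subgroup.
-/

set_option autoImplicit false
set_option linter.unusedSectionVars false
set_option linter.style.haveILetI false

namespace Cfsg.Agent.OddLocal

open Subgroup Cfsg
open scoped commutatorElement

universe u

variable {G : Type u} [Group G] [Finite G] {p : ℕ} [hp : Fact p.Prime] {M H P : Subgroup G}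

omit hp in
/-- `N(X)` lies in `M` and in no other maximal subgroup. -/
def NormalizerUniqueIn (M X : Subgroup G) : Prop :=
  normalizer (X : Set G) ≤ M ∧ ∀ L : Subgroup G, IsCoatom L → normalizer (X : Set G) ≤ L → L = M

omit hp in
theorem NormalizerUniqueIn.not_both {X : Subgroup G} (hH : IsCoatom H) (hne : H ≠ M)
    (h : NormalizerUniqueIn M X) (h' : NormalizerUniqueIn H X) : False := hne (h.2 H hH h'.1)

theorem centralizer_le_normalizer_zpowers (x : G) :
    centralizer ({x} : Set G) ≤ normalizer (zpowers x : Set G) := fun g hg => by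
  refine mem_normalizer_of_map_conj ?_
  rw [MonoidHom.map_zpowers]
  congr 1
  change g * x * g⁻¹ = x
  rw [mem_centralizer_singleton_iff.mp hg, mul_inv_cancel_right]

omit hp in
theorem pRankLE_of_sylow {k : ℕ} [Fact p.Prime] (S : Sylow p G)
    (h : PRankLE p k (S : Subgroup G)) : PRankLE p k G := by
  by_contra hc
  obtain ⟨V, hVe, hVc⟩ : ∃ V : Subgroup G, IsElementaryAbelian p V ∧ p ^ (k + 1) ≤ Nat.card V := by
    obtain ⟨V, hVT, hVe, hVc⟩ := exists_elementary_of_not_pRankLE (K := (⊤ : Subgroup G)) (r := p)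
      (fun h' => hc (pRankLE_of_injective
        ((Subgroup.topEquiv (G := G)).symm.toMonoidHom)
        (Subgroup.topEquiv (G := G)).symm.injective h'))
    exact ⟨V, hVe, hVc⟩
  obtain ⟨T, hVT⟩ := (Coprime.ea_isPGroup hVe).exists_le_sylow
  obtain ⟨g, hg⟩ := MulAction.exists_smul_eq G T S
  refine not_pRankLE_of_elementary (k := k) ?_ (isElementaryAbelian_map hVe g)
    (by rw [card_map_conj]; exact hVc) h
  rw [← hg, Sylow.coe_subgroup_smul]
  exact map_mono hVT

variable (hG : IsMinSimpleOddOrder G)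
include hG

/-- The plane argument: `N(⟨y⟩) ≤ H` for all noncentral `y` of `P₁` forces `M ≤ H`. -/
theorem le_of_lines (hM : IsCoatom M) (hH : IsCoatom H) (hpM : p ∈ sigma M) (hpH : p ∈ sigma H)
    (S : Sylow p G) (hSM : (S : Subgroup G) ≤ M) (hSH : (S : Subgroup G) ≤ H)
    (hr : ¬ IsIdealPrime p G) {P₁ : Subgroup G} (hP₁S : P₁ ≤ (S : Subgroup G)) {z : G}
    (hzP : z ∈ P₁) (hz1 : z ≠ 1) (hexp : ∀ u ∈ P₁, u ^ p = 1)
    (hzc : ∀ u ∈ P₁, Commute z u)
    (hder : ∀ u ∈ P₁, ∀ v ∈ P₁, ⁅u, v⁆ ∈ zpowers z) (hbig : p ^ 3 ≤ Nat.card P₁)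
    (hline : ∀ u ∈ P₁, u ∉ zpowers z → normalizer (zpowers u : Set G) ≤ H) : M ≤ H := by
  obtain ⟨hHall, -, ⟨H₀, hH₀, hH₀n⟩, -⟩ := Cfsg.Agent.S1414.result hG M hM
  have hpβ : p ∉ beta M := fun hb => hr hb.2
  set B := piCoreOf (beta M) M with hB
  have hBn : M ≤ normalizer (B : Set G) := le_normalizer_piCoreOf _ _
  -- `M_β ≤ H`
  have hcop : ∀ X : Subgroup G, IsPGroup p X → (Nat.card X).Coprime (Nat.card B) := by
    intro X hX
    obtain ⟨j, hj⟩ := IsPGroup.iff_card.mp hX
    rw [hj]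
    exact (hp.out.coprime_iff_not_dvd.mpr fun hd => hpβ (hHall.2.1 p hp.out hd)).pow_left j
  have hP₁p : IsPGroup p P₁ := S.2.to_le hP₁S
  have hP₁M : P₁ ≤ M := hP₁S.trans hSM
  have hcent : ∀ u ∈ P₁, u ∉ zpowers z → centralizer ({u} : Set G) ≤ H := fun u hu hu' =>
    (centralizer_le_normalizer_zpowers u).trans (hline u hu hu')
  have hzo : orderOf z = p := orderOf_eq_prime (hexp z hzP) hz1
  have hzle : zpowers z ≤ P₁ := zpowers_le.mpr hzP
  obtain ⟨y, hy, hyz⟩ : ∃ y ∈ P₁, y ∉ zpowers z := by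
    by_contra hc
    push Not at hc
    have h1 := hbig.trans (card_le_of_le (K := zpowers z) hc)
    rw [Nat.card_zpowers, hzo] at h1
    exact absurd h1 (not_le.mpr (lt_self_pow₀ hp.out.one_lt (by norm_num)))
  have hyo : orderOf y = p := orderOf_eq_prime (hexp y hy) fun e => hyz (e ▸ one_mem _)
  have hAle : closure ({y, z} : Set G) ≤ P₁ := by
    rw [closure_le]; rintro x (rfl | rfl) <;> assumption
  obtain ⟨w, hw, hwA⟩ : ∃ w ∈ P₁, w ∉ closure ({y, z} : Set G) := by
    by_contra hc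
    push Not at hc
    have hyzc : Commute y z := (hzc y hy).symm
    have h1 : Nat.card (closure ({y, z} : Set G)) ≤ p ^ 2 := by
      have h2 : closure ({y, z} : Set G) ≤ zpowers y ⊔ zpowers z := by
        rw [closure_le]
        rintro x (rfl | rfl)
        · exact mem_sup_left (mem_zpowers _)
        · exact mem_sup_right (mem_zpowers _)
      refine (card_le_of_le h2).trans ?_
      rw [show p ^ 2 = Nat.card (zpowers y) * Nat.card (zpowers z) by
        rw [Nat.card_zpowers, Nat.card_zpowers, hyo, hzo, sq]]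
      have hn : zpowers y ≤ normalizer (zpowers z : Set G) :=
        (zpowers_le.mpr (mem_centralizer_singleton_iff.mpr hyzc)).trans
          (centralizer_le_normalizer_zpowers z)
      rw [sup_comm, mul_comm]
      exact Nat.le_of_dvd (Nat.mul_pos Nat.card_pos Nat.card_pos)
        (Core.card_sup_dvd_of_le_normalizer hn)
    have h2 := (hbig.trans (card_le_of_le hc)).trans h1
    exact absurd h2 (not_le.mpr (Nat.pow_lt_pow_right hp.out.one_lt (by norm_num)))
  set Y := centralizer ({z} : Set G) with hY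
  have hP₁Y : P₁ ≤ Y := fun u hu => mem_centralizer_singleton_iff.mpr (hzc u hu).symm
  set V := B ⊓ Y with hV
  have hP₁V : P₁ ≤ normalizer (V : Set G) :=
    Coprime.le_normalizer_inf (hP₁M.trans hBn) (hP₁Y.trans Subgroup.le_normalizer)
  have hVH : V ≤ H := by
    haveI : ((zpowers z).subgroupOf Y).Normal := normal_subgroupOf_of_le_normalizer
      (centralizer_le_normalizer_zpowers z)
    set f := QuotientGroup.mk' ((zpowers z).subgroupOf Y) with hf
    set y' : Y := ⟨y, hP₁Y hy⟩
    set w' : Y := ⟨w, hP₁Y hw⟩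
    have hfix : ∀ u : Y, (u : G) ∈ P₁ → (u : G) ∉ zpowers z →
        (V.subgroupOf Y).map f ⊓ centralizer {f u} ≤ (H.subgroupOf Y).map f := by
      rintro u hu huz _ ⟨⟨v, hv, rfl⟩, hc⟩
      refine ⟨v, hcent u hu huz (mem_centralizer_singleton_iff.mpr ?_), rfl⟩
      have h1 : f (v * u * v⁻¹ * u⁻¹) = 1 := by
        rw [map_mul, map_mul, map_mul, mem_centralizer_singleton_iff.mp hc, map_inv, map_inv]
        group
      rw [← MonoidHom.mem_ker, hf, QuotientGroup.ker_mk', mem_subgroupOf] at h1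
      simp only [Subgroup.coe_mul, InvMemClass.coe_inv] at h1
      have h2 : (v : G) * u * (v : G)⁻¹ * (u : G)⁻¹ ∈ V := by
        have h3 := V.mul_mem hv ((mem_normalizer_iff.mp (hP₁V hu) _).mp (V.inv_mem hv))
        simpa [mul_assoc] using h3
      have h4 : (v : G) * u * (v : G)⁻¹ * (u : G)⁻¹ ∈ (⊥ : Subgroup G) := by
        rw [← Coprime.inf_eq_bot_of_coprime (Nat.Coprime.coprime_dvd_right
          (card_dvd_of_le (inf_le_left : V ≤ B)) (hcop _ (hP₁p.to_le hzle)))]
        exact ⟨h1, h2⟩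
      rw [mem_bot, mul_inv_eq_one, mul_inv_eq_iff_eq_mul] at h4
      exact h4
    have hVB : V ≤ B := inf_le_left
    have key : (V.subgroupOf Y).map f ≤ (H.subgroupOf Y).map f := by
      have hnor : ∀ u : Y, (u : G) ∈ P₁ → f u ∈ normalizer ((V.subgroupOf Y).map f : Set _) := by
        intro u hu
        refine le_normalizer_map f (mem_map_of_mem f (mem_normalizer_iff.mpr fun x => ?_))
        simp only [mem_subgroupOf, Subgroup.coe_mul, InvMemClass.coe_inv]
        exact mem_normalizer_iff.mp (hP₁V hu) (x : G)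
      have hpow : ∀ u : Y, (u : G) ∈ P₁ →
          f u ^ p ∈ centralizer ((V.subgroupOf Y).map f : Set _) := by
        intro u hu
        rw [← map_pow, show u ^ p = 1 from Subtype.ext (hexp u hu), map_one]
        exact one_mem _
      refine Coprime.le_of_centralizers_le (a := f y') (b := f w') ?_ (hnor y' hy) (hnor w' hw)
        hp.out (hpow y' hy) (hpow w' hw) ?_ ?_ (hfix y' hy hyz) fun k => ?_
      · change f y' * f w' = f w' * f y'
        rw [← map_mul, ← map_mul, QuotientGroup.mk'_eq_mk']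
        refine ⟨(y' * w')⁻¹ * (w' * y'), ?_, by group⟩
        rw [mem_subgroupOf]
        have h1 := hder w⁻¹ (inv_mem hw) y⁻¹ (inv_mem hy)
        simpa [commutatorElement_def, mul_assoc, y', w'] using h1
      · refine Nat.Coprime.coprime_dvd_right ((card_map_dvd _ f).trans
          ((Coprime.card_subgroupOf inf_le_right).dvd.trans (card_dvd_of_le hVB))) ?_
        exact hp.out.coprime_iff_not_dvd.mpr fun hd => hpβ (hHall.2.1 p hp.out hd)
      · refine Nat.Coprime.coprime_dvd_right ((card_map_dvd _ f).trans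
          ((Coprime.card_subgroupOf inf_le_right).dvd.trans (card_dvd_of_le hVB))) ?_
        refine Nat.Coprime.coprime_dvd_left ?_ (hcop P₁ hP₁p)
        refine (card_dvd_of_le (K := (P₁.subgroupOf Y).map f) ?_).trans
          ((card_map_dvd _ f).trans (Coprime.card_subgroupOf hP₁Y).dvd)
        rw [closure_le]
        rintro x (rfl | rfl)
        · exact mem_map_of_mem f (show y' ∈ P₁.subgroupOf Y from hy)
        · exact mem_map_of_mem f (show w' ∈ P₁.subgroupOf Y from hw)
      · rw [← map_pow, ← map_mul]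
        refine hfix (y' ^ k * w') (P₁.mul_mem (P₁.pow_mem hy k) hw) fun hmem => hwA ?_
        have h1 : y ^ k * w ∈ closure ({y, z} : Set G) :=
          (zpowers_le.mpr (subset_closure (Set.mem_insert_of_mem y (Set.mem_singleton z)))) hmem
        have h2 := mul_mem (inv_mem (pow_mem (subset_closure (Set.mem_insert y {z})) k)) h1
        rwa [inv_mul_cancel_left] at h2
    intro v hv
    obtain ⟨x, hx, hxv⟩ := key (mem_map_of_mem f (show (⟨v, hv.2⟩ : Y) ∈ V.subgroupOf Y from hv))
    have h1 : x⁻¹ * ⟨v, hv.2⟩ ∈ (zpowers z).subgroupOf Y := QuotientGroup.eq.mp hxv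
    rw [mem_subgroupOf] at h1
    simp only [Subgroup.coe_mul, InvMemClass.coe_inv] at h1
    have h2 := H.mul_mem hx ((hzle.trans (hP₁S.trans hSH)) h1)
    change (x : G) * ((x : G)⁻¹ * v) ∈ H at h2
    rwa [mul_inv_cancel_left] at h2
  have hBH : B ≤ H := by
    have hyB := (hP₁M.trans hBn) hy
    refine Coprime.le_of_centralizers_le (a := y) (b := z) (hzc y hy).symm hyB
      ((hP₁M.trans hBn) hzP) hp.out (by rw [hexp y hy]; exact one_mem _)
      (by rw [hexp z hzP]; exact one_mem _) ?_ ((hcop _ (hP₁p.to_le hAle))) ?_ fun k => ?_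
    · exact hp.out.coprime_iff_not_dvd.mpr fun hd => hpβ (hHall.2.1 p hp.out hd)
    · exact inf_le_right.trans (hcent y hy hyz)
    · by_cases hk : p ∣ k
      · obtain ⟨j, rfl⟩ := hk
        rw [pow_mul, hexp y hy, one_pow, one_mul]
        exact hVH
      · refine inf_le_right.trans (hcent _ (P₁.mul_mem (P₁.pow_mem hy k) hzP) fun hmem => hyz ?_)
        have h1 : y ^ k ∈ zpowers z := by
          simpa using mul_mem hmem (inv_mem (mem_zpowers z))
        obtain ⟨i, hi⟩ := exists_pow_eq_self_of_coprime (x := y) (n := k)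
          (by rw [hyo]; exact (hp.out.coprime_iff_not_dvd.mpr hk).symm)
        exact hi ▸ pow_mem h1 i
  -- `M = M_β N_M(S)`
  set D := ⁅M, M⁆ with hD
  have hDM : D ≤ M := commutator_le_self M
  have hSD : (S : Subgroup G) ≤ D := by
    have h1 := sylow_le_commutator_of_sigma hG hM hpM (S.subtype hSM)
    rwa [Sylow.coe_subtype, map_subgroupOf_eq_of_le hSM] at h1
  haveI hMs := isSolvable_coatom hG hM
  have hDs : Group.IsSolvable D := Coprime.isSolvable_of_le hDM hMs
  obtain ⟨H₁, hH₁, -, hSH₁⟩ := Coprime.exists_le_invariant_hall (A := (⊥ : Subgroup G)) (K := D)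
    bot_le (by rw [card_bot]; exact Nat.coprime_one_left _) hDs hSD bot_le
    (π := {r | r.Prime ∧ r ∉ beta M}) (fun r hr hd => by
      obtain ⟨j, hj⟩ := IsPGroup.iff_card.mp S.2
      rw [(Nat.prime_dvd_prime_iff_eq hr hp.out).mp (hr.dvd_of_dvd_pow (hj ▸ hd))]
      exact ⟨hp.out, hpβ⟩)
  have hH₁n : Group.IsNilpotent H₁ := by
    obtain ⟨d, -, hd⟩ := Coprime.exists_conj_isPiHallOf hDs hH₀ hH₁
    rw [← hd]
    exact Group.nilpotent_of_mulEquiv (H₀.equivSMul (MulAut.conj d))
  have hH₁N : H₁ ≤ normalizer ((S : Subgroup G) : Set G) := by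
    haveI : ((S.subtype hSH₁ : Sylow p H₁) : Subgroup H₁).Normal :=
      (Group.isNilpotent_of_finite_tfae.out 0 3 rfl rfl).mp hH₁n p hp _
    intro h hh
    refine mem_normalizer_of_map_conj ?_
    refine eq_of_le_of_card_ge ?_ (card_map_conj _ _).ge
    rintro _ ⟨s, hs, rfl⟩
    have h1 := Subgroup.Normal.conj_mem (H := ((S.subtype hSH₁ : Sylow p H₁) : Subgroup H₁)) ‹_›
      ⟨s, hSH₁ hs⟩ (by rw [Sylow.coe_subtype, mem_subgroupOf]; exact hs) ⟨h, hh⟩
    simpa [Sylow.coe_subtype, mem_subgroupOf] using h1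
  haveI : (B.subgroupOf M).Normal := normal_subgroupOf_of_le_normalizer hBn
  have hDle : D ≤ B ⊔ H₁ := by
    refine Coprime.le_of_forall_sylow_le fun r hr => ?_
    haveI := Fact.mk hr
    by_cases hrβ : r ∈ beta M
    · obtain ⟨R⟩ : Nonempty (Sylow r D) := inferInstance
      refine ⟨R, le_trans ?_ le_sup_left⟩
      have h1 := Core.le_of_coprime_index (H := ((R : Subgroup D).map D.subtype).subgroupOf M)
        (N := B.subgroupOf M) (by
          obtain ⟨j, hj⟩ := IsPGroup.iff_card.mp (R.2.map D.subtype)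
          rw [Coprime.card_subgroupOf ((map_subtype_le _).trans hDM), hj]
          exact (hr.coprime_iff_not_dvd.mpr (hHall.2.2 r hr hrβ)).pow_left j)
      intro x hx
      exact h1 (show (⟨x, ((map_subtype_le _).trans hDM) hx⟩ : M) ∈
        ((R : Subgroup D).map D.subtype).subgroupOf M from hx)
    · obtain ⟨R⟩ : Nonempty (Sylow r H₁) := inferInstance
      have hle : (R : Subgroup H₁).map H₁.subtype ≤ D := (map_subtype_le _).trans hH₁.1
      have hc : Nat.card ↥(((R : Subgroup H₁).map H₁.subtype).subgroupOf D) =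
          r ^ (Nat.card D).factorization r := by
        have h1 := Coprime.card_mul_relIndex_of_le hH₁.1
        rw [Coprime.card_subgroupOf hle, card_map_of_injective H₁.subtype_injective,
          R.card_eq_multiplicity, ← h1, Nat.factorization_mul Nat.card_pos.ne'
            (fun e => by rw [e, mul_zero] at h1; exact Nat.card_pos.ne h1), Finsupp.add_apply,
          Nat.factorization_eq_zero_of_not_dvd (hH₁.2.2 r hr ⟨hr, hrβ⟩), add_zero]
      refine ⟨Sylow.ofCard _ hc, ?_⟩
      rw [Sylow.coe_ofCard, map_subgroupOf_eq_of_le hle]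
      exact (map_subtype_le _).trans le_sup_right
  haveI : (D.subgroupOf M).Normal := normal_subgroupOf_of_le_normalizer fun m hm =>
    mem_normalizer_of_map_conj (by
      rw [hD, map_commutator, map_conj_eq_self_of_mem (Subgroup.le_normalizer hm)])
  have hfr := Sylow.normalizer_sup_eq_top' (N := D.subgroupOf M) (S.subtype hSM) (by
    intro x hx
    rw [Sylow.coe_subtype, mem_subgroupOf] at hx
    exact mem_subgroupOf.mpr (hSD hx))
  intro m hm
  have hm' : (⟨m, hm⟩ : M) ∈
      normalizer ((S.subtype hSM : Sylow p M) : Set M) ⊔ D.subgroupOf M := by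
    rw [hfr]
    exact mem_top _
  have hsub : (normalizer ((S.subtype hSM : Sylow p M) : Set M) ⊔ D.subgroupOf M).map M.subtype ≤ H := by
    rw [Subgroup.map_sup, sup_le_iff]
    have hNH : normalizer ((S : Subgroup G) : Set G) ≤ H := normalizer_sylow_le hG hH hSH hpH
    refine ⟨?_, ?_⟩
    · refine le_trans ?_ hNH
      refine (Subgroup.le_normalizer_map _).trans (le_of_eq ?_)
      rw [Sylow.coe_subtype, map_subgroupOf_eq_of_le hSM]
    · rw [map_subgroupOf_eq_of_le hDM]
      exact hDle.trans (sup_le hBH (hH₁N.trans hNH))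
  exact hsub ⟨⟨m, hm⟩, hm', rfl⟩

/-- BG 12.10 (a). -/
theorem inUniqueMaximal_of_nonabelian (hP : IsPGroup p P) (hna : ¬ IsMulCommutative P) :
    InUniqueMaximal P := by
  have hPnc : ¬ IsCyclic P := fun h => hna inferInstance
  have hPtop : P ≠ ⊤ := ne_top_of_isPGroup_minSimple hG hP
  obtain ⟨M, hM, hPM⟩ := (eq_top_or_exists_le_coatom P).resolve_left hPtop
  refine ⟨M, ⟨hM, hPM⟩, fun H ⟨hH, hPH⟩ => ?_⟩
  by_contra hne
  have hsig : ∀ K : Subgroup G, IsCoatom K → P ≤ K → p ∈ sigma K := fun K hK hPK =>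
    Classical.byContradiction fun hc => hna (comm_of_not_sigma hG hK hc hP hPK)
  have hpM := hsig M hM hPM
  have hpH := hsig H hH hPH
  obtain ⟨R, hPR⟩ := exists_sylow_ge hP (le_inf hPM hPH)
  set R' := (R : Subgroup ↥(M ⊓ H)).map (M ⊓ H).subtype with hR'
  have hR'p : IsPGroup p R' := R.2.map _
  have hR'M : R' ≤ M := (map_subtype_le _).trans inf_le_left
  have hR'H : R' ≤ H := (map_subtype_le _).trans inf_le_right
  have hR'nc : ¬ IsCyclic R' := fun h => hPnc (isCyclic_of_le h hPR)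
  have hN : normalizer (R' : Set G) ≤ M ⊓ H :=
    le_inf (normalizer_le_of_not_isCyclic hG hM hpM hR'p hR'M hR'nc)
      (normalizer_le_of_not_isCyclic hG hH hpH hR'p hR'H hR'nc)
  obtain ⟨S, hRS⟩ := hR'p.exists_le_sylow
  have hSR : (S : Subgroup G) = R' := by
    refine le_antisymm ?_ hRS
    by_contra hc
    have hlt := card_lt_card_inf_normalizer S.2 (lt_of_le_not_ge hRS hc)
    set T := normalizer (R' : Set G) ⊓ (S : Subgroup G) with hT
    have hTle : T ≤ M ⊓ H := inf_le_left.trans hN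
    have hRT : R' ≤ T := le_inf Subgroup.le_normalizer hRS
    have h2 : (R : Subgroup ↥(M ⊓ H)) ≤ T.subgroupOf (M ⊓ H) := fun x hx =>
      mem_subgroupOf.mpr (hRT (mem_map_of_mem _ hx))
    have h3 := R.3 ((S.2.to_le inf_le_right : IsPGroup p T).comap_of_injective _
      (M ⊓ H).subtype_injective) h2
    have h4 : T ≤ R' := fun x hx => by
      rw [hR', ← h3]
      exact ⟨⟨x, hTle hx⟩, mem_subgroupOf.mpr hx, rfl⟩
    exact absurd (card_le_of_le h4) (not_le.mpr hlt)
  have hSM : (S : Subgroup G) ≤ M := hSR ▸ hR'M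
  have hSH : (S : Subgroup G) ≤ H := hSR ▸ hR'H
  have hSna : ¬ IsMulCommutative (S : Subgroup G) := fun h =>
    hna (isMulCommutative_of_le (hPR.trans hSR.ge) h)
  by_cases hr2 : PRankLE p 2 (S : Subgroup G)
  swap
  · obtain ⟨V, hVS, hVe, hV3⟩ := exists_elementary_of_not_pRankLE hr2
    exact hne ((inUniqueMaximal_of_elementary_three hG hVe hV3).unique
      ⟨hH, hVS.trans hSH⟩ ⟨hM, hVS.trans hSM⟩)
  have hideal : ¬ IsIdealPrime p G := fun h => h.2.1 (pRankLE_of_sylow S hr2)
  rcases Cfsg.Agent.S1412.result hG p S hr2 with h | ⟨P₁, P₂, hsup, hcomm, h1na, h13, h1e, h2c, hZ⟩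
  · exact hSna h
  have hP₁S : P₁ ≤ (S : Subgroup G) := hsup ▸ le_sup_left
  have hexp : ∀ u ∈ P₁, u ^ p = 1 := fun u hu => by
    have h := Monoid.pow_exponent_eq_one (⟨u, hu⟩ : P₁)
    rw [h1e] at h
    exact congrArg Subtype.val h
  set Z := P₁ ⊓ centralizer (P₁ : Set G) with hZdef
  have hP₁p : IsPGroup p P₁ := S.2.to_le hP₁S
  have hZ1 : Z ≠ ⊥ := by
    intro e
    have : Nontrivial P₁ := by
      rw [nontrivial_iff_ne_bot]; intro e'; rw [e', card_bot] at h13
      exact absurd h13 (by have := hp.out.two_le; exact ne_of_lt (Nat.one_lt_pow (by norm_num) hp.out.one_lt))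
    have := hP₁p.center_nontrivial
    obtain ⟨⟨c, hc⟩, hc1⟩ := exists_ne (1 : center P₁)
    refine hc1 (Subtype.ext (Subtype.ext ((eq_bot_iff_forall _).mp e c ⟨c.2, ?_⟩)))
    exact mem_centralizer_iff.mpr fun u hu =>
      congrArg Subtype.val (mem_center_iff.mp hc ⟨u, hu⟩)
  have hZc : IsCyclic Z := by
    rw [← hZ]
    exact isCyclic_of_le h2c ((closure_le _).mpr fun x hx => hx.1)
  obtain ⟨⟨z, hz⟩, hgen⟩ := hZc.exists_generator
  have hZz : Z = zpowers z := le_antisymm (fun x hx => by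
    obtain ⟨i, hi⟩ := hgen ⟨x, hx⟩
    exact ⟨i, congrArg Subtype.val hi⟩) (zpowers_le.mpr hz)
  have hz1 : z ≠ 1 := fun e => hZ1 (by rw [hZz, e, zpowers_one_eq_bot])
  have hzc : ∀ u ∈ P₁, Commute z u := fun u hu => (mem_centralizer_iff.mp hz.2 u hu).symm
  have hzo : orderOf z = p := orderOf_eq_prime (hexp z hz.1) hz1
  have hder : ∀ u ∈ P₁, ∀ v ∈ P₁, ⁅u, v⁆ ∈ zpowers z := by
    intro u hu v hv
    have hZn : P₁ ≤ normalizer (zpowers z : Set G) := fun u hu =>
      centralizer_le_normalizer_zpowers z (mem_centralizer_singleton_iff.mpr (hzc u hu).symm)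
    haveI := normal_subgroupOf_of_le_normalizer hZn
    set f := QuotientGroup.mk' ((zpowers z).subgroupOf P₁) with hf
    have hcard : Nat.card (P₁ ⧸ (zpowers z).subgroupOf P₁) = p ^ 2 := by
      have h1 := card_eq_card_quotient_mul_card_subgroup ((zpowers z).subgroupOf P₁)
      rw [h13, Coprime.card_subgroupOf (hZz ▸ inf_le_left : zpowers z ≤ P₁), Nat.card_zpowers, hzo,
        pow_succ] at h1
      exact (Nat.eq_of_mul_eq_mul_right hp.out.pos h1.symm)
    have h1 : f ⁅(⟨u, hu⟩ : P₁), ⟨v, hv⟩⁆ = 1 := by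
      rw [map_commutatorElement, commutatorElement_eq_one_iff_mul_comm]
      exact IsPGroup.commutative_of_card_eq_prime_sq hcard _ _
    rw [← MonoidHom.mem_ker, hf, QuotientGroup.ker_mk', mem_subgroupOf] at h1
    simpa [commutatorElement_def] using h1
  -- one of the maximal subgroups is attached to every plane
  have hchoice : ∀ K : Subgroup G, IsCoatom K → (S : Subgroup G) ≤ K →
      (∃ K' : Subgroup G, IsCoatom K' ∧ (S : Subgroup G) ≤ K' ∧ K' ≠ K ∧ p ∈ sigma K') →
      p ∈ sigma K → ∀ y ∈ P₁, y ∉ zpowers z →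
      NormalizerUniqueIn K (zpowers z) ∨ NormalizerUniqueIn K (zpowers y) := by
    rintro K hK hSK ⟨K', hK', hSK', hK'ne, hpK'⟩ hpK y hy hyz
    have hyo : orderOf y = p := orderOf_eq_prime (hexp y hy) fun e => hyz (e ▸ one_mem _)
    have hn : zpowers y ≤ normalizer (zpowers z : Set G) := zpowers_le.mpr
      (centralizer_le_normalizer_zpowers z (mem_centralizer_singleton_iff.mpr (hzc y hy).symm))
    set A := zpowers y ⊔ zpowers z with hA
    have hAP : A ≤ P₁ := sup_le (zpowers_le.mpr hy) (zpowers_le.mpr hz.1)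
    have hAe : IsElementaryAbelian p A := by
      refine Thompson.ea_iff.mpr ⟨?_, fun a ha => hexp a (hAP ha)⟩
      rw [hA, sup_le_iff, zpowers_le, zpowers_le, sup_eq_closure, centralizer_closure]
      have hyzc : Commute y z := (hzc y hy).symm
      refine ⟨mem_centralizer_iff.mpr ?_, mem_centralizer_iff.mpr ?_⟩ <;>
      · rintro x (⟨i, rfl⟩ | ⟨i, rfl⟩)
        · first
            | exact (Commute.zpow_left (Commute.refl y) i).eq
            | exact (hyzc.zpow_left i).eq
        · first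
            | exact (hyzc.symm.zpow_left i).eq
            | exact (Commute.zpow_left (Commute.refl z) i).eq
    have hA2 : Nat.card A = p ^ 2 := by
      have hb : zpowers z ⊓ zpowers y = ⊥ := by
        rw [inf_comm]
        refine (eq_bot_iff_forall _).mpr fun x hx => ?_
        by_contra hx1
        have hd : orderOf x ∣ p := hyo ▸ (by
          obtain ⟨i, rfl⟩ := mem_zpowers_iff.mp hx.1
          exact orderOf_dvd_of_pow_eq_one (by
            rw [← zpow_natCast, ← zpow_mul, mul_comm, zpow_mul, zpow_natCast, pow_orderOf_eq_one,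
              one_zpow]))
        have hxo := (hp.out.eq_one_or_self_of_dvd _ hd).resolve_left (mt orderOf_eq_one_iff.mp hx1)
        have heq : zpowers x = zpowers y := eq_of_le_of_card_ge (zpowers_le.mpr hx.1)
          (by rw [Nat.card_zpowers, Nat.card_zpowers, hxo, hyo])
        exact hyz ((zpowers_le.mpr hx.2) (heq.symm ▸ mem_zpowers y))
      rw [hA, sup_comm, Coprime.card_sup_eq_mul hn hb, Nat.card_zpowers, Nat.card_zpowers, hyo,
        hzo, sq]
    by_contra hc
    push Not at hc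
    have hmain := (Cfsg.Agent.S1416.result hG K hK p A
      ⟨hAP.trans (hP₁S.trans hSK), hAe, hA2⟩).2 (fun A₀ hA₀ hA₀c => ?_)
    · obtain ⟨T, hTK, hTn⟩ := exists_normal_sylow hG hK hmain.2.2 hpK
      have hTM : (T : Subgroup G) ≤ K := hTK.trans (sigmaCore_le K)
      have hST : (S : Subgroup G) = T :=
        S.3 T.2 (le_sylow_of_normal hG hK hTM hTn S.2 hSK) |>.symm
      have h1 : K ≤ K' := (hTn.trans (hST ▸ le_rfl)).trans (normalizer_sylow_le hG hK' hSK' hpK')
      rcases hK.le_iff.mp h1 with e | e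
      · exact hK'.1 e
      · exact hK'ne e
    intro hU
    have hA₀' : NormalizerUniqueIn K A₀ := hU
    by_cases hA₀z : A₀ ≤ zpowers z
    · exact hc.1 ((eq_of_le_of_card_ge hA₀z (by rw [Nat.card_zpowers, hzo, hA₀c])) ▸ hA₀')
    obtain ⟨u, hu, huz⟩ := SetLike.not_le_iff_exists.mp hA₀z
    have huo : orderOf u = p :=
      orderOf_eq_prime (hexp u (hAP (hA₀ hu))) fun e => huz (e ▸ one_mem _)
    have hA₀u : zpowers u = A₀ := eq_of_le_of_card_ge (zpowers_le.mpr hu)
      (by rw [Nat.card_zpowers, huo, hA₀c])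
    obtain ⟨a, ha, b, hb, hab⟩ := (Coprime.mem_sup_of_le_normalizer (N := zpowers z) (A := zpowers y)
      hn).mp (by rw [sup_comm]; exact hA₀ hu)
    obtain ⟨i, rfl⟩ := mem_zpowers_iff.mp hb
    have hb0 : y ^ i ≠ 1 := fun e => huz (by rw [← hab, e, mul_one]; exact ha)
    have hby : zpowers (y ^ i) = zpowers y := eq_of_le_of_card_ge (zpowers_le.mpr hb) (by
      rw [Nat.card_zpowers, Nat.card_zpowers, hyo, orderOf_eq_prime
        (hexp _ (P₁.zpow_mem hy i)) hb0])
    -- `y ^ i` is conjugate to `u` in `P₁`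
    set y₁ := y ^ i with hy₁
    have hy₁P : y₁ ∈ P₁ := P₁.zpow_mem hy i
    have hy₁z : y₁ ∉ zpowers z := fun e => hyz ((zpowers_le.mpr e) (hby.symm ▸ mem_zpowers y))
    obtain ⟨s, hs, hsy⟩ : ∃ s ∈ P₁, ⁅s, y₁⁆ ≠ 1 := by
      by_contra hcc
      push Not at hcc
      refine hy₁z (hZz ▸ (⟨hy₁P, mem_centralizer_iff.mpr fun s hs => ?_⟩ :
        y₁ ∈ P₁ ⊓ centralizer (P₁ : Set G)))
      exact commutatorElement_eq_one_iff_mul_comm.mp (hcc s hs)
    have hcz : zpowers ⁅s, y₁⁆ = zpowers z := eq_of_le_of_card_ge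
      (zpowers_le.mpr (hder s hs y₁ hy₁P)) (by
        rw [Nat.card_zpowers, Nat.card_zpowers, hzo,
          orderOf_eq_prime (hexp _ (hZz ▸ hder s hs y₁ hy₁P : ⁅s, y₁⁆ ∈ Z).1) hsy])
    have hcc : ∀ t ∈ P₁, Commute ⁅s, y₁⁆ t := fun t ht => by
      obtain ⟨j, hj⟩ := mem_zpowers_iff.mp (hder s hs y₁ hy₁P)
      rw [← hj]
      exact (hzc t ht).zpow_left j
    obtain ⟨j, hj⟩ : ∃ j : ℕ, ⁅s, y₁⁆ ^ j = a := by
      have h1 : a ∈ zpowers ⁅s, y₁⁆ := hcz ▸ ha
      exact (mem_powers_iff_mem_zpowers.mpr h1)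
    have hconj : ∀ j : ℕ, s ^ j * y₁ * (s ^ j)⁻¹ = ⁅s, y₁⁆ ^ j * y₁ := by
      intro j
      induction j with
      | zero => simp
      | succ j ih =>
        have hsc : s * ⁅s, y₁⁆ ^ j = ⁅s, y₁⁆ ^ j * s := ((hcc s hs).pow_left j).eq.symm
        calc s ^ (j + 1) * y₁ * (s ^ (j + 1))⁻¹ = s * (s ^ j * y₁ * (s ^ j)⁻¹) * s⁻¹ := by
              rw [pow_succ']; group
          _ = s * ⁅s, y₁⁆ ^ j * y₁ * s⁻¹ := by rw [ih]; group
          _ = ⁅s, y₁⁆ ^ j * (⁅s, y₁⁆ * y₁) := by
              rw [hsc, commutatorElement_def]; group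
          _ = ⁅s, y₁⁆ ^ (j + 1) * y₁ := by rw [pow_succ, mul_assoc]
    refine hc.2 ?_
    have hmap : (zpowers y).map (MulAut.conj (s ^ j)).toMonoidHom = A₀ := by
      rw [← hby, MonoidHom.map_zpowers, ← hA₀u]
      congr 1
      change s ^ j * y₁ * (s ^ j)⁻¹ = u
      rw [hconj, hj, hab]
    have hsK : s ^ j ∈ normalizer (K : Set G) :=
      Subgroup.le_normalizer ((hP₁S.trans hSK) (P₁.pow_mem hs j))
    have hNmap : normalizer (A₀ : Set G) =
        (normalizer (zpowers y : Set G)).map (MulAut.conj (s ^ j)).toMonoidHom := by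
      rw [← hmap]
      exact (Subgroup.map_equiv_normalizer_eq (zpowers y) (MulAut.conj (s ^ j))).symm
    refine ⟨?_, fun L hL hle => ?_⟩
    · have h1 := hA₀'.1
      rw [hNmap, ← map_conj_eq_self_of_mem hsK] at h1
      exact (map_le_map_iff_of_injective (MulAut.conj (s ^ j)).injective).mp h1
    · have h1 := hA₀'.2 _ (isCoatom_map_conj hL (s ^ j)) (hNmap ▸ map_mono hle)
      rw [← map_conj_eq_self_of_mem hsK] at h1
      exact map_injective (MulAut.conj (s ^ j)).injective h1
  have key : ∀ K K' : Subgroup G, IsCoatom K → IsCoatom K' → K' ≠ K → (S : Subgroup G) ≤ K →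
      (S : Subgroup G) ≤ K' → p ∈ sigma K → p ∈ sigma K' → NormalizerUniqueIn K (zpowers z) →
      False := by
    intro K K' hK hK' hne' hSK hSK' hpK hpK' hU
    have hle := le_of_lines hG hK hK' hpK hpK' S hSK hSK' hideal hP₁S hz.1 hz1 hexp hzc hder h13.ge
      (fun u hu huz => (((hchoice K' hK' hSK' ⟨K, hK, hSK, hne'.symm, hpK⟩ hpK' u hu huz)
        ).resolve_left (fun h => hU.not_both hK' hne' h)).1)
    rcases hK.le_iff.mp hle with e | e
    · exact hK'.1 e
    · exact hne' e
  by_cases hUM : NormalizerUniqueIn M (zpowers z)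
  · exact key M H hM hH hne hSM hSH hpM hpH hUM
  obtain ⟨y, hy, hyz⟩ : ∃ y ∈ P₁, y ∉ zpowers z := by
    by_contra hc
    push Not at hc
    have h1 := h13.ge.trans (card_le_of_le (K := zpowers z) hc)
    rw [Nat.card_zpowers, hzo] at h1
    exact absurd h1 (not_le.mpr (lt_self_pow₀ hp.out.one_lt (by norm_num)))
  have hMy := (hchoice M hM hSM ⟨H, hH, hSH, hne, hpH⟩ hpM y hy hyz).resolve_left hUM
  exact key H M hH hM (Ne.symm hne) hSH hSM hpH hpM
    ((hchoice H hH hSH ⟨M, hM, hSM, Ne.symm hne, hpM⟩ hpH y hy hyz).resolve_right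
      fun h => hMy.not_both hH hne h)

end Cfsg.Agent.OddLocal
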