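import Cfsg.Agent.OddLocal.TauOneTools

/-!
BG 13.4: what follows when a line `R` commuting with a `τ₁(M)`-line `P` does not centralise
`C_{M_σ}(P)`.
-/

set_option autoImplicit false
set_option linter.unusedSectionVars false
set_option linter.style.haveILetI false

namespace Cfsg.Agent.OddLocal

open Subgroup Cfsg
open scoped commutatorElement

universe u

variable {G : Type u} [Group G] [Finite G] {p : ℕ} [hp : Fact p.Prime] {r : ℕ} [hr : Fact r.Prime]
  {M L P R : Subgroup G}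

omit hp hr in
theorem exists_coatom_ge_normalizer (hG : IsMinSimpleOddOrder G) (hM : IsCoatom M) {X : Subgroup G}
    (hXM : X ≤ M) (hX : X ≠ ⊥) :
    ∃ L : Subgroup G, IsCoatom L ∧ normalizer (X : Set G) ≤ L :=
  (IsCoatomic.eq_top_or_exists_le_coatom _).resolve_left
    (ne_top_of_normal_ne_bot hG hX (ne_top_of_not_dvd hM hXM))

omit hp hr in
theorem prime_ne_two (hG : IsMinSimpleOddOrder G) {s : ℕ} {X : Subgroup G} (h : s ∣ Nat.card X) :
    s ≠ 2 := fun e =>
  absurd (hG.1.of_dvd_nat (h.trans (card_subgroup_dvd_card X))) (by rw [e]; decide)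

variable (hG : IsMinSimpleOddOrder G) (hM : IsCoatom M)
include hG hM

omit hp hr in
/-- Sylow subgroups for a common prime of `σ(M)` and `σ(L)` are abelian for nonconjugate `M`, `L`. -/
theorem sylow_comm_of_sigma_sigma (hL : IsCoatom L)
    (hnc : ∀ g : G, L ≠ M.map (MulAut.conj g).toMonoidHom) {q : ℕ} [Fact q.Prime]
    (hqM : q ∈ sigma M) (hqL : q ∈ sigma L) (S : Sylow q G) :
    IsMulCommutative (S : Subgroup G) := by
  by_contra hna
  have hU := inUniqueMaximal_of_nonabelian hG S.2 hna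
  obtain ⟨T, hT⟩ := exists_sylow_of_sigma hqM
  obtain ⟨U, hUL⟩ := exists_sylow_of_sigma hqL
  obtain ⟨g, hg⟩ := MulAction.exists_smul_eq G S T
  obtain ⟨h, hh⟩ := MulAction.exists_smul_eq G S U
  have h1 : (S : Subgroup G) ≤ M.map (MulAut.conj g⁻¹).toMonoidHom := by
    rw [← hg] at hT
    intro s hs
    refine mem_map_conj_iff.mpr (hT ?_)
    rw [inv_inv]
    exact ⟨s, hs, rfl⟩
  have h2 : (S : Subgroup G) ≤ L.map (MulAut.conj h⁻¹).toMonoidHom := by
    rw [← hh] at hUL
    intro s hs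
    refine mem_map_conj_iff.mpr (hUL ?_)
    rw [inv_inv]
    exact ⟨s, hs, rfl⟩
  have e := eq_of_unique hU (isCoatom_map_conj hM g⁻¹) h1 (isCoatom_map_conj hL h⁻¹) h2
  refine hnc (h * g⁻¹) ?_
  rw [← map_conj_map_conj, ← e, map_conj_map_conj, mul_inv_cancel]
  exact (map_conj_eq_self_of_mem (one_mem _)).symm

/-- BG 13.4, main part. -/
theorem failure_data (hp1 : p ∈ tau1 M) (hP : Nat.card P = p) (hPM : P ≤ M) (hR : Nat.card R = r)
    (hRM : R ≤ M) (hrσ : r ∉ sigma M) (hRP : R ≤ centralizer (P : Set G))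
    (hfail : ¬ sigmaCore M ⊓ centralizer (P : Set G) ≤ centralizer (R : Set G)) :
    ∃ (q : ℕ) (_ : Fact q.Prime) (L Y : Subgroup G), IsCoatom L ∧
      (∀ g : G, L ≠ M.map (MulAut.conj g).toMonoidHom) ∧ q ∈ sigma L ∧ q ∈ sigma M ∧ q ∉ beta M ∧
      IsPGroup q Y ∧ Y ≤ sigmaCore M ∧ Y ≤ L ∧ Y ≠ ⊥ ∧ R ≤ normalizer (Y : Set G) ∧
      Y ⊓ centralizer (R : Set G) = ⊥ ∧ centralizer (Y : Set G) ≤ L ∧ R ≤ L ∧ r ∈ tau1 M ∧
      sigmaCore M ⊓ centralizer (P : Set G) = sigmaCore M ⊓ L ∧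
      M ≤ piCoreOf (beta M) M ⊔ (M ⊓ L) := by
  have hP1 : P ≠ ⊥ := fun e => by rw [e, card_bot] at hP; exact hp.out.ne_one hP.symm
  have hR1 : R ≠ ⊥ := fun e => by rw [e, card_bot] at hR; exact hr.out.ne_one hR.symm
  have hPp : IsPGroup p P := IsPGroup.of_card (n := 1) (by rw [hP, pow_one])
  have hRp : IsPGroup r R := IsPGroup.of_card (n := 1) (by rw [hR, pow_one])
  have hp2 : p ≠ 2 := prime_ne_two hG (hP ▸ dvd_rfl : p ∣ Nat.card P)
  have hPR : P ≤ centralizer (R : Set G) := le_centralizer_iff.mp hRP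
  have hrp : r ≠ p := by
    rintro rfl
    have hsup : IsPGroup r ↥(P ⊔ R) :=
      hPp.to_sup_of_normal_left' hRp (hRP.trans (centralizer_le_normalizer _))
    have hc : IsCyclic ↥(P ⊔ R) := isCyclic_of_pRankLE_one hp2 hsup
      (pRankLE_of_injective (inclusion (sup_le hPM hRM)) (inclusion_injective _) hp1.2.2.2.2)
    rw [eq_of_card_eq_of_isCyclic hc le_sup_left le_sup_right (hP.trans hR.symm)] at hfail
    exact hfail inf_le_right
  obtain ⟨L, hL, hPNL⟩ := exists_coatom_ge_normalizer hG hM hPM hP1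
  obtain ⟨hpL, hpτL, hnc⟩ := line_overgroup hG hM (Or.inl hp1) hL hP hPNL
  have hCPL : centralizer (P : Set G) ≤ L := (centralizer_le_normalizer _).trans hPNL
  have hPL : P ≤ L := Subgroup.le_normalizer.trans hPNL
  have hRL : R ≤ L := hRP.trans hCPL
  have hpσ : p ∉ sigma M := hp1.2.1
  set K := sigmaCore M ⊓ L with hK
  have hKP : K ≤ centralizer (P : Set G) :=
    le_centralizer_iff.mp (le_centralizer_inf_sigmaCore hG hM hL hnc hpσ hpτL hPp hPM hPL)
  have hKeq : sigmaCore M ⊓ centralizer (P : Set G) = K :=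
    le_antisymm (inf_le_inf_left _ hCPL) (le_inf inf_le_left hKP)
  have hnot : ¬ R ≤ centralizer (K : Set G) := fun h =>
    hfail (hKeq ▸ le_centralizer_iff.mp h)
  have hrL : r ∈ tau1 L := by
    by_contra h
    exact hnot (le_centralizer_inf_sigmaCore hG hM hL hnc hrσ h hRp hRM hRL)
  have hRK : R ≤ normalizer (K : Set G) := Coprime.le_normalizer_inf
    (hRM.trans (le_normalizer_sigmaCore M)) (hRL.trans Subgroup.le_normalizer)
  have hcop : (Nat.card R).Coprime (Nat.card K) := by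
    rw [hR]
    exact hr.out.coprime_iff_not_dvd.mpr fun hd =>
      hrσ (piNum_sigmaCore M r hr.out (hd.trans (card_dvd_of_le inf_le_left)))
  have hRsol : Group.IsSolvable R := by haveI := hRp.isNilpotent; infer_instance
  -- `p ∈ σ(L)`
  have hpLσ : p ∈ sigma L := by
    refine hpL.resolve_right fun hp2L => hnot ?_
    obtain ⟨T⟩ : Nonempty (Sylow p L) := inferInstance
    obtain ⟨-, B, -, hB⟩ := sylow_comm_of_tau2 hG hL hp2L T
    have hn := (hB.isExceptional hG hL).sigmaCore_nilpotent hG hL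
    have hKR : ∀ s : ℕ, s.Prime → s ∣ Nat.card ↥(K ⊔ R ⊔ P) → s ∉ sigma L := by
      intro s hs hd
      haveI := Fact.mk hs
      have h1 := hd.trans (card_sup_dvd_mul (B := K ⊔ R) (K := P)
        ((le_centralizer_iff.mp (sup_le hKP hRP)).trans (centralizer_le_normalizer _)))
      rcases hs.dvd_mul.mp h1 with h2 | h2
      · rcases hs.dvd_mul.mp (h2.trans (card_sup_dvd_mul hRK)) with h | h
        · exact not_sigma_of_nilpotent hG hM
            (piNum_sigmaCore M s hs (h.trans (card_dvd_of_le inf_le_left))) hL hn hnc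
        · rw [hR] at h
          rw [(Nat.prime_dvd_prime_iff_eq hs hr.out).mp h]
          exact hrL.2.1
      · rw [hP] at h2
        rw [(Nat.prime_dvd_prime_iff_eq hs hp.out).mp h2]
        exact hp2L.2.1
    obtain ⟨E, hE, hKE⟩ := exists_compl_ge_of_not_sigma hG hL
      (sup_le (sup_le inf_le_right hRL) hPL) hKR
    obtain ⟨A, hAE, hA⟩ := exists_plane_in_compl hG hL hE hp2L
    have hn' := (hA.isExceptional hG hL).le_normalizer_of_compl hG hL hE hAE
    obtain ⟨x, hx, hx1⟩ := exists_mem_ne_one P hP1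
    have hxA : x ∈ A := hA.mem_of_mem_compl hG hL hE hAE (hKE (mem_sup_right hx)) (by
      have h := pow_card_eq_one' (x := (⟨x, hx⟩ : P))
      rw [hP] at h
      exact congrArg Subtype.val h)
    have hbot := fixed_plane_inf_eq_bot hG hM hL hpσ hp2L hA hxA (hPM hx) hx1
    have h1 : ⁅K, R⁆ ≤ sigmaCore M ⊓ centralizer (A : Set G) := by
      rw [commutator_le]
      intro k hk b hb
      have hkc : ⁅k, b⁆ ∈ K :=
        Coprime.commutator_le_of_le_normalizer hRK (commutator_mem_commutator hk hb)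
      refine ⟨hkc.1, commutator_fix_line hA.elem hA.card hxA hx1
        (hn' (hKE (mem_sup_left (mem_sup_left hk)))) (hn' (hKE (mem_sup_left (mem_sup_right hb))))
        (mem_centralizer_iff.mp (hKP hk) x hx).symm (mem_centralizer_iff.mp (hRP hb) x hx).symm ?_⟩
      exact (hp.out.coprime_iff_not_dvd.mpr fun hd => hpσ (piNum_sigmaCore M p hp.out
        (hd.trans ((Subgroup.orderOf_dvd_natCard _ hkc).trans (card_dvd_of_le inf_le_left))))).symm
    rw [hbot, le_bot_iff, commutator_eq_bot_iff_le_centralizer] at h1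
    exact le_centralizer_iff.mp h1
  -- a Sylow subgroup of `K` moved by `R`
  obtain ⟨q, hq, S₀, hS₀R, hS₀⟩ : ∃ (q : ℕ) (_ : Fact q.Prime) (S : Sylow q K),
      R ≤ normalizer ((S : Subgroup K).map K.subtype : Set G) ∧
      ¬ (S : Subgroup K).map K.subtype ≤ centralizer (R : Set G) := by
    by_contra hcon
    push Not at hcon
    refine hnot (le_centralizer_iff.mp (Coprime.le_of_forall_sylow_le fun s hs => ?_))
    haveI := Fact.mk hs
    obtain ⟨S, hS⟩ := Coprime.exists_invariant_sylow hRK hcop (Or.inl hRsol) s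
    exact ⟨S, hcon s ⟨hs⟩ S hS⟩
  set S := (S₀ : Subgroup K).map K.subtype with hS
  have hSp : IsPGroup q S := S₀.2.map _
  have hSK : S ≤ K := map_subtype_le _
  have hSM : S ≤ M := hSK.trans (inf_le_left.trans (sigmaCore_le M))
  have hSL : S ≤ L := hSK.trans inf_le_right
  have hS1 : S ≠ ⊥ := fun e => hS₀ (e ▸ bot_le)
  have hqS : q ∣ Nat.card S := by
    obtain ⟨j, hj⟩ := IsPGroup.iff_card.mp hSp
    rcases j with _ | j
    · exact absurd (card_eq_one.mp (by simpa using hj)) hS1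
    · exact hj ▸ dvd_pow_self q j.succ_ne_zero
  have hqσ : q ∈ sigma M :=
    piNum_sigmaCore M q hq.out (hqS.trans (card_dvd_of_le (hSK.trans inf_le_left)))
  have hqp : q ≠ p := fun e => hpσ (e ▸ hqσ)
  have hqr : q ≠ r := fun e => hrσ (e ▸ hqσ)
  have hqβ : q ∉ beta L := fun hb => not_alpha_of_sigma hG hM hqσ hL hnc hb.1
  have hSab : IsMulCommutative S := by
    by_contra hna
    exact nonconj_symm hnc 1 (by
      rw [map_conj_eq_self_of_mem (one_mem _)]
      exact eq_of_unique (inUniqueMaximal_of_nonabelian hG hSp hna) hL hSL hM hSM)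
  set T := ⁅S, R⁆ with hT
  have hTS : T ≤ S := Coprime.commutator_le_of_le_normalizer hS₀R
  have hTp : IsPGroup q T := hSp.to_le hTS
  have hcopS : (Nat.card R).Coprime (Nat.card S) := hcop.coprime_dvd_right (card_dvd_of_le hSK)
  have hTfix : T ⊓ centralizer (R : Set G) = ⊥ := by
    rw [eq_bot_iff, ← (Coprime.abelian_decomposition hS₀R hcopS).1]
    exact fun t ht => ⟨⟨hTS ht.1, ht.2⟩, ht.1⟩
  have hT1 : T ≠ ⊥ := fun e => hS₀ (by
    rw [hT, commutator_eq_bot_iff_le_centralizer] at e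
    exact e)
  have hRT : R ≤ normalizer (T : Set G) := normalizer_commutator_ge_right S R
  have hqT : q ∣ Nat.card T := by
    obtain ⟨j, hj⟩ := IsPGroup.iff_card.mp hTp
    rcases j with _ | j
    · exact absurd (card_eq_one.mp (by simpa using hj)) hT1
    · exact hj ▸ dvd_pow_self q j.succ_ne_zero
  have hqL' : q ∣ Nat.card ↥⁅L, L⁆ := hqT.trans (card_dvd_of_le (commutator_mono hSL hRL))
  have hTP : T ≤ centralizer (P : Set G) := hTS.trans (hSK.trans hKP)
  have hTL : T ≤ L := hTS.trans hSL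
  have huniq : p ∈ beta L → ∀ {H : Subgroup G}, IsCoatom H → centralizer (T : Set G) ≤ H → H = L :=
    fun hβ H hH hle => unique_of_beta_centralizer hG hL hβ hrL hP hR hPL hRL hTL hRP hTP hTp hqp hqβ
      hRT hTfix hH hle
  have hLne : L ≠ M := fun e => hnc 1 (by rw [map_conj_eq_self_of_mem (one_mem _), e])
  -- `S` is maximal among `q`-subgroups of `M ∩ L`
  have hSmax : ∀ X : Subgroup G, IsPGroup q X → S ≤ X → X ≤ M → X ≤ L → X = S := by
    intro X hX hSX hXM hXL
    have hXK : X ≤ K := le_inf (le_sigmaCore_of_isPGroup hG hM hXM hX hqσ) hXL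
    have h1 := S₀.3 (hX.comap_of_injective _ K.subtype_injective)
      (fun y hy => hSX (mem_map_of_mem _ hy))
    exact le_antisymm (fun y hy => ⟨⟨y, hXK hy⟩, h1 ▸ hy, rfl⟩) hSX
  obtain ⟨SML, hSML⟩ := exists_sylow_ge hSp (le_inf hSM hSL)
  have hSMLeq : (SML : Subgroup ↥(M ⊓ L)).map (M ⊓ L).subtype = S :=
    hSmax _ (SML.2.map _) hSML ((map_subtype_le _).trans inf_le_left)
      ((map_subtype_le _).trans inf_le_right)
  -- a normaliser in `M` forces `p ∈ β(L)`
  have hbeta : ∀ {H : Subgroup G}, ¬ p ∣ Nat.card ↥⁅H, H⁆ → ∀ Q : Sylow q L,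
      (Q : Subgroup L).map L.subtype ≤ ⁅L, L⁆ →
      L ⊓ normalizer ((Q : Subgroup L).map L.subtype : Set G) ≤ H → p ∈ beta L :=
    fun h Q hQ hN => mem_beta_of_normalizer_le hG hL hpLσ h hqβ Q hQ hN
  -- the data `q ∈ σ(L)`, `Y`
  suffices hmain : q ∈ sigma L ∧ M ⊓ normalizer (S : Set G) ≤ L ∧
      ∃ Y : Subgroup G, Y ≤ T ∧ Y ≠ ⊥ ∧ R ≤ normalizer (Y : Set G) ∧
        centralizer (Y : Set G) ≤ L by
    obtain ⟨hqLσ, hNS, Y, hYT, hY1, hRY, hCY⟩ := hmain
    have hYfix : Y ⊓ centralizer (R : Set G) = ⊥ :=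
      le_bot_iff.mp ((inf_le_inf_right _ hYT).trans hTfix.le)
    have hYM : Y ≤ sigmaCore M := (hYT.trans hTS).trans (hSK.trans inf_le_left)
    have hYL : Y ≤ L := hYT.trans hTL
    have hr1 : r ∈ tau1 M := by
      by_contra hr1
      have h1 := le_centralizer_inf_sigmaCore hG hL hM (nonconj_symm hnc) hrL.2.1 hr1 hRp hRL hRM
      refine hY1 (le_bot_iff.mp (hYfix ▸ le_inf le_rfl ?_))
      exact le_trans (le_inf (le_sigmaCore_of_isPGroup hG hL hYL (hTp.to_le hYT) hqLσ)
        (hYM.trans (sigmaCore_le M))) (le_centralizer_iff.mp h1)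
    have hqβM : q ∉ beta M := fun hb => not_alpha_of_sigma hG hL hqLσ hM (nonconj_symm hnc) hb.1
    refine ⟨q, hq, L, Y, hL, hnc, hqLσ, hqσ, hqβM, hTp.to_le hYT, hYM, hYL, hY1, hRY, hYfix,
      hCY, hRL, hr1, hKeq, ?_⟩
    obtain ⟨SM, hSM'⟩ := exists_sylow_eq_of_normalizer_le (H := M) inf_le_left SML (by
      rw [hSMLeq]
      exact le_inf inf_le_right ((le_inf inf_le_right inf_le_left).trans hNS))
    rw [hSMLeq] at hSM'
    obtain ⟨SG, hSG⟩ := sigma_sylow hqσ SM
    rw [hSM'] at hSG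
    have h2 := le_betaCore_sup_normalizer hG hM hqσ hqβM SG (hSG ▸ hSM)
    rw [hSG] at h2
    exact h2.trans (sup_le le_sup_left ((le_inf inf_le_left hNS).trans le_sup_right))
  -- a line in `T`
  have hline : IsCyclic T → ∃ Y : Subgroup G, Y ≤ T ∧ Nat.card Y = q ∧ Y ≠ ⊥ ∧
      normalizer (T : Set G) ≤ normalizer (Y : Set G) := by
    intro hc
    obtain ⟨y, hy⟩ := exists_prime_orderOf_dvd_card' q (G := T) hqT
    have hyo : orderOf (y : G) = q := by rw [orderOf_coe, hy]
    refine ⟨zpowers (y : G), zpowers_le.mpr y.2, by rw [Nat.card_zpowers, hyo], ?_,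
      normalizer_le_normalizer_of_isCyclic hc (zpowers_le.mpr y.2)⟩
    rw [Ne, zpowers_eq_bot]
    intro e
    rw [e, orderOf_one] at hyo
    exact hq.out.ne_one hyo.symm
  by_cases hScyc : IsCyclic S
  swap
  · -- `S` noncyclic
    have hNSM := normalizer_le_of_not_isCyclic hG hM hqσ hSp hSM hScyc
    obtain ⟨TL, hTLS⟩ := exists_sylow_eq_of_normalizer_le (H := L) inf_le_right SML (by
      rw [hSMLeq]
      exact le_inf (inf_le_left.trans hNSM) inf_le_right)
    rw [hSMLeq] at hTLS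
    have hqLσ : q ∈ sigma L := by
      by_contra hqL
      have hr1 : ¬ PRankLE q 1 L := fun h => hScyc (isCyclic_of_pRankLE_one (prime_ne_two hG hqS)
        hSp (pRankLE_of_injective (inclusion hSL) (inclusion_injective _) h))
      obtain ⟨hcomm, B, hBS, hB⟩ := sylow_comm_of_tau2 hG hL ⟨hq.out, hqL,
        by_contra (fun hc2 => hqL (alpha_subset_sigma hG hL ⟨hq.out, hc2⟩)), hr1⟩ TL
      rw [hTLS] at hBS
      refine hP1 (le_bot_iff.mp (hB.fixed_eq_bot hG hL ▸
        le_inf (le_sigmaCore_of_isPGroup hG hL hPL hPp hpLσ) ?_))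
      exact (le_centralizer_iff.mp (hSK.trans hKP)).trans (centralizer_le hBS)
    have hNSL : normalizer (S : Set G) ≤ L := hTLS ▸ sigma_normalizer_le hqLσ TL
    have hSL' := sylow_le_commutator_of_sigma hG hL hqLσ TL
    have hβ : p ∈ beta L := hbeta hp1.2.2.2.1 TL hSL'
      (hTLS.symm ▸ inf_le_right.trans hNSM)
    have hTcyc : IsCyclic T := by
      by_contra hTc
      exact hLne (huniq hβ hM ((centralizer_le_normalizer _).trans
        (normalizer_le_of_not_isCyclic hG hM hqσ hTp (hTS.trans hSM) hTc))).symm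
    obtain ⟨Y, hYT, -, hY1, hTY⟩ := hline hTcyc
    refine ⟨hqLσ, inf_le_right.trans hNSL, Y, hYT, hY1, hRT.trans hTY, ?_⟩
    obtain ⟨H, hH, hNH⟩ := exists_coatom_ge_normalizer hG hM ((hYT.trans hTS).trans hSM) hY1
    rw [← huniq hβ hH (((centralizer_le (SetLike.coe_subset_coe.mpr hYT)).trans
      (centralizer_le_normalizer _)).trans hNH)]
    exact (centralizer_le_normalizer _).trans hNH
  -- `S` cyclic
  haveI := hScyc
  have hTcyc : IsCyclic T :=
    (subgroupOfEquivOfLe hTS).isCyclic.mp (inferInstance : IsCyclic (T.subgroupOf S))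
  obtain ⟨Y, hYT, hYc, hY1, hTY⟩ := hline hTcyc
  have hYS : Y ≤ S := hYT.trans hTS
  have hYp : IsPGroup q Y := hTp.to_le hYT
  have hRY : R ≤ normalizer (Y : Set G) := hRT.trans hTY
  have hNSY : normalizer (S : Set G) ≤ normalizer (Y : Set G) :=
    normalizer_le_normalizer_of_isCyclic hScyc hYS
  have hCTY : centralizer (T : Set G) ≤ normalizer (Y : Set G) :=
    (centralizer_le (SetLike.coe_subset_coe.mpr hYT)).trans (centralizer_le_normalizer _)
  obtain ⟨H, hH, hNH⟩ := exists_coatom_ge_normalizer hG hM (hYS.trans hSM) hY1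
  have hHβ : p ∈ beta L → H = L := fun hβ => huniq hβ hH (hCTY.trans hNH)
  have hcycQ : ∀ Q : Sylow q L, IsCyclic ((Q : Subgroup L).map L.subtype : Subgroup G) →
      (Q : Subgroup L).map L.subtype ≤ ⁅L, L⁆ := fun Q hc => le_derived_of_cyclic Q
    ((Subgroup.equivMapOfInjective _ _ L.subtype_injective).isCyclic.mpr hc) hqL'
  -- `N(S) ≤ M` gives `p ∈ β(L)`
  have hNSM : normalizer (S : Set G) ≤ M → (∃ TL : Sylow q L,
      (TL : Subgroup L).map L.subtype = S) ∧ p ∈ beta L := by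
    intro hN
    obtain ⟨TL, hTLS⟩ := exists_sylow_eq_of_normalizer_le (H := L) inf_le_right SML (by
      rw [hSMLeq]
      exact le_inf (inf_le_left.trans hN) inf_le_right)
    rw [hSMLeq] at hTLS
    exact ⟨⟨TL, hTLS⟩, hbeta hp1.2.2.2.1 TL (hcycQ TL (by rw [hTLS]; exact hScyc))
      (hTLS.symm ▸ inf_le_right.trans hN)⟩
  by_cases hHL : H = L
  · subst hHL
    obtain ⟨-, hN, TL, hTLS⟩ :=
      sigma_normalizer_other hG hM hqσ hYp hY1 (hYS.trans hSM) hH hLne hNH SML (by
        rw [hSMLeq]; exact hYS)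
    rw [hSMLeq] at hN hTLS
    exact ⟨⟨hq.out, hqS.trans (card_dvd_of_le hSL), TL, hTLS.symm ▸ hNSY.trans hNH⟩,
      inf_le_right.trans (hNSY.trans hNH), Y, hYT, hY1, hRY,
      (centralizer_le_normalizer _).trans hNH⟩
  exfalso
  by_cases hHM : H = M
  · exact hHL (hHβ (hNSM ((hNSY.trans hNH).trans hHM.le)).2)
  -- a third maximal subgroup
  have hSH : S ≤ H := ((le_centralizer_of_isMulCommutative le_rfl hYS hSab).trans
    (centralizer_le_normalizer _)).trans hNH
  have hPH : P ≤ H :=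
    ((le_centralizer_iff.mp ((hYS.trans hSK).trans hKP)).trans (centralizer_le_normalizer _)).trans hNH
  have hPS : P ≤ normalizer (S : Set G) :=
    (le_centralizer_iff.mp (hSK.trans hKP)).trans (centralizer_le_normalizer _)
  -- a `P`-invariant Sylow subgroup of `M ∩ H`
  set KH := sigmaCore M ⊓ H with hKH
  have hPKH : P ≤ normalizer (KH : Set G) := Coprime.le_normalizer_inf
    (hPM.trans (le_normalizer_sigmaCore M)) (hPH.trans Subgroup.le_normalizer)
  have hcopP : ∀ {X : Subgroup G}, ¬ p ∣ Nat.card X → (Nat.card P).Coprime (Nat.card X) :=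
    fun h => hP ▸ hp.out.coprime_iff_not_dvd.mpr h
  haveI : Group.IsNilpotent P := hPp.isNilpotent
  obtain ⟨Q₀, hSQ, hPQ⟩ := Coprime.exists_le_invariant_sylow hPKH (hcopP fun hd =>
      hpσ (piNum_sigmaCore M p hp.out (hd.trans (card_dvd_of_le inf_le_left))))
    (Or.inl inferInstance) (le_inf (hSK.trans inf_le_left) hSH) hSp hPS
  set S₂ := (Q₀ : Subgroup KH).map KH.subtype with hS₂
  have hS₂p : IsPGroup q S₂ := Q₀.2.map _
  have hS₂M : S₂ ≤ M := (map_subtype_le _).trans (inf_le_left.trans (sigmaCore_le M))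
  have hS₂H : S₂ ≤ H := (map_subtype_le _).trans inf_le_right
  obtain ⟨SMH, hSMH⟩ := exists_sylow_ge hS₂p (le_inf hS₂M hS₂H)
  have hSMHeq : (SMH : Subgroup ↥(M ⊓ H)).map (M ⊓ H).subtype = S₂ := by
    refine le_antisymm ?_ hSMH
    have hXK : (SMH : Subgroup ↥(M ⊓ H)).map (M ⊓ H).subtype ≤ KH :=
      le_inf (le_sigmaCore_of_isPGroup hG hM ((map_subtype_le _).trans inf_le_left) (SMH.2.map _) hqσ)
        ((map_subtype_le _).trans inf_le_right)
    have h1 := Q₀.3 ((SMH.2.map (M ⊓ H).subtype).comap_of_injective _ KH.subtype_injective)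
      (fun y hy => hSMH (mem_map_of_mem _ hy))
    exact fun y hy => ⟨⟨y, hXK hy⟩, h1 ▸ hy, rfl⟩
  obtain ⟨hncH, hNS₂, T₂, hT₂⟩ := sigma_normalizer_other hG hM hqσ hYp hY1 (hYS.trans hSM) hH
    hHM hNH SMH (by rw [hSMHeq]; exact hYS.trans hSQ)
  rw [hSMHeq] at hNS₂ hT₂
  -- it suffices that `P` centralises it
  suffices hc : S₂ ≤ centralizer (P : Set G) by
    have h1 : S₂ = S := hSmax S₂ hS₂p hSQ hS₂M (hc.trans hCPL)
    rw [h1] at hNS₂
    exact hHL (hHβ (hNSM hNS₂).2)
  by_cases hp1H : p ∈ tau1 H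
  swap
  · exact (le_inf (le_sigmaCore_of_isPGroup hG hM hS₂M hS₂p hqσ) hS₂H).trans
      (le_centralizer_iff.mp (le_centralizer_inf_sigmaCore hG hM hH hncH hpσ hp1H hPp hPM hPH))
  obtain ⟨QL, hQL⟩ := exists_sylow_ge hSp hSL
  by_cases hQcyc : IsCyclic ((QL : Subgroup L).map L.subtype : Subgroup G)
  · exact absurd (hHβ (hbeta hp1H.2.2.2.1 QL (hcycQ QL hQcyc) (inf_le_right.trans
      ((normalizer_le_normalizer_of_isCyclic hQcyc (hYS.trans hQL)).trans hNH)))) hHL
  by_cases hqLσ : q ∈ sigma L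
  swap
  · have hr1 : ¬ PRankLE q 1 L := fun h => hQcyc (isCyclic_of_pRankLE_one (prime_ne_two hG hqS)
      (QL.2.map _) (pRankLE_of_injective (inclusion (map_subtype_le _)) (inclusion_injective _) h))
    obtain ⟨hcomm, B, hBQ, hB⟩ := sylow_comm_of_tau2 hG hL ⟨hq.out, hqLσ,
      by_contra (fun hc2 => hqLσ (alpha_subset_sigma hG hL ⟨hq.out, hc2⟩)), hr1⟩ QL
    have hYB : Y ≤ B := fun y hy => hB.mem_of_pow hG hL (by
        have h := pow_card_eq_one' (x := (⟨y, hy⟩ : Y))
        rw [hYc] at h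
        exact congrArg Subtype.val h)
      (le_centralizer_of_isMulCommutative le_rfl hBQ hcomm (hQL (hYS hy)))
    have hu := hB.unique_centralizer hG hL hYB (fun e => hP1 (le_bot_iff.mp (e ▸
      le_inf (le_sigmaCore_of_isPGroup hG hL hPL hPp hpLσ)
        (le_centralizer_iff.mp ((hYS.trans hSK).trans hKP))))) hY1
    exact absurd (hu.2 H hH ((centralizer_le_normalizer _).trans hNH)) hHL
  by_cases hqH : q ∈ sigma H
  · -- both Sylow subgroups lie in `H_σ`
    obtain ⟨SLH, hSLH⟩ := exists_sylow_ge hYp (M := L ⊓ H)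
      (le_inf (hYS.trans hSL) (hYS.trans hSH))
    obtain ⟨hncLH, -, T₃, hT₃⟩ :=
      sigma_normalizer_other hG hL hqLσ hYp hY1 (hYS.trans hSL) hH hHL hNH SLH hSLH
    set S₃ := (SLH : Subgroup ↥(L ⊓ H)).map (L ⊓ H).subtype with hS₃
    have hS₃H : S₃ ≤ H := (map_subtype_le _).trans inf_le_right
    have hS₃σ : S₃ ≤ sigmaCore H := le_sigmaCore_of_isPGroup hG hH hS₃H (SLH.2.map _) hqH
    have hS₃P : S₃ ≤ centralizer (P : Set G) :=
      (le_inf hS₃σ ((map_subtype_le _).trans inf_le_left)).trans (le_centralizer_iff.mp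
        (le_centralizer_inf_sigmaCore hG hH hL (nonconj_symm hncLH) hp1H.2.1 hpτL hPp hPH hPL))
    have hS₂σ : S₂ ≤ sigmaCore H := le_sigmaCore_of_isPGroup hG hH hS₂H hS₂p hqH
    have hPσ : P ≤ normalizer (sigmaCore H : Set G) := hPH.trans (le_normalizer_sigmaCore H)
    have key : ∀ (X : Subgroup G) (T : Sylow q H), (T : Subgroup H).map H.subtype = X →
        X ≤ sigmaCore H → ∃ U : Sylow q ↥(sigmaCore H),
          (U : Subgroup ↥(sigmaCore H)).map (sigmaCore H).subtype = X := by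
      intro X T hTX hXσ
      obtain ⟨U, hU⟩ := exists_sylow_ge (hTX ▸ T.2.map H.subtype) hXσ
      refine ⟨U, le_antisymm ?_ hU⟩
      have h1 := T.3 ((U.2.map (sigmaCore H).subtype).comap_of_injective _ H.subtype_injective)
        (fun y hy => hU (hTX ▸ mem_map_of_mem H.subtype hy))
      intro y hy
      have hyH : y ∈ H := sigmaCore_le H ((map_subtype_le _) hy)
      exact hTX ▸ ⟨⟨y, hyH⟩, h1 ▸ hy, rfl⟩
    obtain ⟨U₃, hU₃⟩ := key S₃ T₃ hT₃ hS₃σ
    obtain ⟨U₂, hU₂⟩ := key S₂ T₂ hT₂ hS₂σ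
    obtain ⟨c, hc, hcU⟩ := Coprime.exists_centralizer_conj_sylow hPσ
      (hcopP fun hd => hp1H.2.1 (piNum_sigmaCore H p hp.out hd)) (Or.inl inferInstance) U₃ U₂
      (by rw [hU₃]; exact (le_centralizer_iff.mp hS₃P).trans (centralizer_le_normalizer _))
      (by rw [hU₂]; exact hPQ)
    rw [← hU₂, ← hcU]
    rintro _ ⟨y, hy, rfl⟩
    obtain ⟨z, hz, rfl⟩ := hy
    have hzP : (z : G) ∈ centralizer (P : Set G) := hS₃P (hU₃ ▸ mem_map_of_mem _ hz)
    change (c : G) * z * (c : G)⁻¹ ∈ _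
    exact mul_mem (mul_mem hc hzP) (inv_mem hc)
  · -- `q ∈ τ₂(H)`
    obtain ⟨⟨h2, h1⟩, -⟩ := rank_two_of_normalizer_le hG hH hqH hYc hNH
    obtain ⟨hcomm, B, hBT, hB⟩ := sylow_comm_of_tau2 hG hH ⟨hq.out, hqH, h2, h1⟩ T₂
    rw [hT₂] at hBT hcomm
    have hmem : ∀ v ∈ S₂, v ^ q = 1 → v ∈ B := fun v hv hvq =>
      hB.mem_of_pow hG hH hvq (le_centralizer_of_isMulCommutative le_rfl hBT hcomm hv)
    have hB2 := hB.card
    obtain ⟨SG, hBSG⟩ := (Coprime.ea_isPGroup hB.elem).exists_le_sylow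
    have hSGc := sylow_comm_of_sigma_sigma hG hM hL hnc hqσ hqLσ
    -- the Sylow subgroup of `H` is one of `G`
    obtain ⟨Q, hQ⟩ := hS₂p.exists_le_sylow
    have hQB : (Q : Subgroup G) ≤ centralizer (B : Set G) :=
      le_centralizer_of_isMulCommutative le_rfl (hBT.trans hQ) (hSGc Q)
    have hQH : (Q : Subgroup G) ≤ H := hQB.trans (hB.cent_le hG hH)
    have hQS : (Q : Subgroup G) = S₂ := by
      refine le_antisymm (fun y hy => ?_) hQ
      have h1 := T₂.3 (Q.2.comap_of_injective _ H.subtype_injective)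
        (fun z hz => hQ (hT₂ ▸ mem_map_of_mem H.subtype hz))
      exact hT₂ ▸ ⟨⟨y, hQH hy⟩, h1 ▸ hy, rfl⟩
    have hBn : normalizer (S₂ : Set G) ≤ normalizer (B : Set G) := by
      intro n hn
      rw [mem_normalizer_iff]
      intro b
      refine ⟨fun hb => hmem _ ((mem_normalizer_iff.mp hn b).mp (hBT hb))
        (by rw [conj_pow, hB.elem.2 b hb, mul_one, mul_inv_cancel]), fun hb => ?_⟩
      have h3 := hmem b ((mem_normalizer_iff.mp hn b).mpr (hBT hb)) (by
        have h4 := hB.elem.2 _ hb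
        rw [conj_pow, mul_inv_eq_one, mul_eq_left] at h4
        exact h4)
      exact h3
    have hPB : P ≤ normalizer (B : Set G) := hPQ.trans hBn
    haveI := hcomm
    by_cases hPcB : P ≤ centralizer (B : Set G)
    · refine le_centralizer_iff.mp (Coprime.le_centralizer_of_fixes_prime_order hPQ
        (hcopP fun hd => ?_) fun v hv hvo a ha => ?_)
      · obtain ⟨j, hj⟩ := IsPGroup.iff_card.mp hS₂p
        exact hqp ((Nat.prime_dvd_prime_iff_eq hp.out hq.out).mp
          (hp.out.dvd_of_dvd_pow (hj ▸ hd))).symm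
      · obtain ⟨j, hj⟩ := hS₂p.exists_orderOf_eq_pow ⟨v, hv⟩
        rw [← orderOf_coe] at hj
        have hvq : orderOf v = q := by
          rw [hj] at hvo ⊢
          exact (Nat.prime_dvd_prime_iff_eq hvo hq.out).mp ((Nat.Prime.dvd_of_dvd_pow hvo dvd_rfl))
        have hvB : v ∈ B := hmem v hv (hvq ▸ pow_orderOf_eq_one v)
        exact (mem_centralizer_iff.mp (hPcB ha) v hvB).symm
    exfalso
    obtain ⟨g, hg, hgH⟩ := exists_not_mem_normalizer hG hH hB.dvd_card hqH T₂
    rw [hT₂] at hg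
    have hgM : g ∈ M := hNS₂ hg
    set W := M ⊓ normalizer (B : Set G) with hW
    have hWc := commutator_centralizes_plane hB.elem hB2 (prime_ne_two hG hqS)
      (W := W) (Coprime.isSolvable_of_le inf_le_left (isSolvable_coatom hG hM))
      (hG.1.of_dvd_nat (card_subgroup_dvd_card _)) inf_le_right Q
      (le_inf (hQS ▸ hS₂M) (hQB.trans (centralizer_le_normalizer _))) hQB
    have hYB : Y ≤ B := fun y hy => hmem y (hSQ (hYS hy)) (by
      have h := pow_card_eq_one' (x := (⟨y, hy⟩ : Y))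
      rw [hYc] at h
      exact congrArg Subtype.val h)
    set F := B ⊓ centralizer (P : Set G) with hF
    have hFY : F = Y := by
      have hYF : Y ≤ F := le_inf hYB ((hYS.trans hSK).trans hKP)
      refine (eq_of_le_of_card_ge hYF ?_).symm
      rw [hYc]
      obtain ⟨j, hj2, hj⟩ := (Nat.dvd_prime_pow hq.out).mp
        (hB2 ▸ card_dvd_of_le (inf_le_left : F ≤ B))
      interval_cases j
      · rw [hj, pow_zero]; exact hq.out.one_le
      · rw [hj, pow_one]
      · exfalso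
        refine hPcB (le_centralizer_iff.mp ?_)
        have hFB : F = B := eq_of_le_of_card_ge inf_le_left (by rw [hB2, hj])
        exact hFB ▸ inf_le_right
    refine hgH (hNH (mem_normalizer_of_map_conj ?_))
    have hgB : g ∈ normalizer (B : Set G) := hBn hg
    refine eq_of_le_of_card_ge ?_ (card_map_conj _ _).ge
    rintro _ ⟨y, hy, rfl⟩
    rw [← hFY]
    change g * y * g⁻¹ ∈ F
    have hzB : g * y * g⁻¹ ∈ B := (mem_normalizer_iff.mp hgB y).mp (hYB hy)
    refine ⟨hzB, mem_centralizer_iff.mpr fun x hx => ?_⟩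
    have hc := mem_centralizer_iff.mp (hWc (commutator_mem_commutator (show g ∈ W from ⟨hgM, hgB⟩)
      (show x ∈ W from ⟨hPM hx, hPB hx⟩))) _ hzB
    have hxy := mem_centralizer_iff.mp (le_centralizer_iff.mp ((hYS.trans hSK).trans hKP) hx) y hy
    rw [commutatorElement_def] at hc
    have e1 : g * x * g⁻¹ * (g * y * g⁻¹) = g * y * g⁻¹ * (g * x * g⁻¹) := by
      calc g * x * g⁻¹ * (g * y * g⁻¹) = g * (x * y) * g⁻¹ := by group
        _ = g * (y * x) * g⁻¹ := by rw [hxy]
        _ = g * y * g⁻¹ * (g * x * g⁻¹) := by group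
    calc x * (g * y * g⁻¹) = (g * x * g⁻¹ * x⁻¹)⁻¹ * (g * x * g⁻¹ * (g * y * g⁻¹)) := by group
      _ = (g * x * g⁻¹ * x⁻¹)⁻¹ * ((g * y * g⁻¹) * (g * x * g⁻¹ * x⁻¹)) * x := by
        rw [e1]; group
      _ = (g * y * g⁻¹) * x := by rw [hc]; group

end Cfsg.Agent.OddLocal
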