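import Cfsg.Agent.S1427
import Cfsg.Agent.S1428
import Cfsg.Agent.OddLocal.TauOneCommute

/-!
Prime action of `τ₁(M)`-elements on `M_σ` (BG 13.3, 13.4, 13.5) and complements in a normaliser.
-/

set_option autoImplicit false
set_option linter.unusedSectionVars false
set_option linter.style.haveILetI false

namespace Cfsg.Agent.OddLocal

open Subgroup Cfsg
open scoped commutatorElement

universe u

variable {G : Type u} [Group G] [Finite G] {p : ℕ} [hp : Fact p.Prime] {r : ℕ} [hr : Fact r.Prime]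
  {M L E : Subgroup G}

omit hr in
/-- A Sylow subgroup of a subgroup of index prime to `p` is a Sylow subgroup. -/
theorem exists_sylow_of_relIndex {K H : Subgroup G} (hKH : K ≤ H) (hd : ¬ p ∣ K.relIndex H)
    (S : Sylow p K) :
    ∃ T : Sylow p H, (T : Subgroup H).map H.subtype = (S : Subgroup K).map K.subtype := by
  have hle : (S : Subgroup K).map K.subtype ≤ H := (map_subtype_le _).trans hKH
  have hc : Nat.card ↥(((S : Subgroup K).map K.subtype).subgroupOf H) =
      p ^ (Nat.card H).factorization p := by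
    have h1 := Coprime.card_mul_relIndex_of_le hKH
    rw [Coprime.card_subgroupOf hle, card_map_of_injective K.subtype_injective,
      S.card_eq_multiplicity, ← h1, Nat.factorization_mul Nat.card_pos.ne'
        (fun e => by rw [e, mul_zero] at h1; exact Nat.card_pos.ne h1), Finsupp.add_apply,
      Nat.factorization_eq_zero_of_not_dvd hd, add_zero]
  exact ⟨Sylow.ofCard _ hc, by rw [Sylow.coe_ofCard, map_subgroupOf_eq_of_le hle]⟩

omit hp hr in
theorem exists_hall_ge {π : Set ℕ} {K U : Subgroup G} (hK : Group.IsSolvable K) (hUK : U ≤ K)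
    (hU : PiNum π U) : ∃ H : Subgroup G, IsPiHallOf π H K ∧ U ≤ H := by
  obtain ⟨H, hH, -, hUH⟩ := Coprime.exists_le_invariant_hall (A := (⊥ : Subgroup G)) (K := K)
    bot_le (by rw [card_bot]; exact Nat.coprime_one_left _) hK hUK bot_le hU
  exact ⟨H, hH, hUH⟩

omit hp in
theorem exists_zpowers_card {R : Subgroup G} (hR : IsPGroup r R) (hR1 : R ≠ ⊥) :
    ∃ z ∈ R, z ^ r = 1 ∧ z ≠ 1 ∧ Nat.card (zpowers z) = r := by
  obtain ⟨s, hs, hsd⟩ := exists_prime_dvd_of_ne_bot hR1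
  obtain ⟨j, hj⟩ := IsPGroup.iff_card.mp hR
  rw [(Nat.prime_dvd_prime_iff_eq hs hr.out).mp (hs.dvd_of_dvd_pow (hj ▸ hsd))] at hsd
  obtain ⟨z, hz⟩ := exists_prime_orderOf_dvd_card' r hsd
  have hzo : orderOf (z : G) = r := by rw [orderOf_coe, hz]
  refine ⟨z, z.2, ?_, ?_, by rw [Nat.card_zpowers, hzo]⟩
  · have h := pow_orderOf_eq_one (z : G)
    rwa [hzo] at h
  · intro e
    rw [e, orderOf_one] at hzo
    exact hr.out.ne_one hzo.symm

variable (hG : IsMinSimpleOddOrder G) (hM : IsCoatom M)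
include hG hM

omit hp hr in
theorem compl_isPiHallOf (hE : IsComplIn E (sigmaCore M) M) :
    IsPiHallOf {s | s ∉ sigma M} E M := by
  refine ⟨hE.1, fun s hs hd => compl_prime_not_sigma hG hM hE hs hd, fun s hs hsσ hd => ?_⟩
  have h1 := Coprime.card_mul_relIndex_of_le hE.1
  have h2 := compl_card hE
  rw [← h1, Nat.mul_left_cancel_iff Nat.card_pos] at h2
  exact hsσ (piNum_sigmaCore M s hs (h2 ▸ hd))

omit hp hr in
/-- Complements inside a subgroup `N` with `M ≤ B N` for a `σ(M)`-group `B`. -/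
theorem exists_compl_le {B N X : Subgroup G} (hBn : N ≤ normalizer (B : Set G))
    (hB : PiNum (sigma M) B) (hNM : N ≤ M) (hMN : M ≤ B ⊔ N) (hXN : X ≤ N)
    (hX : ∀ s : ℕ, s.Prime → s ∣ Nat.card X → s ∉ sigma M) :
    ∃ E : Subgroup G, IsComplIn E (sigmaCore M) M ∧ X ≤ E ∧ E ≤ N ∧
      IsPiHallOf {s | s ∉ sigma M} E N := by
  obtain ⟨E₀, hE₀, hXE₀⟩ := exists_hall_ge (π := {s | s ∉ sigma M})
    (Coprime.isSolvable_of_le hNM (isSolvable_coatom hG hM)) hXN hX
  obtain ⟨E, hE, hle⟩ := exists_compl_ge_of_not_sigma hG hM (hE₀.1.trans hNM) hE₀.2.1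
  suffices he : E₀ = E by exact ⟨E, hE, he ▸ hXE₀, he ▸ hE₀.1, he ▸ hE₀⟩
  refine eq_of_le_of_card_ge hle (Nat.le_of_dvd Nat.card_pos ?_)
  have h1 : Nat.card E ∣ Nat.card B * Nat.card N :=
    (card_dvd_of_le (hE.1.trans hMN)).trans (card_sup_dvd_mul hBn)
  have h2 : Nat.card E ∣ Nat.card N := (Nat.coprime_of_dvd fun s hs h h' =>
    compl_prime_not_sigma hG hM hE hs h (hB s hs h')).dvd_of_dvd_mul_left h1
  rw [← Coprime.card_mul_relIndex_of_le hE₀.1] at h2
  exact (Nat.coprime_of_dvd fun s hs h h' =>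
    hE₀.2.2 s hs (compl_prime_not_sigma hG hM hE hs h) h').dvd_of_dvd_mul_right h2

omit hr in
/-- The fixed points in `M_σ` of a `τ₁(M)`-line are fixed by the commuting `τ₁(M)`-subgroups. -/
theorem fixed_le_of_tau1 (hE : IsComplIn E (sigmaCore M) M) (hp1 : p ∈ tau1 M) {P : Subgroup G}
    (hPE : P ≤ E) (hP : Nat.card P = p) {r : ℕ} [Fact r.Prime] (hr1 : r ∈ tau1 M) {R : Subgroup G}
    (hRE : R ≤ E) (hR : IsPGroup r R) (hRP : R ≤ centralizer (P : Set G)) :
    sigmaCore M ⊓ centralizer (P : Set G) ≤ centralizer (R : Set G) := by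
  by_cases hR1 : R = ⊥
  · subst hR1
    intro k _
    rw [mem_centralizer_iff]
    intro a ha
    rw [SetLike.mem_coe, mem_bot] at ha
    rw [ha, one_mul, mul_one]
  obtain ⟨z, hz, -, hz1, hzc⟩ := exists_zpowers_card hR hR1
  have h1 := Cfsg.Agent.S1428.result hG M hM E hE p hp1 P hPE hP (zpowers z)
    (zpowers_le.mpr ⟨hRE hz, hRP hz⟩) (hzc ▸ Fact.out)
  obtain ⟨T, hT⟩ := exists_sylow_ge hR hRE
  have hT1 : (T : Subgroup E) ≠ ⊥ := fun e => hR1 (le_bot_iff.mp (by rwa [e, Subgroup.map_bot] at hT))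
  have h2 := Cfsg.Agent.S1427.result hG M hM E hE r T hT1
    (compl_isCyclic_sylow hG hM hE hr1.2.2.2.2 T) z (hT hz) hz1
  intro k hk
  have h3 : k ∈ sigmaCore M ⊓ centralizer ({z} : Set G) :=
    ⟨hk.1, mem_centralizer_singleton_iff.mpr
      (mem_centralizer_iff.mp (h1 hk).2 z (mem_zpowers z)).symm⟩
  rw [h2] at h3
  exact centralizer_le hT h3.2

end Cfsg.Agent.OddLocal
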