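import Cfsg.Agent.S1467
import Cfsg.Agent.Fusion.PGroup
import Cfsg.Agent.Fusion.ThompsonComplement
import Cfsg.Agent.Fusion.SolvablePSolvable
import Cfsg.Agent.Layer.PConstraint
import Cfsg.Agent.Coprime.Basic
import Cfsg.Agent.QdFree.Consequences
import Cfsg.Agent.Thompson.Stable

/-!
The Puig series inside an ambient group, and Puig's theorem for solvable groups of odd order.
-/

set_option autoImplicit false
set_option linter.unusedSectionVars false
set_option linter.style.haveILetI false

namespace Cfsg.Agent.OddLocal.Puig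

open Subgroup Cfsg
open scoped commutatorElement

universe u v

variable {G : Type u} [Group G] {H : Type v} [Group H]

/-- The Puig step relative to a subgroup. -/
def stepIn (U X : Subgroup G) : Subgroup G :=
  sSup {A : Subgroup G | A ≤ U ∧ IsMulCommutative A ∧ X ≤ normalizer (A : Set G)}

/-- The Puig series of a subgroup, inside the ambient group. -/
def seqIn (U : Subgroup G) (n : ℕ) : Subgroup G := (puigSeq ↥U n).map U.subtype

theorem stepIn_le (U X : Subgroup G) : stepIn U X ≤ U := sSup_le fun _ h => h.1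

theorem stepIn_anti (U : Subgroup G) {X Y : Subgroup G} (h : X ≤ Y) :
    stepIn U Y ≤ stepIn U X :=
  sSup_le fun _ hA => le_sSup ⟨hA.1, hA.2.1, h.trans hA.2.2⟩

theorem map_puigStep {f : H →* G} (hf : Function.Injective f) (X : Subgroup H) :
    (puigStep X).map f = stepIn f.range (X.map f) := by
  refine le_antisymm ?_ ?_
  · rw [puigStep, map_le_iff_le_comap]
    refine sSup_le fun A hA => map_le_iff_le_comap.mp (le_sSup ⟨map_le_range f A, ?_, ?_⟩)
    · haveI := hA.1
      infer_instance
    · exact (map_mono hA.2).trans (le_normalizer_map f)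
  · refine sSup_le fun A ⟨hA, hc, hn⟩ => ?_
    have he : (A.comap f).map f = A := by rw [map_comap_eq, inf_of_le_right hA]
    rw [← he]
    refine map_mono (le_sSup ⟨?_, ?_⟩)
    · refine ⟨⟨fun a b => Subtype.ext (hf ?_)⟩⟩
      simpa using congrArg Subtype.val (hc.is_comm.comm ⟨f a, a.2⟩ ⟨f b, b.2⟩)
    · intro x hx
      have hN := hn (mem_map_of_mem f hx)
      rw [mem_normalizer_iff] at hN ⊢
      intro y
      simpa using hN (f y)

theorem seqIn_zero (U : Subgroup G) : seqIn U 0 = ⊥ := Subgroup.map_bot _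

theorem seqIn_succ (U : Subgroup G) (n : ℕ) : seqIn U (n + 1) = stepIn U (seqIn U n) := by
  show (puigStep (puigSeq ↥U n)).map U.subtype = _
  rw [map_puigStep U.subtype_injective, range_subtype]
  rfl

theorem seqIn_le (U : Subgroup G) (n : ℕ) : seqIn U n ≤ U := map_subtype_le _

/-- An abelian subgroup of `U` normalised by `U` lies in every positive term. -/
theorem le_seqIn {U A : Subgroup G} (hA : A ≤ U) (hc : IsMulCommutative A)
    (hn : U ≤ normalizer (A : Set G)) (n : ℕ) : A ≤ seqIn U (n + 1) := by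
  rw [seqIn_succ]
  exact le_sSup ⟨hA, hc, (seqIn_le U n).trans hn⟩

theorem map_seqIn {f : G →* H} {U : Subgroup G} (hU : U ⊓ f.ker = ⊥) (n : ℕ) :
    (seqIn U n).map f = seqIn (U.map f) n := by
  induction n with
  | zero => rw [seqIn_zero, seqIn_zero, Subgroup.map_bot]
  | succ n ih =>
    rw [seqIn_succ (U.map f), ← ih, seqIn, seqIn, map_map, map_map]
    show (puigStep (puigSeq ↥U n)).map (f.comp U.subtype) = _
    rw [map_puigStep]
    · congr 1
      rw [MonoidHom.range_comp, range_subtype]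
    · rw [injective_iff_map_eq_one]
      intro x hx
      refine Subtype.ext (mem_bot.mp (hU ▸ (⟨x.2, ?_⟩ : (x : G) ∈ U ⊓ f.ker)))
      exact hx

theorem normalizer_le_normalizer_seqIn (U : Subgroup G) (n : ℕ) :
    normalizer (U : Set G) ≤ normalizer (seqIn U n : Set G) := by
  intro g hg
  rw [mem_normalizer_iff_map_conj_eq] at hg ⊢
  have hker : U ⊓ (MulAut.conj g).toMonoidHom.ker = ⊥ := by
    rw [(MonoidHom.ker_eq_bot_iff _).mpr (MulAut.conj g).injective, inf_bot_eq]
  exact (map_seqIn hker n).trans (congrArg (fun V => seqIn V n) hg)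

/-- The upper Puig subgroup inside the ambient group. -/
def upIn (U : Subgroup G) : Subgroup G := (puigSubgroup ↥U).map U.subtype

/-- The lower Puig subgroup inside the ambient group. -/
def lowIn (U : Subgroup G) : Subgroup G := (puigLower ↥U).map U.subtype

variable [Finite G]

theorem exists_stable (U : Subgroup G) :
    ∃ k, ∀ n, k ≤ n → seqIn U (2 * n) = lowIn U ∧ seqIn U (2 * n + 1) = upIn U := by
  obtain ⟨k, hk⟩ := (S1467.result (G := ↥U)).2.2.2.1
  exact ⟨k, fun n hn => ⟨congrArg (Subgroup.map U.subtype) (hk n hn).1,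
    congrArg (Subgroup.map U.subtype) (hk n hn).2⟩⟩

theorem seqIn_le_lowIn (U : Subgroup G) (n : ℕ) : seqIn U (2 * n) ≤ lowIn U :=
  map_mono (le_iSup (fun j => puigSeq ↥U (2 * j)) n)

theorem upIn_le_seqIn (U : Subgroup G) (n : ℕ) : upIn U ≤ seqIn U (2 * n + 1) :=
  map_mono (iInf_le (fun j => puigSeq ↥U (2 * j + 1)) n)

theorem lowIn_le_upIn (U : Subgroup G) : lowIn U ≤ upIn U :=
  map_mono (S1467.result (G := ↥U)).2.2.2.2.1

theorem stepIn_lowIn (U : Subgroup G) : stepIn U (lowIn U) = upIn U := by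
  obtain ⟨k, hk⟩ := exists_stable U
  rw [← (hk k le_rfl).1, ← (hk k le_rfl).2, seqIn_succ]

theorem stepIn_upIn (U : Subgroup G) : stepIn U (upIn U) = lowIn U := by
  obtain ⟨k, hk⟩ := exists_stable U
  rw [← (hk k le_rfl).2, ← (hk (k + 1) k.le_succ).1, show 2 * (k + 1) = 2 * k + 1 + 1 by ring,
    seqIn_succ U (2 * k + 1)]

theorem lowIn_le_of_forall {U V : Subgroup G} (h : ∀ n, seqIn U (2 * n) ≤ V) : lowIn U ≤ V := by
  obtain ⟨k, hk⟩ := exists_stable U
  exact (hk k le_rfl).1.ge.trans (h k)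

theorem le_upIn_of_forall {U V : Subgroup G} (h : ∀ n, V ≤ seqIn U (2 * n + 1)) : V ≤ upIn U := by
  obtain ⟨k, hk⟩ := exists_stable U
  exact (h k).trans (hk k le_rfl).2.le

theorem normalizer_le_normalizer_upIn (U : Subgroup G) :
    normalizer (U : Set G) ≤ normalizer (upIn U : Set G) := by
  obtain ⟨k, hk⟩ := exists_stable U
  rw [← (hk k le_rfl).2]
  exact normalizer_le_normalizer_seqIn U _

/-- The series of subgroups between. -/
theorem compare {U S : Subgroup G} (hUS : U ≤ S)
    (hstep : ∀ n, seqIn U (2 * n + 1) ≤ seqIn S (2 * n + 1) →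
      ∀ A ≤ S, IsMulCommutative A → seqIn S (2 * n + 1) ≤ normalizer (A : Set G) → A ≤ U) (n : ℕ) :
    seqIn S (2 * n) ≤ seqIn U (2 * n) ∧ seqIn U (2 * n + 1) ≤ seqIn S (2 * n + 1) := by
  have odd : ∀ m, seqIn S (2 * m) ≤ seqIn U (2 * m) →
      seqIn U (2 * m + 1) ≤ seqIn S (2 * m + 1) := by
    intro m h
    rw [seqIn_succ, seqIn_succ]
    exact sSup_le fun A ⟨hA, hc, hn⟩ => le_sSup ⟨hA.trans hUS, hc, h.trans hn⟩
  induction n with
  | zero =>
    have h0 : seqIn S 0 ≤ seqIn U 0 := by rw [seqIn_zero, seqIn_zero]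
    exact ⟨h0, odd 0 h0⟩
  | succ n ih =>
    have h1 : seqIn S (2 * (n + 1)) ≤ seqIn U (2 * (n + 1)) := by
      rw [show 2 * (n + 1) = 2 * n + 1 + 1 by ring, seqIn_succ S (2 * n + 1), seqIn_succ U (2 * n + 1)]
      exact sSup_le fun A ⟨hA, hc, hn⟩ =>
        le_sSup ⟨hstep n ih.2 A hA hc hn, hc, ih.2.trans hn⟩
    exact ⟨h1, odd (n + 1) h1⟩

/-- A subgroup between `L(S)` and `S` has the same Puig subgroup. -/
theorem upIn_eq_of_between {U S : Subgroup G} (hUS : U ≤ S) (hLU : upIn S ≤ U) :
    upIn U = upIn S := by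
  refine le_antisymm ?_ ?_
  · refine le_upIn_of_forall fun n => (upIn_le_seqIn U n).trans (compare hUS ?_ n).2
    intro m _ A hA hc hn
    refine le_trans ?_ ((lowIn_le_upIn S).trans hLU)
    rw [← stepIn_upIn]
    exact le_sSup ⟨hA, hc, (upIn_le_seqIn S m).trans hn⟩
  · have main : ∀ n, seqIn U (2 * n) ≤ lowIn S → upIn S ≤ seqIn U (2 * n + 1) := by
      intro n h
      conv_lhs => rw [← stepIn_lowIn]
      rw [seqIn_succ]
      refine sSup_le fun A ⟨hA, hc, hn⟩ => le_sSup ⟨?_, hc, h.trans hn⟩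
      refine le_trans ?_ hLU
      rw [← stepIn_lowIn]
      exact le_sSup ⟨hA, hc, hn⟩
    have low : ∀ n, seqIn U (2 * n) ≤ lowIn S := by
      intro n
      induction n with
      | zero => rw [seqIn_zero]; exact bot_le
      | succ n ih =>
        rw [show 2 * (n + 1) = 2 * n + 1 + 1 by ring, seqIn_succ, ← stepIn_upIn]
        exact sSup_le fun A ⟨hA, hc, hn⟩ => le_sSup ⟨hA.trans hUS, hc, (main n ih).trans hn⟩
    exact le_upIn_of_forall fun n => main n (low n)

variable {p : ℕ} [Fact p.Prime]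

/-- Positive terms of the series contain their centralisers in the subgroup. -/
theorem inf_centralizer_seqIn_le {U : Subgroup G} (hU : IsPGroup p U) (n : ℕ) :
    U ⊓ centralizer (seqIn U (n + 1) : Set G) ≤ seqIn U (n + 1) := by
  obtain ⟨A, -, hAn, hAc, hmax⟩ := Fusion.exists_maximal_normal_abelian (⊥ : Subgroup ↥U)
    inferInstance
  have hself := Fusion.centralizer_eq_of_maximal_normal_abelian hU A hAc hmax
  have hle : A ≤ puigSeq ↥U (n + 1) :=
    le_sSup (show A ∈ {B : Subgroup ↥U | IsMulCommutative B ∧ puigSeq ↥U n ≤ normalizer (B : Set ↥U)}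
      from ⟨hAc, by rw [normalizer_eq_top]; exact le_top⟩)
  rintro x ⟨hxU, hx⟩
  refine ⟨⟨x, hxU⟩, hle (hself.le (mem_centralizer_iff.mpr fun a ha => Subtype.ext ?_)), rfl⟩
  exact mem_centralizer_iff.mp hx (a : G) ⟨a, hle ha, rfl⟩

theorem inf_centralizer_lowIn_le {U : Subgroup G} (hU : IsPGroup p U) :
    U ⊓ centralizer (lowIn U : Set G) ≤ lowIn U := by
  obtain ⟨k, hk⟩ := exists_stable U
  rw [← (hk (k + 1) k.le_succ).1, show 2 * (k + 1) = 2 * k + 1 + 1 by ring]
  exact inf_centralizer_seqIn_le hU _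

/-- The preimage of `O_p(G / C(Y))`. -/
def quadKernel (p : ℕ) (Y : Subgroup G) [Y.Normal] : Subgroup G :=
  (pCore p (G ⧸ centralizer (Y : Set G))).comap (QuotientGroup.mk' _)

instance quadKernel_normal (Y : Subgroup G) [Y.Normal] : (quadKernel p Y).Normal :=
  Normal.comap inferInstance _

/-- In odd order an element acting quadratically on a normal `p`-subgroup lies in the kernel. -/
theorem mem_quadKernel (hp : p ≠ 2) (hodd : Odd (Nat.card G)) {Y : Subgroup G} [Y.Normal]
    (hY : IsPGroup p Y) {A : Subgroup G} (hA : IsMulCommutative A)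
    (hn : Y ≤ normalizer (A : Set G)) : A ≤ quadKernel p Y := by
  intro a ha
  have hq : ⁅⁅Y, zpowers a⁆, zpowers a⁆ = ⊥ := by
    refine commutator_eq_bot_iff_le_centralizer.mpr (le_trans ?_ (centralizer_le (zpowers_le.mpr ha)))
    refine (commutator_mono le_rfl (zpowers_le.mpr ha)).trans ?_
    exact (le_normalizer_iff_commutator_le_right.mp hn).trans
      (le_centralizer_iff_isMulCommutative.mpr hA)
  have haN : a ∈ normalizer (Y : Set G) := by rw [normalizer_eq_top]; exact mem_top a
  have h1 := QdFree.isNormalizerPStable_of_odd hp hodd Y hY a haN hq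
  set C := centralizer (Y : Set G)
  have hle : C.subgroupOf (normalizer (Y : Set G)) ≤ C.comap (normalizer (Y : Set G)).subtype :=
    le_rfl
  have hsurj : Function.Surjective
      (QuotientGroup.map (C.subgroupOf (normalizer (Y : Set G))) C (normalizer (Y : Set G)).subtype hle) := by
    intro y
    obtain ⟨g, rfl⟩ := QuotientGroup.mk_surjective y
    exact ⟨QuotientGroup.mk ⟨g, by rw [normalizer_eq_top]; exact mem_top g⟩, rfl⟩
  exact Core.map_pCore_le_of_surjective hsurj ⟨_, h1, rfl⟩

theorem pCore_selfCentral [Group.IsSolvable G] (hO : pPrimeCore p G = ⊥) :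
    centralizer (pCore p G : Set G) ≤ pCore p G :=
  Layer.pCoreSelfCentral_of_isPSolvable (Fusion.isPSolvable_of_isSolvable G) hO

/-- Quadratic abelian subgroups fall into `O_p(G)`. -/
theorem le_pCore_of_normalizes (hp : p ≠ 2) (hodd : Odd (Nat.card G)) [Group.IsSolvable G]
    (hO : pPrimeCore p G = ⊥) (n : ℕ) {A : Subgroup G} (hA : IsMulCommutative A)
    (hn : seqIn (pCore p G) (n + 1) ≤ normalizer (A : Set G)) : A ≤ pCore p G := by
  set T := pCore p G
  set X := seqIn T (n + 1)
  haveI hXn : X.Normal := normalizer_eq_top_iff.mp (top_le_iff.mp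
    ((normalizer_eq_top (H := T)).ge.trans (normalizer_le_normalizer_seqIn T _)))
  have hTp : IsPGroup p T := Core.pCore_isPGroup
  have hXT : X ≤ T := seqIn_le T _
  have hC : IsPGroup p (centralizer (X : Set G)) := by
    refine IsPGroup.iff_card.mpr ⟨(Nat.card (centralizer (X : Set G))).primeFactorsList.length,
      Nat.eq_prime_pow_of_unique_prime_dvd Nat.card_pos.ne' fun {q} hq hqd => ?_⟩
    by_contra hne
    have := Fact.mk hq
    obtain ⟨c, hc⟩ := exists_prime_orderOf_dvd_card' q hqd
    have hcc : orderOf (c : G) = q := (orderOf_coe c).trans hc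
    have hcop : (Nat.card (zpowers (c : G))).Coprime p := by
      rw [Nat.card_zpowers, hcc]
      exact (Nat.coprime_primes hq Fact.out).mpr hne
    have h := Coprime.thompson_pxq (hTp.to_le hXT) hcop hTp
      (le_centralizer_iff.mp (zpowers_le.mpr c.2)) le_normalizer_of_normal le_normalizer_of_normal
      ((inf_centralizer_seqIn_le hTp n).trans (le_centralizer_iff.mp (zpowers_le.mpr c.2)))
    have hcT : (c : G) ∈ T := pCore_selfCentral hO (h (mem_zpowers _))
    obtain ⟨j, hj⟩ := IsPGroup.iff_orderOf.mp hTp ⟨c, hcT⟩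
    rw [Subgroup.orderOf_mk, hcc] at hj
    exact hne ((Nat.prime_dvd_prime_iff_eq hq Fact.out).mp
      (hq.dvd_of_dvd_pow hj.dvd))
  have hD : IsPGroup p (quadKernel p X) :=
    (Core.pCore_isPGroup (p := p) (G := G ⧸ centralizer (X : Set G))).comap_of_ker_isPGroup
      (QuotientGroup.mk' _) (by rwa [QuotientGroup.ker_mk'])
  exact (mem_quadKernel hp hodd (hTp.to_le hXT) hA hn).trans (Core.le_pCore hD)

/-- The Puig inequalities. -/
theorem puig_chain (hp : p ≠ 2) (hodd : Odd (Nat.card G)) [Group.IsSolvable G]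
    (hO : pPrimeCore p G = ⊥) (S : Sylow p G) :
    lowIn (S : Subgroup G) ≤ lowIn (pCore p G) ∧ lowIn (pCore p G) ≤ upIn (pCore p G) ∧
      upIn (pCore p G) ≤ upIn (S : Subgroup G) := by
  have key := compare (U := pCore p G) (Core.pCore_le_sylow S) fun n hle A _ hc hn =>
    le_pCore_of_normalizes hp hodd hO (2 * n) hc (hle.trans hn)
  exact ⟨lowIn_le_of_forall fun n => (key n).1.trans (seqIn_le_lowIn _ n), lowIn_le_upIn _,
    le_upIn_of_forall fun n => (upIn_le_seqIn _ n).trans (key n).2⟩

/-- `Z(L(U))` inside the ambient group. -/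
def zUp (U : Subgroup G) : Subgroup G := upIn U ⊓ centralizer (upIn U : Set G)

theorem zUp_normal (hp : p ≠ 2) (hodd : Odd (Nat.card G)) [Group.IsSolvable G]
    (hO : pPrimeCore p G = ⊥) (S : Sylow p G) : (zUp (S : Subgroup G)).Normal := by
  obtain ⟨h1, -, h3⟩ := puig_chain hp hodd hO S
  set T := pCore p G with hT
  set L := upIn T with hL
  haveI hLn : L.Normal := normalizer_eq_top_iff.mp (top_le_iff.mp
    ((normalizer_eq_top (H := T)).ge.trans (normalizer_le_normalizer_upIn T)))
  set Y := L ⊓ centralizer (L : Set G) with hY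
  haveI : Y.Normal := inferInstance
  have hYS : Y ≤ (S : Subgroup G) :=
    inf_le_left.trans ((map_subtype_le _).trans (Core.pCore_le_sylow S))
  have hYc : IsMulCommutative Y :=
    le_centralizer_iff_isMulCommutative.mp (inf_le_right.trans (centralizer_le inf_le_left))
  have hYlow : Y ≤ lowIn (S : Subgroup G) :=
    (le_seqIn hYS hYc le_normalizer_of_normal 1).trans (seqIn_le_lowIn _ 1)
  -- `Z(L(S))` lies in `Y`
  have hZY : zUp (S : Subgroup G) ≤ Y := by
    intro z hz
    have hzc : z ∈ centralizer (lowIn (S : Subgroup G) : Set G) :=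
      centralizer_le (lowIn_le_upIn _) hz.2
    exact ⟨(h1.trans (lowIn_le_upIn _)) (inf_centralizer_lowIn_le S.2
      ⟨map_subtype_le _ hz.1, hzc⟩), centralizer_le h3 hz.2⟩
  set D := quadKernel p Y
  have hLD : upIn (S : Subgroup G) ≤ D := by
    rw [← stepIn_lowIn]
    exact sSup_le fun A ⟨_, hc, hn⟩ =>
      mem_quadKernel hp hodd (S.2.to_le hYS) hc (hYlow.trans hn)
  have hLU : upIn (S : Subgroup G) ≤ (S : Subgroup G) ⊓ D := le_inf (map_subtype_le _) hLD
  have hUeq := upIn_eq_of_between inf_le_left hLU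
  have hCN : centralizer (Y : Set G) ≤ normalizer (zUp (S : Subgroup G) : Set G) :=
    (centralizer_le hZY).trans (centralizer_le_normalizer _)
  have hNU : normalizer (((S : Subgroup G) ⊓ D : Subgroup G) : Set G) ≤
      normalizer (zUp (S : Subgroup G) : Set G) := by
    refine (normalizer_le_normalizer_upIn _).trans ?_
    rw [hUeq]
    intro g hg
    rw [mem_normalizer_iff_map_conj_eq] at hg ⊢
    have hker : upIn (S : Subgroup G) ⊓ (MulAut.conj g).toMonoidHom.ker = ⊥ := by
      rw [(MonoidHom.ker_eq_bot_iff _).mpr (MulAut.conj g).injective, inf_bot_eq]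
    have h := Fusion.map_inf_centralizer_of_inf_ker (MulAut.conj g).toMonoidHom hker
    rw [show (upIn (S : Subgroup G)).map (MulAut.conj g).toMonoidHom = upIn (S : Subgroup G) from hg]
      at h
    exact h
  -- Frattini
  obtain ⟨P, hP⟩ : ∃ P : Sylow p D, (P : Subgroup D) = (S : Subgroup G).subgroupOf D := by
    refine ⟨(S.2.comap_subtype (K := D)).toSylow ?_, rfl⟩
    exact Thompson.not_dvd_relIndex_sylow S D
  have hfr := P.normalizer_sup_eq_top (N := D)
  rw [hP, subgroupOf_map_subtype] at hfr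
  refine normalizer_eq_top_iff.mp (top_le_iff.mp ?_)
  rw [← hfr]
  refine sup_le hNU ?_
  -- `D = C(Y) (S ⊓ D)`
  have hDeq : D ≤ centralizer (Y : Set G) ⊔ ((S : Subgroup G) ⊓ D) := by
    set f := QuotientGroup.mk' (centralizer (Y : Set G))
    have hp' : IsPGroup p (↥D ⧸ ((centralizer (Y : Set G)).subgroupOf D)) := by
      refine (Core.pCore_isPGroup (p := p) (G := G ⧸ centralizer (Y : Set G))).of_injective
        (QuotientGroup.lift _ ((f.comp D.subtype).codRestrict (pCore p _) fun d => d.2) ?_) ?_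
      · intro d hd
        exact Subtype.ext ((QuotientGroup.eq_one_iff _).mpr hd)
      · rw [injective_iff_map_eq_one]
        intro x hx
        obtain ⟨d, rfl⟩ := QuotientGroup.mk_surjective x
        have h1 : f (d : G) = 1 := congrArg Subtype.val hx
        exact (QuotientGroup.eq_one_iff _).mpr
          ((QuotientGroup.eq_one_iff (N := centralizer (Y : Set G)) (d : G)).mp h1)
    have h := Fusion.sylow_sup_eq_top_of_isPGroup_quotient P _ hp'
    intro d hd
    have h' : (⟨d, hd⟩ : D) ∈ (P : Subgroup D) ⊔ (centralizer (Y : Set G)).subgroupOf D :=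
      h ▸ mem_top _
    have h'' := mem_map_of_mem D.subtype h'
    rw [Subgroup.map_sup, hP, subgroupOf_map_subtype, subgroupOf_map_subtype] at h''
    exact (sup_le (le_sup_right (a := centralizer (Y : Set G)))
      (inf_le_left.trans le_sup_left)) h''
  exact hDeq.trans (sup_le hCN (Subgroup.le_normalizer.trans hNU))

theorem zUp_eq (U : Subgroup G) :
    ((center ↥(puigSubgroup ↥U)).map (puigSubgroup ↥U).subtype).map U.subtype = zUp U := by
  ext x
  constructor
  · rintro ⟨y, ⟨z, hz, rfl⟩, rfl⟩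
    refine ⟨⟨z, z.2, rfl⟩, mem_centralizer_iff.mpr ?_⟩
    rintro _ ⟨w, hw, rfl⟩
    exact congrArg (fun t : ↥(puigSubgroup ↥U) => ((t : ↥U) : G))
      (mem_center_iff.mp hz ⟨w, hw⟩)
  · rintro ⟨⟨y, hy, rfl⟩, hc⟩
    refine ⟨y, ⟨⟨y, hy⟩, mem_center_iff.mpr fun w => Subtype.ext (Subtype.ext ?_), rfl⟩, rfl⟩
    exact mem_centralizer_iff.mp hc _ ⟨w, w.2, rfl⟩

theorem puig_theorem (hp : p ≠ 2) (hodd : Odd (Nat.card G)) [Group.IsSolvable G]
    (S : Sylow p G) :
    pPrimeCore p G ⊔ normalizer (zUp (S : Subgroup G) : Set G) = ⊤ := by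
  set M := pPrimeCore p G
  set f := QuotientGroup.mk' M with hf
  have hfs := QuotientGroup.mk'_surjective M
  have hker : (Nat.card f.ker).Coprime p := by
    rw [hf, QuotientGroup.ker_mk']; exact Core.coprime_card_pPrimeCore
  have hodd' : Odd (Nat.card (G ⧸ M)) := hodd.of_dvd_nat (card_quotient_dvd_card M)
  have hn := zUp_normal hp hodd' Core.pPrimeCore_quotient_eq_bot (S.mapSurjective hfs)
  have hZS : zUp (S : Subgroup G) ≤ (S : Subgroup G) := inf_le_left.trans (map_subtype_le _)
  have hSker : (S : Subgroup G) ⊓ f.ker = ⊥ := Layer.inf_eq_bot_of_isPGroup S.2 hker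
  have hmap : (zUp (S : Subgroup G)).map f = zUp ((S : Subgroup G).map f) := by
    have hup : (upIn (S : Subgroup G)).map f = upIn ((S : Subgroup G).map f) := by
      obtain ⟨k, hk⟩ := exists_stable (S : Subgroup G)
      obtain ⟨l, hl⟩ := exists_stable ((S : Subgroup G).map f)
      rw [← (hk (k + l) le_self_add).2, ← (hl (k + l) le_add_self).2]
      exact map_seqIn hSker _
    rw [zUp, zUp, ← hup]
    refine Fusion.map_inf_centralizer_of_inf_ker f (le_bot_iff.mp ?_)
    exact hSker ▸ inf_le_inf_right _ (map_subtype_le _)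
  rw [Sylow.coe_mapSurjective, ← hmap, ← normalizer_eq_top_iff,
    ← Layer.map_normalizer_of_coprime hfs hker (S.2.to_le hZS)] at hn
  have h2 := congrArg (Subgroup.comap f) hn
  rw [Subgroup.comap_top, Subgroup.comap_map_eq, hf, QuotientGroup.ker_mk', sup_comm] at h2
  exact h2

end Cfsg.Agent.OddLocal.Puig
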