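import Cfsg.Agent.OddLocal.TauTwoNonabelian
import Cfsg.Agent.OddLocal.SigmaNormalizer
import Cfsg.Agent.OddLocal.SigmaConjugate
import Cfsg.Agent.OddLocal.NonabelianUnique

/-!
BG 13.1, 13.2: `p`-subgroups of `M ∩ L` centralise `M_σ ∩ L` for nonconjugate `M`, `L`.
-/

set_option autoImplicit false
set_option linter.unusedSectionVars false
set_option linter.style.haveILetI false

namespace Cfsg.Agent.OddLocal

open Subgroup Cfsg
open scoped commutatorElement

universe u

variable {G : Type u} [Group G] [Finite G] {p : ℕ} [hp : Fact p.Prime] {q : ℕ} [hq : Fact q.Prime]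
  {M L H A : Subgroup G}

omit hq hp in
/-- Nonconjugacy is symmetric. -/
theorem nonconj_symm (h : ∀ g : G, H ≠ M.map (MulAut.conj g).toMonoidHom) :
    ∀ g : G, M ≠ H.map (MulAut.conj g).toMonoidHom := fun g e => h g⁻¹ (by
  rw [e, map_conj_map_conj, inv_mul_cancel, map_conj_eq_self_of_mem (one_mem _)])

omit hq in
theorem pRankLE_map_conj {k : ℕ} (h : PRankLE p k M) (g : G) :
    PRankLE p k ↥(M.map (MulAut.conj g).toMonoidHom) :=
  pRankLE_of_injective (M.equivMapOfInjective _ (MulAut.conj g).injective).symm.toMonoidHom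
    (M.equivMapOfInjective _ (MulAut.conj g).injective).symm.injective h

omit hq in
theorem not_pRankLE_one_of_plane (hAM : A ≤ M) (hA : IsElementaryAbelian p A)
    (hc : Nat.card A = p ^ 2) : ¬ PRankLE p 1 M := by
  intro h
  have h1 := h (A.subgroupOf M) ⟨⟨fun a b => Subtype.ext (Subtype.ext
      (Coprime.ea_comm hA (mem_subgroupOf.mp a.2) (mem_subgroupOf.mp b.2)))⟩⟩
    (fun a ha => Subtype.ext (by simpa using hA.2 _ (mem_subgroupOf.mp ha)))
  rw [Coprime.card_subgroupOf hAM, hc, pow_one] at h1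
  have := hp.out.one_lt
  nlinarith

omit hq in
theorem pRankLE_one_of_isCyclic {K : Type u} [Group K] [Finite K] (h : IsCyclic K) :
    PRankLE p 1 K := by
  intro V hV hVp
  haveI := h
  obtain ⟨v, hv⟩ := IsCyclic.exists_generator (α := V)
  have h1 : orderOf v = Nat.card V := orderOf_eq_card_of_forall_mem_zpowers hv
  rw [← h1, pow_one]
  exact Nat.le_of_dvd hp.out.pos (orderOf_dvd_of_pow_eq_one (Subtype.ext (by simpa using hVp v v.2)))

omit hq in
/-- A `p`-group in `N` centralises a `p'`-subgroup it normalises, when `N` has normal `r`-complements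
for the primes `r` of the latter. -/
theorem le_centralizer_of_complements {N P D : Subgroup G} (hP : IsPGroup p P) (hPN : P ≤ N)
    (hDN : D ≤ N) (hPD : P ≤ normalizer (D : Set G)) (hpD : ¬ p ∣ Nat.card D)
    (hN : ∀ r : ℕ, r.Prime → r ∣ Nat.card D → HasNormalPComplement r ↥N) :
    P ≤ centralizer (D : Set G) := by
  rw [le_centralizer_iff]
  refine Coprime.le_of_forall_sylow_le fun r hr => ?_
  haveI := Fact.mk hr
  have hcop : (Nat.card P).Coprime (Nat.card D) := by
    obtain ⟨k, hk⟩ := IsPGroup.iff_card.mp hP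
    rw [hk]
    exact (hp.out.coprime_iff_not_dvd.mpr hpD).pow_left k
  haveI : Group.IsNilpotent P := hP.isNilpotent
  obtain ⟨R, hR⟩ := Coprime.exists_invariant_sylow hPD hcop (Or.inl inferInstance) r
  refine ⟨R, ?_⟩
  set R' := (R : Subgroup D).map D.subtype with hR'
  by_cases hR1 : R' = ⊥
  · rw [hR1]; exact bot_le
  have hrD : r ∣ Nat.card D := by
    obtain ⟨s, hs, hsd⟩ := exists_prime_dvd_of_ne_bot hR1
    obtain ⟨j, hj⟩ := IsPGroup.iff_card.mp (R.2.map D.subtype)
    exact ((Nat.prime_dvd_prime_iff_eq hs hr).mp (hs.dvd_of_dvd_pow (hj ▸ hsd))) ▸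
      hsd.trans (card_dvd_of_le (map_subtype_le _))
  have hrp : r ≠ p := fun e => hpD (e ▸ hrD)
  have hNc : (Nat.card (pResidual r ↥N)).Coprime r :=
    Fusion.coprime_card_pResidual_of_hasNormalPComplement (hN r hr hrD)
  rw [le_centralizer_iff]
  intro a ha
  rw [mem_centralizer_iff]
  intro x hx
  have hxN : x ∈ N := hDN (map_subtype_le _ hx)
  have haN : (⟨a, hPN ha⟩ : N) ∈ pResidual r ↥N := by
    refine Fusion.mem_pResidual_of_coprime ?_
    obtain ⟨k, hk⟩ := hP.exists_orderOf_eq_pow ⟨a, ha⟩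
    rw [← orderOf_coe] at hk
    rw [← orderOf_coe]
    exact hk ▸ ((Nat.coprime_primes hp.out hr).mpr hrp.symm).pow_left k
  set c : N := ⁅(⟨x, hxN⟩ : N), (⟨a, hPN ha⟩ : N)⁆ with hc
  have hcN : c ∈ pResidual r ↥N := by
    rw [hc, commutatorElement_def]
    exact mul_mem ((inferInstance : (pResidual r ↥N).Normal).conj_mem _ haN _) (inv_mem haN)
  have hcR : (c : G) ∈ R' := by
    have h : x * (a * x⁻¹ * a⁻¹) ∈ R' :=
      R'.mul_mem hx ((mem_normalizer_iff.mp (hR ha) x⁻¹).mp (R'.inv_mem hx))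
    simpa [hc, commutatorElement_def, mul_assoc] using h
  have h1 : c = 1 := by
    rw [← orderOf_eq_one_iff]
    obtain ⟨k, hk⟩ := (R.2.map D.subtype).exists_orderOf_eq_pow ⟨c, hcR⟩
    rw [← orderOf_coe] at hk
    have h2 : orderOf c ∣ Nat.card (pResidual r ↥N) := Subgroup.orderOf_dvd_natCard _ hcN
    rw [← orderOf_coe c, hk] at h2 ⊢
    exact Nat.eq_one_of_dvd_coprimes (hNc.pow_right k) h2 dvd_rfl
  exact congrArg Subtype.val (commutatorElement_eq_one_iff_mul_comm.mp h1)

variable (hG : IsMinSimpleOddOrder G) (hM : IsCoatom M)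
include hG hM

omit hq in
/-- A prime of `σ(M)` does not lie in `α(H)` for `H` not conjugate to `M`. -/
theorem not_alpha_of_sigma (hσ : p ∈ sigma M) (hH : IsCoatom H)
    (hnc : ∀ g : G, H ≠ M.map (MulAut.conj g).toMonoidHom) : p ∉ alpha H := fun hα => by
  obtain ⟨g, hg⟩ := conj_of_alpha_sigma hG hM hH hα hσ
  exact nonconj_symm hnc g hg

omit hq in
/-- `σ(M)` and `σ(H)` are disjoint when `H_σ` is nilpotent and `H` is not conjugate to `M`. -/
theorem not_sigma_of_nilpotent (hσ : p ∈ sigma M) (hH : IsCoatom H)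
    (hn : Group.IsNilpotent (sigmaCore H))
    (hnc : ∀ g : G, H ≠ M.map (MulAut.conj g).toMonoidHom) : p ∉ sigma H := fun hσH => by
  obtain ⟨S, hSH, hHS⟩ := exists_normal_sylow hG hH hn hσH
  obtain ⟨T, hT⟩ := exists_sylow_of_sigma hσ
  obtain ⟨g, hg⟩ := MulAction.exists_smul_eq G S T
  have hT' : (T : Subgroup G) = (S : Subgroup G).map (MulAut.conj g).toMonoidHom := by
    rw [← hg]; rfl
  have hle : H.map (MulAut.conj g).toMonoidHom ≤ M := by
    intro y hy
    rw [mem_map_conj_iff] at hy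
    refine normalizer_sylow_le hG hM hT hσ (mem_normalizer_of_map_conj ?_)
    rw [hT', map_conj_map_conj, show y * g = g * (g⁻¹ * y * g) by group, ← map_conj_map_conj,
      map_conj_eq_self_of_mem (hHS hy)]
  exact nonconj_symm hnc g ((eq_or_lt_of_le hle).resolve_right fun h =>
    hM.1 ((isCoatom_map_conj hH g).2 M h)).symm

omit hq in
theorem tau_of_not_sigma (hpσ : p ∉ sigma M) (hpM : p ∣ Nat.card M) :
    p ∈ tau1 M ∪ tau3 M ∨ p ∈ tau2 M := by
  by_cases h1 : PRankLE p 1 M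
  · by_cases hd : p ∣ Nat.card ↥⁅M, M⁆
    · exact Or.inl (Or.inr ⟨hp.out, hpσ, hd, h1⟩)
    · exact Or.inl (Or.inl ⟨hp.out, hpσ, hpM, hd, h1⟩)
  · exact Or.inr ⟨hp.out, hpσ, by_contra fun hc => hpσ (alpha_subset_sigma hG hM ⟨hp.out, hc⟩), h1⟩

/-- For `p, q ∈ σ(M) \ β(M)` every `q`-subgroup of `M` is centralised by a Sylow `p`-subgroup. -/
theorem exists_sylow_centralizing (hσp : p ∈ sigma M) (hσq : q ∈ sigma M) (hpβ : p ∉ beta M)
    (hqβ : q ∉ beta M) (hqp : q ≠ p) {R : Subgroup G} (hR : IsPGroup q R) (hRM : R ≤ M) :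
    ∃ P : Sylow p G, (P : Subgroup G) ≤ M ∧ (P : Subgroup G) ≤ centralizer (R : Set G) := by
  obtain ⟨P, hPM⟩ := exists_sylow_of_sigma hσp
  obtain ⟨-, hcompl, -⟩ := (Cfsg.Agent.S1414.result hG M hM).2.2.2.2 p hp.out hσp.2.1 hpβ
  haveI : (pResidual p ↥(sigmaCore M)).Characteristic := Fusion.pResidual_characteristic
  set K := (pResidual p ↥(sigmaCore M)).map (sigmaCore M).subtype with hK
  have hcop : (Nat.card (P : Subgroup G)).Coprime (Nat.card K) := by
    obtain ⟨k, hk⟩ := IsPGroup.iff_card.mp P.2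
    rw [hk, hK, card_map_of_injective (sigmaCore M).subtype_injective]
    exact (Fusion.coprime_card_pResidual_of_hasNormalPComplement hcompl).symm.pow_left k
  have hPn : (P : Subgroup G) ≤ normalizer (K : Set G) :=
    LocalStructure.le_normalizer_map_characteristic (hPM.trans (le_normalizer_sigmaCore M)) _
  have hKM : K ≤ M := (map_subtype_le _).trans (sigmaCore_le M)
  have hRK : R ≤ K := by
    intro b hb
    refine ⟨⟨b, le_sigmaCore_of_isPGroup hG hM hRM hR hσq hb⟩,
      Fusion.mem_pResidual_of_coprime ?_, rfl⟩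
    obtain ⟨k, hk⟩ := hR.exists_orderOf_eq_pow ⟨b, hb⟩
    rw [← orderOf_coe] at hk
    rw [← orderOf_coe]
    exact hk ▸ ((Nat.coprime_primes hq.out hp.out).mpr hqp).pow_left k
  haveI : Group.IsNilpotent (P : Subgroup G) := P.2.isNilpotent
  obtain ⟨Q, hQ⟩ := Coprime.exists_invariant_sylow hPn hcop (Or.inl inferInstance) q
  obtain ⟨QR, hQR⟩ := exists_sylow_ge hR hRK
  obtain ⟨x, hx⟩ := MulAction.exists_smul_eq K QR Q
  have hS := le_centralizer_of_sigma hG hM hσp hσq hqβ hqp P.2 hPM (Q.2.map K.subtype)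
    ((map_subtype_le _).trans hKM) hQ
  refine ⟨MulAut.conj (x : G)⁻¹ • P, ?_, ?_⟩
  · exact map_conj_le_of_mem hPM (inv_mem (hKM x.2))
  rintro _ ⟨s, hs, rfl⟩
  refine mem_centralizer_iff.mpr fun b hb => ?_
  have hbQ : (x : G) * b * (x : G)⁻¹ ∈ (Q : Subgroup K).map K.subtype := by
    rw [← hx, map_subtype_sylow_smul, mem_map_conj_iff]
    simpa [mul_assoc] using hQR hb
  have h1 := mem_centralizer_iff.mp (hS hs) _ hbQ
  change b * ((x : G)⁻¹ * s * (x : G)⁻¹⁻¹) = (x : G)⁻¹ * s * (x : G)⁻¹⁻¹ * b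
  rw [inv_inv]
  calc b * ((x : G)⁻¹ * s * x) = (x : G)⁻¹ * (x * b * (x : G)⁻¹ * s) * x := by group
    _ = (x : G)⁻¹ * (s * (x * b * (x : G)⁻¹)) * x := by rw [h1]
    _ = (x : G)⁻¹ * s * x * b := by group

omit hq in
/-- A plane meeting `M` nontrivially, for a non-ideal prime outside `σ(M)` of rank one in `M`,
centralises no non-identity element of `M_σ`. -/
theorem fixed_plane_eq_bot (hpσ : p ∉ sigma M) (hr : PRankLE p 1 M) (hid : ¬ IsIdealPrime p G)
    (hA : IsElementaryAbelian p A) (hA2 : Nat.card A = p ^ 2) (hAM : A ⊓ M ≠ ⊥) :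
    sigmaCore M ⊓ centralizer (A : Set G) = ⊥ := by
  by_contra hK
  obtain ⟨q, hq, hqd⟩ := exists_prime_dvd_of_ne_bot hK
  haveI := Fact.mk hq
  obtain ⟨y, hy⟩ := exists_prime_orderOf_dvd_card' q hqd
  have hy' : orderOf (y : G) = q := by rw [orderOf_coe, hy]
  set Y := zpowers (y : G) with hY
  have hYc : Nat.card Y = q := by rw [hY, Nat.card_zpowers, hy']
  have hY1 : Y ≠ ⊥ := fun e => by rw [e, card_bot] at hYc; exact hq.ne_one hYc.symm
  have hYM : Y ≤ M := zpowers_le.mpr (sigmaCore_le M y.2.1)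
  have hYp : IsPGroup q Y := IsPGroup.of_card (n := 1) (by rw [hYc, pow_one])
  have hqσ : q ∈ sigma M := piNum_sigmaCore M q hq (hqd.trans (card_dvd_of_le inf_le_left))
  obtain ⟨H, hH, hNH⟩ := (IsCoatomic.eq_top_or_exists_le_coatom
    (normalizer (Y : Set G))).resolve_left
      (ne_top_of_normal_ne_bot hG hY1 (ne_top_of_not_dvd hM hYM))
  have hAH : A ≤ H := fun a ha => hNH (centralizer_le_normalizer_zpowers (y : G)
    (mem_centralizer_singleton_iff.mpr (mem_centralizer_iff.mp y.2.2 a ha)))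
  have hne : H ≠ M := fun e => not_pRankLE_one_of_plane (e ▸ hAH) hA hA2 hr
  obtain ⟨S, hS⟩ := exists_sylow_ge hYp (M := M ⊓ H)
    (le_inf hYM (Subgroup.le_normalizer.trans hNH))
  obtain ⟨hnc, hNS, T, hT⟩ := sigma_normalizer_other hG hM hqσ hYp hY1 hYM hH hne hNH S hS
  set S' := (S : Subgroup ↥(M ⊓ H)).map (M ⊓ H).subtype with hS'
  have hS'M : S' ≤ M := (map_subtype_le _).trans inf_le_left
  have hS'H : S' ≤ H := (map_subtype_le _).trans inf_le_right
  have hrH : ¬ PRankLE p 1 H := not_pRankLE_one_of_plane hAH hA hA2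
  have hqp : q ≠ p := fun e => hpσ (e ▸ hqσ)
  by_cases hqH : q ∈ sigma H
  · have hqβ : q ∉ beta H := fun hb => not_alpha_of_sigma hG hM hqσ hH hnc hb.1
    by_cases hpH : p ∈ sigma H
    · obtain ⟨P, -, hPC⟩ := exists_sylow_centralizing hG hH hpH hqH (fun hb => hid hb.2) hqβ hqp
        (S.2.map (M ⊓ H).subtype) hS'H
      have hPM : (P : Subgroup G) ≤ M := hPC.trans ((centralizer_le_normalizer _).trans hNS)
      obtain ⟨u, hu⟩ := exists_conj_mem_sylow P (Coprime.ea_isPGroup hA)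
      exact not_pRankLE_one_of_plane (hu.trans hPM) (isElementaryAbelian_map hA u)
        (by rw [card_map_conj, hA2]) hr
    · exact not_sigma_of_nilpotent hG hM hqσ hH
        ((IsTauPair.isExceptional hG hH ⟨hAH, hA, hA2, hpH⟩).sigmaCore_nilpotent hG hH) hnc hqH
  · obtain ⟨⟨hq2, hq1⟩, -⟩ := rank_two_of_normalizer_le hG hH hqH hYc hNH
    obtain ⟨-, B, hBT, hB⟩ := sylow_comm_of_tau2 hG hH ⟨hq, hqH, hq2, hq1⟩ T
    rw [hT] at hBT
    have hBM : B ≤ M := hBT.trans hS'M
    have hBp : IsPGroup q B := Coprime.ea_isPGroup hB.elem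
    have hn := (hB.isExceptional hG hH).sigmaCore_nilpotent hG hH
    obtain ⟨E, hE, hBE⟩ := exists_compl_ge hG hH hBp hB.le hB.not_sigma
    have hEM : E ≤ M := ((hB.isExceptional hG hH).le_normalizer_of_compl hG hH hE hBE).trans
      (normalizer_le_of_not_isCyclic hG hM hqσ hBp hBM hB.not_isCyclic)
    by_cases hpH : p ∈ sigma H
    · obtain ⟨x, hx, hx1⟩ := exists_mem_ne_one (A ⊓ M) hAM
      refine hx1 (mem_bot.mp (hB.fixed_eq_bot hG hH ▸ ⟨le_sigmaCore_of_isPGroup hG hH hAH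
        (Coprime.ea_isPGroup hA) hpH hx.1, mem_centralizer_iff.mpr fun b hb => ?_⟩))
      have hdisj : sigmaCore H ⊓ sigmaCore M = ⊥ := Coprime.inf_eq_bot_of_coprime
        (Nat.coprime_of_dvd fun r hr h1 h2 => by
          haveI := Fact.mk hr
          exact not_sigma_of_nilpotent hG hM (piNum_sigmaCore M r hr h2) hH hn hnc
            (piNum_sigmaCore H r hr h1))
      have hxH : x ∈ sigmaCore H := le_sigmaCore_of_isPGroup hG hH hAH
        (Coprime.ea_isPGroup hA) hpH hx.1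
      have hbM : b ∈ sigmaCore M := le_sigmaCore_of_isPGroup hG hM hBM hBp hqσ hb
      have h1 : x * b * x⁻¹ * b⁻¹ ∈ (⊥ : Subgroup G) := by
        rw [← hdisj]
        refine ⟨?_, (sigmaCore M).mul_mem ((mem_normalizer_iff.mp
          (le_normalizer_sigmaCore M hx.2) b).mp hbM) ((sigmaCore M).inv_mem hbM)⟩
        have h := (sigmaCore H).mul_mem hxH ((mem_normalizer_iff.mp
          (le_normalizer_sigmaCore H (hB.le hb)) x⁻¹).mp ((sigmaCore H).inv_mem hxH))
        simpa [mul_assoc] using h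
      rw [mem_bot, mul_inv_eq_one, mul_inv_eq_iff_eq_mul] at h1
      exact h1.symm
    · obtain ⟨A', hA'E, hA'⟩ := exists_plane_in_compl hG hH hE ⟨hp.out, hpH,
        by_contra (fun hc => hpH (alpha_subset_sigma hG hH ⟨hp.out, hc⟩)), hrH⟩
      exact not_pRankLE_one_of_plane (hA'E.trans hEM) hA'.elem hA'.card hr

omit hq in
/-- For `p ∈ τ₂(L)` and `K ≤ M_σ ∩ L`, a plane through a `p`-element of `M` centralises no
non-identity element of `K`. -/
theorem fixed_plane_inf_eq_bot (hL : IsCoatom L) (hpσ : p ∉ sigma M) (hpL : p ∈ tau2 L)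
    (hA : IsTauPair p L A) {x : G} (hxA : x ∈ A) (hxM : x ∈ M) (hx1 : x ≠ 1) :
    sigmaCore M ⊓ centralizer (A : Set G) = ⊥ := by
  by_cases hr : PRankLE p 1 M
  · exact fixed_plane_eq_bot hG hM hpσ hr
      (not_isIdealPrime_of_not_sigma hG hL hA.not_sigma hpL.2.2.1 hpL.2.2.2) hA.elem hA.card
      fun e => hx1 ((eq_bot_iff_forall _).mp e x ⟨hxA, hxM⟩)
  · have hp2 : p ∈ tau2 M := ⟨hp.out, hpσ,
      by_contra fun hc => hpσ (alpha_subset_sigma hG hM ⟨hp.out, hc⟩), hr⟩
    rw [eq_bot_iff]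
    intro k hk
    by_contra hk1
    obtain ⟨B, hB, -, hxB⟩ := exists_plane_of_line hG hM hp2 hxM (x := x) (k := 1)
      (by rw [pow_one]; exact hA.elem.2 x hxA)
    have hkx : k ∈ centralizer (zpowers x : Set G) :=
      (centralizer_le (SetLike.coe_subset_coe.mpr (zpowers_le.mpr hxA))) hk.2
    have hC := (hB.unique_centralizer hG hM (zpowers_le.mpr (hxB (hA.elem.2 x hxA)))
      (fun e => hk1 ((eq_bot_iff_forall _).mp e k ⟨hk.1, hkx⟩)) (by rwa [Ne, zpowers_eq_bot])).1
    have hAM : A ≤ M := ((Coprime.ea_le_centralizer hA.elem).trans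
      (centralizer_le (SetLike.coe_subset_coe.mpr (zpowers_le.mpr hxA)))).trans hC
    exact hk1 (IsTauPair.fixed_eq_bot hG hM ⟨hAM, hA.elem, hA.card, hpσ⟩ ▸ hk)

omit hq in
/-- BG 13.1. -/
theorem le_centralizer_inf_sigmaCore (hL : IsCoatom L)
    (hnc : ∀ g : G, L ≠ M.map (MulAut.conj g).toMonoidHom) (hpσ : p ∉ sigma M)
    (hp1 : p ∉ tau1 L) {P : Subgroup G} (hP : IsPGroup p P) (hPM : P ≤ M) (hPL : P ≤ L) :
    P ≤ centralizer ((sigmaCore M ⊓ L : Subgroup G) : Set G) := by
  set K := sigmaCore M ⊓ L with hK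
  by_cases hP1 : P = ⊥
  · rw [hP1]; exact bot_le
  have hpL : p ∣ Nat.card L := by
    obtain ⟨r, hr, hrd⟩ := exists_prime_dvd_of_ne_bot hP1
    obtain ⟨j, hj⟩ := IsPGroup.iff_card.mp hP
    exact ((Nat.prime_dvd_prime_iff_eq hr hp.out).mp (hr.dvd_of_dvd_pow (hj ▸ hrd))) ▸
      hrd.trans (card_dvd_of_le hPL)
  have hPK : P ≤ normalizer (K : Set G) := Coprime.le_normalizer_inf
    (hPM.trans (le_normalizer_sigmaCore M)) (hPL.trans Subgroup.le_normalizer)
  have hpK : ¬ p ∣ Nat.card K := fun hd =>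
    hpσ (piNum_sigmaCore M p hp.out (hd.trans (card_dvd_of_le inf_le_left)))
  have hcop : (Nat.card P).Coprime (Nat.card K) := by
    obtain ⟨k, hk⟩ := IsPGroup.iff_card.mp hP
    rw [hk]
    exact (hp.out.coprime_iff_not_dvd.mpr hpK).pow_left k
  have hKβ : ∀ r : ℕ, r.Prime → r ∣ Nat.card K → r ∉ beta L := fun r hr hd hb => by
    haveI := Fact.mk hr
    exact not_alpha_of_sigma hG hM (piNum_sigmaCore M r hr (hd.trans (card_dvd_of_le inf_le_left)))
      hL hnc hb.1
  by_cases hpβ : p ∈ beta L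
  · have hH := (Cfsg.Agent.S1414.result hG L hL).1
    set B := piCoreOf (beta L) L with hB
    have hPB : P ≤ B := by
      intro a ha
      haveI : (B.subgroupOf L).Normal :=
        normal_subgroupOf_of_le_normalizer (le_normalizer_piCoreOf _ L)
      set f := QuotientGroup.mk' (B.subgroupOf L) with hf
      suffices h : f ⟨a, hPL ha⟩ = 1 from mem_subgroupOf.mp ((QuotientGroup.eq_one_iff _).mp h)
      rw [← orderOf_eq_one_iff]
      obtain ⟨k, hk⟩ := hP.exists_orderOf_eq_pow ⟨a, ha⟩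
      rw [← orderOf_coe] at hk
      have h2 : orderOf (f ⟨a, hPL ha⟩) ∣ p ^ k := (orderOf_map_dvd f _).trans (by
        rw [← orderOf_coe, hk])
      refine Nat.eq_one_of_dvd_coprimes
        ((hp.out.coprime_iff_not_dvd.mpr (hH.2.2 p hp.out hpβ)).pow_left k) h2 ?_
      exact _root_.orderOf_dvd_natCard _
    have h1 : ⁅K, P⁆ ≤ K ⊓ B := by
      refine le_inf (Coprime.commutator_le_of_le_normalizer hPK) ?_
      rw [commutator_le]
      intro k hk b hb
      rw [commutatorElement_def]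
      exact B.mul_mem ((mem_normalizer_iff.mp (le_normalizer_piCoreOf _ L hk.2) b).mp (hPB hb))
        (B.inv_mem (hPB hb))
    have hbot : K ⊓ B = ⊥ := Coprime.inf_eq_bot_of_coprime
      (Nat.coprime_of_dvd fun r hr h1 h2 => hKβ r hr h1 (hH.2.1 r hr h2))
    rw [hbot, le_bot_iff, commutator_eq_bot_iff_le_centralizer] at h1
    exact le_centralizer_iff.mp h1
  by_cases hp2 : p ∈ tau2 L
  · have hn : Group.IsNilpotent (sigmaCore L) := by
      obtain ⟨T⟩ : Nonempty (Sylow p L) := inferInstance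
      obtain ⟨-, B, -, hB⟩ := sylow_comm_of_tau2 hG hL hp2 T
      exact (hB.isExceptional hG hL).sigmaCore_nilpotent hG hL
    have hX : ∀ r : ℕ, r.Prime → r ∣ Nat.card ↥(K ⊔ P) → r ∉ sigma L := by
      intro r hr hd
      haveI := Fact.mk hr
      rw [Coprime.card_sup_eq_mul hPK (Coprime.inf_eq_bot_of_coprime hcop.symm)] at hd
      rcases hr.dvd_mul.mp hd with h | h
      · exact not_sigma_of_nilpotent hG hM
          (piNum_sigmaCore M r hr (h.trans (card_dvd_of_le inf_le_left))) hL hn hnc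
      · obtain ⟨j, hj⟩ := IsPGroup.iff_card.mp hP
        rw [(Nat.prime_dvd_prime_iff_eq hr hp.out).mp (hr.dvd_of_dvd_pow (hj ▸ h))]
        exact hp2.2.1
    obtain ⟨E, hE, hKE⟩ := exists_compl_ge_of_not_sigma hG hL (sup_le inf_le_right hPL) hX
    obtain ⟨A, hAE, hA⟩ := exists_plane_in_compl hG hL hE hp2
    have hn := (hA.isExceptional hG hL).le_normalizer_of_compl hG hL hE hAE
    have hPE : P ≤ E := le_sup_right.trans hKE
    have hPA : P ≤ centralizer (A : Set G) := by
      have hsup : IsPGroup p ↥(P ⊔ A) :=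
        hP.to_sup_of_normal_right' (Coprime.ea_isPGroup hA.elem) (hPE.trans hn)
      exact le_centralizer_of_isMulCommutative le_sup_left le_sup_right
        (comm_of_not_sigma hG hL hA.not_sigma hsup (sup_le hPL hA.le))
    obtain ⟨x, hxP, hxp⟩ : ∃ x ∈ P, orderOf x = p := by
      obtain ⟨x, hx⟩ := exists_prime_orderOf_dvd_card' p (G := P) (by
        obtain ⟨r, hr, hrd⟩ := exists_prime_dvd_of_ne_bot hP1
        obtain ⟨j, hj⟩ := IsPGroup.iff_card.mp hP
        exact ((Nat.prime_dvd_prime_iff_eq hr hp.out).mp (hr.dvd_of_dvd_pow (hj ▸ hrd))) ▸ hrd)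
      exact ⟨x, x.2, by rw [orderOf_coe, hx]⟩
    have hxp' : x ^ p = 1 := by
      have h := pow_orderOf_eq_one x
      rwa [hxp] at h
    have hbot := fixed_plane_inf_eq_bot hG hM hL hpσ hp2 hA
      (hA.mem_of_mem_compl hG hL hE hAE (hPE hxP) hxp') (hPM hxP)
      (fun e => hp.out.ne_one (by rw [← hxp, e, orderOf_one]))
    have h1 : ⁅K, P⁆ ≤ sigmaCore M ⊓ centralizer (A : Set G) := by
      refine le_inf ((Coprime.commutator_le_of_le_normalizer hPK).trans inf_le_left) ?_
      rw [commutator_le]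
      intro k hk b hb
      have hkn : k ∈ normalizer (A : Set G) := hn (hKE (mem_sup_left hk))
      have hCn : k * b * k⁻¹ ∈ centralizer (A : Set G) := by
        rw [mem_centralizer_iff]
        intro a ha
        have h3 := mem_centralizer_iff.mp (hPA hb) _
          ((mem_normalizer_iff.mp ((normalizer (A : Set G)).inv_mem hkn) a).mp ha)
        rw [inv_inv] at h3
        calc a * (k * b * k⁻¹) = k * (k⁻¹ * a * k * b) * k⁻¹ := by group
          _ = k * (b * (k⁻¹ * a * k)) * k⁻¹ := by rw [h3]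
          _ = k * b * k⁻¹ * a := by group
      rw [commutatorElement_def]
      exact mul_mem hCn (inv_mem (hPA hb))
    rw [hbot, le_bot_iff, commutator_eq_bot_iff_le_centralizer] at h1
    exact le_centralizer_iff.mp h1
  have hPN : P ≤ ⁅L, L⁆ := by
    by_cases hpσL : p ∈ sigma L
    · obtain ⟨T, hT⟩ := exists_sylow_ge hP hPL
      exact hT.trans (sylow_le_commutator_of_sigma hG hL hpσL T)
    · have h3 : p ∈ tau3 L :=
        ((tau_of_not_sigma hG hL hpσL hpL).resolve_right hp2).resolve_left hp1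
      obtain ⟨E, hE, hPE⟩ := exists_compl_ge hG hL hP hPL hpσL
      obtain ⟨T, hT⟩ := exists_sylow_ge hP hPE
      refine hT.trans ((map_mono (tau3_sylow_le hG hL hE h3 T)).trans ?_)
      rw [← commutator_eq_map_subtype]
      exact commutator_mono hE.1 hE.1
  have hD : P ≤ centralizer ((⁅K, P⁆ : Subgroup G) : Set G) := by
    refine le_centralizer_of_complements hP hPN ?_ (normalizer_commutator_ge_right K P)
      (fun hd => hpK (hd.trans (card_dvd_of_le (Coprime.commutator_le_of_le_normalizer hPK)))) ?_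
    · rw [commutator_le]
      intro k hk b hb
      exact commutator_mem_commutator hk.2 (hPL hb)
    · intro r hr hd
      have hdK := hd.trans (card_dvd_of_le (Coprime.commutator_le_of_le_normalizer hPK))
      exact ((Cfsg.Agent.S1414.result hG L hL).2.2.2.2 r hr
        (hdK.trans (card_dvd_of_le inf_le_right)) (hKβ r hr hdK)).1
  have h2 : ⁅⁅K, P⁆, P⁆ = ⊥ := commutator_eq_bot_iff_le_centralizer.mpr (le_centralizer_iff.mp hD)
  haveI : Group.IsNilpotent P := hP.isNilpotent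
  rw [Coprime.commutator_commutator_eq hPK hcop (Or.inl inferInstance),
    commutator_eq_bot_iff_le_centralizer] at h2
  exact le_centralizer_iff.mp h2

omit hq in
/-- BG 13.2. -/
theorem line_overgroup (hp13 : p ∈ tau1 M ∪ tau3 M) (hL : IsCoatom L) {X : Subgroup G}
    (hX : Nat.card X = p) (hNX : normalizer (X : Set G) ≤ L) :
    (p ∈ sigma L ∨ p ∈ tau2 L) ∧ p ∉ tau1 L ∧
      ∀ g : G, L ≠ M.map (MulAut.conj g).toMonoidHom := by
  have hpσ : p ∉ sigma M := hp13.elim (·.2.1) (·.2.1)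
  have hr : PRankLE p 1 M := hp13.elim (·.2.2.2.2) (·.2.2.2)
  have h : p ∈ sigma L ∨ p ∈ tau2 L := by
    by_cases hpL : p ∈ sigma L
    · exact Or.inl hpL
    · obtain ⟨⟨h2, h1⟩, -⟩ := rank_two_of_normalizer_le hG hL hpL hX hNX
      exact Or.inr ⟨hp.out, hpL, h2, h1⟩
  refine ⟨h, fun h1 => h.elim h1.2.1 (fun h2 => h2.2.2.2 h1.2.2.2.2), fun g e => ?_⟩
  subst e
  rcases h with h | h
  · rw [sigma_map_conj] at h
    exact hpσ h
  · exact h.2.2.2 (pRankLE_map_conj hr g)

end Cfsg.Agent.OddLocal
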