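import Cfsg.Agent.OddLocal.NonSigma
import Cfsg.Agent.OddLocal.AlphaSigma
import Cfsg.Agent.OddLocal.BetaCore
import Cfsg.Agent.OddLocal.FusionControl
import Cfsg.Agent.S1414
import Cfsg.Agent.S1451

/-!
Elementary tools around `σ(M)` and `M_σ` used from BG §11 on.
-/

set_option autoImplicit false
set_option linter.unusedSectionVars false
set_option linter.style.haveILetI false

namespace Cfsg.Agent.OddLocal

open Subgroup Cfsg
open scoped commutatorElement

universe u

variable {G : Type u} [Group G] [Finite G] {p : ℕ} [hp : Fact p.Prime] {M : Subgroup G}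

omit hp in
theorem sigmaCore_le (M : Subgroup G) : sigmaCore M ≤ M := map_subtype_le _

omit hp in
theorem le_normalizer_sigmaCore (M : Subgroup G) : M ≤ normalizer (sigmaCore M : Set G) :=
  le_normalizer_piCoreOf (sigma M) M

omit hp in
theorem piNum_sigmaCore (M : Subgroup G) : PiNum (sigma M) (sigmaCore M) :=
  piNum_piCoreOf (sigma M) M

omit hp in
theorem isCoatom_map_conj (hM : IsCoatom M) (g : G) :
    IsCoatom (M.map (MulAut.conj g).toMonoidHom) :=
  (OrderIso.isCoatom_iff (MulEquiv.mapSubgroup (MulAut.conj g)) M).mpr hM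

omit hp in
theorem map_conj_inv_cancel (X : Subgroup G) (g : G) :
    (X.map (MulAut.conj g).toMonoidHom).map (MulAut.conj g⁻¹).toMonoidHom = X := by
  rw [map_conj_map_conj, inv_mul_cancel]
  exact map_conj_eq_self_of_mem (one_mem _)

omit hp in
theorem sigma_subset_map_conj (M : Subgroup G) (g : G) :
    sigma M ⊆ sigma (M.map (MulAut.conj g).toMonoidHom) := by
  rintro q ⟨hq, hqd, P, hP⟩
  haveI := Fact.mk hq
  set R := (P : Subgroup M).map M.subtype with hR
  set M' := M.map (MulAut.conj g).toMonoidHom with hM'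
  set R' := R.map (MulAut.conj g).toMonoidHom with hR'
  have hle : R' ≤ M' := map_mono (map_subtype_le _)
  have hc : Nat.card ↥(R'.subgroupOf M') = q ^ (Nat.card M').factorization q := by
    rw [Nat.card_congr (subgroupOfEquivOfLe hle).toEquiv, hR', card_map_conj, hR,
      card_map_of_injective M.subtype_injective, P.card_eq_multiplicity, hM', card_map_conj]
  refine ⟨hq, by rwa [hM', card_map_conj], Sylow.ofCard _ hc, ?_⟩
  rw [Sylow.coe_ofCard, map_subgroupOf_eq_of_le hle]
  intro n hn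
  rw [hM', mem_map_conj_iff]
  refine hP (mem_normalizer_of_map_conj ?_)
  calc R.map (MulAut.conj (g⁻¹ * n * g)).toMonoidHom
      = (R'.map (MulAut.conj n).toMonoidHom).map (MulAut.conj g⁻¹).toMonoidHom := by
        rw [hR', map_conj_map_conj, map_conj_map_conj, mul_assoc]
    _ = R := by rw [map_conj_eq_self_of_mem hn, hR', map_conj_inv_cancel]

omit hp in
theorem sigma_map_conj (M : Subgroup G) (g : G) :
    sigma (M.map (MulAut.conj g).toMonoidHom) = sigma M :=
  Set.Subset.antisymm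
    (fun q hq => by
      have h := sigma_subset_map_conj _ g⁻¹ hq
      rwa [map_conj_inv_cancel] at h)
    (sigma_subset_map_conj M g)

variable (hG : IsMinSimpleOddOrder G) (hM : IsCoatom M)
include hG hM

omit hp in
theorem isSolvable_coatom : Group.IsSolvable M := hG.2.2.2 M hM.1

omit hp in
theorem coatom_ne_bot : M ≠ ⊥ := by
  intro h
  subst h
  obtain ⟨x, hx⟩ : ∃ x : G, x ≠ 1 := by
    by_contra hall
    push Not at hall
    exact hG.2.2.1 ⟨⟨fun a b => by rw [hall a, hall b]⟩⟩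
  have hlt : (⊥ : Subgroup G) < zpowers x := bot_lt_iff_ne_bot.mpr (by rwa [Ne, zpowers_eq_bot])
  have htop := hM.2 _ hlt
  refine hG.2.2.1 ⟨⟨fun a b => ?_⟩⟩
  obtain ⟨i, rfl⟩ := mem_zpowers_iff.mp (htop ▸ mem_top a : a ∈ zpowers x)
  obtain ⟨j, rfl⟩ := mem_zpowers_iff.mp (htop ▸ mem_top b : b ∈ zpowers x)
  exact zpow_mul_comm x i j

omit hp in
theorem normalizer_eq_coatom : normalizer (M : Set G) = M :=
  normalizer_eq_self_of_coatom hG hM (coatom_ne_bot hG hM)

omit hp in
theorem mem_of_map_conj_eq {g : G} (h : M.map (MulAut.conj g).toMonoidHom = M) : g ∈ M :=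
  normalizer_eq_coatom hG hM ▸ mem_normalizer_of_map_conj h

omit hp in
theorem le_sigmaCore {Y : Subgroup G} (hYM : Y ≤ M) (hY : PiNum (sigma M) Y) :
    Y ≤ sigmaCore M := by
  intro y hy
  haveI : ((sigmaCore M).subgroupOf M).Normal :=
    normal_subgroupOf_of_le_normalizer (le_normalizer_sigmaCore M)
  set f := QuotientGroup.mk' ((sigmaCore M).subgroupOf M) with hf
  suffices h : f ⟨y, hYM hy⟩ = 1 from mem_subgroupOf.mp ((QuotientGroup.eq_one_iff _).mp h)
  rw [← orderOf_eq_one_iff]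
  by_contra hne
  obtain ⟨r, hr, hrd⟩ := Nat.exists_prime_and_dvd hne
  have h2 : r ∣ (sigmaCore M).relIndex M := hrd.trans (_root_.orderOf_dvd_natCard _)
  have h1 : r ∣ Nat.card Y := hrd.trans ((orderOf_map_dvd f _).trans (by
    rw [← orderOf_coe]
    exact Subgroup.orderOf_dvd_natCard _ hy))
  exact (isPiHallOf_sigmaCore hG hM).2.2 r hr (hY r hr h1) h2

theorem le_sigmaCore_of_isPGroup {Y : Subgroup G} (hYM : Y ≤ M) (hY : IsPGroup p Y)
    (hσ : p ∈ sigma M) : Y ≤ sigmaCore M :=
  le_sigmaCore hG hM hYM (piNum_of_isPGroup hσ hY)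

omit hp in
theorem sigmaCore_map_conj (g : G) :
    sigmaCore (M.map (MulAut.conj g).toMonoidHom) =
      (sigmaCore M).map (MulAut.conj g).toMonoidHom := by
  refine le_antisymm ?_ ?_
  · intro x hx
    rw [mem_map_conj_iff]
    have h : (sigmaCore (M.map (MulAut.conj g).toMonoidHom)).map (MulAut.conj g⁻¹).toMonoidHom ≤
        sigmaCore M := by
      refine le_sigmaCore hG hM ((map_mono (sigmaCore_le _)).trans (map_conj_inv_cancel M g).le) ?_
      exact piNum_of_card_eq (sigma_map_conj M g ▸ piNum_sigmaCore _) (card_map_conj _ _)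
    exact h (by rw [mem_map_conj_iff, inv_inv]; simpa [mul_assoc] using hx)
  · refine le_sigmaCore hG (isCoatom_map_conj hM g) (map_mono (sigmaCore_le M)) ?_
    rw [sigma_map_conj]
    exact piNum_of_card_eq (piNum_sigmaCore M) (card_map_conj _ _)

omit hp in
theorem sigma_nonempty : (sigma M).Nonempty := by
  by_cases hα : (alpha M).Nonempty
  · exact ⟨_, alpha_subset_sigma hG hM hα.some_mem⟩
  haveI := isSolvable_coatom hG hM
  have hr : RankLE 2 M := fun r hr => by
    by_contra h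
    exact hα ⟨r, hr, h⟩
  have hcard : 1 < Nat.card M := M.one_lt_card_iff_ne_bot.mpr (coatom_ne_bot hG hM)
  have hne : (Nat.card M).primeFactors.Nonempty := Nat.nonempty_primeFactors.mpr hcard
  set r := (Nat.card M).primeFactors.max' hne with hr'
  obtain ⟨hrp, hrd, -⟩ := Nat.mem_primeFactors.mp ((Nat.card M).primeFactors.max'_mem hne)
  rw [← hr'] at hrp hrd
  haveI := Fact.mk hrp
  obtain ⟨-, -, htower⟩ := Cfsg.Agent.S1451.result (G := M)
    (hG.1.of_dvd_nat (card_subgroup_dvd_card M)) (Or.inl hr)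
  obtain ⟨N, hN, hNh⟩ := htower (r - 1)
  obtain ⟨P⟩ : Nonempty (Sylow r M) := inferInstance
  have hNr : IsPGroup r N := by
    refine isPGroup_of_forall_prime fun s hs hsd => ?_
    have h1 := hNh.1 s hs hsd
    have h2 : s ≤ r := Finset.le_max' _ _ (Nat.mem_primeFactors.mpr
      ⟨hs, hsd.trans (card_subgroup_dvd_card N), Nat.card_pos.ne'⟩)
    have := h1.2
    omega
  obtain ⟨Q, hNQ⟩ := hNr.exists_le_sylow
  have hQN : (Q : Subgroup M) = N := by
    refine le_antisymm ?_ hNQ
    refine Core.le_of_coprime_index ?_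
    obtain ⟨k, hk⟩ := IsPGroup.iff_card.mp Q.2
    rw [hk]
    exact ((hrp.coprime_iff_not_dvd.mpr (hNh.2 r hrp ⟨hrp, by have := hrp.one_le; omega⟩))).pow_left k
  refine ⟨r, hrp, hrd, Q, ?_⟩
  have hN1 : N.map M.subtype ≠ ⊥ := by
    rw [ne_eq, map_eq_bot_iff_of_injective _ M.subtype_injective, ← hQN]
    exact Q.ne_bot_of_dvd_card hrd
  rw [hQN]
  refine le_of_eq (normalizer_eq_of_coatom hG hM hN1
    (fun h => hM.1 (top_le_iff.mp (h ▸ map_subtype_le _))) ?_)
  haveI := hN
  exact Coprime.le_normalizer_map_of_characteristic Subgroup.le_normalizer _ inferInstance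

omit hp in
theorem sigmaCore_ne_bot : sigmaCore M ≠ ⊥ := by
  obtain ⟨r, hr⟩ := sigma_nonempty hG hM
  haveI := Fact.mk hr.1
  obtain ⟨P⟩ : Nonempty (Sylow r M) := inferInstance
  have hP : (P : Subgroup M).map M.subtype ≠ ⊥ := by
    rw [ne_eq, map_eq_bot_iff_of_injective _ M.subtype_injective]
    exact P.ne_bot_of_dvd_card hr.2.1
  exact ne_bot_of_le_ne_bot hP
    (le_sigmaCore_of_isPGroup hG hM (map_subtype_le _) (P.2.map _) hr)

/-- A prime of `α(H) ∩ σ(M)` forces `M` and `H` to be conjugate. -/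
theorem conj_of_alpha_sigma {H : Subgroup G} (hH : IsCoatom H) (hα : p ∈ alpha H)
    (hσ : p ∈ sigma M) : ∃ g : G, M = H.map (MulAut.conj g).toMonoidHom := by
  obtain ⟨E, hEH, hEe, hE3⟩ := exists_elementary_of_not_pRankLE hα.2
  obtain ⟨S, hS⟩ := exists_sylow_of_sigma hσ
  obtain ⟨x, hx⟩ := exists_conj_mem_sylow S (Coprime.ea_isPGroup hEe)
  refine ⟨x, ?_⟩
  have hU := inUniqueMaximal_conj (inUniqueMaximal_of_elementary_three hG hEe hE3) x
  exact (eq_of_unique hU hM (hx.trans hS) (isCoatom_map_conj hH x) (map_mono hEH)).symm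

/-- Away from `β(M)`, `p`-subgroups of `M` centralise the `q`-subgroups that they normalise, for `p`
and `q` in `σ(M)`. -/
theorem le_centralizer_of_sigma {q : ℕ} [hq : Fact q.Prime] (hσp : p ∈ sigma M) (hσq : q ∈ sigma M)
    (hqβ : q ∉ beta M) (hqp : q ≠ p) {A R : Subgroup G} (hA : IsPGroup p A) (hAM : A ≤ M)
    (hR : IsPGroup q R) (hRM : R ≤ M) (hAR : A ≤ normalizer (R : Set G)) :
    A ≤ centralizer (R : Set G) := by
  obtain ⟨-, hK, -⟩ := (Cfsg.Agent.S1414.result hG M hM).2.2.2.2 q hq.out hσq.2.1 hqβ |>.symm.symm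
  set K := sigmaCore M with hKdef
  have hAK : A ≤ K := le_sigmaCore_of_isPGroup hG hM hAM hA hσp
  have hRK : R ≤ K := le_sigmaCore_of_isPGroup hG hM hRM hR hσq
  set N := pResidual q ↥K with hN
  haveI : N.Normal := inferInstance
  have hNc : (Nat.card N).Coprime q := Fusion.coprime_card_pResidual_of_hasNormalPComplement hK
  intro a ha
  rw [mem_centralizer_iff]
  intro r hr
  have haN : (⟨a, hAK ha⟩ : K) ∈ N := by
    refine Fusion.mem_pResidual_of_coprime ?_
    obtain ⟨k, hk⟩ := hA.exists_orderOf_eq_pow ⟨a, ha⟩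
    have e : orderOf (⟨a, hAK ha⟩ : K) = p ^ k := by
      rw [← orderOf_coe, ← hk, ← orderOf_coe]
    exact e ▸ ((Nat.coprime_primes hp.out hq.out).mpr hqp.symm).pow_left k
  set c : K := ⁅(⟨r, hRK hr⟩ : K), (⟨a, hAK ha⟩ : K)⁆ with hc
  have hcN : c ∈ N := by
    rw [hc, commutatorElement_def]
    exact N.mul_mem ((inferInstance : N.Normal).conj_mem _ haN _) (N.inv_mem haN)
  have hcR : (c : G) ∈ R := by
    have h : r * (a * r⁻¹ * a⁻¹) ∈ R :=
      R.mul_mem hr ((mem_normalizer_iff.mp (hAR ha) r⁻¹).mp (R.inv_mem hr))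
    simpa [hc, commutatorElement_def, mul_assoc] using h
  have h1 : c = 1 := by
    rw [← orderOf_eq_one_iff]
    obtain ⟨k, hk⟩ := hR.exists_orderOf_eq_pow ⟨c, hcR⟩
    rw [← orderOf_coe] at hk
    have h2 : orderOf c ∣ Nat.card N := Subgroup.orderOf_dvd_natCard _ hcN
    rw [← orderOf_coe c, hk] at h2 ⊢
    exact Nat.eq_one_of_dvd_coprimes (hNc.pow_right k) h2 dvd_rfl
  exact congrArg Subtype.val (commutatorElement_eq_one_iff_mul_comm.mp h1)

end Cfsg.Agent.OddLocal
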