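import Cfsg.Agent.OddLocal.TauTwoLine

/-!
BG 13.10, 13.11: `τ₁(M)`-lines centralise the `τ₃(M)`-lines with fixed points on `M_σ`.
-/

set_option autoImplicit false
set_option linter.unusedSectionVars false
set_option linter.style.haveILetI false

namespace Cfsg.Agent.OddLocal

open Subgroup Cfsg
open scoped commutatorElement

universe u

variable {G : Type u} [Group G] [Finite G] {p r : ℕ} [hp : Fact p.Prime] [hr : Fact r.Prime]
  {M L E P R : Subgroup G}

omit hr in
theorem exists_generator_of_card (hP : Nat.card P = p) :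
    ∃ a : G, a ∈ P ∧ a ≠ 1 ∧ a ^ p = 1 ∧ zpowers a = P := by
  obtain ⟨a, haP, ha1⟩ := exists_mem_ne_one P (fun e => hp.out.ne_one (by rw [← hP, e, card_bot]))
  have hap : a ^ p = 1 := by
    have := pow_card_eq_one' (x := (⟨a, haP⟩ : P))
    rw [hP] at this
    exact congrArg Subtype.val this
  exact ⟨a, haP, ha1, hap, eq_of_le_of_card_ge (zpowers_le.mpr haP)
    (by rw [Nat.card_zpowers, orderOf_eq_prime hap ha1, hP])⟩

omit hr in
theorem ne_bot_of_card (hP : Nat.card P = p) : P ≠ ⊥ := fun e =>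
  hp.out.ne_one (by rw [← hP, e, card_bot])

omit hr in
theorem isPGroup_of_card_prime (hP : Nat.card P = p) : IsPGroup p P :=
  IsPGroup.of_card (n := 1) (by rw [hP, pow_one])

omit hp hr in
theorem isCyclic_of_rankLE_one_odd {q : ℕ} [Fact q.Prime] {X H : Subgroup G} (hodd : Odd (Nat.card G))
    (hX : IsPGroup q X) (hXH : X ≤ H) (h : PRankLE q 1 H) : IsCyclic X := by
  by_cases hX1 : X = ⊥
  · subst hX1; infer_instance
  have hq2 : q ≠ 2 := by
    obtain ⟨s, hs, hsd⟩ := exists_prime_dvd_of_ne_bot hX1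
    obtain ⟨j, hj⟩ := IsPGroup.iff_card.mp hX
    have hsq : s = q := (Nat.prime_dvd_prime_iff_eq hs Fact.out).mp (hs.dvd_of_dvd_pow (hj ▸ hsd))
    intro e
    exact absurd (hodd.of_dvd_nat (hsd.trans (card_subgroup_dvd_card X)))
      (by rw [hsq, e]; decide)
  exact isCyclic_of_pRankLE_one hq2 hX
    (pRankLE_of_injective (inclusion hXH) (inclusion_injective _) h)

variable (hG : IsMinSimpleOddOrder G)
include hG

omit hr in
/-- A line of `E` at a prime of `τ₃(M)` is normal in `E`. -/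
theorem tau3_line_normal (hM : IsCoatom M) (hE : IsComplIn E (sigmaCore M) M) (hp3 : p ∈ tau3 M)
    (hP : Nat.card P = p) (hPE : P ≤ E) : E ≤ normalizer (P : Set G) := by
  have hEs : Group.IsSolvable E := Coprime.isSolvable_of_le hE.1 (isSolvable_coatom hG hM)
  obtain ⟨E₃, hE₃, hPE₃⟩ := exists_hall_ge (π := tau3 M) hEs hPE
    (piNum_of_card_prime hP hp.out hp3)
  exact (tau3_hall_normal hG hM hE hE₃).trans
    (normalizer_le_normalizer_of_isCyclic (tau3_hall_cyclic hG hM hE hE₃) hPE₃)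

omit hp in
/-- The `u`-rank of `C_M(R)` is at most one for `u ∈ β(M)` and a `τ₁(M)`-line `R`. -/
theorem pRankLE_one_centralizer_tau1 (hM : IsCoatom M) {u : ℕ} [Fact u.Prime] (hu : u ∈ beta M)
    (hr1 : r ∈ tau1 M) (hR : Nat.card R = r) (hRM : R ≤ M) {D : Subgroup G} (hDM : D ≤ M)
    (hDR : D ≤ centralizer (R : Set G)) : PRankLE u 1 D := by
  by_contra hc
  obtain ⟨V, hVD, hVe, hV2⟩ := exists_elementary_of_not_pRankLE (k := 1) hc
  obtain ⟨V', hV'V, hV'c⟩ := Coprime.ea_exists_le_card (n := 2) hV2 hVe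
  obtain ⟨N, hN, hRN⟩ := exists_coatom_ge_normalizer hG hM hRM (ne_bot_of_card hR)
  obtain ⟨-, -, hnc⟩ := line_overgroup hG hM (Or.inl hr1) hN hR hRN
  have hV'N : V' ≤ N :=
    ((hV'V.trans hVD).trans hDR).trans ((centralizer_le_normalizer _).trans hRN)
  have huN : u ∉ sigma N := fun h => by
    obtain ⟨g, hg⟩ := conj_of_alpha_sigma hG hN hM hu.1 h
    exact hnc g hg
  exact not_isIdealPrime_of_not_sigma hG hN huN
    (by_contra fun hc2 => huN (alpha_subset_sigma hG hN ⟨Fact.out, hc2⟩))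
    (not_pRankLE_one_of_plane hV'N (Coprime.ea_mono hVe hV'V) hV'c) hu.2

omit hp hr in
/-- For `u ∈ β(M)`, the normaliser of a `u`-subgroup normalised by a `u`-element of `M` lies in
`M`. -/
theorem normalizer_le_of_beta_elt (hM : IsCoatom M) {u : ℕ} [Fact u.Prime] (hu : u ∈ beta M)
    {X : Subgroup G} (hX : IsPGroup u X) (hX1 : X ≠ ⊥) {w : G} (hw1 : w ≠ 1) (hwu : w ^ u = 1)
    (hwM : w ∈ M) (hwX : w ∈ normalizer (X : Set G)) : normalizer (X : Set G) ≤ M := by
  have huσ := alpha_subset_sigma hG hM hu.1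
  set T := X ⊔ zpowers w with hT
  have hTp : IsPGroup u T := by
    have hwg : IsPGroup u (zpowers w) := IsPGroup.of_card (n := 1)
      (by rw [Nat.card_zpowers, orderOf_eq_prime hwu hw1, pow_one])
    exact hX.to_sup_of_normal_left' hwg (zpowers_le.mpr hwX)
  obtain ⟨z, hzX, hz1, hTz⟩ := exists_centralized_of_le_normalizer hTp hX hX1
    (sup_le Subgroup.le_normalizer (zpowers_le.mpr hwX))
  obtain ⟨z₀, hz₀, hz₀u, hz₀1, -⟩ := exists_zpowers_card (r := u) (hX.to_le (zpowers_le.mpr hzX))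
    (by rwa [Ne, zpowers_eq_bot])
  have hT₀ : T ≤ centralizer ({z₀} : Set G) := fun t ht =>
    mem_centralizer_singleton_iff.mpr (mem_centralizer_iff.mp
      ((centralizer_zpowers z).ge (hTz ht)) z₀ hz₀).symm
  have hzw : z₀ ∈ centralizer ({w} : Set G) := mem_centralizer_singleton_iff.mpr
    (mem_centralizer_singleton_iff.mp (hT₀ (mem_sup_right (mem_zpowers w)))).symm
  have hz₀M : z₀ ∈ M :=
    (unique_centralizer_line hG hM huσ hwM hw1 hwu (Or.inl hu)).1 hzw
  have hCz := (unique_centralizer_line hG hM huσ hz₀M hz₀1 hz₀u (Or.inl hu)).1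
  have hXM : X ≤ M := le_sup_left.trans (hT₀.trans hCz)
  intro n hn
  obtain ⟨m, hm, c, hc, rfl⟩ := fusion_of_sigma hG hM huσ hX hX1 hXM
    ((map_conj_eq_self_of_mem hn).le.trans hXM)
  exact M.mul_mem hm (hCz (mem_centralizer_singleton_iff.mpr
    (mem_centralizer_iff.mp hc z₀ ((zpowers_le.mpr hzX) hz₀)).symm))

omit hG in
/-- A `τ₃(M)`-line `P` with fixed points on `M_σ`, and a maximal subgroup over `N(P)`. -/
structure Tau3Fixed (p : ℕ) (M L E P : Subgroup G) : Prop where
  coatom : IsCoatom M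
  coatom' : IsCoatom L
  compl : IsComplIn E (sigmaCore M) M
  mem3 : p ∈ tau3 M
  cardP : Nat.card P = p
  leP : P ≤ E
  fixed : sigmaCore M ⊓ centralizer (P : Set G) ≠ ⊥
  normalizer_le : normalizer (P : Set G) ≤ L

omit hG in
/-- A `τ₁(M)`-line `R` acting nontrivially on a `τ₃(M)`-line `P` with fixed points on `M_σ`. -/
structure SkewLine (p r : ℕ) (M L E P R : Subgroup G) : Prop extends Tau3Fixed p M L E P where
  mem1 : r ∈ tau1 M
  cardR : Nat.card R = r
  leR : R ≤ E
  moved : ¬ R ≤ centralizer (P : Set G)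

section Tau3Fixed

variable (h : Tau3Fixed p M L E P)
include h

omit hr in
theorem Tau3Fixed.mem_sigma : p ∈ sigma L :=
  sigma_of_line_overgroup hG h.coatom (Or.inr h.mem3) h.cardP (h.leP.trans h.compl.1) h.fixed
    h.coatom' h.normalizer_le

omit hr in
theorem Tau3Fixed.nonconj : ∀ g : G, L ≠ M.map (MulAut.conj g).toMonoidHom :=
  (line_overgroup hG h.coatom (Or.inr h.mem3) h.coatom' h.cardP h.normalizer_le).2.2

omit hr in
theorem Tau3Fixed.compl_le : E ≤ L :=
  (tau3_line_normal hG h.coatom h.compl h.mem3 h.cardP h.leP).trans h.normalizer_le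

omit hr in
theorem Tau3Fixed.inf_le_centralizer : sigmaCore M ⊓ L ≤ centralizer (P : Set G) :=
  le_centralizer_iff.mp (le_centralizer_inf_sigmaCore hG h.coatom h.coatom' (h.nonconj hG)
    h.mem3.2.1 (fun h1 => h1.2.1 (h.mem_sigma hG)) (isPGroup_of_card_prime h.cardP)
    (h.leP.trans h.compl.1) (h.leP.trans (h.compl_le hG)))

omit hr in
theorem Tau3Fixed.centralizer_le_inf :
    sigmaCore M ⊓ centralizer (P : Set G) ≤ sigmaCore M ⊓ L :=
  inf_le_inf_left _ ((centralizer_le_normalizer _).trans h.normalizer_le)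

omit hr in
theorem Tau3Fixed.le_sigmaCore' : P ≤ sigmaCore L :=
  le_sigmaCore_of_isPGroup hG h.coatom' (h.leP.trans (h.compl_le hG))
    (isPGroup_of_card_prime h.cardP) (h.mem_sigma hG)

omit hr in
/-- The primes of `M_σ ∩ L` lie in `τ₁(L) ∪ τ₃(L)`. -/
theorem Tau3Fixed.tau_of_dvd {q : ℕ} [Fact q.Prime] (hq : q ∣ Nat.card ↥(sigmaCore M ⊓ L)) :
    q ∈ sigma M ∧ q ∉ sigma L ∧ q ∈ tau1 L ∪ tau3 L := by
  have hqσ : q ∈ sigma M := piNum_sigmaCore M q Fact.out (hq.trans (card_dvd_of_le inf_le_left))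
  have hqL : q ∉ sigma L := fun hc => by
    obtain ⟨g, hg⟩ := exists_conj_of_sigma_inter hG h.coatom h.coatom' hqσ hc
    exact h.nonconj hG g hg
  refine ⟨hqσ, hqL, (tau_of_not_sigma hG h.coatom' hqL
    (hq.trans (card_dvd_of_le inf_le_right))).resolve_right ?_⟩
  obtain ⟨⟨z, hzσ, hzL⟩, hz⟩ := exists_prime_orderOf_dvd_card' q hq
  rw [← orderOf_coe] at hz
  obtain ⟨a, haP, ha1, -, -⟩ := exists_generator_of_card h.cardP
  have hzP := h.inf_le_centralizer hG ⟨hzσ, hzL⟩
  refine not_tau2_of_shared hG h.coatom h.coatom'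
    (fun e => h.nonconj hG 1 (by rw [map_conj_eq_self_of_mem (one_mem _), e])) hqσ
    (sigmaCore_le M hzσ) hzL (by rw [← hz, pow_orderOf_eq_one]) (fun e => by
      change orderOf z = q at hz
      rw [e, orderOf_one] at hz
      exact (Fact.out : q.Prime).ne_one hz.symm)
    ⟨h.le_sigmaCore' hG haP, h.compl.1 (h.leP haP)⟩ ha1 (mem_centralizer_iff.mp hzP a haP).symm

omit hr in
/-- Lines of `M_σ ∩ L` have normalisers inside `M`. -/
theorem Tau3Fixed.normalizer_line_le {q : ℕ} [Fact q.Prime] {Y : Subgroup G}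
    (hY : Nat.card Y = q) (hYle : Y ≤ sigmaCore M ⊓ L) : normalizer (Y : Set G) ≤ M := by
  obtain ⟨hqσ, -, hq13⟩ := h.tau_of_dvd hG (hY ▸ card_dvd_of_le hYle)
  have hYM : Y ≤ M := (hYle.trans inf_le_left).trans (sigmaCore_le M)
  have hfix : sigmaCore L ⊓ centralizer (Y : Set G) ≠ ⊥ := fun e => ne_bot_of_card h.cardP
    (le_bot_iff.mp (e ▸ le_inf (h.le_sigmaCore' hG)
      (le_centralizer_iff.mp (hYle.trans (h.inf_le_centralizer hG)))))
  obtain ⟨H, hH, hNH⟩ := exists_coatom_ge_normalizer hG h.coatom hYM (ne_bot_of_card hY)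
  have hqH := sigma_of_line_overgroup hG h.coatom' hq13 hY (hYle.trans inf_le_right) hfix hH hNH
  by_contra hne
  have hne' : H ≠ M := fun e => hne (e ▸ hNH)
  obtain ⟨S, hS⟩ := exists_sylow_ge (isPGroup_of_card_prime hY)
    (le_inf hYM (Subgroup.le_normalizer.trans hNH))
  obtain ⟨g, hg⟩ := exists_conj_of_sigma_inter hG h.coatom hH hqσ hqH
  exact (sigma_normalizer_other hG h.coatom hqσ (isPGroup_of_card_prime hY) (ne_bot_of_card hY) hYM
    hH hne' hNH S hS).1 g hg

end Tau3Fixed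

variable (h : SkewLine p r M L E P R)
include h

/-- Some element at a prime of `β(M)` is fixed by `R` and moved by `P`. -/
theorem SkewLine.exists_moved_beta : ∃ (u : ℕ) (_ : Fact u.Prime) (v : G), u ∈ beta M ∧
    v ∈ sigmaCore M ∧ v ∈ centralizer (R : Set G) ∧ v ^ u = 1 ∧ v ≠ 1 ∧
    v ∉ centralizer (P : Set G) := by
  have hM := h.coatom
  have hPn : E ≤ normalizer (P : Set G) := tau3_line_normal hG hM h.compl h.mem3 h.cardP h.leP
  have hrp : r ≠ p := fun e => h.mem1.2.2.2.1 (e ▸ h.mem3.2.2.1)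
  obtain ⟨c, hcR, hc1, hcr, hcgen⟩ := exists_generator_of_card h.cardR
  have hcent : centralizer ({c} : Set G) = centralizer (R : Set G) := by
    rw [← hcgen, centralizer_zpowers]
  have hfX : P ⊓ centralizer {c} = ⊥ := by
    by_contra hne
    rw [hcent] at hne
    have h1 : P ⊓ centralizer (R : Set G) = P := by
      refine eq_of_le_of_card_ge inf_le_left ?_
      rw [h.cardP]
      obtain ⟨j, hj⟩ := ((isPGroup_of_card_prime h.cardP).to_le
        (inf_le_left : P ⊓ centralizer (R : Set G) ≤ P)).exists_card_eq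
      rw [hj]
      exact Nat.le_self_pow (fun e => hne (card_eq_one.mp (by rw [hj, e, pow_zero]))) p
    exact h.moved (le_centralizer_iff.mp (h1.ge.trans inf_le_right))
  have hPR : P ≤ ⁅P, R⁆ := by
    have hle := Coprime.commutator_le_of_le_normalizer (h.leR.trans hPn)
    refine (eq_of_le_of_card_ge hle ?_).ge
    obtain ⟨j, hj⟩ := ((isPGroup_of_card_prime h.cardP).to_le hle).exists_card_eq
    rw [h.cardP, hj]
    refine Nat.le_self_pow (fun e => h.moved ?_) p
    rw [le_centralizer_iff, ← commutator_eq_bot_iff_le_centralizer]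
    exact card_eq_one.mp (by rw [hj, e, pow_zero])
  set A := P ⊔ R with hA
  have hAE : A ≤ E := sup_le h.leP h.leR
  have hcop : (Nat.card A).Coprime (Nat.card (sigmaCore M)) :=
    (compl_coprime hG hM h.compl).coprime_dvd_left (card_dvd_of_le hAE)
  by_contra hcon
  push Not at hcon
  have hall : sigmaCore M ≤ centralizer (P : Set G) := by
    refine Coprime.le_of_forall_sylow_le fun s hs => ?_
    haveI := Fact.mk hs
    obtain ⟨T, hT⟩ := Coprime.exists_invariant_sylow
      ((hAE.trans h.compl.1).trans (le_normalizer_sigmaCore M)) hcop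
      (Or.inr (Coprime.isSolvable_of_le (sigmaCore_le M) (isSolvable_coatom hG hM))) s
    refine ⟨T, ?_⟩
    set V := (T : Subgroup ↥(sigmaCore M)).map (sigmaCore M).subtype with hV
    by_cases hsd : s ∣ Nat.card (sigmaCore M)
    swap
    · have h1 : (T : Subgroup ↥(sigmaCore M)) = ⊥ := by
        rw [← card_eq_one, T.card_eq_multiplicity, Nat.factorization_eq_zero_of_not_dvd hsd, pow_zero]
      rw [hV, h1, Subgroup.map_bot]
      exact bot_le
    have hsσ := piNum_sigmaCore M s hs hsd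
    have hsp : s ≠ p := fun e => h.mem3.2.1 (e ▸ hsσ)
    by_cases hsβ : s ∈ beta M
    · refine le_centralizer_iff.mp (le_centralizer_of_fixed_omega (prime_ne_two hG hsd) (T.2.map _)
        hr.out (fun e => h.mem1.2.1 (e ▸ hsσ)) hcr ?_ (le_sup_left.trans hT)
        (hT (mem_sup_right hcR)) (hPn (h.leR hcR)) hfX ?_)
      · rw [h.cardP]
        exact fun hd => hsp ((Nat.prime_dvd_prime_iff_eq hs hp.out).mp hd)
      · intro v hv hvs hcv
        by_cases hv1 : v = 1
        · rw [hv1]; exact one_mem _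
        exact hcon s ⟨hs⟩ v hsβ (map_subtype_le _ hv)
          (hcent ▸ mem_centralizer_singleton_iff.mpr hcv.eq.symm) hvs hv1
    · obtain ⟨S, hS⟩ := sylow_of_sigmaCore hG hM hsσ T
      rw [hV, ← hS] at hT ⊢
      have hSM : (S : Subgroup G) ≤ M := hS ▸ (map_subtype_le _).trans (sigmaCore_le M)
      refine le_centralizer_iff.mp fun a ha => ?_
      refine mem_centralizer_sylow_of_derived hG hM hsσ hsβ S hSM
        (commutator_mono (le_sup_left.trans hT) (le_sup_right.trans hT) (hPR ha)) ?_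
      exact ((Nat.coprime_primes hp.out hs).mpr hsp.symm).coprime_dvd_left
        (h.cardP ▸ Subgroup.orderOf_dvd_natCard P ha)
  have hMle : M ≤ L := by
    intro m hm
    obtain ⟨a, ha, b, hb, rfl⟩ := h.compl.2.2.2 m hm
    exact h.normalizer_le (mul_mem (hPn ha) (centralizer_le_normalizer _ (hall hb)))
  exact h.mem3.2.1 ((eq_or_lt_of_le hMle).resolve_right
    (fun hl => h.coatom'.1 (hM.2 L hl)) ▸ h.mem_sigma hG)

theorem SkewLine.not_sigma : r ∉ sigma L := by
  intro hrL
  obtain ⟨u, hu, v, huβ, hvσ, hvR, hvu, hv1, hvP⟩ := h.exists_moved_beta hG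
  have hfix : sigmaCore M ⊓ centralizer (R : Set G) ≠ ⊥ := fun e =>
    hv1 (mem_bot.mp (e ▸ ⟨hvσ, hvR⟩ : v ∈ (⊥ : Subgroup G)))
  have hRM := h.leR.trans h.compl.1
  have hRL := h.leR.trans (h.compl_le hG)
  obtain ⟨H, hH, hNH⟩ := exists_coatom_ge_normalizer hG h.coatom hRM (ne_bot_of_card h.cardR)
  have hrH := sigma_of_line_overgroup hG h.coatom (Or.inl h.mem1) h.cardR hRM hfix hH hNH
  by_cases hne : H = L
  · exact hvP (h.inf_le_centralizer hG
      ⟨hvσ, hne ▸ hNH (centralizer_le_normalizer _ hvR)⟩)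
  · obtain ⟨S, hS⟩ := exists_sylow_ge (isPGroup_of_card_prime h.cardR)
      (le_inf hRL (Subgroup.le_normalizer.trans hNH))
    obtain ⟨g, hg⟩ := exists_conj_of_sigma_inter hG h.coatom' hH hrL hrH
    exact (sigma_normalizer_other hG h.coatom' hrL (isPGroup_of_card_prime h.cardR)
      (ne_bot_of_card h.cardR) hRL hH hne hNH S hS).1 g hg

/-- `R` fixes no non-identity element of `M_σ ∩ L`. -/
theorem SkewLine.fixed_inf : sigmaCore M ⊓ L ⊓ centralizer (R : Set G) = ⊥ := by
  by_contra hne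
  obtain ⟨q, hq, hqd⟩ := exists_prime_dvd_of_ne_bot hne
  haveI := Fact.mk hq
  obtain ⟨⟨y, hyC, hyR⟩, hy⟩ := exists_prime_orderOf_dvd_card' q hqd
  rw [← orderOf_coe] at hy
  change orderOf y = q at hy
  have hy1 : y ≠ 1 := fun e => hq.ne_one (by rw [← hy, e, orderOf_one])
  obtain ⟨hqσ, -, hq13⟩ := h.tau_of_dvd hG (hy ▸ Subgroup.orderOf_dvd_natCard _ hyC)
  have hM := h.coatom
  have hPn : E ≤ normalizer (P : Set G) := tau3_line_normal hG hM h.compl h.mem3 h.cardP h.leP
  have hyP : y ∈ centralizer (P : Set G) := h.inf_le_centralizer hG hyC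
  set A := P ⊔ R with hA
  have hAE : A ≤ E := sup_le h.leP h.leR
  have hcop : (Nat.card A).Coprime (Nat.card (sigmaCore M)) :=
    (compl_coprime hG hM h.compl).coprime_dvd_left (card_dvd_of_le hAE)
  have hYσ : zpowers y ≤ sigmaCore M := zpowers_le.mpr hyC.1
  have hAY : A ≤ normalizer (zpowers y : Set G) := (sup_le
    (le_centralizer_iff.mp (zpowers_le.mpr hyP))
    (le_centralizer_iff.mp (zpowers_le.mpr hyR))).trans (centralizer_le_normalizer _)
  obtain ⟨T, hYT, hT⟩ : ∃ T : Sylow q ↥(sigmaCore M),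
      zpowers y ≤ (T : Subgroup ↥(sigmaCore M)).map (sigmaCore M).subtype ∧
      A ≤ normalizer ((T : Subgroup ↥(sigmaCore M)).map (sigmaCore M).subtype : Set G) :=
    Coprime.exists_le_invariant_sylow ((hAE.trans h.compl.1).trans (le_normalizer_sigmaCore M))
      hcop (Or.inr (Coprime.isSolvable_of_le (sigmaCore_le M) (isSolvable_coatom hG hM))) hYσ
      (IsPGroup.of_card (n := 1) (by rw [Nat.card_zpowers, hy, pow_one])) hAY
  obtain ⟨S, hS⟩ := sylow_of_sigmaCore hG hM hqσ T
  rw [← hS] at hYT hT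
  have hSσ : (S : Subgroup G) ≤ sigmaCore M := hS ▸ map_subtype_le _
  have hSM : (S : Subgroup G) ≤ M := hSσ.trans (sigmaCore_le M)
  have hqp : q ≠ p := fun e => h.mem3.2.1 (e ▸ hqσ)
  obtain ⟨c, hcR, hc1, hcr, hcgen⟩ := exists_generator_of_card h.cardR
  have hcent : centralizer ({c} : Set G) = centralizer (R : Set G) := by
    rw [← hcgen, centralizer_zpowers]
  have hSC : P ≤ centralizer ((S : Subgroup G) : Set G) := by
    by_cases hqβ : q ∈ beta M
    · have hcyc : IsCyclic ↥((S : Subgroup G) ⊓ centralizer (R : Set G)) :=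
        isCyclic_of_rankLE_one_odd hG.1 (S.2.to_le inf_le_left) le_rfl
          (pRankLE_one_centralizer_tau1 hG hM hqβ h.mem1 h.cardR (h.leR.trans h.compl.1)
            (inf_le_left.trans hSM) inf_le_right)
      refine le_centralizer_of_fixed_omega (prime_ne_two hG hqσ.2.1) S.2 hr.out
        (fun e => h.mem1.2.1 (e ▸ hqσ)) hcr ?_ (le_sup_left.trans hT) (hT (mem_sup_right hcR))
        (hPn (h.leR hcR)) ?_ ?_
      · rw [h.cardP]
        exact fun hd => hqp ((Nat.prime_dvd_prime_iff_eq hq hp.out).mp hd)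
      · rw [eq_bot_iff]
        intro x hx
        rw [hcent] at hx
        by_contra hx1
        refine h.moved (le_centralizer_iff.mp ?_)
        obtain ⟨a, -, -, -, hagen⟩ := exists_generator_of_card h.cardP
        have hxP : zpowers x = P := by
          refine eq_of_le_of_card_ge (zpowers_le.mpr hx.1) ?_
          rw [Nat.card_zpowers, h.cardP]
          have hd := h.cardP ▸ Subgroup.orderOf_dvd_natCard P hx.1
          exact ((Nat.dvd_prime hp.out).mp hd).resolve_left (fun e => hx1 (by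
            rw [orderOf_eq_one_iff] at e; rw [e]; exact one_mem _)) |>.ge
        rw [← hxP]
        exact zpowers_le.mpr hx.2
      · intro v hv hvq hcv
        by_cases hv1 : v = 1
        · rw [hv1]; exact one_mem _
        have h1 : zpowers v = zpowers y := eq_of_card_eq_of_isCyclic hcyc
          (zpowers_le.mpr ⟨hv, hcent ▸ mem_centralizer_singleton_iff.mpr hcv.eq.symm⟩)
          (zpowers_le.mpr ⟨hYT (mem_zpowers y), hyR⟩)
          (by rw [Nat.card_zpowers, Nat.card_zpowers, hy, orderOf_eq_prime hvq hv1])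
        exact zpowers_le.mpr hyP (h1.le (mem_zpowers v))
    · intro a ha
      have hPR : P ≤ ⁅P, R⁆ := by
        have hle := Coprime.commutator_le_of_le_normalizer (h.leR.trans hPn)
        refine (eq_of_le_of_card_ge hle ?_).ge
        obtain ⟨j, hj⟩ := ((isPGroup_of_card_prime h.cardP).to_le hle).exists_card_eq
        rw [h.cardP, hj]
        refine Nat.le_self_pow (fun e => h.moved ?_) p
        rw [le_centralizer_iff, ← commutator_eq_bot_iff_le_centralizer]
        exact card_eq_one.mp (by rw [hj, e, pow_zero])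
      exact mem_centralizer_sylow_of_derived hG hM hqσ hqβ S hSM
        (commutator_mono (le_sup_left.trans hT) (le_sup_right.trans hT) (hPR ha))
        (((Nat.coprime_primes hp.out hq).mpr hqp.symm).coprime_dvd_left
          (h.cardP ▸ Subgroup.orderOf_dvd_natCard P ha))
  have hSL : (S : Subgroup G) ≤ L :=
    (le_centralizer_iff.mp hSC).trans ((centralizer_le_normalizer _).trans h.normalizer_le)
  have hrank : PRankLE q 1 L := hq13.elim (·.2.2.2.2) (·.2.2.2)
  have hScyc := isCyclic_of_rankLE_one_odd hG.1 S.2 hSL hrank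
  by_cases hqβ : q ∈ beta M
  · obtain ⟨V, hVM, hVe, hV3⟩ := exists_elementary_of_not_pRankLE hqβ.1.2
    obtain ⟨V₀, hV₀⟩ := (Coprime.ea_isPGroup hVe).exists_le_sylow
    obtain ⟨g, hg⟩ := MulAction.exists_smul_eq G V₀ S
    have hVS : V.map (MulAut.conj g).toMonoidHom ≤ (S : Subgroup G) := by
      rw [← hg, Sylow.coe_subgroup_smul]
      exact map_mono hV₀
    have h2 := pRankLE_one_of_isCyclic (p := q) hScyc
      ((V.map (MulAut.conj g).toMonoidHom).subgroupOf S) inferInstance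
    have hVe' := isElementaryAbelian_map hVe g
    have h3 : Nat.card ↥((V.map (MulAut.conj g).toMonoidHom).subgroupOf S) ≤ q ^ 1 :=
      pRankLE_one_of_isCyclic (p := q) hScyc _
        ⟨⟨fun a b => Subtype.ext (Subtype.ext
          (Coprime.ea_comm hVe' (mem_subgroupOf.mp a.2) (mem_subgroupOf.mp b.2)))⟩⟩
        (fun a ha => Subtype.ext (by simpa using hVe'.2 _ (mem_subgroupOf.mp ha)))
    rw [Coprime.card_subgroupOf hVS, card_map_conj] at h3
    exact absurd (hV3.trans h3) (not_le.mpr (Nat.pow_lt_pow_right hq.one_lt (by norm_num)))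
  · have h1 := le_derived_of_tau1_fixed hG hM hqβ h.mem1 h.cardR (h.leR.trans h.compl.1)
      (X := zpowers y) (by rw [Nat.card_zpowers, hy])
      (zpowers_le.mpr ⟨hyC.1, hyR⟩) (mem_zpowers y)
    have h2 := mem_derived_of_sylow hG hM hqσ.2.1 hqβ S hSσ (hYT (mem_zpowers y)) h1
    haveI := hScyc
    have h3 : ⁅(S : Subgroup G), (S : Subgroup G)⁆ = ⊥ :=
      commutator_eq_bot_iff_le_centralizer.mpr
        (le_centralizer_of_isMulCommutative le_rfl le_rfl inferInstance)
    exact hy1 (mem_bot.mp (h3 ▸ h2))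

/-- The configuration is symmetric in `M` and `L`. -/
theorem SkewLine.exists_symm : ∃ (q : ℕ) (_ : Fact q.Prime) (E' Y : Subgroup G),
    SkewLine q r L M E' Y R := by
  have hM := h.coatom
  have hL := h.coatom'
  set C := sigmaCore M ⊓ L with hC
  have hC1 : C ≠ ⊥ := fun e => h.fixed (le_bot_iff.mp (e ▸ h.centralizer_le_inf hG))
  have hRM := h.leR.trans h.compl.1
  have hRL := h.leR.trans (h.compl_le hG)
  have hRC : R ≤ normalizer (C : Set G) := Coprime.le_normalizer_inf
    (hRM.trans (le_normalizer_sigmaCore M)) (hRL.trans Subgroup.le_normalizer)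
  have hr1L : r ∈ tau1 L := by
    by_contra hc
    refine hC1 (le_bot_iff.mp ?_)
    rw [← h.fixed_inf hG]
    exact le_inf le_rfl (le_centralizer_iff.mp (le_centralizer_inf_sigmaCore hG hM hL
      (h.nonconj hG) h.mem1.2.1 hc (isPGroup_of_card_prime h.cardR) hRM hRL))
  have hcopC : (Nat.card R).Coprime (Nat.card C) :=
    ((compl_coprime hG hM h.compl).coprime_dvd_left (card_dvd_of_le h.leR)).coprime_dvd_right
      (card_dvd_of_le inf_le_left)
  have hCs : Group.IsSolvable C := Coprime.isSolvable_of_le inf_le_right (isSolvable_coatom hG hL)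
  have hCL : C ≤ ⁅L, L⁆ := by
    have h1 := Coprime.commutator_sup_centralizer hRC hcopC (Or.inr hCs)
    rw [hC, h.fixed_inf hG, sup_bot_eq] at h1
    rw [hC, ← h1]
    exact commutator_mono inf_le_right hRL
  obtain ⟨q, hq, hqd⟩ := exists_prime_dvd_of_ne_bot hC1
  haveI := Fact.mk hq
  obtain ⟨-, hqL, hq13⟩ := h.tau_of_dvd hG hqd
  have hq3 : q ∈ tau3 L :=
    hq13.resolve_left fun h1 => h1.2.2.2.1 (hqd.trans (card_dvd_of_le hCL))
  obtain ⟨⟨y, hy⟩, hyo⟩ := exists_prime_orderOf_dvd_card' q hqd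
  rw [← orderOf_coe] at hyo
  change orderOf y = q at hyo
  obtain ⟨E', hE', hle⟩ := exists_compl_ge_of_not_sigma hG hL (sup_le inf_le_right hRL :
    C ⊔ R ≤ L) (fun s hs hd => by
      haveI := Fact.mk hs
      rcases hs.dvd_mul.mp (hd.trans (card_sup_dvd_mul hRC)) with h1 | h1
      · exact (h.tau_of_dvd hG h1).2.1
      · rw [h.cardR] at h1
        rw [(Nat.prime_dvd_prime_iff_eq hs hr.out).mp h1]
        exact h.not_sigma hG)
  have hYC : zpowers y ≤ C := zpowers_le.mpr hy
  have hYcard : Nat.card (zpowers y) = q := by rw [Nat.card_zpowers, hyo]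
  refine ⟨q, ⟨hq⟩, E', zpowers y, ⟨hL, hM, hE', hq3, hYcard,
    hYC.trans (le_sup_left.trans hle), fun e => ?_, h.normalizer_line_le hG hYcard hYC⟩,
    hr1L, h.cardR, le_sup_right.trans hle, fun hle' => ?_⟩
  · exact ne_bot_of_card h.cardP (le_bot_iff.mp (e ▸ le_inf (h.le_sigmaCore' hG)
      (le_centralizer_iff.mp (hYC.trans (h.inf_le_centralizer hG)))))
  · have h1 : y ∈ C ⊓ centralizer (R : Set G) := ⟨hy, le_centralizer_iff.mp hle' (mem_zpowers y)⟩
    rw [hC, h.fixed_inf hG, mem_bot] at h1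
    rw [h1, orderOf_one] at hyo
    exact hq.ne_one hyo.symm

/-- No element at a prime of `σ(M)` of `L` is fixed by `R`. -/
theorem SkewLine.not_fixed_in_other {q : ℕ} [Fact q.Prime] {E' Y : Subgroup G}
    (h' : SkewLine q r L M E' Y R) {u : ℕ} [Fact u.Prime] (hu : u ∈ sigma M) {v : G}
    (hvL : v ∈ L) (hvR : v ∈ centralizer (R : Set G)) (hvu : v ^ u = 1) (hv1 : v ≠ 1) : False := by
  have hM := h.coatom
  have hL := h.coatom'
  have huL : u ∉ sigma L := fun hc => by
    obtain ⟨g, hg⟩ := exists_conj_of_sigma_inter hG hM hL hu hc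
    exact h.nonconj hG g hg
  have hvo := orderOf_eq_prime hvu hv1
  have hvN : zpowers v ≤ normalizer (R : Set G) :=
    (zpowers_le.mpr hvR).trans (centralizer_le_normalizer _)
  have hRL := h.leR.trans (h.compl_le hG)
  set U := R ⊔ zpowers v with hU
  have hUσ : PiNum {s | s ∉ sigma L} U := fun s hs hd => by
    rcases hs.dvd_mul.mp (hd.trans (card_sup_dvd_mul hvN)) with h1 | h1
    · rw [h.cardR] at h1
      rw [(Nat.prime_dvd_prime_iff_eq hs hr.out).mp h1]
      exact h.not_sigma hG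
    · rw [Nat.card_zpowers, hvo] at h1
      rw [(Nat.prime_dvd_prime_iff_eq hs Fact.out).mp h1]
      exact huL
  obtain ⟨l, hl, hle⟩ := exists_conj_le_of_relIndex (π := {s | s ∉ sigma L})
    (isSolvable_coatom hG hL) h'.compl.1
    (fun s hs hsπ => (compl_isPiHallOf hG hL h'.compl).2.2 s hs hsπ)
    (sup_le hRL (zpowers_le.mpr hvL)) hUσ
  have hR' : R.map (MulAut.conj l).toMonoidHom ≤ E' := (map_mono le_sup_left).trans hle
  obtain ⟨T, hT⟩ := exists_sylow_ge (isPGroup_of_card_prime h.cardR) h'.leR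
  obtain ⟨T', hT'⟩ := exists_sylow_ge (isPGroup_map_conj (isPGroup_of_card_prime h.cardR) l) hR'
  obtain ⟨b, hb⟩ := MulAction.exists_smul_eq E' T' T
  have hRb : (R.map (MulAut.conj l).toMonoidHom).map (MulAut.conj (b : G)).toMonoidHom ≤
      (T : Subgroup E').map E'.subtype := by
    rw [← hb, map_subtype_sylow_smul]
    exact map_mono hT'
  have heq : (R.map (MulAut.conj l).toMonoidHom).map (MulAut.conj (b : G)).toMonoidHom = R :=
    eq_of_card_eq_of_isCyclic (isCyclic_of_rankLE_one_odd hG.1 (T.2.map _)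
      ((map_subtype_le _).trans h'.compl.1) h'.mem1.2.2.2.2) hRb hT
      (by rw [card_map_conj, card_map_conj])
  set g := (b : G) * l with hg
  rw [map_conj_map_conj] at heq
  set w := g * v * g⁻¹ with hw
  have hwE : w ∈ E' := by
    have h1 : l * v * l⁻¹ ∈ E' := hle (mem_map_of_mem _ (mem_sup_right (mem_zpowers v)))
    have h2 := mul_mem (mul_mem b.2 h1) (inv_mem b.2)
    rw [hw, hg]
    simpa [mul_assoc] using h2
  have hwM : w ∈ M := h'.compl_le hG hwE
  have hwo : orderOf w = u := by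
    rw [hw, ← MulAut.conj_apply, MulEquiv.orderOf_eq, hvo]
  have hwσ : w ∈ sigmaCore M := le_sigmaCore_of_isPGroup hG hM (zpowers_le.mpr hwM)
    (IsPGroup.of_card (n := 1) (by rw [Nat.card_zpowers, hwo, pow_one])) hu (mem_zpowers w)
  have hwR : w ∈ centralizer (R : Set G) := by
    rw [mem_centralizer_iff]
    intro x hx
    rw [← heq] at hx
    obtain ⟨x, hx, rfl⟩ := hx
    have h1 := mem_centralizer_iff.mp hvR x hx
    change g * x * g⁻¹ * (g * v * g⁻¹) = g * v * g⁻¹ * (g * x * g⁻¹)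
    calc g * x * g⁻¹ * (g * v * g⁻¹) = g * (x * v) * g⁻¹ := by group
      _ = g * v * g⁻¹ * (g * x * g⁻¹) := by rw [h1]; group
  have h3 : w = 1 := mem_bot.mp (h.fixed_inf hG ▸
    (⟨⟨hwσ, h'.compl.1 hwE⟩, hwR⟩ : w ∈ sigmaCore M ⊓ L ⊓ centralizer (R : Set G)))
  rw [h3, orderOf_one] at hwo
  exact (Fact.out : u.Prime).ne_one hwo.symm

theorem SkewLine.false : False := by
  obtain ⟨q, hq, E', Y, h'⟩ := h.exists_symm hG
  obtain ⟨u, hu, v, huβ, hvσ, hvR, hvu, hv1, -⟩ := h.exists_moved_beta hG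
  obtain ⟨t, ht, w, htβ, hwσ, hwR, hwt, hw1, -⟩ := h'.exists_moved_beta hG
  have hM := h.coatom
  have hL := h.coatom'
  have huσ := alpha_subset_sigma hG hM huβ.1
  have htσ := alpha_subset_sigma hG hL htβ.1
  have hvo := orderOf_eq_prime hvu hv1
  have hwo := orderOf_eq_prime hwt hw1
  have hvM := sigmaCore_le M hvσ
  have hwL := sigmaCore_le L hwσ
  have hCs : Group.IsSolvable ↥(centralizer (R : Set G)) := by
    refine hG.2.2.2 _ fun e => ?_
    exact ne_top_of_normal_ne_bot hG (ne_bot_of_card h.cardR)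
      (ne_top_of_not_dvd hM (h.leR.trans h.compl.1))
      (top_le_iff.mp (e ▸ centralizer_le_normalizer _))
  have hπ : ∀ {x : G} {s : ℕ}, orderOf x = s → s.Prime → (s = u ∨ s = t) →
      PiNum {s | s = u ∨ s = t} (zpowers x) := fun hx hs hor =>
    piNum_of_card_prime (by rw [Nat.card_zpowers, hx]) hs hor
  obtain ⟨K, hK, hvK⟩ := exists_hall_ge (π := {s | s = u ∨ s = t}) hCs (zpowers_le.mpr hvR)
    (hπ hvo hu.out (Or.inl rfl))
  obtain ⟨d, hd, hdK⟩ := exists_conj_le_of_relIndex (π := {s | s = u ∨ s = t}) hCs hK.1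
    (fun s hs hsπ => hK.2.2 s hs hsπ) (zpowers_le.mpr hwR) (hπ hwo ht.out (Or.inr rfl))
  set w' := d * w * d⁻¹ with hw'
  have hw'K : w' ∈ K := hdK (mem_map_of_mem _ (mem_zpowers w))
  haveI : Group.IsSolvable K := Coprime.isSolvable_of_le hK.1 hCs
  haveI : Nontrivial K := ⟨⟨v, hvK (mem_zpowers v)⟩, 1, fun e => hv1 (congrArg Subtype.val e)⟩
  obtain ⟨s, hs, X₀, hX₀n, hX₀p, hX₀1⟩ := Coprime.exists_normal_isPGroup (G := K)
  haveI := Fact.mk hs
  set X := X₀.map K.subtype with hX
  have hXp : IsPGroup s X := hX₀p.map _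
  have hX1 : X ≠ ⊥ := fun e => hX₀1 ((map_eq_bot_iff_of_injective _ K.subtype_injective).mp e)
  have hKX : K ≤ normalizer (X : Set G) := by
    intro k hk
    refine mem_normalizer_of_map_conj ?_
    have h1 := map_conj_eq_self_of_mem (X := X₀) (n := (⟨k, hk⟩ : K))
      (by rw [normalizer_eq_top_iff.mpr hX₀n]; exact mem_top _)
    conv_rhs => rw [hX, ← h1]
    rw [hX, Subgroup.map_map, Subgroup.map_map]
    rfl
  have hsπ : s = u ∨ s = t := by
    obtain ⟨l, hl, hld⟩ := exists_prime_dvd_of_ne_bot hX1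
    obtain ⟨j, hj⟩ := IsPGroup.iff_card.mp hXp
    rw [(Nat.prime_dvd_prime_iff_eq hl hs).mp (hl.dvd_of_dvd_pow (hj ▸ hld))] at hld
    exact hK.2.1 s hs (hld.trans (card_dvd_of_le (map_subtype_le _)))
  rcases hsπ with rfl | rfl
  · -- `X` forces `w' ∈ M`
    have hN := normalizer_le_of_beta_elt hG hM huβ hXp hX1 hv1 hvu hvM
      (hKX (hvK (mem_zpowers v)))
    exact h'.not_fixed_in_other hG h htσ (hN (hKX hw'K))
      (mul_mem (mul_mem hd hwR) (inv_mem hd)) (by rw [hw', conj_pow, hwt, mul_one, mul_inv_cancel])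
      (fun e => hw1 (conj_eq_one_iff.mp e))
  · -- `X` forces a conjugate of `v` into `L`
    set X' := X.map (MulAut.conj d⁻¹).toMonoidHom with hX'
    have hX'n : ∀ k ∈ K, d⁻¹ * k * d ∈ normalizer (X' : Set G) := fun k hk => by
      refine mem_normalizer_of_map_conj ?_
      rw [hX', map_conj_map_conj, show d⁻¹ * k * d * d⁻¹ = d⁻¹ * k by group, ← map_conj_map_conj,
        map_conj_eq_self_of_mem (hKX hk)]
    have hw'' : w ∈ normalizer (X' : Set G) := by
      have := hX'n w' hw'K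
      rwa [hw', show d⁻¹ * (d * w * d⁻¹) * d = w by group] at this
    have hN := normalizer_le_of_beta_elt hG hL htβ (isPGroup_map_conj hXp d⁻¹)
      (fun e => hX1 ((map_eq_bot_iff_of_injective _ (MulEquiv.injective _)).mp e)) hw1 hwt hwL hw''
    exact h.not_fixed_in_other hG h' huσ (hN (hX'n v (hvK (mem_zpowers v))))
      (mul_mem (mul_mem (inv_mem hd) hvR) hd)
      (by rw [show d⁻¹ * v * d = d⁻¹ * v * d⁻¹⁻¹ by rw [inv_inv], conj_pow, hvu, mul_one,
        mul_inv_cancel])
      (fun e => hv1 (by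
        calc v = d * (d⁻¹ * v * d) * d⁻¹ := by group
          _ = 1 := by rw [e]; group))

omit h in
/-- BG 13.10, 13.11: `τ₁(M)`-lines centralise the `τ₃(M)`-lines with fixed points. -/
theorem tau1_centralizes_tau3_line (hM : IsCoatom M) (hE : IsComplIn E (sigmaCore M) M)
    (hp3 : p ∈ tau3 M) (hP : Nat.card P = p) (hPE : P ≤ E)
    (hfix : sigmaCore M ⊓ centralizer (P : Set G) ≠ ⊥) (hr1 : r ∈ tau1 M) (hR : Nat.card R = r)
    (hRE : R ≤ E) : R ≤ centralizer (P : Set G) := by
  by_contra hne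
  obtain ⟨L, hL, hNL⟩ := exists_coatom_ge_normalizer hG hM (hPE.trans hE.1) (ne_bot_of_card hP)
  exact SkewLine.false hG ⟨⟨hM, hL, hE, hp3, hP, hPE, hfix, hNL⟩, hr1, hR, hRE, hne⟩

end Cfsg.Agent.OddLocal
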