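import Cfsg.Agent.OddLocal.PrimeAction

/-!
Elements of `N(S)'` for `σ(M) \ β(M)` and BG 13.6: centralisers of elements fixed by `τ₁(M)`-lines.
-/

set_option autoImplicit false
set_option linter.unusedSectionVars false
set_option linter.style.haveILetI false

namespace Cfsg.Agent.OddLocal

open Subgroup Cfsg
open scoped commutatorElement

universe u

variable {G : Type u} [Group G] [Finite G] {p : ℕ} [hp : Fact p.Prime] {M E : Subgroup G}

omit hp in
theorem piNum_of_card_prime {X : Subgroup G} {q : ℕ} {π : Set ℕ} (hX : Nat.card X = q)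
    (hq : q.Prime) (hπ : q ∈ π) : PiNum π X := fun r hr hd =>
  (Nat.prime_dvd_prime_iff_eq hr hq).mp (hX ▸ hd) ▸ hπ

variable (hG : IsMinSimpleOddOrder G) (hM : IsCoatom M)
include hG hM

/-- Elements of `p'`-order of `N(S)'` centralise the Sylow subgroup `S` at a prime in
`σ(M) \ β(M)`. -/
theorem mem_centralizer_sylow_of_derived (hσ : p ∈ sigma M) (hβ : p ∉ beta M) (S : Sylow p G)
    (hSM : (S : Subgroup G) ≤ M) {y : G}
    (hy : y ∈ ⁅normalizer ((S : Subgroup G) : Set G), normalizer ((S : Subgroup G) : Set G)⁆)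
    (hcop : (orderOf y).Coprime p) : y ∈ centralizer ((S : Subgroup G) : Set G) := by
  set N := normalizer ((S : Subgroup G) : Set G) with hN
  haveI : Group.IsSolvable N :=
    Coprime.isSolvable_of_le (normalizer_sylow_le hG hM hSM hσ) (isSolvable_coatom hG hM)
  set R : Subgroup N := (S : Subgroup G).subgroupOf N with hR
  haveI : R.Normal := normal_subgroupOf_of_le_normalizer le_rfl
  have hRp : IsPGroup p R := S.2.of_equiv (subgroupOfEquivOfLe Subgroup.le_normalizer).symm
  have hodd : Odd (Nat.card N) := hG.1.of_dvd_nat (card_subgroup_dvd_card N)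
  have hp2 : p ≠ 2 := by
    intro e
    exact absurd (hG.1.of_dvd_nat (hσ.2.1.trans (card_subgroup_dvd_card M))) (by rw [e]; decide)
  rw [commutator_eq_map_subtype N] at hy
  obtain ⟨y, hy, rfl⟩ := hy
  rw [coe_subtype] at hcop ⊢
  rw [orderOf_coe] at hcop
  have h : y ∈ centralizer (R : Set N) := by
    by_cases hr : PRankLE p 2 R
    · exact mem_centralizer_of_rank_two hodd hp2 hRp hr hy hcop
    · have hn := sylow_narrow_of_not_beta hG hM hσ.2.1 hβ (S.subtype hSM)
      have hn' : IsNarrow p R := isNarrow_congr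
        (((MulEquiv.subgroupCongr (Sylow.coe_subtype S hSM)).trans
          (subgroupOfEquivOfLe hSM)).trans (subgroupOfEquivOfLe Subgroup.le_normalizer).symm) hn
      exact mem_centralizer_of_narrow hp2 hRp hr hn' hcop
        (trivialOnSmallFactors_commutator hy)
  rw [mem_centralizer_iff]
  intro s hs
  exact congrArg Subtype.val
    (mem_centralizer_iff.mp h ⟨s, Subgroup.le_normalizer hs⟩ (mem_subgroupOf.mpr hs))

/-- BG 13.6, the commutator statement: `C_{M_σ}(Q)` meets `X` inside `M_σ'` for a line `Q` at a prime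
of `τ₁(M)`. -/
theorem le_derived_of_tau1_fixed (hβ : p ∉ beta M) {q : ℕ} [Fact q.Prime] (hq1 : q ∈ tau1 M)
    {Q X : Subgroup G} (hQ : Nat.card Q = q) (hQM : Q ≤ M) (hX : Nat.card X = p)
    (hXQ : X ≤ sigmaCore M ⊓ centralizer (Q : Set G)) :
    X ≤ ⁅sigmaCore M, sigmaCore M⁆ := by
  have hXσ : X ≤ sigmaCore M := hXQ.trans inf_le_left
  have hpσ : p ∈ sigma M :=
    piNum_sigmaCore M p hp.out (hX ▸ card_dvd_of_le hXσ)
  have hQσ : ∀ s : ℕ, s.Prime → s ∣ Nat.card Q → s ∉ sigma M :=
    piNum_of_card_prime hQ Fact.out (π := {s | s ∉ sigma M}) hq1.2.1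
  have hX1 : X ≠ ⊥ := fun e => hp.out.ne_one (by rw [← hX, e, card_bot])
  have hcop : (Nat.card Q).Coprime (Nat.card (sigmaCore M)) :=
    Nat.coprime_of_dvd fun s hs h1 h2 => hQσ s hs h1 (piNum_sigmaCore M s hs h2)
  obtain ⟨T, hXT, hQT⟩ : ∃ T : Sylow p ↥(sigmaCore M),
      X ≤ (T : Subgroup ↥(sigmaCore M)).map (sigmaCore M).subtype ∧
      Q ≤ normalizer ((T : Subgroup ↥(sigmaCore M)).map (sigmaCore M).subtype : Set G) :=
    Coprime.exists_le_invariant_sylow (hQM.trans (le_normalizer_sigmaCore M)) hcop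
      (Or.inr (Coprime.isSolvable_of_le (sigmaCore_le M) (isSolvable_coatom hG hM))) hXσ
      (IsPGroup.of_card (n := 1) (by rw [hX, pow_one]))
      ((le_centralizer_iff.mp (hXQ.trans inf_le_right)).trans (centralizer_le_normalizer _))
  obtain ⟨S, hS⟩ := sylow_of_sigmaCore hG hM hpσ T
  rw [← hS] at hXT hQT
  have hSM : (S : Subgroup G) ≤ M := hS ▸ (map_subtype_le _).trans (sigmaCore_le M)
  set N := normalizer ((S : Subgroup G) : Set G) with hN
  have hNM : N ≤ M := normalizer_sylow_le hG hM hSM hpσ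
  obtain ⟨E, hE, hQE, hEN, -⟩ := exists_compl_le hG hM
    (hNM.trans (le_normalizer_piCoreOf (beta M) M))
    (fun s hs hd => alpha_subset_sigma hG hM (piNum_piCoreOf (beta M) M s hs hd).1) hNM
    ((le_betaCore_sup_normalizer hG hM hpσ hβ S hSM).trans (sup_le_sup_left inf_le_right _))
    hQT hQσ
  have hEs : Group.IsSolvable E := Coprime.isSolvable_of_le hE.1 (isSolvable_coatom hG hM)
  -- `p'`-elements of `[N, N]` fix `X`
  have hder : ∀ y ∈ ⁅N, N⁆, (orderOf y).Coprime p → y ∈ centralizer (X : Set G) := fun y hy hc =>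
    centralizer_le hXT (mem_centralizer_sylow_of_derived hG hM hpσ hβ S hSM hy hc)
  -- lines of `C_E(Q)` fix `X`
  have hline : ∀ z ∈ E ⊓ centralizer (Q : Set G), (orderOf z).Prime →
      z ∈ centralizer (X : Set G) := by
    intro z hz hzp
    have h1 := (hXQ.trans (Cfsg.Agent.S1428.result hG M hM E hE q hq1 Q hQE hQ (zpowers z)
      (zpowers_le.mpr hz) (by rwa [Nat.card_zpowers]))).trans inf_le_right
    exact le_centralizer_iff.mp h1 (mem_zpowers z)
  -- a commutator group of a group of order prime to `q`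
  have hcomm : ∀ R : Subgroup G, R ≤ E → Q ≤ normalizer (R : Set G) →
      (Nat.card R).Coprime p → ⁅R, Q⁆ ≤ centralizer (X : Set G) := fun R hRE hQR hc y hy =>
    hder y (commutator_mono (hRE.trans hEN) (hQE.trans hEN) hy)
      (hc.coprime_dvd_left (Subgroup.orderOf_dvd_natCard R
        (Coprime.commutator_le_of_le_normalizer hQR hy)))
  refine (le_inf hXσ (le_centralizer_iff.mp ?_)).trans (inf_centralizer_compl_le hG hM hE)
  refine Coprime.le_of_forall_sylow_le fun r hr => ?_
  haveI := Fact.mk hr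
  obtain ⟨R₀⟩ : Nonempty (Sylow r E) := inferInstance
  by_cases hrE : r ∣ Nat.card E
  swap
  · refine ⟨R₀, ?_⟩
    have h1 : (R₀ : Subgroup E) = ⊥ := by
      rw [← card_eq_one, R₀.card_eq_multiplicity, Nat.factorization_eq_zero_of_not_dvd hrE, pow_zero]
    rw [h1, Subgroup.map_bot]
    exact bot_le
  have hrσ := compl_prime_not_sigma hG hM hE hr hrE
  have hrp : r ≠ p := fun e => hrσ (e ▸ hpσ)
  rcases tau_cases hG hM hE hrE with h1 | h2 | h3
  · obtain ⟨E₁, hE₁, hQE₁⟩ := exists_hall_ge (π := tau1 M) hEs hQE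
      (piNum_of_card_prime hQ Fact.out hq1)
    haveI := tau1_hall_cyclic hG hM hE hE₁
    obtain ⟨R⟩ : Nonempty (Sylow r E₁) := inferInstance
    obtain ⟨T', hT'⟩ := exists_sylow_of_relIndex hE₁.1 (hE₁.2.2 r hr h1) R
    refine ⟨T', ?_⟩
    rw [hT']
    have hRQ : (R : Subgroup E₁).map E₁.subtype ≤ centralizer (Q : Set G) :=
      le_centralizer_of_isMulCommutative (map_subtype_le _) hQE₁ inferInstance
    exact le_centralizer_iff.mp ((le_inf hXσ (hXQ.trans inf_le_right)).trans
      (fixed_le_of_tau1 hG hM hE hq1 hQE hQ h1 ((map_subtype_le _).trans hE₁.1)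
        (R.2.map E₁.subtype) hRQ))
  · exfalso
    obtain ⟨A, hAE, hA⟩ := exists_plane_in_compl hG hM hE h2
    have hAn := (hA.isExceptional hG hM).le_normalizer_of_compl hG hM hE hAE
    haveI : IsMulCommutative A := hA.elem.1
    have hrq : q ≠ r := fun e => h2.2.2.2 (e ▸ hq1.2.2.2.2)
    have hcA : ∀ {m : ℕ}, m.Prime → m ≠ r → (Nat.card A).Coprime m := fun {m} hm hmr => by
      rw [hA.card]
      exact ((Nat.coprime_primes hr hm).mpr hmr.symm).pow_left 2
    have hdec := (Coprime.abelian_decomposition (V := A) (hQE.trans hAn)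
      (by rw [hQ]; exact (hcA Fact.out hrq).symm)).2
    have hAX : A ≤ centralizer (X : Set G) := by
      rw [← hdec]
      refine sup_le (fun a ha => ?_) (hcomm A hAE (hQE.trans hAn) (hcA hp.out hrp.symm))
      by_cases ha1 : a = 1
      · rw [ha1]; exact one_mem _
      exact hline a ⟨hAE ha.1, ha.2⟩
        (by rw [orderOf_eq_prime (hA.elem.2 a ha.1) ha1]; exact hr)
    have h := le_inf hXσ (le_centralizer_iff.mp hAX)
    rw [hA.fixed_eq_bot hG hM] at h
    exact hX1 (le_bot_iff.mp h)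
  · obtain ⟨E₃, hE₃, -⟩ := exists_hall_ge (π := tau3 M) hEs (bot_le : (⊥ : Subgroup G) ≤ E)
      (fun s hs hd => absurd (card_bot (G := G) ▸ hd) hs.not_dvd_one)
    have hE₃n := tau3_hall_normal hG hM hE hE₃
    haveI := tau3_hall_cyclic hG hM hE hE₃
    obtain ⟨R⟩ : Nonempty (Sylow r E₃) := inferInstance
    obtain ⟨T', hT'⟩ := exists_sylow_of_relIndex hE₃.1 (hE₃.2.2 r hr h3) R
    refine ⟨T', ?_⟩
    rw [hT']
    set R' := (R : Subgroup E₃).map E₃.subtype with hR'
    have hRE : R' ≤ E := (map_subtype_le _).trans hE₃.1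
    have hQR : Q ≤ normalizer (R' : Set G) :=
      Coprime.le_normalizer_map_of_characteristic (hQE.trans hE₃n) _
        (Sylow.characteristic_of_normal R inferInstance)
    have hRp : IsPGroup r R' := R.2.map _
    obtain ⟨j, hj⟩ := IsPGroup.iff_card.mp hRp
    have hrq : q ≠ r := fun e => hq1.2.2.2.1 (e ▸ h3.2.2.1)
    have hdec := Coprime.commutator_sup_centralizer hQR
      (by rw [hQ, hj]; exact ((Nat.coprime_primes Fact.out hr).mpr hrq).pow_right j)
      (Or.inr (Coprime.isSolvable_of_le hRE hEs))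
    by_cases hC : R' ⊓ centralizer (Q : Set G) = ⊥
    · rw [hC, sup_bot_eq] at hdec
      rw [← hdec]
      exact hcomm R' hRE hQR (by rw [hj]; exact ((Nat.coprime_primes hr hp.out).mpr hrp).pow_left j)
    · obtain ⟨z, hz, hzr, hz1, -⟩ := exists_zpowers_card (hRp.to_le inf_le_left) hC
      have hzX := hline z ⟨hRE hz.1, hz.2⟩ (by rw [orderOf_eq_prime hzr hz1]; exact hr)
      have hT1 : (T' : Subgroup E) ≠ ⊥ := fun e => by
        rw [e, Subgroup.map_bot] at hT'
        exact hz1 (mem_bot.mp (hT'.symm ▸ hz.1 : z ∈ (⊥ : Subgroup G)))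
      have h5 := Cfsg.Agent.S1427.result hG M hM E hE r T' hT1
        (compl_isCyclic_sylow hG hM hE h3.2.2.2 T') z (hT'.symm ▸ hz.1) hz1
      rw [← hT', le_centralizer_iff]
      intro x hx
      have h6 : x ∈ sigmaCore M ⊓ centralizer ({z} : Set G) :=
        ⟨hXσ hx, mem_centralizer_singleton_iff.mpr (mem_centralizer_iff.mp hzX x hx)⟩
      rw [h5] at h6
      exact h6.2

/-- BG 13.6. -/
theorem unique_of_tau1_fixed {q : ℕ} [Fact q.Prime] (hq1 : q ∈ tau1 M)
    {Q : Subgroup G} (hQ : Nat.card Q = q) (hQM : Q ≤ M) {x : G}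
    (hx : x ∈ sigmaCore M ⊓ centralizer (Q : Set G)) (hx1 : x ≠ 1) (hxp : x ^ p = 1) :
    centralizer ({x} : Set G) ≤ M ∧
      ∀ L : Subgroup G, IsCoatom L → centralizer ({x} : Set G) ≤ L → L = M := by
  have hxo : orderOf x = p := orderOf_eq_prime hxp hx1
  have hpσ : p ∈ sigma M :=
    piNum_sigmaCore M p hp.out (hxo ▸ Subgroup.orderOf_dvd_natCard _ hx.1)
  refine unique_centralizer_line hG hM hpσ (sigmaCore_le M hx.1) hx1 hxp ?_
  by_cases hβ : p ∈ beta M
  · exact Or.inl hβ
  · exact Or.inr (le_derived_of_tau1_fixed hG hM hβ hq1 hQ hQM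
      (X := zpowers x) (by rw [Nat.card_zpowers, hxo]) (zpowers_le.mpr hx) (mem_zpowers x))

end Cfsg.Agent.OddLocal
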