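import Cfsg.Agent.OddLocal.SigmaDisjoint
import Cfsg.Agent.OddLocal.CriticalFixed

/-!
Tools for BG 13.4: `M = M_β N_M(S)`, forcing primes into `β`, odd operator groups on planes.
-/

set_option autoImplicit false
set_option linter.unusedSectionVars false
set_option linter.style.haveILetI false

namespace Cfsg.Agent.OddLocal

open Subgroup Cfsg
open scoped commutatorElement

universe u

variable {G : Type u} [Group G] [Finite G] {p : ℕ} [hp : Fact p.Prime] {M L A : Subgroup G}

omit hp in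
theorem mem_of_isPiHallOf_normal {π : Set ℕ} {B M : Subgroup G} (hB : IsPiHallOf π B M)
    (hMB : M ≤ normalizer (B : Set G)) {X : Subgroup G} (hXM : X ≤ M) (hX : PiNum π X) : X ≤ B := by
  intro y hy
  haveI : (B.subgroupOf M).Normal := normal_subgroupOf_of_le_normalizer hMB
  set f := QuotientGroup.mk' (B.subgroupOf M) with hf
  suffices h : f ⟨y, hXM hy⟩ = 1 from mem_subgroupOf.mp ((QuotientGroup.eq_one_iff _).mp h)
  rw [← orderOf_eq_one_iff]
  by_contra hne
  obtain ⟨r, hr, hrd⟩ := Nat.exists_prime_and_dvd hne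
  have h2 : r ∣ B.relIndex M := hrd.trans (_root_.orderOf_dvd_natCard _)
  have h1 : r ∣ Nat.card X := hrd.trans ((orderOf_map_dvd f _).trans (by
    rw [← orderOf_coe]
    exact Subgroup.orderOf_dvd_natCard _ hy))
  exact hB.2.2 r hr (hX r hr h1) h2

omit hp in
theorem card_sup_dvd_mul {B K : Subgroup G} (h : K ≤ normalizer (B : Set G)) :
    Nat.card ↥(B ⊔ K) ∣ Nat.card B * Nat.card K := by
  haveI : (B.subgroupOf (B ⊔ K)).Normal :=
    normal_subgroupOf_of_le_normalizer (sup_le Subgroup.le_normalizer h)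
  have h1 := Core.card_sup_mul_card_inf (K.subgroupOf (B ⊔ K)) (B.subgroupOf (B ⊔ K))
  rw [← subgroupOf_sup le_sup_right le_sup_left, sup_comm K B, subgroupOf_self,
    Coprime.card_subgroupOf le_sup_left, Coprime.card_subgroupOf le_sup_right,
    Nat.mul_comm (Nat.card K)] at h1
  rw [card_top] at h1
  exact Dvd.intro _ h1

/-- A cyclic Sylow subgroup meeting the derived group lies in it. -/
theorem le_derived_of_cyclic (P : Sylow p M) (hc : IsCyclic (P : Subgroup M))
    (hd : p ∣ Nat.card ↥⁅M, M⁆) : (P : Subgroup M).map M.subtype ≤ ⁅M, M⁆ := by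
  rw [commutator_eq_map_subtype M] at hd ⊢
  rw [card_map_of_injective M.subtype_injective] at hd
  haveI := hc
  have hi := (Sylow.not_dvd_card_commutator_or_not_dvd_index_commutator P).resolve_left
    (not_not_intro hd)
  refine map_mono (Core.le_of_coprime_index ?_)
  obtain ⟨n, hn⟩ := IsPGroup.iff_card.mp P.2
  rw [hn]
  exact (hp.out.coprime_iff_not_dvd.mpr hi).pow_left n

omit hp in
/-- Commutators of operators fixing a line of a plane act trivially. -/
theorem commutator_fix_line {A : Subgroup G} {p : ℕ} [Fact p.Prime] (hA : IsElementaryAbelian p A)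
    (hA2 : Nat.card A = p ^ 2) {x k r : G} (hxA : x ∈ A) (hx1 : x ≠ 1)
    (hk : k ∈ normalizer (A : Set G)) (hr : r ∈ normalizer (A : Set G)) (hkx : Commute k x)
    (hrx : Commute r x) (hcop : (orderOf ⁅k, r⁆).Coprime p) : ⁅k, r⁆ ∈ centralizer (A : Set G) := by
  set N := zpowers x with hN
  have hNA : N ≤ A := zpowers_le.mpr hxA
  have hNc : Nat.card N = p := by rw [hN, Nat.card_zpowers, orderOf_eq_prime (hA.2 x hxA) hx1]
  have hfix : ∀ {g : G}, Commute g x → ∀ n ∈ N, g * n * g⁻¹ = n := by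
    intro g hg n hn
    obtain ⟨i, rfl⟩ := mem_zpowers_iff.mp hn
    rw [(hg.zpow_right i).eq, mul_inv_cancel_right]
  haveI : IsMulCommutative A := hA.1
  -- `A = ⟨x⟩⟨a⟩` for every `a` outside `⟨x⟩`
  have hgen : ∀ a ∈ A, a ∉ N → ∀ b ∈ A, ∃ i : ℤ, ∃ n ∈ N, b = a ^ i * n := by
    intro a ha haN b hb
    have hle : zpowers a ⊔ N ≤ A := sup_le (zpowers_le.mpr ha) hNA
    have hlt : N < zpowers a ⊔ N := lt_of_le_of_ne le_sup_right fun e =>
      haN (e ▸ mem_sup_left (mem_zpowers a))
    have heq : zpowers a ⊔ N = A := by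
      refine eq_of_le_of_card_ge hle ?_
      obtain ⟨j, -, hj⟩ := (Nat.dvd_prime_pow (Fact.out : p.Prime)).mp (hA2 ▸ card_dvd_of_le hle)
      rw [hA2, hj]
      refine Nat.pow_le_pow_right (Fact.out : p.Prime).pos ?_
      by_contra hcon
      have h1 : Nat.card ↥(zpowers a ⊔ N) ≤ p := hj ▸ (Nat.pow_le_pow_right
        (Fact.out : p.Prime).pos (show j ≤ 1 by omega)).trans (pow_one p).le
      exact hlt.ne (eq_of_le_of_card_ge hlt.le (hNc.symm ▸ h1))
    rw [← heq] at hb
    obtain ⟨u, hu, n, hn, rfl⟩ := (Coprime.mem_sup_of_le_normalizer (N := zpowers a) (A := N)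
      (fun n hn => mem_normalizer_iff.mpr fun z => by
        constructor
        · intro hz
          rwa [setLike_mul_comm (hNA hn) ((zpowers_le.mpr ha) hz), mul_inv_cancel_right]
        · intro hz
          have hzA : n * z * n⁻¹ ∈ A := zpowers_le.mpr ha hz
          have e : n * z * n⁻¹ = z := by
            have h := setLike_mul_comm (hNA hn) hzA
            calc n * z * n⁻¹ = n⁻¹ * (n * (n * z * n⁻¹)) := by group
              _ = n⁻¹ * (n * z * n⁻¹ * n) := by rw [h]
              _ = z := by group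
          rwa [e] at hz)).mp hb
    obtain ⟨i, rfl⟩ := mem_zpowers_iff.mp hu
    exact ⟨i, n, hn, rfl⟩
  have hact : ∀ a ∈ A, a ∉ N → ∃ i j : ℤ, ∃ m n, m ∈ N ∧ n ∈ N ∧ k * a * k⁻¹ = a ^ i * m ∧
      r * a * r⁻¹ = a ^ j * n := fun a ha haN => by
    obtain ⟨i, m, hm, h1⟩ := hgen a ha haN _ ((mem_normalizer_iff.mp hk a).mp ha)
    obtain ⟨j, n, hn, h2⟩ := hgen a ha haN _ ((mem_normalizer_iff.mp hr a).mp ha)
    exact ⟨i, j, m, n, hm, hn, h1, h2⟩
  set c := ⁅k, r⁆ with hc
  have hcN : ∀ a ∈ A, ∃ n ∈ N, c * a * c⁻¹ = a * n := by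
    intro a ha
    by_cases haN : a ∈ N
    · refine ⟨1, one_mem _, ?_⟩
      rw [mul_one]
      refine hfix ?_ a haN
      rw [hc, commutatorElement_def]
      exact ((hkx.mul_left hrx).mul_left hkx.inv_left).mul_left hrx.inv_left
    obtain ⟨b, hb⟩ : ∃ b, b = (r * k) * a * (r * k)⁻¹ := ⟨_, rfl⟩
    have hbA : b ∈ A := hb ▸ (mem_normalizer_iff.mp (mul_mem hr hk) a).mp ha
    obtain ⟨i, j, m, n, hm, hn, h1, h2⟩ := hact a ha haN
    have hkr : k * r * a * (k * r)⁻¹ = (a ^ i) ^ j * (m ^ j * n) := by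
      calc k * r * a * (k * r)⁻¹ = k * (r * a * r⁻¹) * k⁻¹ := by group
        _ = (k * a * k⁻¹) ^ j * (k * n * k⁻¹) := by rw [h2, conj_zpow]; group
        _ = (a ^ i * m) ^ j * n := by rw [h1, hfix hkx n hn]
        _ = (a ^ i) ^ j * (m ^ j * n) := by
          rw [(show Commute (a ^ i) m from setLike_mul_comm (A.zpow_mem ha i) (hNA hm)).mul_zpow,
            mul_assoc]
    have hrk : b = (a ^ i) ^ j * (n ^ i * m) := by
      calc b = r * (k * a * k⁻¹) * r⁻¹ := by rw [hb]; group
        _ = (r * a * r⁻¹) ^ i * (r * m * r⁻¹) := by rw [h1, conj_zpow]; group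
        _ = (a ^ j * n) ^ i * m := by rw [h2, hfix hrx m hm]
        _ = (a ^ i) ^ j * (n ^ i * m) := by
          rw [(show Commute (a ^ j) n from setLike_mul_comm (A.zpow_mem ha j) (hNA hn)).mul_zpow,
            mul_assoc, ← zpow_mul, ← zpow_mul, mul_comm]
    obtain ⟨w, hw, hwb⟩ : ∃ w ∈ N, c * b * c⁻¹ = b * w := by
      refine ⟨(n ^ i * m)⁻¹ * (m ^ j * n), mul_mem (inv_mem (mul_mem (zpow_mem hn i) hm))
        (mul_mem (zpow_mem hm j) hn), ?_⟩
      calc c * b * c⁻¹ = k * r * a * (k * r)⁻¹ := by rw [hc, hb, commutatorElement_def]; group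
        _ = b * ((n ^ i * m)⁻¹ * (m ^ j * n)) := by rw [hkr, hrk]; group
    have hbN : b ∉ N := fun hbn => haN (by
      have h := hfix ((hrx.mul_left hkx).inv_left) b hbn
      have e : (r * k)⁻¹ * b * (r * k)⁻¹⁻¹ = a := by rw [hb]; group
      rw [e] at h
      exact h ▸ hbn)
    obtain ⟨s, t, ht, hst⟩ := hgen b hbA hbN a ha
    have hct : c * t * c⁻¹ = t := hfix (by
      rw [hc, commutatorElement_def]
      exact ((hkx.mul_left hrx).mul_left hkx.inv_left).mul_left hrx.inv_left) t ht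
    refine ⟨w ^ s, zpow_mem hw s, ?_⟩
    have hcm : Commute (w ^ s) t := setLike_mul_comm (hNA (zpow_mem hw s)) (hNA ht)
    calc c * a * c⁻¹ = (c * b * c⁻¹) ^ s * (c * t * c⁻¹) := by rw [hst, conj_zpow]; group
      _ = (b * w) ^ s * t := by rw [hwb, hct]
      _ = b ^ s * (w ^ s * t) := by
        rw [(show Commute b w from setLike_mul_comm hbA (hNA hw)).mul_zpow, mul_assoc]
      _ = a * w ^ s := by rw [hcm.eq, ← mul_assoc, ← hst]
  -- a coprime element stabilising the chain acts trivially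
  rw [mem_centralizer_iff]
  intro a ha
  obtain ⟨w, hw, hwa⟩ := hcN a ha
  have hcw : c * w * c⁻¹ = w := hfix (by
    rw [hc, commutatorElement_def]
    exact ((hkx.mul_left hrx).mul_left hkx.inv_left).mul_left hrx.inv_left) w hw
  have hit : ∀ m : ℕ, c ^ m * a * (c ^ m)⁻¹ = a * w ^ m := by
    intro m
    induction m with
    | zero => simp
    | succ m ih =>
      calc c ^ (m + 1) * a * (c ^ (m + 1))⁻¹ = c * (c ^ m * a * (c ^ m)⁻¹) * c⁻¹ := by
            rw [pow_succ']; group
        _ = (c * a * c⁻¹) * (c * w * c⁻¹) ^ m := by rw [ih, conj_pow]; group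
        _ = a * w ^ (m + 1) := by rw [hwa, hcw, mul_assoc, ← pow_succ']
  have h1 := hit (orderOf c)
  rw [pow_orderOf_eq_one, one_mul, inv_one, mul_one, left_eq_mul] at h1
  have hw1 : w = 1 := by
    rw [← orderOf_eq_one_iff]
    exact Nat.eq_one_of_dvd_coprimes hcop.symm (orderOf_dvd_of_pow_eq_one (hA.2 w (hNA hw)))
      (orderOf_dvd_of_pow_eq_one h1)
  rw [hw1, mul_one, mul_inv_eq_iff_eq_mul] at hwa
  exact hwa.symm

/-- In a solvable group of odd order normalising a plane centralised by a Sylow subgroup, commutators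
centralise the plane. -/
theorem commutator_centralizes_plane (hA : IsElementaryAbelian p A) (hA2 : Nat.card A = p ^ 2)
    (hp2 : p ≠ 2) {W : Subgroup G} (hW : Group.IsSolvable W) (hodd : Odd (Nat.card W))
    (hWA : W ≤ normalizer (A : Set G)) (Q : Sylow p G) (hQW : (Q : Subgroup G) ≤ W)
    (hQA : (Q : Subgroup G) ≤ centralizer (A : Set G)) :
    ⁅W, W⁆ ≤ centralizer (A : Set G) := by
  set f := NilpotentPrimeAction.conjHom hWA with hf
  haveI := hW
  haveI : Group.IsSolvable f.range := Group.isSolvable_of_surjective f.rangeRestrict_surjective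
  have hodd' : Odd (Nat.card f.range) := hodd.of_dvd_nat (Subgroup.card_range_dvd f)
  have hcop : ¬ p ∣ Nat.card f.range := by
    rw [← Subgroup.index_ker]
    intro hd
    refine Sylow.not_dvd_index (Q.subtype hQW) (hd.trans (index_dvd_of_le ?_))
    intro w hw
    rw [Sylow.coe_subtype, mem_subgroupOf] at hw
    exact MonoidHom.mem_ker.mpr ((NilpotentPrimeAction.conjHom_eq_one hWA w).mpr (hQA hw))
  rw [commutator_le]
  intro a ha b hb
  set y := f.rangeRestrict ⁅(⟨a, ha⟩ : W), (⟨b, hb⟩ : W)⁆ with hy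
  have hyc : y ∈ commutator f.range := by
    rw [hy, map_commutatorElement]
    exact commutator_mem_commutator (mem_top _) (mem_top _)
  have hcm : ∀ u v : A, u * v = v * u := fun u v => Subtype.ext (Coprime.ea_comm hA u.2 v.2)
  have h1 := pow_eq_one_mulAut_of_le hp2 hcm
    (fun x : A => Subtype.ext (by simpa using hA.2 x x.2)) le_rfl hA2 hodd' f.range.subtype
    f.range.subtype_injective hyc
  have h2 : y = 1 := by
    rw [← orderOf_eq_one_iff]
    exact Nat.eq_one_of_dvd_coprimes (hp.out.coprime_iff_not_dvd.mpr hcop)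
      (orderOf_dvd_of_pow_eq_one h1) (_root_.orderOf_dvd_natCard y)
  have h3 : f ⁅(⟨a, ha⟩ : W), (⟨b, hb⟩ : W)⁆ = 1 := congrArg Subtype.val h2
  have h4 := (NilpotentPrimeAction.conjHom_eq_one hWA _).mp h3
  simpa [commutatorElement_def] using h4

variable (hG : IsMinSimpleOddOrder G) (hM : IsCoatom M)
include hG hM

/-- `M = M_β N_M(S)` for a Sylow subgroup in `M'` at a prime outside `β(M)`. -/
theorem le_betaCore_sup_normalizer_derived (hpβ : p ∉ beta M) (S : Sylow p M)
    (hSD : (S : Subgroup M).map M.subtype ≤ ⁅M, M⁆) :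
    M ≤ piCoreOf (beta M) M ⊔ (M ⊓ normalizer ((S : Subgroup M).map M.subtype : Set G)) := by
  obtain ⟨hHall, -, ⟨H₀, hH₀, hH₀n⟩, -⟩ := Cfsg.Agent.S1414.result hG M hM
  set B := piCoreOf (beta M) M with hB
  set S' := (S : Subgroup M).map M.subtype with hS'
  set D := ⁅M, M⁆ with hD
  have hDM : D ≤ M := commutator_le_self M
  haveI hMs := isSolvable_coatom hG hM
  have hDs : Group.IsSolvable D := Coprime.isSolvable_of_le hDM hMs
  obtain ⟨H₁, hH₁, -, hSH₁⟩ := Coprime.exists_le_invariant_hall (A := (⊥ : Subgroup G)) (K := D)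
    bot_le (by rw [card_bot]; exact Nat.coprime_one_left _) hDs hSD bot_le
    (π := {r | r.Prime ∧ r ∉ beta M}) (fun r hr hd => by
      obtain ⟨j, hj⟩ := IsPGroup.iff_card.mp (S.2.map M.subtype)
      rw [(Nat.prime_dvd_prime_iff_eq hr hp.out).mp (hr.dvd_of_dvd_pow (hj ▸ hd))]
      exact ⟨hp.out, hpβ⟩)
  have hH₁n : Group.IsNilpotent H₁ := by
    obtain ⟨d, -, hd⟩ := Coprime.exists_conj_isPiHallOf hDs hH₀ hH₁
    rw [← hd]
    exact Group.nilpotent_of_mulEquiv (H₀.equivSMul (MulAut.conj d))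
  have hH₁M : H₁ ≤ M := hH₁.1.trans hDM
  have hH₁N : H₁ ≤ normalizer (S' : Set G) := by
    obtain ⟨T, hT⟩ := exists_sylow_ge (S.2.map M.subtype) hSH₁
    have hTS : (T : Subgroup H₁).map H₁.subtype = S' := by
      have hle : (T : Subgroup H₁).map H₁.subtype ≤ M := (map_subtype_le _).trans hH₁M
      refine le_antisymm (fun t ht => ?_) hT
      have h1 := S.3 ((T.2.map H₁.subtype).comap_of_injective _ M.subtype_injective)
        (fun x hx => hT (mem_map_of_mem _ hx))
      exact ⟨⟨t, hle ht⟩, h1 ▸ ht, rfl⟩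
    haveI := hH₁n
    have hTn : (T : Subgroup H₁).Normal := inferInstance
    rw [← hTS]
    exact Coprime.le_normalizer_map_of_characteristic Subgroup.le_normalizer _
      (Sylow.characteristic_of_normal T hTn)
  have hBn : M ≤ normalizer (B : Set G) := le_normalizer_piCoreOf _ _
  have hDle : D ≤ B ⊔ H₁ := by
    refine Coprime.le_of_forall_sylow_le fun r hr => ?_
    haveI := Fact.mk hr
    by_cases hrβ : r ∈ beta M
    · obtain ⟨R⟩ : Nonempty (Sylow r D) := inferInstance
      exact ⟨R, le_trans (mem_of_isPiHallOf_normal hHall hBn ((map_subtype_le _).trans hDM)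
        (piNum_of_isPGroup hrβ (R.2.map D.subtype))) le_sup_left⟩
    · obtain ⟨R⟩ : Nonempty (Sylow r H₁) := inferInstance
      have hle : (R : Subgroup H₁).map H₁.subtype ≤ D := (map_subtype_le _).trans hH₁.1
      have hc : Nat.card ↥(((R : Subgroup H₁).map H₁.subtype).subgroupOf D) =
          r ^ (Nat.card D).factorization r := by
        have h1 := Coprime.card_mul_relIndex_of_le hH₁.1
        rw [Coprime.card_subgroupOf hle, card_map_of_injective H₁.subtype_injective,
          R.card_eq_multiplicity, ← h1, Nat.factorization_mul Nat.card_pos.ne'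
            (fun e => by rw [e, mul_zero] at h1; exact Nat.card_pos.ne h1), Finsupp.add_apply,
          Nat.factorization_eq_zero_of_not_dvd (hH₁.2.2 r hr ⟨hr, hrβ⟩), add_zero]
      refine ⟨Sylow.ofCard _ hc, ?_⟩
      rw [Sylow.coe_ofCard, map_subgroupOf_eq_of_le hle]
      exact (map_subtype_le _).trans le_sup_right
  haveI : (D.subgroupOf M).Normal := normal_subgroupOf_of_le_normalizer fun m hm =>
    mem_normalizer_of_map_conj (by
      rw [hD, map_commutator, map_conj_eq_self_of_mem (Subgroup.le_normalizer hm)])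
  have hfr := Sylow.normalizer_sup_eq_top' (N := D.subgroupOf M) S (by
    intro x hx
    exact mem_subgroupOf.mpr (hSD (mem_map_of_mem _ hx)))
  have hsub : (normalizer ((S : Sylow p M) : Set M) ⊔ D.subgroupOf M).map M.subtype ≤
      B ⊔ (M ⊓ normalizer (S' : Set G)) := by
    rw [Subgroup.map_sup, sup_le_iff]
    refine ⟨le_trans (le_inf (map_subtype_le _) (Subgroup.le_normalizer_map _)) le_sup_right, ?_⟩
    rw [map_subgroupOf_eq_of_le hDM]
    exact hDle.trans (sup_le le_sup_left ((le_inf hH₁M hH₁N).trans le_sup_right))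
  intro m hm
  refine hsub ⟨⟨m, hm⟩, ?_, rfl⟩
  rw [hfr]
  exact mem_top _

/-- A prime of `σ(M)` prime to `|H'|` lies in `β(M)` when `H` contains the normaliser of a suitable
Sylow subgroup of `M'`. -/
theorem mem_beta_of_normalizer_le (hpσ : p ∈ sigma M) {H : Subgroup G}
    (hpH : ¬ p ∣ Nat.card ↥⁅H, H⁆) {q : ℕ} [Fact q.Prime] (hqβ : q ∉ beta M) (S : Sylow q M)
    (hSD : (S : Subgroup M).map M.subtype ≤ ⁅M, M⁆)
    (hN : M ⊓ normalizer ((S : Subgroup M).map M.subtype : Set G) ≤ H) : p ∈ beta M := by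
  by_contra hpβ
  set B := piCoreOf (beta M) M with hB
  set N := M ⊓ normalizer ((S : Subgroup M).map M.subtype : Set G) with hNdef
  have hBn : M ≤ normalizer (B : Set G) := le_normalizer_piCoreOf _ _
  have hM' : M = B ⊔ N := le_antisymm (le_betaCore_sup_normalizer_derived hG hM hqβ S hSD)
    (sup_le (piCoreOf_le _ _) inf_le_left)
  have h1 : ⁅M, M⁆ ≤ B ⊔ ⁅N, N⁆ := commutator_le_sup_of_eq hBn hM'
  have hNB : ⁅N, N⁆ ≤ normalizer (B : Set G) :=
    ((commutator_le_self N).trans inf_le_left).trans hBn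
  have hpM' : p ∣ Nat.card ↥⁅M, M⁆ := by
    obtain ⟨T⟩ : Nonempty (Sylow p M) := inferInstance
    refine dvd_trans ?_ (card_dvd_of_le (sylow_le_commutator_of_sigma hG hM hpσ T))
    rw [card_map_of_injective M.subtype_injective]
    exact T.dvd_card_of_dvd_card hpσ.2.1
  have hd : p ∣ Nat.card B * Nat.card ↥⁅N, N⁆ := by
    refine hpM'.trans ((card_dvd_of_le h1).trans ?_)
    exact card_sup_dvd_mul hNB
  rcases hp.out.dvd_mul.mp hd with h | h
  · exact hpβ (((Cfsg.Agent.S1414.result hG M hM).1).2.1 p hp.out h)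
  · exact hpH (h.trans (card_dvd_of_le (commutator_mono hN hN)))

/-- BG 13.4, first step: for `p ∈ β(M)`, only `M` contains `C(X)`. -/
theorem unique_of_beta_centralizer (hpβ : p ∈ beta M) {r : ℕ} [Fact r.Prime] (hr : r ∈ tau1 M)
    {P R X : Subgroup G} (hP : Nat.card P = p) (hR : Nat.card R = r) (hPM : P ≤ M) (hRM : R ≤ M)
    (hXM : X ≤ M) (hRP : R ≤ centralizer (P : Set G)) (hXP : X ≤ centralizer (P : Set G))
    {q : ℕ} [Fact q.Prime] (hXq : IsPGroup q X) (hqp : q ≠ p) (hqβ : q ∉ beta M)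
    (hRX : R ≤ normalizer (X : Set G)) (hfix : X ⊓ centralizer (R : Set G) = ⊥) {H : Subgroup G}
    (hH : IsCoatom H) (hXH : centralizer (X : Set G) ≤ H) : H = M := by
  have hpα : p ∈ alpha M := hpβ.1
  have hrp : r ≠ p := fun e => hr.2.1 (alpha_subset_sigma hG hM (e ▸ hpα))
  have hp2 : p ≠ 2 := by
    intro e
    exact absurd (hG.1.of_dvd_nat ((alpha_subset_sigma hG hM hpα).2.1.trans
      (card_subgroup_dvd_card M))) (by rw [e]; decide)
  have hPp : IsPGroup p P := IsPGroup.of_card (n := 1) (by rw [hP, pow_one])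
  have hHall := (Cfsg.Agent.S1414.result hG M hM).1
  set B := piCoreOf (beta M) M with hB
  have hBn : M ≤ normalizer (B : Set G) := le_normalizer_piCoreOf _ _
  have hPB : P ≤ B := mem_of_isPiHallOf_normal hHall hBn hPM (piNum_of_isPGroup hpβ hPp)
  set A := X ⊔ R with hA
  have hAc : (Nat.card A).Coprime p := by
    have hR' : Nat.card R = r ^ 1 := by rw [hR, pow_one]
    obtain ⟨j, hj⟩ := IsPGroup.iff_card.mp hXq
    have hd : Nat.card A ∣ Nat.card X * Nat.card R :=
      card_sup_dvd_mul hRX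
    refine Nat.Coprime.coprime_dvd_left hd ?_
    rw [hj, hR']
    exact ((((Nat.coprime_primes Fact.out hp.out).mpr hqp).pow_left j)).mul_left
      (((Nat.coprime_primes Fact.out hp.out).mpr hrp).pow_left 1)
  obtain ⟨T, hAT, hPT⟩ : ∃ T : Sylow p B, A ≤ normalizer ((T : Subgroup B).map B.subtype : Set G) ∧
      P ≤ (T : Subgroup B).map B.subtype := by
    haveI : Group.IsSolvable M := isSolvable_coatom hG hM
    have hBs : Group.IsSolvable B := Coprime.isSolvable_of_le (piCoreOf_le _ _) inferInstance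
    have hAB : A ≤ normalizer (B : Set G) := (sup_le hXM hRM).trans hBn
    have hAP : A ≤ normalizer (P : Set G) :=
      (sup_le hXP hRP).trans (centralizer_le_normalizer _)
    by_cases hcop : (Nat.card A).Coprime (Nat.card B)
    · obtain ⟨T, h1, h2⟩ := Coprime.exists_le_invariant_sylow hAB hcop (Or.inr hBs) hPB hPp hAP
      exact ⟨T, h2, h1⟩
    · exfalso
      refine hcop (Nat.coprime_of_dvd fun s hs hsA hsB => ?_)
      have hsβ := hHall.2.1 s hs hsB
      have hsσ := alpha_subset_sigma hG hM hsβ.1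
      have hd : s ∣ Nat.card X * Nat.card R :=
        hsA.trans (card_sup_dvd_mul hRX)
      rcases hs.dvd_mul.mp hd with h | h
      · obtain ⟨j, hj⟩ := IsPGroup.iff_card.mp hXq
        haveI := Fact.mk hs
        have hsq : s = q := (Nat.prime_dvd_prime_iff_eq hs Fact.out).mp (hs.dvd_of_dvd_pow (hj ▸ h))
        exact hqβ (hsq ▸ hsβ)
      · rw [hR] at h
        exact hr.2.1 ((Nat.prime_dvd_prime_iff_eq hs Fact.out).mp h ▸ hsσ)
  set V := (T : Subgroup B).map B.subtype with hV
  have hVM : V ≤ M := (map_subtype_le _).trans (piCoreOf_le _ _)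
  have hVp : IsPGroup p V := T.2.map _
  obtain ⟨c, hcR, hc1⟩ := exists_mem_ne_one R (fun e => by
    rw [e, card_bot] at hR; exact (Fact.out : r.Prime).ne_one hR.symm)
  have hc : c ^ r = 1 := by
    have h := pow_card_eq_one' (x := (⟨c, hcR⟩ : R))
    rw [hR] at h
    exact congrArg Subtype.val h
  have hcgen : zpowers c = R := eq_of_le_of_card_ge (zpowers_le.mpr hcR)
    (by rw [Nat.card_zpowers, hR, orderOf_eq_prime hc hc1])
  have hcent : centralizer ({c} : Set G) = centralizer (R : Set G) := by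
    rw [← hcgen, zpowers_eq_closure, centralizer_closure]
  -- the elements of order `p` of `C_V(c)` lie in `P`
  set D := V ⊓ centralizer (R : Set G) with hD
  have hDr : PRankLE p 1 D := by
    by_contra hc'
    obtain ⟨E, hED, hEe, hE2⟩ := exists_elementary_of_not_pRankLE (k := 1) hc'
    obtain ⟨E', hE'E, hE'c⟩ := Coprime.ea_exists_le_card (n := 2) hE2 hEe
    have hE'e := Coprime.ea_mono hEe hE'E
    obtain ⟨N, hN, hRN⟩ := (IsCoatomic.eq_top_or_exists_le_coatom
      (normalizer (R : Set G))).resolve_left (ne_top_of_normal_ne_bot hG (fun e => by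
        rw [e, card_bot] at hR; exact (Fact.out : r.Prime).ne_one hR.symm)
          (ne_top_of_not_dvd hM hRM))
    obtain ⟨-, -, hnc⟩ := line_overgroup hG hM (Or.inl hr) hN hR hRN
    have hE'N : E' ≤ N :=
      ((hE'E.trans hED).trans inf_le_right).trans ((centralizer_le_normalizer _).trans hRN)
    have hpN : p ∉ sigma N := fun h => by
      obtain ⟨g, hg⟩ := conj_of_alpha_sigma hG hN hM hpα h
      exact hnc g hg
    exact not_isIdealPrime_of_not_sigma hG hN hpN
      (by_contra fun hc2 => hpN (alpha_subset_sigma hG hN ⟨hp.out, hc2⟩))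
      (not_pRankLE_one_of_plane hE'N hE'e hE'c) hpβ.2
  have hDc : IsCyclic D := isCyclic_of_pRankLE_one hp2 (hVp.to_le inf_le_left) hDr
  have hX : X ≤ centralizer (V : Set G) := by
    refine le_centralizer_of_fixed_omega hp2 hVp (Fact.out : r.Prime) hrp hc (c := c) ?_
      (le_sup_left.trans hAT) (hAT (mem_sup_right hcR)) (hRX hcR) (by rw [hcent]; exact hfix) ?_
    · intro hd
      obtain ⟨j, hj⟩ := IsPGroup.iff_card.mp hXq
      exact hqp ((Nat.prime_dvd_prime_iff_eq hp.out Fact.out).mp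
        (hp.out.dvd_of_dvd_pow (hj ▸ hd))).symm
    intro v hv hvp hcv
    have hvD : v ∈ D := ⟨hv, hcent ▸ mem_centralizer_singleton_iff.mpr hcv.eq.symm⟩
    have hPD : P ≤ D := le_inf hPT (le_centralizer_iff.mp hRP)
    have hvP : v ∈ P := by
      by_cases hv1 : v = 1
      · rw [hv1]; exact one_mem _
      rw [← eq_of_card_eq_of_isCyclic hDc (zpowers_le.mpr hvD) hPD
        (by rw [Nat.card_zpowers, orderOf_eq_prime hvp hv1, hP])]
      exact mem_zpowers v
    exact le_centralizer_iff.mp hXP hvP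
  obtain ⟨E, hEM, hEe, hE3⟩ := exists_elementary_of_not_pRankLE hpα.2
  obtain ⟨Q, hQ⟩ := exists_sylow_ge (Coprime.ea_isPGroup hEe)
    (mem_of_isPiHallOf_normal hHall hBn hEM (piNum_of_isPGroup hpβ (Coprime.ea_isPGroup hEe)))
  obtain ⟨b, hb⟩ := MulAction.exists_smul_eq B Q T
  have hEV : E.map (MulAut.conj (b : G)).toMonoidHom ≤ V := by
    rw [hV, ← hb, map_subtype_sylow_smul]
    exact map_mono hQ
  exact eq_of_unique (inUniqueMaximal_of_elementary_three hG (isElementaryAbelian_map hEe (b : G))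
    (by rw [card_map_conj]; exact hE3)) hM (hEV.trans hVM) hH
    (hEV.trans ((le_centralizer_iff.mp hX).trans hXH))

end Cfsg.Agent.OddLocal
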