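import Cfsg.Agent.OddLocal.ExceptionalNormal
import Cfsg.Agent.Core.KegelWielandt

/-!
BG §12: rank-two elementary subgroups of a maximal subgroup (Proposition 12.4).
-/

set_option autoImplicit false
set_option linter.unusedSectionVars false
set_option linter.style.haveILetI false

namespace Cfsg.Agent.OddLocal

open Subgroup Cfsg
open scoped commutatorElement

universe u

variable {G : Type u} [Group G] [Finite G] {p : ℕ} [hp : Fact p.Prime] {M A : Subgroup G}

variable (hG : IsMinSimpleOddOrder G) (hM : IsCoatom M)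
include hG hM

/-- A `p`-subgroup of `M`, `p ∉ σ(M)`, lies in a complement to `M_σ`. -/
theorem exists_compl_ge {X : Subgroup G} (hX : IsPGroup p X) (hXM : X ≤ M) (hpσ : p ∉ sigma M) :
    ∃ E : Subgroup G, IsComplIn E (sigmaCore M) M ∧ X ≤ E := by
  set K := sigmaCore M with hK
  haveI : (K.subgroupOf M).Normal := normal_subgroupOf_of_le_normalizer (le_normalizer_sigmaCore M)
  obtain ⟨E₀, hE₀⟩ := exists_right_complement'_of_coprime (N := K.subgroupOf M) (by
    rw [Coprime.card_subgroupOf (sigmaCore_le M)]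
    exact Nat.coprime_of_dvd fun r hr h1 h2 =>
      (isPiHallOf_sigmaCore hG hM).2.2 r hr (piNum_sigmaCore M r hr h1) h2)
  set E := E₀.map M.subtype with hEdef
  have hcompl : IsComplIn E K M := by
    refine ⟨map_subtype_le _, sigmaCore_le M, ?_, fun m hm => ?_⟩
    · rw [eq_bot_iff]
      rintro x ⟨⟨e, he, rfl⟩, hxK⟩
      have h1 : e ∈ K.subgroupOf M ⊓ E₀ := ⟨hxK, he⟩
      rw [hE₀.disjoint.eq_bot, mem_bot] at h1
      rw [h1, map_one]
      exact one_mem _
    · obtain ⟨⟨⟨k, hk⟩, ⟨e, he⟩⟩, hke⟩ := hE₀.2 ⟨m, hm⟩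
      change k * e = (⟨m, hm⟩ : M) at hke
      refine ⟨(e : G), mem_map_of_mem _ he, (e : G)⁻¹ * k * e,
        (mem_normalizer_iff''.mp (le_normalizer_sigmaCore M e.2) (k : G)).mp hk, ?_⟩
      have h1 := congrArg Subtype.val hke
      change (k : G) * (e : G) = m at h1
      rw [← h1]
      group
  obtain ⟨PE⟩ : Nonempty (Sylow p E) := inferInstance
  obtain ⟨P, hP⟩ := compl_sylow_exists hG hM hcompl PE hpσ
  obtain ⟨P', hP'⟩ := exists_sylow_ge hX hXM
  obtain ⟨m, hm⟩ := MulAction.exists_smul_eq M P P'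
  refine ⟨E.map (MulAut.conj (m : G)).toMonoidHom, ⟨map_conj_le_of_mem hcompl.1 m.2,
    sigmaCore_le M, ?_, fun x hx => ?_⟩, ?_⟩
  · rw [eq_bot_iff]
    rintro x ⟨⟨e, he, rfl⟩, hxK⟩
    have h1 : e ∈ E ⊓ K := ⟨he, (mem_normalizer_iff.mp (le_normalizer_sigmaCore M m.2) e).mpr hxK⟩
    rw [hcompl.2.2.1, mem_bot] at h1
    rw [h1, map_one]
    exact one_mem _
  · obtain ⟨e, he, k, hk, hek⟩ := hcompl.2.2.2 ((m : G)⁻¹ * x * m)
      (M.mul_mem (M.mul_mem (M.inv_mem m.2) hx) m.2)
    refine ⟨_, mem_map_of_mem _ he, _, (mem_normalizer_iff.mp (le_normalizer_sigmaCore M m.2) k).mp hk,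
      ?_⟩
    calc x = m * ((m : G)⁻¹ * x * m) * (m : G)⁻¹ := by group
      _ = (MulAut.conj (m : G)).toMonoidHom e * (m * k * (m : G)⁻¹) := by
        rw [hek, MulEquiv.coe_toMonoidHom, MulAut.conj_apply]; group
  · refine hP'.trans ?_
    rw [← hm, map_subtype_sylow_smul, hP]
    exact map_mono (map_subtype_le _)

namespace IsExceptional

variable (h : IsExceptional p M A)
include h

/-- BG 11.7: `M` normalises `M_σ A`. -/
theorem le_normalizer_sup : M ≤ normalizer ((sigmaCore M ⊔ A : Subgroup G) : Set G) := by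
  obtain ⟨E, hE, hAE⟩ := exists_compl_ge hG hM (Coprime.ea_isPGroup h.elem) h.le h.not_sigma
  have hn := h.le_normalizer_of_compl hG hM hE hAE
  have hAK : A ≤ normalizer (sigmaCore M : Set G) := h.le.trans (le_normalizer_sigmaCore M)
  intro m hm
  obtain ⟨e, he, k, hk, rfl⟩ := hE.2.2.2 m hm
  refine mul_mem (mem_normalizer_of_map_conj ?_) (Subgroup.le_normalizer (mem_sup_left hk))
  rw [Subgroup.map_sup, map_conj_eq_self_of_mem (le_normalizer_sigmaCore M (hE.1 he)),
    map_conj_eq_self_of_mem (hn he)]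

/-- For `q ∉ σ(M)`, `A` centralises the `q`-subgroups `[R, A]` lying in no cyclic part. -/
theorem le_centralizer_of_not_sigma {q : ℕ} [hq : Fact q.Prime] (hqp : q ≠ p) (hqσ : q ∉ sigma M)
    {R : Subgroup G} (hR : IsPGroup q R) (hRM : R ≤ M) (hAR : A ≤ normalizer (R : Set G)) :
    A ≤ centralizer (R : Set G) := by
  set B := sigmaCore M ⊔ A with hB
  have h1 : ⁅R, A⁆ ≤ R ⊓ B := by
    refine le_inf (Coprime.commutator_le_of_le_normalizer hAR) ?_
    rw [commutator_le]
    intro r hr a ha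
    rw [commutatorElement_def]
    exact B.mul_mem ((mem_normalizer_iff.mp (h.le_normalizer_sup hG hM (hRM hr)) a).mp
      (mem_sup_right ha)) (B.inv_mem (mem_sup_right ha))
  have hcard : Nat.card B ∣ Nat.card (sigmaCore M) * Nat.card A := by
    exact Core.card_sup_dvd_of_le_normalizer (h.le.trans (le_normalizer_sigmaCore M))
  have hbot : R ⊓ B = ⊥ := by
    refine Coprime.inf_eq_bot_of_coprime ?_
    obtain ⟨k, hk⟩ := IsPGroup.iff_card.mp hR
    rw [hk]
    refine Nat.Coprime.pow_left k (hq.out.coprime_iff_not_dvd.mpr fun hd => ?_)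
    rcases hq.out.dvd_mul.mp (hd.trans hcard) with e | e
    · exact hqσ (piNum_sigmaCore M q hq.out e)
    · exact h.toIsTauPair.not_dvd hq.out hqp e
  rw [hbot, le_bot_iff, commutator_eq_bot_iff_le_centralizer] at h1
  exact le_centralizer_iff.mp h1

end IsExceptional

omit hp in
theorem exists_other_maximal {A₀ : Subgroup G} (hA₀ : A₀ ≠ ⊥) (hA₀M : A₀ ≤ M)
    (hno : ¬ (normalizer (A₀ : Set G) ≤ M ∧
      ∀ L : Subgroup G, IsCoatom L → normalizer (A₀ : Set G) ≤ L → L = M)) :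
    ∃ H : Subgroup G, IsCoatom H ∧ H ≠ M ∧ normalizer (A₀ : Set G) ≤ H := by
  by_cases hN : normalizer (A₀ : Set G) ≤ M
  · push Not at hno
    obtain ⟨L, hL, hle, hne⟩ := hno hN
    exact ⟨L, hL, hne, hle⟩
  · obtain ⟨H, hH, hle⟩ := (IsCoatomic.eq_top_or_exists_le_coatom
      (normalizer (A₀ : Set G))).resolve_left
      (ne_top_of_normal_ne_bot hG hA₀ (ne_top_of_not_dvd hM hA₀M))
    exact ⟨H, hH, fun e => hN (e ▸ hle), hle⟩

section Main

variable (hAM : A ≤ M) (hA : IsElementaryAbelian p A) (hA2 : Nat.card A = p ^ 2)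
  (hno : ∀ A₀ : Subgroup G, A₀ ≤ A → Nat.card A₀ = p →
    ∃ H : Subgroup G, IsCoatom H ∧ H ≠ M ∧ normalizer (A₀ : Set G) ≤ H)
include hAM hA hA2 hno

omit hA2 in
/-- The maximal subgroup over the normaliser of a line. -/
theorem exists_line_maximal {a : G} (ha : a ∈ A) (ha1 : a ≠ 1) :
    ∃ H : Subgroup G, IsCoatom H ∧ H ≠ M ∧ normalizer (zpowers a : Set G) ≤ H ∧ A ≤ H ∧
      centralizer {a} ≤ H ∧ (p ∈ sigma M → ∀ g : G, H ≠ M.map (MulAut.conj g).toMonoidHom) ∧
      (p ∉ sigma H → Nat.card A = p ^ 2 → IsExceptional p H A) := by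
  have hle : zpowers a ≤ A := zpowers_le.mpr ha
  have hc : Nat.card (zpowers a) = p := by
    rw [Nat.card_zpowers, orderOf_eq_prime (hA.2 a ha) ha1]
  obtain ⟨H, hH, hne, hN⟩ := hno _ hle hc
  have hC : centralizer {a} ≤ H := by
    refine le_trans ?_ hN
    rw [← centralizer_closure {a}, ← zpowers_eq_closure]
    exact centralizer_le_normalizer _
  have hAH : A ≤ H := fun b hb =>
    hC (mem_centralizer_singleton_iff.mpr (Coprime.ea_comm hA hb ha))
  refine ⟨H, hH, hne, hN, hAH, hC, fun hσ g hg => ?_, fun hs h2 => ⟨⟨hAH, hA, h2, hs⟩, _, hle, hc, hN⟩⟩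
  have h1 : (zpowers a).map (MulAut.conj g⁻¹).toMonoidHom ≤ M :=
    (map_mono (hle.trans (hAH.trans hg.le))).trans (map_conj_inv_cancel M g).le
  obtain ⟨m, hm, c, hc', hgi⟩ := fusion_of_sigma hG hM hσ ((Coprime.ea_isPGroup hA).to_le hle)
    (by rwa [Ne, zpowers_eq_bot]) (hle.trans hAM) h1
  have hcH : c⁻¹ ∈ H := inv_mem (hN (centralizer_le_normalizer _ hc'))
  have hg2 : g = c⁻¹ * m⁻¹ := by rw [← mul_inv_rev, ← hgi, inv_inv]
  refine hne ?_
  rw [hg2, ← map_conj_map_conj, map_conj_eq_self_of_mem (Subgroup.le_normalizer (inv_mem hm))] at hg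
  have h2 : H = H.map (MulAut.conj c⁻¹).toMonoidHom :=
    (map_conj_eq_self_of_mem (Subgroup.le_normalizer hcH)).symm
  rw [hg] at h2 ⊢
  have h3 := congrArg (Subgroup.map (MulAut.conj c⁻¹⁻¹).toMonoidHom) h2
  rw [map_conj_inv_cancel, map_conj_inv_cancel] at h3
  exact h3.symm

/-- `A` centralises its invariant `q`-subgroups of `M_σ`, `q ≠ p`, fixed by one of its lines. -/
theorem le_centralizer_fixed {q : ℕ} [hq : Fact q.Prime] (hqp : q ≠ p) (hqσ : q ∈ sigma M)
    {a : G} (ha : a ∈ A) (ha1 : a ≠ 1) {R : Subgroup G} (hR : IsPGroup q R) (hRM : R ≤ M)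
    (hRc : R ≤ centralizer {a}) (hAR : A ≤ normalizer (R : Set G)) :
    A ≤ centralizer (R : Set G) := by
  obtain ⟨H, hH, hne, -, hAH, hC, hnc, hexc⟩ := exists_line_maximal hG hM hAM hA hno ha ha1
  have hRH : R ≤ H := hRc.trans hC
  have hAp := Coprime.ea_isPGroup hA
  by_cases hpH : p ∈ sigma H
  · by_cases hqH : q ∈ sigma H
    · refine le_centralizer_of_sigma hG hH hpH hqH (fun hb => ?_) hqp hAp hAH hR hRH hAR
      obtain ⟨g, hg⟩ := conj_of_alpha_sigma hG hM hH hb.1 hqσ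
      have hpM : p ∈ sigma M := by rw [hg, sigma_map_conj]; exact hpH
      exact hnc hpM g⁻¹ (by rw [hg, map_conj_inv_cancel])
    · have hAK : A ≤ sigmaCore H := le_sigmaCore_of_isPGroup hG hH hAH hAp hpH
      have h1 : ⁅R, A⁆ ≤ R ⊓ sigmaCore H := by
        refine le_inf (Coprime.commutator_le_of_le_normalizer hAR) ?_
        rw [commutator_le]
        intro r hr b hb
        rw [commutatorElement_def]
        exact (sigmaCore H).mul_mem ((mem_normalizer_iff.mp (le_normalizer_sigmaCore H (hRH hr)) b).mp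
          (hAK hb)) ((sigmaCore H).inv_mem (hAK hb))
      have hbot : R ⊓ sigmaCore H = ⊥ := by
        refine Coprime.inf_eq_bot_of_coprime ?_
        obtain ⟨k, hk⟩ := IsPGroup.iff_card.mp hR
        rw [hk]
        exact Nat.Coprime.pow_left k (hq.out.coprime_iff_not_dvd.mpr fun hd =>
          hqH (piNum_sigmaCore H q hq.out hd))
      rw [hbot, le_bot_iff, commutator_eq_bot_iff_le_centralizer] at h1
      exact le_centralizer_iff.mp h1
  · have he := hexc hpH hA2
    by_cases hqH : q ∈ sigma H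
    · by_cases hpM : p ∈ sigma M
      · refine le_centralizer_of_sigma hG hM hpM hqσ (fun hb => ?_) hqp hAp hAM hR hRM hAR
        obtain ⟨g, hg⟩ := conj_of_alpha_sigma hG hH hM hb.1 hqH
        exact hnc hpM g hg
      · by_cases hR1 : R = ⊥
        · rw [hR1]; intro x _; simp [mem_centralizer_iff]
        refine absurd (he.eq_of_sigmaCore_meet hG hH hM hAM hpM ?_) hne.symm
        exact ne_bot_of_le_ne_bot hR1 (le_inf (le_sigmaCore_of_isPGroup hG hH hRH hR hqH)
          (le_sigmaCore_of_isPGroup hG hM hRM hR hqσ))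
    · exact he.le_centralizer_of_not_sigma hG hH hqp hqH hR hRH hAR

/-- `M ∩ C(a)` has rank at most two. -/
theorem rankLE_centralizer {a : G} (ha : a ∈ A) (ha1 : a ≠ 1) :
    RankLE 2 ↥(M ⊓ centralizer {a}) := by
  by_contra hr
  obtain ⟨H, hH, hne, -, -, hC, -, -⟩ := exists_line_maximal hG hM hAM hA hno ha ha1
  have hAK : A ≤ M ⊓ centralizer {a} := le_inf hAM fun b hb =>
    mem_centralizer_singleton_iff.mpr (Coprime.ea_comm hA hb ha)
  have hU := inUniqueMaximal_of_not_rankLE hG (ne_top_of_not_dvd hM inf_le_left)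
    (fun h1 => not_rankLE_of_elementary (k := 1) hAK hA hA2.ge h1) (Or.inl hr)
  exact hne (hU.unique ⟨hH, inf_le_right.trans hC⟩ ⟨hM, inf_le_left⟩)

theorem not_mem_alpha_self : p ∉ alpha M := by
  intro hα
  have hσ := alpha_subset_sigma hG hM hα
  obtain ⟨P, hAP⟩ := exists_sylow_ge (Coprime.ea_isPGroup hA) hAM
  set R := (P : Subgroup M).map M.subtype with hR
  have hRp : IsPGroup p R := P.2.map _
  have hRM : R ≤ M := map_subtype_le _
  have hAne : A ≠ ⊥ := Coprime.ea_ne_bot two_ne_zero hA2.ge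
  obtain ⟨a, ha, ha1⟩ := exists_mem_ne_one A hAne
  obtain ⟨z, hz, hz1⟩ := exists_mem_omegaCenter hRp (ne_bot_of_le_ne_bot hAne hAP)
  have hzp := (mem_omegaCenter_iff.mp hz).2.1
  have hzR := (mem_omegaCenter_iff.mp hz).1
  have hzc : z ∈ centralizer (A : Set G) := mem_centralizer_iff.mpr fun b hb =>
    ((mem_omegaCenter_iff.mp hz).2.2 b (hAP hb)).symm
  by_cases hzA : z ∈ A
  · obtain ⟨E, hEM, hEe, hE3⟩ := exists_elementary_of_not_pRankLE hα.2
    obtain ⟨P', hEP'⟩ := exists_sylow_ge (Coprime.ea_isPGroup hEe) hEM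
    obtain ⟨m, hm⟩ := MulAction.exists_smul_eq M P' P
    have hEe' : IsElementaryAbelian p (E.map (MulAut.conj (m : G)).toMonoidHom) :=
      ⟨@Subgroup.map_isMulCommutative _ _ _ _ E (MulAut.conj (m : G)).toMonoidHom hEe.1, by
        rintro _ ⟨x, hx, rfl⟩
        rw [← map_pow, hEe.2 x hx, map_one]⟩
    have hle : E.map (MulAut.conj (m : G)).toMonoidHom ≤ M ⊓ centralizer {z} := by
      intro x hx
      have hxR : x ∈ R := by
        rw [hR, ← hm, map_subtype_sylow_smul]
        exact map_mono hEP' hx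
      exact ⟨hRM hxR, mem_centralizer_singleton_iff.mpr ((mem_omegaCenter_iff.mp hz).2.2 x hxR).symm⟩
    exact not_rankLE_of_elementary (k := 2) hle hEe' (by rw [card_map_conj]; exact hE3)
      (rankLE_centralizer hG hM hAM hA hA2 hno hzA hz1)
  · have hB := isElementaryAbelian_sup_zpowers hA hzp hzc
    have hle : A ⊔ zpowers z ≤ M ⊓ centralizer {a} := by
      refine sup_le (le_inf hAM fun b hb => mem_centralizer_singleton_iff.mpr
        (Coprime.ea_comm hA hb ha)) (zpowers_le.mpr ⟨hRM hzR, mem_centralizer_singleton_iff.mpr ?_⟩)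
      exact (mem_centralizer_iff.mp hzc a ha).symm
    exact not_rankLE_of_elementary (k := 2) hle hB
      (by rw [card_sup_zpowers_of_not_mem hzp hzc hzA, hA2, ← pow_succ])
      (rankLE_centralizer hG hM hAM hA hA2 hno ha ha1)

/-- `A` centralises a Sylow `q`-subgroup of `G` in `M` for each `q ≠ p` in `σ(M)`. -/
theorem exists_centralized_sylow {q : ℕ} [hq : Fact q.Prime] (hqp : q ≠ p) (hqσ : q ∈ sigma M) :
    ∃ S : Sylow q G, (S : Subgroup G) ≤ sigmaCore M ∧ A ≤ centralizer ((S : Subgroup G) : Set G) := by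
  have hAp := Coprime.ea_isPGroup hA
  haveI := hA.1
  obtain ⟨S₀, hS₀⟩ := exists_sylow_of_sigma hqσ
  have hS₀K := sylow_le_sigmaCore hG hM hS₀ hqσ
  -- an invariant `p'`-part of `M_σ`
  obtain ⟨K, hKσ, hAK, hcop, hSK⟩ : ∃ K : Subgroup G, K ≤ sigmaCore M ∧
      A ≤ normalizer (K : Set G) ∧ (Nat.card A).Coprime (Nat.card K) ∧ (S₀ : Subgroup G) ≤ K := by
    by_cases hpM : p ∈ sigma M
    · obtain ⟨-, hcompl, -⟩ := (Cfsg.Agent.S1414.result hG M hM).2.2.2.2 p hp.out hpM.2.1
        (fun hb => not_mem_alpha_self hG hM hAM hA hA2 hno hb.1)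
      haveI : (pResidual p ↥(sigmaCore M)).Characteristic := Fusion.pResidual_characteristic
      refine ⟨(pResidual p ↥(sigmaCore M)).map (sigmaCore M).subtype, map_subtype_le _,
        LocalStructure.le_normalizer_map_characteristic (hAM.trans (le_normalizer_sigmaCore M)) _,
        ?_, ?_⟩
      · rw [card_map_of_injective (sigmaCore M).subtype_injective, hA2]
        exact (Fusion.coprime_card_pResidual_of_hasNormalPComplement hcompl).symm.pow_left 2
      · intro x hx
        refine ⟨⟨x, hS₀K hx⟩, Fusion.mem_pResidual_of_coprime ?_, rfl⟩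
        obtain ⟨k, hk⟩ := S₀.2.exists_orderOf_eq_pow ⟨x, hx⟩
        rw [← orderOf_coe] at hk
        rw [← orderOf_coe]
        exact hk ▸ ((Nat.coprime_primes hq.out hp.out).mpr hqp).pow_left k
    · exact ⟨sigmaCore M, le_rfl, hAM.trans (le_normalizer_sigmaCore M),
        IsTauPair.coprime_sigma hG hM ⟨hAM, hA, hA2, hpM⟩ le_rfl, hS₀K⟩
  have hsol : Group.IsSolvable A := Coprime.ea_isSolvable hA
  obtain ⟨Q, hQ⟩ := Coprime.exists_invariant_sylow hAK hcop (Or.inl hsol) q
  set R := (Q : Subgroup K).map K.subtype with hR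
  have hc : Nat.card R = q ^ (Nat.card G).factorization q := by
    have h1 : Nat.card Q = Nat.card (S₀.subtype hSK) :=
      Q.card_eq_multiplicity.trans (S₀.subtype hSK).card_eq_multiplicity.symm
    rw [hR, card_map_of_injective K.subtype_injective, h1, Sylow.coe_subtype,
      Coprime.card_subgroupOf hSK, S₀.card_eq_multiplicity]
  refine ⟨Sylow.ofCard R hc, ?_, ?_⟩ <;> rw [Sylow.coe_ofCard]
  · exact (map_subtype_le _).trans hKσ
  have hRK : R ≤ K := map_subtype_le _
  have hncyc : ¬ IsCyclic A := by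
    intro h
    obtain ⟨g, hg⟩ := h.exists_generator
    have h1 : Nat.card A ∣ p := by
      rw [← orderOf_eq_card_of_forall_mem_zpowers hg]
      exact orderOf_dvd_of_pow_eq_one (Subtype.ext (by simpa using hA.2 _ g.2))
    rw [hA2] at h1
    have := Nat.le_of_dvd hp.out.pos h1
    nlinarith [hp.out.one_lt]
  rw [le_centralizer_iff, ← Coprime.iSup_centralizer_eq hncyc hQ
    (hcop.coprime_dvd_right (card_dvd_of_le hRK))]
  refine iSup₂_le fun a ha => le_centralizer_iff.mp ?_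
  have hR' : IsPGroup q ↥(R ⊓ centralizer {a}) := (Q.2.map K.subtype).to_le inf_le_left
  refine le_centralizer_fixed hG hM hAM hA hA2 hno hqp hqσ ha.1 ha.2 hR'
    (inf_le_left.trans (hRK.trans (hKσ.trans (sigmaCore_le M)))) inf_le_right ?_
  refine Coprime.le_normalizer_inf hQ (le_trans ?_ Subgroup.le_normalizer)
  exact fun b hb => mem_centralizer_singleton_iff.mpr (Coprime.ea_comm hA hb ha.1)

theorem alpha_empty : ∀ q, q ∉ alpha M := by
  intro q hα
  haveI := Fact.mk hα.1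
  by_cases hqp : q = p
  · subst hqp
    exact not_mem_alpha_self hG hM hAM hA hA2 hno hα
  obtain ⟨S, hSK, hAS⟩ := exists_centralized_sylow hG hM hAM hA hA2 hno hqp
    (alpha_subset_sigma hG hM hα)
  obtain ⟨E, hEM, hEe, hE3⟩ := exists_elementary_of_not_pRankLE hα.2
  obtain ⟨x, hx⟩ := exists_conj_mem_sylow S (Coprime.ea_isPGroup hEe)
  obtain ⟨a, ha, ha1⟩ := exists_mem_ne_one A (Coprime.ea_ne_bot two_ne_zero hA2.ge)
  have hle : E.map (MulAut.conj x).toMonoidHom ≤ M ⊓ centralizer {a} := fun y hy =>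
    ⟨sigmaCore_le M (hSK (hx hy)), mem_centralizer_singleton_iff.mpr
      (mem_centralizer_iff.mp (hAS ha) y (hx hy))⟩
  exact not_rankLE_of_elementary (k := 2) hle
    ⟨@Subgroup.map_isMulCommutative _ _ _ _ E (MulAut.conj x).toMonoidHom hEe.1, by
      rintro _ ⟨y, hy, rfl⟩
      rw [← map_pow, hEe.2 y hy, map_one]⟩
    (by rw [card_map_conj]; exact hE3) (rankLE_centralizer hG hM hAM hA hA2 hno ha ha1)

theorem alphaCore_eq_bot : alphaCore M = ⊥ := by
  by_contra hne
  obtain ⟨r, hr, hd⟩ := exists_prime_dvd_of_ne_bot hne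
  exact alpha_empty hG hM hAM hA hA2 hno r (piNum_piCoreOf (alpha M) M r hr hd)

theorem main_nilpotent : Group.IsNilpotent (sigmaCore M) := by
  obtain ⟨-, -, -, ⟨H, hH, hHn⟩, -⟩ := Cfsg.Agent.S1414.result hG M hM
  suffices e : H = sigmaCore M by exact e ▸ hHn
  refine le_antisymm hH.1 (relIndex_eq_one.mp ?_)
  by_contra hne
  obtain ⟨r, hr, hd⟩ := Nat.exists_prime_and_dvd hne
  exact hH.2.2 r hr ⟨hr, fun hb => alpha_empty hG hM hAM hA hA2 hno r hb.1⟩ hd

theorem main_mem_sigma : p ∈ sigma M := by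
  by_contra hpM
  have hpair : IsTauPair p M A := ⟨hAM, hA, hA2, hpM⟩
  have hAp := Coprime.ea_isPGroup hA
  have hnil := main_nilpotent hG hM hAM hA hA2 hno
  -- `A` centralises `M_σ`
  have hcen : A ≤ centralizer (sigmaCore M : Set G) := by
    refine sigma_compl_nilpotent_le (r := p) hG hM hnil fun q _ S hqσ hS hSn => ?_
    obtain ⟨S', hS', hA'⟩ := exists_centralized_sylow hG hM hAM hA hA2 hno
      (fun e => hpM (e ▸ hqσ)) hqσ
    have hle : (S' : Subgroup G) ≤ (S : Subgroup G) := le_sylow_of_normal hG hM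
      (hS.trans (sigmaCore_le M)) hSn S'.2 (hS'.trans (sigmaCore_le M))
    rwa [S'.3 S.2 hle]
  have hAD₀ := le_compl_core hG hM hpM hAp (le_inf hAM hcen)
  set D₀ := piCoreOf (sigma M)ᶜ (M ⊓ centralizer (sigmaCore M : Set G)) with hD₀
  have hD₀M : D₀ ≤ M := (piCoreOf_le _ _).trans inf_le_left
  -- `A` centralises the Fitting subgroup
  suffices hfit : A ≤ centralizer (fittingOf D₀ : Set G) by
    have hsol : Group.IsSolvable D₀ := Coprime.isSolvable_of_le hD₀M (isSolvable_coatom hG hM)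
    have hAF : A ≤ fittingOf D₀ := (le_inf hAD₀ hfit).trans (inf_centralizer_fittingOf_le hsol)
    exact hpair.not_isCyclic (isCyclic_of_le (fitting_sigmaCompl_isCyclic (q := p) hG hM).1
      (le_rPart_of_isPGroup (isNilpotent_fittingOf D₀) hAF hAp))
  rw [le_centralizer_iff]
  refine (le_iSup_rPart (isNilpotent_fittingOf D₀)).trans (iSup_le fun s => ?_)
  haveI := Fact.mk s.2
  rw [le_centralizer_iff]
  obtain ⟨hTc, hMT⟩ := fitting_sigmaCompl_isCyclic (q := (s : ℕ)) hG hM
  set T := rPart (s : ℕ) (fittingOf D₀) with hT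
  by_contra hnT
  have hTp : IsPGroup (s : ℕ) T := isPGroup_rPart
  have hTD : T ≤ D₀ := rPart_le.trans (map_subtype_le _)
  have hTM : T ≤ M := hTD.trans hD₀M
  have hT1 : T ≠ ⊥ := fun e => hnT (by rw [e]; intro x _; simp [mem_centralizer_iff])
  have hsd : (s : ℕ) ∣ Nat.card T := by
    obtain ⟨r, hr, hrd⟩ := exists_prime_dvd_of_ne_bot hT1
    obtain ⟨k, hk⟩ := IsPGroup.iff_card.mp hTp
    rwa [← (Nat.prime_dvd_prime_iff_eq hr s.2).mp (hr.dvd_of_dvd_pow (hk ▸ hrd))]
  have hsσ : (s : ℕ) ∉ sigma M :=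
    piNum_piCoreOf (sigma M)ᶜ _ s s.2 (hsd.trans (card_dvd_of_le hTD))
  haveI := hA.1
  haveI := hTc
  -- lines of `T` are normal in `M`
  have hline : ∀ t ∈ T, orderOf t = (s : ℕ) → normalizer (zpowers t : Set G) = M := by
    intro t ht hto
    have hne : zpowers t ≠ ⊥ := by
      rw [Ne, zpowers_eq_bot]
      exact fun e => s.2.ne_one (by rw [← hto, e, orderOf_one])
    refine normalizer_eq_of_coatom hG hM hne
      (ne_top_of_not_dvd hM ((zpowers_le.mpr ht).trans hTM))
      fun m hm => mem_normalizer_of_map_conj (HSub.subgroup_eq_of_card_eq hTc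
        ((map_mono (zpowers_le.mpr ht)).trans (map_conj_eq_self_of_mem (hMT hm)).le)
        (zpowers_le.mpr ht) (card_map_conj _ _))
  have hsp : (s : ℕ) ≠ p := by
    intro e
    obtain ⟨t, ht⟩ := exists_prime_orderOf_dvd_card' (s : ℕ) hsd
    have hto : orderOf (t : G) = (s : ℕ) := (orderOf_coe t).trans ht
    have ht1 : (t : G) ≠ 1 := fun h => s.2.ne_one (by rw [← hto, h, orderOf_one])
    set T₀ := zpowers (t : G) with hT₀
    have hT₀c : Nat.card T₀ = p := by rw [hT₀, Nat.card_zpowers, hto, e]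
    have hT₀g : IsPGroup p T₀ := IsPGroup.of_card (n := 1) (by rw [pow_one, hT₀c])
    have hNt := hline t t.2 hto
    have hAn : A ≤ normalizer (T₀ : Set G) := hAM.trans hNt.ge
    have hlt := Coprime.commutator_lt_of_isPGroup hAp hT₀g hAn (by rwa [hT₀, Ne, zpowers_eq_bot])
    have h0 : ⁅T₀, A⁆ = ⊥ := by
      rw [← card_eq_one]
      refine ((hp.out.eq_one_or_self_of_dvd _ (hT₀c ▸ card_dvd_of_le hlt.le))).resolve_right fun h => ?_
      have := Core.card_lt_of_lt hlt
      omega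
    rw [commutator_eq_bot_iff_le_centralizer] at h0
    have htA : (t : G) ∈ A := hpair.mem_of_pow hG hM
      (by rw [← e, ← hto, pow_orderOf_eq_one]) (h0 (mem_zpowers _))
    obtain ⟨H, hH, hne, hN⟩ := hno T₀ (zpowers_le.mpr htA) hT₀c
    exact hne ((hM.le_iff_eq hH.1).mp (hNt ▸ hN))
  have hcop : ∀ X : Subgroup G, IsPGroup (s : ℕ) X → (Nat.card A).Coprime (Nat.card X) := by
    intro X hX
    obtain ⟨k, hk⟩ := IsPGroup.iff_card.mp hX
    rw [hk, hA2]
    exact (((Nat.coprime_primes hp.out s.2).mpr hsp.symm).pow_left 2).pow_right k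
  obtain ⟨t, htT, hto, hnt⟩ :
      ∃ t ∈ T, orderOf t = (s : ℕ) ∧ ¬ A ≤ centralizer ({t} : Set G) := by
    by_contra hall
    push Not at hall
    refine hnT (Coprime.le_centralizer_of_fixes_prime_order (hAM.trans hMT) (hcop T hTp) ?_)
    intro v hv hvp a ha
    obtain ⟨k, hk⟩ := hTp.exists_orderOf_eq_pow ⟨v, hv⟩
    rw [← orderOf_coe] at hk
    change orderOf v = (s : ℕ) ^ k at hk
    exact mem_centralizer_singleton_iff.mp
      (hall v hv ((Nat.prime_dvd_prime_iff_eq hvp s.2).mp (hvp.dvd_of_dvd_pow hk.dvd)) ha)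
  set T₀ := zpowers t with hT₀
  have hNT₀ : normalizer (T₀ : Set G) = M := hline t htT hto
  have hT₀c : Nat.card T₀ = (s : ℕ) := by rw [hT₀, Nat.card_zpowers, hto]
  have hT₀g : IsPGroup (s : ℕ) T₀ := hTp.to_le (zpowers_le.mpr htT)
  have hT₀ne : T₀ ≠ ⊥ := fun e => by rw [e, card_bot] at hT₀c; exact s.2.ne_one hT₀c.symm
  have hAT₀ : A ≤ normalizer (T₀ : Set G) := hAM.trans hNT₀.ge
  have hnT₀ : ¬ A ≤ centralizer (T₀ : Set G) := by
    rwa [hT₀, zpowers_eq_closure, centralizer_closure]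
  obtain ⟨-, As, hAse, hAsc, hT₀As⟩ := rank_two_of_normalizer_le hG hM hsσ hT₀c hNT₀.le
  have hAsM : As ≤ M := ((Coprime.ea_le_centralizer hAse).trans (centralizer_le
    (SetLike.coe_subset_coe.mpr hT₀As))).trans ((centralizer_le_normalizer _).trans hNT₀.le)
  obtain ⟨E, hE, hAE⟩ := exists_compl_ge hG hM hAp hAM hpM
  obtain ⟨PE⟩ : Nonempty (Sylow (s : ℕ) E) := inferInstance
  obtain ⟨PM, hPM⟩ := compl_sylow_exists hG hM hE PE hsσ
  obtain ⟨P', hP'⟩ := exists_sylow_ge (Coprime.ea_isPGroup hAse) hAsM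
  obtain ⟨m, hm⟩ := MulAction.exists_smul_eq M P' PM
  set B := As.map (MulAut.conj (m : G)).toMonoidHom with hB
  have hBPM : B ≤ (PM : Subgroup M).map M.subtype := by
    rw [← hm, map_subtype_sylow_smul]
    exact map_mono hP'
  have hBexc : IsExceptional (s : ℕ) M B :=
    ⟨⟨map_conj_le_of_mem hAsM m.2,
      ⟨@Subgroup.map_isMulCommutative _ _ _ _ As (MulAut.conj (m : G)).toMonoidHom hAse.1, by
        rintro _ ⟨x, hx, rfl⟩
        rw [← map_pow, hAse.2 x hx, map_one]⟩,
      by rw [hB, card_map_conj, hAsc], hsσ⟩, T₀,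
      (map_conj_eq_self_of_mem (hNT₀.ge m.2)).ge.trans (map_mono hT₀As), hT₀c, hNT₀.le⟩
  have hBE : B ≤ E := hBPM.trans (hPM.le.trans (map_subtype_le _))
  have hAB : A ≤ normalizer (B : Set G) := hAE.trans (hBexc.le_normalizer_of_compl hG hM hE hBE)
  have hBp : IsPGroup (s : ℕ) B := Coprime.ea_isPGroup hBexc.elem
  obtain ⟨-, -, hBfix, -⟩ := hBexc.structure_of_sylow hG hM PM hBPM
  obtain ⟨l, hl, hl1⟩ : ∃ l ∈ B ⊓ centralizer (A : Set G), l ≠ 1 := by
    refine exists_mem_ne_one _ fun hbot => sigmaCore_ne_bot hG hM (le_bot_iff.mp ?_)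
    rw [← hBfix]
    refine le_inf le_rfl (le_centralizer_iff.mp ?_)
    have h1 := Coprime.commutator_sup_centralizer hAB (hcop B hBp)
      (Or.inl (Coprime.ea_isSolvable hA))
    rw [hbot, sup_bot_eq] at h1
    rw [← h1, commutator_le]
    intro b hb a ha
    set C := centralizer (sigmaCore M : Set G)
    rw [commutatorElement_def]
    exact C.mul_mem ((mem_normalizer_iff.mp (Coprime.le_normalizer_centralizer
      (le_normalizer_sigmaCore M) (hBexc.le hb)) a).mp (hcen ha)) (C.inv_mem (hcen ha))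
  -- a line of `A` fixing `t`
  obtain ⟨a, ⟨ha, ha1⟩, x, hx, hx1⟩ :
      ∃ a : G, (a ∈ A ∧ a ≠ 1) ∧ ∃ x ∈ T₀ ⊓ centralizer {a}, x ≠ 1 := by
    by_contra hall
    push Not at hall
    refine hT₀ne (le_bot_iff.mp ?_)
    rw [← Coprime.iSup_centralizer_eq hpair.not_isCyclic hAT₀ (hcop T₀ hT₀g)]
    exact iSup₂_le fun a ha x hx => mem_bot.mpr (hall a ha x hx)
  obtain ⟨H, hH, -, -, hAH, hC, -, hexc⟩ := exists_line_maximal hG hM hAM hA hno ha ha1
  have hT₀x : T₀ = zpowers x := (eq_of_le_of_card_ge (zpowers_le.mpr hx.1) (by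
    rw [hT₀c, Nat.card_zpowers]
    exact ((s.2.eq_one_or_self_of_dvd _ (hT₀c ▸ Subgroup.orderOf_dvd_natCard _ hx.1)).resolve_left
      fun e => hx1 (orderOf_eq_one_iff.mp e)).ge)).symm
  have hT₀H : T₀ ≤ H := hT₀x ▸ zpowers_le.mpr (hC hx.2)
  by_cases hpH : p ∈ sigma H
  · have hsH : (s : ℕ) ∈ sigma H := by
      by_contra hsH
      have hAK : A ≤ sigmaCore H := le_sigmaCore_of_isPGroup hG hH hAH hAp hpH
      have h1 : ⁅T₀, A⁆ ≤ T₀ ⊓ sigmaCore H := by
        refine le_inf (Coprime.commutator_le_of_le_normalizer hAT₀) ?_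
        rw [commutator_le]
        intro r hr b hb
        rw [commutatorElement_def]
        exact (sigmaCore H).mul_mem ((mem_normalizer_iff.mp (le_normalizer_sigmaCore H (hT₀H hr)) b).mp
          (hAK hb)) ((sigmaCore H).inv_mem (hAK hb))
      have hbot : T₀ ⊓ sigmaCore H = ⊥ := by
        refine Coprime.inf_eq_bot_of_coprime ?_
        rw [hT₀c]
        exact s.2.coprime_iff_not_dvd.mpr fun hd => hsH (piNum_sigmaCore H _ s.2 hd)
      rw [hbot, le_bot_iff, commutator_eq_bot_iff_le_centralizer] at h1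
      exact hnT₀ (le_centralizer_iff.mp h1)
    refine hnT₀ (le_centralizer_of_sigma hG hH hpH hsH (fun hb => ?_) hsp hAp hAH hT₀g hT₀H hAT₀)
    refine not_isIdealPrime_of_not_sigma hG hM hsσ ?_ ?_ hb.2
    · by_contra hc
      exact hsσ (alpha_subset_sigma hG hM ⟨s.2, hc⟩)
    · exact fun hr => not_pRankLE_of_elementary (k := 1) hAsM hAse hAsc.ge hr
  · have he := hexc hpH hA2
    by_cases hsH : (s : ℕ) ∈ sigma H
    · obtain ⟨P'', hP''⟩ := exists_sylow_ge hAp hAH
      obtain ⟨-, -, hfix, -⟩ := he.structure_of_sylow hG hH P'' hP''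
      have hlg : IsPGroup (s : ℕ) (zpowers l) := hBp.to_le (zpowers_le.mpr hl.1)
      have hlH : l ∈ H := hC (mem_centralizer_singleton_iff.mpr
        (mem_centralizer_iff.mp hl.2 a ha).symm)
      have : l ∈ sigmaCore H ⊓ centralizer (A : Set G) :=
        ⟨le_sigmaCore_of_isPGroup hG hH (zpowers_le.mpr hlH) hlg hsH (mem_zpowers l), hl.2⟩
      rw [hfix, mem_bot] at this
      exact hl1 this
    · exact hnT₀ (he.le_centralizer_of_not_sigma hG hH hsp hsH hT₀g hT₀H hAT₀)

/-- BG Proposition 12.4 when no line of `A` has a unique maximal overgroup of its normaliser. -/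
theorem main : p ∈ sigma M ∧ alphaCore M = ⊥ ∧ Group.IsNilpotent (sigmaCore M) ∧
    centralizer (A : Set G) ≤ M := by
  have hσ := main_mem_sigma hG hM hAM hA hA2 hno
  have hnil := main_nilpotent hG hM hAM hA hA2 hno
  refine ⟨hσ, alphaCore_eq_bot hG hM hAM hA hA2 hno, hnil, ?_⟩
  have hAp := Coprime.ea_isPGroup hA
  obtain ⟨S, hSK, hSn⟩ := exists_normal_sylow hG hM hnil hσ
  have hSM := hSK.trans (sigmaCore_le M)
  have hAS : A ≤ (S : Subgroup G) := le_sylow_of_normal hG hM hSM hSn hAp hAM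
  have hNS : normalizer ((S : Subgroup G) : Set G) = M :=
    normalizer_eq_of_coatom hG hM (sylow_ne_bot_of_sigma hG hM S hσ) (ne_top_of_not_dvd hM hSM) hSn
  have hAne : A ≠ ⊥ := Coprime.ea_ne_bot two_ne_zero hA2.ge
  -- the Sylow subgroup is abelian
  have hcomm : IsMulCommutative (S : Subgroup G) := by
    by_contra hnc
    obtain ⟨z, hz, hz1⟩ := exists_mem_omegaCenter (Q := (S : Subgroup G)) S.2
      (sylow_ne_bot_of_sigma hG hM S hσ)
    have hzp := (mem_omegaCenter_iff.mp hz).2.1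
    have hzS := (mem_omegaCenter_iff.mp hz).1
    have hzc : z ∈ centralizer (A : Set G) := mem_centralizer_iff.mpr fun b hb =>
      ((mem_omegaCenter_iff.mp hz).2.2 b (hAS hb)).symm
    have hzA : z ∈ A := by
      by_contra hzA
      refine not_mem_alpha_self hG hM hAM hA hA2 hno ⟨hp.out, fun hr =>
        not_pRankLE_of_elementary (k := 2) (sup_le hAM (zpowers_le.mpr (hSM hzS)))
          (isElementaryAbelian_sup_zpowers hA hzp hzc)
          (by rw [card_sup_zpowers_of_not_mem hzp hzc hzA, hA2, ← pow_succ]) hr⟩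
    obtain ⟨H, hH, hne, hN, hAH, hC, -, hexc⟩ := exists_line_maximal hG hM hAM hA hno hzA hz1
    have hSH : (S : Subgroup G) ≤ H := fun x hx =>
      hC (mem_centralizer_singleton_iff.mpr ((mem_omegaCenter_iff.mp hz).2.2 x hx).symm)
    by_cases hpH : p ∈ sigma H
    · exact hne ((hM.le_iff_eq hH.1).mp (hNS ▸ normalizer_sylow_le hG hH hSH hpH))
    · have h1 := (hexc hpH hA2).sylow_comm hG hH (S.subtype hSH) (by
        rwa [Sylow.coe_subtype, map_subgroupOf_eq_of_le hSH])
      rw [Sylow.coe_subtype, map_subgroupOf_eq_of_le hSH] at h1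
      exact hnc h1
  have hΩ : ∀ x ∈ (S : Subgroup G), x ^ p = 1 → x ∈ A := by
    intro x hx hxp
    by_contra hxA
    have hxc : x ∈ centralizer (A : Set G) := mem_centralizer_iff.mpr fun a ha =>
      congrArg (fun z : (S : Subgroup G) => (z : G))
        (mul_comm' (⟨a, hAS ha⟩ : (S : Subgroup G)) ⟨x, hx⟩)
    exact not_mem_alpha_self hG hM hAM hA hA2 hno ⟨hp.out, fun hr =>
      not_pRankLE_of_elementary (k := 2) (sup_le hAM (zpowers_le.mpr (hSM hx)))
        (isElementaryAbelian_sup_zpowers hA hxp hxc)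
        (by rw [card_sup_zpowers_of_not_mem hxp hxc hxA, hA2, ← pow_succ]) hr⟩
  have hMA : M ≤ normalizer (A : Set G) := fun m hm => mem_normalizer_of_map_conj
    (eq_of_le_of_card_ge (by
      rintro _ ⟨a, ha, rfl⟩
      exact hΩ _ ((mem_normalizer_iff.mp (hSn hm) a).mp (hAS ha))
        (by rw [← map_pow, hA.2 a ha, map_one])) (card_map_conj _ _).ge)
  exact (centralizer_le_normalizer _).trans
    (normalizer_eq_of_coatom hG hM hAne (ne_top_of_not_dvd hM hAM) hMA).le

end Main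

/-- BG 12.4 (a): `C(A) ≤ M`. -/
theorem centralizer_plane_le (hAM : A ≤ M) (hA : IsElementaryAbelian p A)
    (hA2 : Nat.card A = p ^ 2) : centralizer (A : Set G) ≤ M := by
  by_cases h : ∃ A₀ : Subgroup G, A₀ ≤ A ∧ Nat.card A₀ = p ∧ normalizer (A₀ : Set G) ≤ M
  · obtain ⟨A₀, h0, -, hN⟩ := h
    exact ((centralizer_le (SetLike.coe_subset_coe.mpr h0)).trans (centralizer_le_normalizer _)).trans hN
  push Not at h
  refine (main hG hM hAM hA hA2 fun A₀ h0 hc => ?_).2.2.2
  exact exists_other_maximal hG hM (fun e => by rw [e, card_bot] at hc; exact hp.out.ne_one hc.symm)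
    (h0.trans hAM) (fun hu => h A₀ h0 hc hu.1)

/-- Outside `σ(M)` a plane is exceptional. -/
theorem IsTauPair.exceptional (h : IsTauPair p M A) :
    IsExceptional p M A ∧ ∃ A₀ : Subgroup G, A₀ ≤ A ∧ Nat.card A₀ = p ∧
      normalizer (A₀ : Set G) ≤ M ∧
      ∀ L : Subgroup G, IsCoatom L → normalizer (A₀ : Set G) ≤ L → L = M := by
  by_cases hu : ∃ A₀ : Subgroup G, A₀ ≤ A ∧ Nat.card A₀ = p ∧ normalizer (A₀ : Set G) ≤ M ∧
      ∀ L : Subgroup G, IsCoatom L → normalizer (A₀ : Set G) ≤ L → L = M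
  · obtain ⟨A₀, h0, hc, hN, hL⟩ := hu
    exact ⟨⟨h, A₀, h0, hc, hN⟩, A₀, h0, hc, hN, hL⟩
  refine absurd (main hG hM h.le h.elem h.card fun A₀ h0 hc => ?_).1 h.not_sigma
  exact exists_other_maximal hG hM (fun e => by rw [e, card_bot] at hc; exact hp.out.ne_one hc.symm)
    (h0.trans h.le) (fun h' => hu ⟨A₀, h0, hc, h'.1, h'.2⟩)

end Cfsg.Agent.OddLocal
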