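import Cfsg.Agent.OddLocal.TauOneFixed
import Cfsg.Agent.OddLocal.SigmaPartition

/-!
Elements moving a plane while fixing a line (BG 13.12, 13.13), and shared `σ`/`τ₂` primes.
-/

set_option autoImplicit false
set_option linter.unusedSectionVars false
set_option linter.style.haveILetI false

namespace Cfsg.Agent.OddLocal

open Subgroup Cfsg
open scoped commutatorElement

universe u

variable {G : Type u} [Group G] [Finite G] {p : ℕ} [hp : Fact p.Prime] {M L A : Subgroup G}

/-- A `p`-group normalising a nontrivial `p`-group centralises one of its elements. -/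
theorem exists_centralized_of_le_normalizer {T : Subgroup G} (hT : IsPGroup p T) (hA : IsPGroup p A)
    (hA1 : A ≠ ⊥) (hTA : T ≤ normalizer (A : Set G)) :
    ∃ w ∈ A, w ≠ 1 ∧ T ≤ centralizer ({w} : Set G) := by
  set U := T ⊔ A with hU
  haveI : (A.subgroupOf U).Normal :=
    normal_subgroupOf_of_le_normalizer (sup_le hTA Subgroup.le_normalizer)
  obtain ⟨Z, hZA, hZc, -, hZp⟩ := Fusion.exists_central_card_prime
    (hT.to_sup_of_normal_right' hA hTA) (A.subgroupOf U)
    (fun h => hA1 (disjoint_self.mp ((subgroupOf_eq_bot.mp h).mono_right le_sup_right)))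
  obtain ⟨w, hw, hw1⟩ := exists_mem_ne_one Z (fun e => by
    rw [e, card_bot] at hZp; exact hp.out.ne_one hZp.symm)
  refine ⟨w, mem_subgroupOf.mp (hZA hw), fun e => hw1 (Subtype.ext e), fun t ht => ?_⟩
  have h := mem_center_iff.mp (hZc hw) ⟨t, mem_sup_left ht⟩
  exact mem_centralizer_singleton_iff.mpr (congrArg Subtype.val h)

omit hp in
theorem centralizer_zpowers (x : G) :
    centralizer (zpowers x : Set G) = centralizer ({x} : Set G) := by
  rw [zpowers_eq_closure, centralizer_closure]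

omit hp in
theorem mem_centralizer_of_commute {x y : G} (h : Commute x y) :
    x ∈ centralizer ({y} : Set G) := mem_centralizer_singleton_iff.mpr h.eq

theorem sylow_comm_all {S T : Sylow p G} (hS : IsMulCommutative (S : Subgroup G)) :
    IsMulCommutative (T : Subgroup G) := by
  obtain ⟨g, hg⟩ := MulAction.exists_smul_eq G S T
  haveI := hS
  rw [← hg]
  exact map_isMulCommutative _ (MulAut.conj g).toMonoidHom

/-- The plane generated by two of its lines. -/
theorem plane_centralized (hA : IsElementaryAbelian p A) (hA2 : Nat.card A = p ^ 2) {a b y : G}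
    (ha : a ∈ A) (ha1 : a ≠ 1) (hb : b ∈ A) (hba : b ∉ zpowers a) (hya : Commute y a)
    (hyb : Commute y b) : y ∈ centralizer (A : Set G) := by
  have hle : zpowers a ⊔ zpowers b ≤ A ⊓ centralizer ({y} : Set G) :=
    sup_le (zpowers_le.mpr ⟨ha, mem_centralizer_of_commute hya.symm⟩)
      (zpowers_le.mpr ⟨hb, mem_centralizer_of_commute hyb.symm⟩)
  have heq : A ⊓ centralizer ({y} : Set G) = A := by
    refine eq_of_le_of_card_ge inf_le_left ?_
    obtain ⟨j, -, hj⟩ := (Nat.dvd_prime_pow hp.out).mp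
      (hA2 ▸ card_dvd_of_le (inf_le_left : A ⊓ centralizer ({y} : Set G) ≤ A))
    rw [hA2, hj]
    refine Nat.pow_le_pow_right hp.out.pos ?_
    by_contra hcon
    have h1 : Nat.card ↥(A ⊓ centralizer ({y} : Set G)) ≤ p := hj ▸ (Nat.pow_le_pow_right
      hp.out.pos (show j ≤ 1 by omega)).trans (pow_one p).le
    have h2 : zpowers a = A ⊓ centralizer ({y} : Set G) :=
      eq_of_le_of_card_ge (le_sup_left.trans hle)
        (by rw [Nat.card_zpowers, orderOf_eq_prime (hA.2 a ha) ha1]; exact h1)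
    exact hba (h2.ge (hle (mem_sup_right (mem_zpowers b))))
  rw [mem_centralizer_iff]
  intro x hx
  exact mem_centralizer_singleton_iff.mp (heq.ge hx).2

omit hp in
/-- If `[y, n]` centralises `n a n⁻¹` and `y` centralises `a`, then `y` centralises `n a n⁻¹`. -/
theorem commute_conj_of_commutator {y n a : G} (hya : Commute y a)
    (h : ⁅y, n⁆ * (n * a * n⁻¹) = n * a * n⁻¹ * ⁅y, n⁆) : Commute y (n * a * n⁻¹) := by
  have h1 : y⁻¹ * a = a * y⁻¹ := hya.inv_left.eq
  have h2 : ⁅y, n⁆ * (n * a * n⁻¹) = y * n * a * y⁻¹ * n⁻¹ := by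
    rw [commutatorElement_def]
    calc y * n * y⁻¹ * n⁻¹ * (n * a * n⁻¹) = y * n * (y⁻¹ * a) * n⁻¹ := by group
      _ = y * n * a * y⁻¹ * n⁻¹ := by rw [h1]; group
  rw [h2, commutatorElement_def] at h
  have h3 : y * n * a = n * a * n⁻¹ * (y * n) := by
    calc y * n * a = y * n * a * y⁻¹ * n⁻¹ * (n * y) := by group
      _ = n * a * n⁻¹ * (y * n * y⁻¹ * n⁻¹) * (n * y) := by rw [h]
      _ = n * a * n⁻¹ * (y * n) := by group
  show y * (n * a * n⁻¹) = n * a * n⁻¹ * y
  calc y * (n * a * n⁻¹) = y * n * a * n⁻¹ := by group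
    _ = n * a * n⁻¹ * y := by rw [h3]; group

variable (hG : IsMinSimpleOddOrder G) (hM : IsCoatom M)
include hG hM

omit hp in
theorem unique_normalizer_of_centralizer {X H : Subgroup G} (hX : X ≠ ⊥) (hXM : X ≤ M)
    (h : ∀ L : Subgroup G, IsCoatom L → centralizer (X : Set G) ≤ L → L = H) :
    normalizer (X : Set G) ≤ H := by
  obtain ⟨L, hL, hNL⟩ := exists_coatom_ge_normalizer hG hM hXM hX
  exact h L hL ((centralizer_le_normalizer _).trans hNL) ▸ hNL

/-- An element of order prime in `σ(M)` in `M ∩ L`, fixing a non-identity element of `L_σ ∩ M`, has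
order outside `τ₂(L)`. -/
theorem not_tau2_of_shared (hL : IsCoatom L) (hne : L ≠ M) (hσ : p ∈ sigma M)
    {z : G} (hzM : z ∈ M) (hzL : z ∈ L) (hzp : z ^ p = 1) (hz1 : z ≠ 1) {x : G}
    (hx : x ∈ sigmaCore L ⊓ M) (hx1 : x ≠ 1) (hzx : Commute z x) : p ∉ tau2 L := by
  intro h2
  have hzo : orderOf z = p := orderOf_eq_prime hzp hz1
  have hu := unique_of_tau2_elt hG hL hzL hz1 (fun r hr hd => by
    rw [hzo] at hd
    rw [(Nat.prime_dvd_prime_iff_eq hr hp.out).mp hd]
    exact h2) ⟨hzL, x, hx.1, hx1, hzx⟩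
  have hz' : zpowers z ≠ ⊥ := by rwa [Ne, zpowers_eq_bot]
  have hN : normalizer (zpowers z : Set G) ≤ L :=
    unique_normalizer_of_centralizer hG hL hz' (zpowers_le.mpr hzL)
      (fun H hH hle => hu.2 H hH (by rwa [← centralizer_zpowers]))
  have hzg : IsPGroup p (zpowers z) := IsPGroup.of_card (n := 1)
    (by rw [Nat.card_zpowers, hzo, pow_one])
  obtain ⟨S, hS⟩ := exists_sylow_ge hzg (le_inf (zpowers_le.mpr hzM) (zpowers_le.mpr hzL))
  obtain ⟨-, -, T, hT⟩ := sigma_normalizer_other hG hM hσ hzg hz' (zpowers_le.mpr hzM) hL hne hN S hS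
  obtain ⟨-, B, hBT, hB⟩ := sylow_comm_of_tau2 hG hL h2 T
  have hBM : B ≤ M := (hBT.trans hT.le).trans ((map_subtype_le _).trans inf_le_left)
  have h0 := hB.inf_other_eq_bot hG hL hM hne.symm hBM
  exact hx1 (mem_bot.mp (h0 ▸ hx))

/-- BG 13.12, the main step: an element of prime order fixing exactly one line `⟨a⟩` of a plane for
`τ₂(M)`, with `N(⟨a⟩) ≤ M`, has order in `τ₂(H)` for a maximal subgroup `H` with `a ∈ H_σ`. -/
theorem moved_plane (hp2 : p ∈ tau2 M) (hA : IsTauPair p M A) {a : G} (ha : a ∈ A) (ha1 : a ≠ 1)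
    (hNa : normalizer (zpowers a : Set G) ≤ M) {r : ℕ} [Fact r.Prime] (hrp : r ≠ p) {y : G}
    (hyr : y ^ r = 1) (hy1 : y ≠ 1) (hyM : y ∈ M) (hyA : y ∈ normalizer (A : Set G))
    (hya : Commute y a) (hyC : y ∉ centralizer (A : Set G)) :
    ∃ H : Subgroup G, IsCoatom H ∧ r ∈ tau2 H ∧ a ∈ sigmaCore H ∧ y ∈ H := by
  have hyo : orderOf y = r := orderOf_eq_prime hyr hy1
  have hA1 : A ≠ ⊥ := fun e => ha1 (mem_bot.mp (e ▸ ha))
  have hAp : IsPGroup p A := Coprime.ea_isPGroup hA.elem
  have hp2' := hA.p_ne_two hG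
  set W := normalizer (A : Set G) with hW
  have hWtop : W ≠ ⊤ := ne_top_of_normal_ne_bot hG hA1 (ne_top_of_not_dvd hM hA.le)
  have hWs : Group.IsSolvable W := hG.2.2.2 W hWtop
  have hWodd : Odd (Nat.card W) := hG.1.of_dvd_nat (card_subgroup_dvd_card W)
  have hAW : A ≤ W := Subgroup.le_normalizer
  have hCa : centralizer ({a} : Set G) ≤ M := by
    rw [← centralizer_zpowers]
    exact (centralizer_le_normalizer _).trans hNa
  -- commutators of `W` centralise a line
  have hfix : ∀ w ∈ ⁅W, W⁆, (orderOf w).Coprime p → w ∈ centralizer (A : Set G) := by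
    intro w hw hcop
    set f := NilpotentPrimeAction.conjHom (le_refl W) with hf
    haveI := hWs
    haveI : Group.IsSolvable f.range := Group.isSolvable_of_surjective f.rangeRestrict_surjective
    rw [commutator_eq_map_subtype W] at hw
    obtain ⟨w, hw', rfl⟩ := hw
    rw [coe_subtype, orderOf_coe] at hcop
    set v := f.rangeRestrict w with hv
    have hvc : v ∈ commutator f.range := by
      have h2 : (commutator W).map f.rangeRestrict ≤ commutator f.range := by
        rw [_root_.commutator_def, Subgroup.map_commutator, _root_.commutator_def]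
        exact Subgroup.commutator_mono le_top le_top
      exact h2 (mem_map_of_mem _ hw')
    have h1 := pow_eq_one_mulAut_of_le hp2' (fun u u' : A => Subtype.ext (Coprime.ea_comm hA.elem u.2 u'.2))
      (fun x : A => Subtype.ext (by simpa using hA.elem.2 x x.2)) le_rfl hA.card
      (hWodd.of_dvd_nat (Subgroup.card_range_dvd f)) f.range.subtype
      f.range.subtype_injective hvc
    have h2 : v = 1 := by
      rw [← orderOf_eq_one_iff]
      exact Nat.eq_one_of_dvd_coprimes hcop.symm
        (orderOf_dvd_of_pow_eq_one h1) (orderOf_map_dvd f.rangeRestrict w)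
    exact (NilpotentPrimeAction.conjHom_eq_one (le_refl W) w).mp (congrArg Subtype.val h2)
  by_cases hab : ∃ S : Sylow p G, IsMulCommutative (S : Subgroup G)
  · -- abelian Sylow subgroups
    exfalso
    obtain ⟨S₀, hS₀⟩ := hab
    obtain ⟨S, hAS⟩ := hAp.exists_le_sylow
    have hSc : IsMulCommutative (S : Subgroup G) := sylow_comm_all hS₀
    have hSA : (S : Subgroup G) ≤ centralizer (A : Set G) :=
      le_centralizer_of_isMulCommutative le_rfl hAS hSc
    have hSM : (S : Subgroup G) ≤ M := hSA.trans (hA.cent_le hG hM)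
    obtain ⟨n, hnN, hnM⟩ := SetLike.not_le_iff_exists.mp fun h : normalizer ((S : Subgroup G) : Set G) ≤ M =>
      hA.not_sigma ⟨hp.out, hA.dvd_card, S.subtype hSM, by
        rwa [Sylow.coe_subtype, map_subgroupOf_eq_of_le hSM]⟩
    have hnA : ∀ x ∈ A, n * x * n⁻¹ ∈ A := fun x hx => hA.mem_of_pow hG hM
      (by rw [conj_pow, hA.elem.2 x hx, mul_one, mul_inv_cancel])
      (hSA ((mem_normalizer_iff.mp hnN x).mp (hAS hx)))
    have hnW : n ∈ W := mem_normalizer_of_map_conj (eq_of_le_of_card_ge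
      (by rintro _ ⟨x, hx, rfl⟩; exact hnA x hx) (by rw [card_map_conj]))
    have hc := commutator_centralizes_plane hA.elem hA.card hp2' hWs hWodd le_rfl S
      (fun s hs => centralizer_le_normalizer _ (hSA hs)) hSA
      (commutator_mem_commutator hyA hnW)
    set b := n * a * n⁻¹ with hb
    have hyb : Commute y b :=
      commute_conj_of_commutator hya (mem_centralizer_iff.mp hc b (hnA a ha)).symm
    by_cases hba : b ∈ zpowers a
    · refine hnM (hNa (mem_normalizer_of_map_conj ?_))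
      rw [MonoidHom.map_zpowers]
      exact eq_of_le_of_card_ge (zpowers_le.mpr hba) (by
        rw [← MonoidHom.map_zpowers, card_map_conj])
    · exact hyC (plane_centralized hA.elem hA.card ha ha1 (hnA a ha) hba hya hyb)
  -- nonabelian Sylow subgroups
  push Not at hab
  obtain ⟨S, hAS, htr⟩ := hA.exists_transitive hG hM hab
  have hSM : ¬ (S : Subgroup G) ≤ M := hA.sylow_not_le hG hM hab S
  obtain ⟨z₀, hz₀S, hz₀1, hSz₀⟩ := exists_centralized_of_le_normalizer S.2 S.2
    (fun e => hA1 (le_bot_iff.mp (e ▸ hAS))) Subgroup.le_normalizer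
  obtain ⟨z, hz, hzp, hz1, hzc⟩ := exists_zpowers_card (r := p) (S.2.to_le (zpowers_le.mpr hz₀S))
    (by rwa [Ne, zpowers_eq_bot])
  have hSz : (S : Subgroup G) ≤ centralizer ({z} : Set G) := fun s hs =>
    mem_centralizer_singleton_iff.mpr (mem_centralizer_iff.mp
      ((centralizer_zpowers z₀).ge (hSz₀ hs)) z hz).symm
  have hzA : z ∈ A := hA.mem_of_pow hG hM hzp (mem_centralizer_iff.mpr fun x hx =>
    mem_centralizer_singleton_iff.mp (hSz (hAS hx)))
  have hza : z ∉ zpowers a := fun h => hSM ((hSz.trans (le_of_eq (centralizer_zpowers z).symm)).trans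
    (le_trans (le_of_eq (by
      rw [eq_of_le_of_card_ge (zpowers_le.mpr h) (by rw [hzc, Nat.card_zpowers,
        orderOf_eq_prime (hA.elem.2 a ha) ha1])])) ((centralizer_le_normalizer _).trans hNa)))
  have hanc : ¬ ∀ s ∈ (S : Subgroup G), Commute a s := fun h =>
    hSM fun s hs => hCa (mem_centralizer_of_commute (h s hs).symm)
  have haznc : ¬ ∀ s ∈ (S : Subgroup G), Commute (a * z) s := fun h => hanc fun s hs => by
    have hzs : Commute z s := (show Commute s z from mem_centralizer_singleton_iff.mp (hSz hs)).symm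
    have := (h s hs).mul_left hzs.inv_left
    rwa [mul_inv_cancel_right] at this
  obtain ⟨k, hk, hkaz⟩ := htr a ha (a * z) (mul_mem ha hzA) hanc haznc
  set b := k * a * k⁻¹ with hb
  have hbA : b ∈ A := (mem_normalizer_iff.mp hk.2 a).mp ha
  have hba : b ∉ zpowers a := fun h => hza (by
    rw [MonoidHom.map_zpowers] at hkaz
    have h1 : zpowers b ≤ zpowers a := zpowers_le.mpr h
    have h2 : a * z ∈ zpowers a := h1 (hkaz.ge (mem_zpowers _))
    have := mul_mem (inv_mem (mem_zpowers a)) h2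
    rwa [inv_mul_cancel_left] at this)
  have hkfix : A ⊓ centralizer ({k} : Set G) = zpowers z := by
    have hle : zpowers z ≤ A ⊓ centralizer ({k} : Set G) := zpowers_le.mpr
      ⟨hzA, mem_centralizer_singleton_iff.mpr (mem_centralizer_singleton_iff.mp (hSz hk.1)).symm⟩
    refine (eq_of_le_of_card_ge hle ?_).symm
    obtain ⟨j, hj2, hj⟩ := (Nat.dvd_prime_pow hp.out).mp
      (hA.card ▸ card_dvd_of_le (inf_le_left : A ⊓ centralizer ({k} : Set G) ≤ A))
    rw [hzc, hj]
    rcases Nat.lt_or_ge j 2 with h | h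
    · exact (Nat.pow_le_pow_right hp.out.pos (show j ≤ 1 by omega)).trans (pow_one p).le
    · exfalso
      have h1 : A ⊓ centralizer ({k} : Set G) = A :=
        eq_of_le_of_card_ge inf_le_left (by rw [hj, hA.card, le_antisymm hj2 h])
      refine hba ?_
      suffices hab' : a = b by rw [← hab']; exact mem_zpowers a
      rw [hb]
      rw [← mem_centralizer_singleton_iff.mp (h1.ge ha).2, mul_inv_cancel_right]
  -- the line fixed by the commutators
  set D := ⁅W, W⁆ with hD
  have hDW : D ≤ W := commutator_le_self W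
  set Z := A ⊓ centralizer (D : Set G) with hZ
  obtain ⟨w, hwA, hw1, hwD⟩ : ∃ w ∈ A, w ≠ 1 ∧ D ≤ centralizer ({w} : Set G) := by
    obtain ⟨R⟩ : Nonempty (Sylow p D) := inferInstance
    obtain ⟨w, hwA, hw1, hRw⟩ := exists_centralized_of_le_normalizer (R.2.map D.subtype) hAp hA1
      ((map_subtype_le _).trans hDW)
    refine ⟨w, hwA, hw1, Coprime.le_of_forall_sylow_le fun s hs => ?_⟩
    haveI := Fact.mk hs
    by_cases hsp : s = p
    · subst hsp
      exact ⟨R, hRw⟩
    · obtain ⟨T⟩ : Nonempty (Sylow s D) := inferInstance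
      refine ⟨T, fun t ht => ?_⟩
      obtain ⟨i, hi⟩ := (T.2.map D.subtype).exists_orderOf_eq_pow ⟨t, ht⟩
      rw [← orderOf_coe] at hi
      exact centralizer_le (Set.singleton_subset_iff.mpr hwA) (hfix t (map_subtype_le _ ht)
        (hi ▸ ((Nat.coprime_primes hs hp.out).mpr hsp).pow_left i))
  have hwZ : w ∈ Z := ⟨hwA, mem_centralizer_iff.mpr fun d hd =>
    mem_centralizer_singleton_iff.mp (hwD hd)⟩
  have hWD : W ≤ normalizer ((centralizer (D : Set G) : Subgroup G) : Set G) := by
    have hDn : W ≤ normalizer (D : Set G) := fun g hg => mem_normalizer_of_map_conj (by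
      rw [hD, map_commutator, map_conj_eq_self_of_mem (Subgroup.le_normalizer hg)])
    intro g hg
    refine mem_normalizer_iff.mpr fun x => ?_
    have key : ∀ g ∈ W, ∀ x ∈ centralizer (D : Set G), g * x * g⁻¹ ∈ centralizer (D : Set G) := by
      intro g hg x hx
      rw [mem_centralizer_iff]
      intro d hd
      have hd' : g⁻¹ * d * g ∈ D := by
        simpa using (mem_normalizer_iff.mp (hDn (inv_mem hg)) d).mp hd
      have h1 := mem_centralizer_iff.mp hx _ hd'
      calc d * (g * x * g⁻¹) = g * (g⁻¹ * d * g * x) * g⁻¹ := by group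
        _ = g * x * g⁻¹ * d := by rw [h1]; group
    refine ⟨key g hg x, fun h => ?_⟩
    simpa [mul_assoc] using key g⁻¹ (inv_mem hg) _ h
  have hWZ : W ≤ normalizer (Z : Set G) := Coprime.le_normalizer_inf le_rfl hWD
  have hZz : Z = zpowers z := by
    have hne : Z ≠ A := by
      intro e
      refine hyC (plane_centralized hA.elem hA.card ha ha1 hbA hba hya
        (commute_conj_of_commutator hya ?_))
      exact mem_centralizer_iff.mp (e.ge hbA).2 _ (commutator_mem_commutator hyA hk.2)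
    obtain ⟨j, hj2, hj⟩ := (Nat.dvd_prime_pow hp.out).mp
      (hA.card ▸ card_dvd_of_le (inf_le_left : Z ≤ A))
    have hj1 : j ≤ 1 := by
      by_contra hc
      exact hne (eq_of_le_of_card_ge inf_le_left (by rw [hj, hA.card, le_antisymm hj2 (by omega)]))
    have hZp : Nat.card Z ≤ p := hj ▸ (Nat.pow_le_pow_right hp.out.pos hj1).trans (pow_one p).le
    obtain ⟨v, hv, hv1, hkv⟩ := exists_centralized_of_le_normalizer
      (S.2.to_le (zpowers_le.mpr hk.1)) (hAp.to_le (inf_le_left : Z ≤ A))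
      (fun e => hw1 (mem_bot.mp (e ▸ hwZ))) (zpowers_le.mpr (hWZ hk.2))
    have hvz : v ∈ zpowers z := hkfix.le ⟨hv.1, mem_centralizer_singleton_iff.mpr
      (mem_centralizer_singleton_iff.mp (hkv (mem_zpowers k))).symm⟩
    have h1 : zpowers v = zpowers z := eq_of_le_of_card_ge (zpowers_le.mpr hvz)
      (by rw [hzc, Nat.card_zpowers, orderOf_eq_prime (hA.elem.2 v hv.1) hv1])
    rw [← h1]
    exact (eq_of_le_of_card_ge (zpowers_le.mpr hv)
      (by rwa [Nat.card_zpowers, orderOf_eq_prime (hA.elem.2 v hv.1) hv1])).symm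
  have hyz : y ∈ normalizer (zpowers z : Set G) := hZz ▸ hWZ hyA
  have hyz' : y ∉ centralizer ({z} : Set G) := fun h => hyC
    (plane_centralized hA.elem hA.card ha ha1 hzA hza hya (mem_centralizer_singleton_iff.mp h))
  -- the maximal subgroup over `S`
  obtain ⟨H, ⟨hH, hSH⟩, huniq⟩ := inUniqueMaximal_of_nonabelian hG S.2 (hab S)
  have hNz : normalizer (zpowers z : Set G) ≤ H :=
    unique_normalizer_of_centralizer hG hM (by rwa [Ne, zpowers_eq_bot])
      (zpowers_le.mpr (hA.le hzA)) fun K hK hle =>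
        huniq K ⟨hK, (hSz.trans (le_of_eq (centralizer_zpowers z).symm)).trans hle⟩
  have hne : H ≠ M := fun e => hSM (e ▸ hSH)
  have hyH : y ∈ H := hNz hyz
  have hpH : p ∈ sigma H := Classical.byContradiction fun hc =>
    hab S (comm_of_not_sigma hG hH hc S.2 hSH)
  have hpβ : p ∉ beta H := fun hb =>
    not_isIdealPrime_of_not_sigma hG hM hA.not_sigma hp2.2.2.1 hp2.2.2.2 hb.2
  have hzH : z ∈ H := hSH (hAS hzA)
  have haσ : a ∈ sigmaCore H :=
    le_sigmaCore_of_isPGroup hG hH hSH S.2 hpH (hAS ha)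
  have hyg : IsPGroup r (zpowers y) := IsPGroup.of_card (n := 1)
    (by rw [Nat.card_zpowers, hyo, pow_one])
  have hrH : r ∣ Nat.card H := hyo ▸ Subgroup.orderOf_dvd_natCard H hyH
  have hrσ : r ∉ sigma H := fun hc => hyz' ((centralizer_zpowers z).le
    (le_centralizer_of_sigma hG hH hc hpH hpβ hrp.symm hyg (zpowers_le.mpr hyH)
      (IsPGroup.of_card (n := 1) (by rw [hzc, pow_one])) (zpowers_le.mpr hzH)
      (zpowers_le.mpr hyz) (mem_zpowers y)))
  rcases tau_of_not_sigma hG hH hrσ hrH with (h1 | h3) | h2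
  · exfalso
    obtain ⟨hle, -⟩ := unique_of_tau1_fixed (p := p) hG hH h1 (Q := zpowers y)
      (by rw [Nat.card_zpowers, hyo]) (zpowers_le.mpr hyH) (x := a)
      ⟨haσ, (centralizer_zpowers y).ge (mem_centralizer_of_commute hya.symm)⟩ ha1
      (hA.elem.2 a ha)
    obtain ⟨-, hu⟩ := unique_of_tau1_fixed (p := p) hG hH h1 (Q := zpowers y)
      (by rw [Nat.card_zpowers, hyo]) (zpowers_le.mpr hyH) (x := a)
      ⟨haσ, (centralizer_zpowers y).ge (mem_centralizer_of_commute hya.symm)⟩ ha1
      (hA.elem.2 a ha)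
    exact hne (hu M hM hCa).symm
  · exfalso
    obtain ⟨T, hT⟩ := exists_sylow_ge hyg (zpowers_le.mpr hyH)
    have hcT : IsCyclic (T : Subgroup H) := by
      have h2 : r ≠ 2 := by
        intro e
        exact absurd (hG.1.of_dvd_nat (hrH.trans (card_subgroup_dvd_card H))) (by rw [e]; decide)
      exact isCyclic_of_pRankLE_one h2 T.2
        (pRankLE_of_injective (T : Subgroup H).subtype (Subgroup.subtype_injective _) h3.2.2.2)
    have hyD : y ∈ ⁅H, H⁆ := le_derived_of_cyclic T hcT h3.2.2.1 (hT (mem_zpowers y))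
    set N := normalizer ((S : Subgroup G) : Set G) with hN
    have hNH : N ≤ H := normalizer_sylow_le hG hH hSH hpH
    set B := piCoreOf (beta H) H with hBdef
    have hBn : H ≤ normalizer (B : Set G) := le_normalizer_piCoreOf _ _
    have hH' : H = B ⊔ N := le_antisymm
      ((le_betaCore_sup_normalizer hG hH hpH hpβ S hSH).trans (sup_le_sup_left inf_le_right _))
      (sup_le (piCoreOf_le _ _) hNH)
    obtain ⟨u, hu, m, hm, rfl⟩ := (Coprime.mem_sup_of_le_normalizer (N := B) (A := ⁅N, N⁆)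
      (((commutator_le_self N).trans hNH).trans hBn)).mp
        (commutator_le_sup_of_eq hBn hH' hyD)
    have hNz' : ⁅N, N⁆ ≤ centralizer ({z} : Set G) := by
      refine Coprime.le_of_forall_sylow_le fun s hs => ?_
      haveI := Fact.mk hs
      obtain ⟨T⟩ : Nonempty (Sylow s ↥⁅N, N⁆) := inferInstance
      refine ⟨T, fun t ht => ?_⟩
      by_cases hsp : s = p
      · subst hsp
        have hsup : IsPGroup s ↥((S : Subgroup G) ⊔ (T : Subgroup ↥⁅N, N⁆).map ⁅N, N⁆.subtype) :=
          S.2.to_sup_of_normal_left' (T.2.map _)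
            ((map_subtype_le _).trans (commutator_le_self N))
        exact hSz ((S.3 hsup le_sup_left).le (mem_sup_right ht))
      · obtain ⟨i, hi⟩ := (T.2.map (⁅N, N⁆).subtype).exists_orderOf_eq_pow ⟨t, ht⟩
        rw [← orderOf_coe] at hi
        exact centralizer_le (Set.singleton_subset_iff.mpr (hAS hzA))
          (mem_centralizer_sylow_of_derived hG hH hpH hpβ S hSH (map_subtype_le _ ht)
            (hi ▸ ((Nat.coprime_primes hs hp.out).mpr hsp).pow_left i))
    have hmz : m * z = z * m := mem_centralizer_singleton_iff.mp (hNz' hm)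
    have hBz : B ⊓ zpowers z = ⊥ := Coprime.inf_eq_bot_of_coprime (by
      rw [hzc]
      exact (hp.out.coprime_iff_not_dvd.mpr fun hd =>
        hpβ (piNum_piCoreOf (beta H) H p hp.out hd)).symm)
    have hmem : u * z * u⁻¹ * z⁻¹ ∈ B ⊓ zpowers z := by
      refine ⟨?_, ?_⟩
      · have : z * u⁻¹ * z⁻¹ ∈ B := (mem_normalizer_iff.mp (hBn hzH) u⁻¹).mp (inv_mem hu)
        have := mul_mem hu this
        simpa [mul_assoc] using this
      · have h1 : u * m * z * (u * m)⁻¹ ∈ zpowers z :=
          (mem_normalizer_iff.mp hyz z).mp (mem_zpowers z)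
        have h2 : u * m * z * (u * m)⁻¹ = u * z * u⁻¹ := by
          calc u * m * z * (u * m)⁻¹ = u * (m * z) * m⁻¹ * u⁻¹ := by group
            _ = u * z * u⁻¹ := by rw [hmz]; group
        rw [h2] at h1
        exact (zpowers z).mul_mem h1 ((zpowers z).inv_mem (mem_zpowers z))
    rw [hBz, mem_bot, mul_inv_eq_one, mul_inv_eq_iff_eq_mul] at hmem
    refine hyz' (mem_centralizer_singleton_iff.mpr ?_)
    calc u * m * z = u * (m * z) := by group
      _ = u * z * m := by rw [hmz]; group
      _ = z * u * m := by rw [hmem]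
      _ = z * (u * m) := by group
  · exact ⟨H, hH, h2, haσ, hyH⟩

/-- BG 13.13. -/
theorem sigma_of_line_overgroup (hp13 : p ∈ tau1 M ∪ tau3 M) {P : Subgroup G}
    (hP : Nat.card P = p) (hPM : P ≤ M) (hfix : sigmaCore M ⊓ centralizer (P : Set G) ≠ ⊥)
    (hL : IsCoatom L) (hNL : normalizer (P : Set G) ≤ L) : p ∈ sigma L := by
  obtain ⟨h, -, hnc⟩ := line_overgroup hG hM hp13 hL hP hNL
  refine h.resolve_right fun hp2 => ?_
  have hpσ : p ∉ sigma M := hp13.elim (·.2.1) (·.2.1)
  obtain ⟨a, haP, ha1⟩ := exists_mem_ne_one P (fun e => hp.out.ne_one (by rw [← hP, e, card_bot]))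
  have hap : a ^ p = 1 := by
    have := pow_card_eq_one' (x := (⟨a, haP⟩ : P))
    rw [hP] at this
    exact congrArg Subtype.val this
  have hPa : zpowers a = P := eq_of_le_of_card_ge (zpowers_le.mpr haP)
    (by rw [Nat.card_zpowers, orderOf_eq_prime hap ha1, hP])
  obtain ⟨q, hq, hqd⟩ := exists_prime_dvd_of_ne_bot hfix
  haveI := Fact.mk hq
  obtain ⟨y, hy⟩ := exists_prime_orderOf_dvd_card' q hqd
  have hyo : orderOf (y : G) = q := by rw [orderOf_coe, hy]
  obtain ⟨y, hyσ, hyC⟩ := y
  replace hyo : orderOf y = q := hyo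
  have hy1 : y ≠ 1 := fun e => hq.ne_one (by rw [← hyo, e, orderOf_one])
  have hyq : y ^ q = 1 := by rw [← hyo, pow_orderOf_eq_one]
  have hqσ : q ∈ sigma M :=
    piNum_sigmaCore M q hq (hyo ▸ Subgroup.orderOf_dvd_natCard _ hyσ)
  have hqp : q ≠ p := fun e => hpσ (e ▸ hqσ)
  have hqL : q ∉ sigma L := fun hc => by
    obtain ⟨g, hg⟩ := exists_conj_of_sigma_inter hG hM hL hqσ hc
    exact hnc g hg
  have hyL : y ∈ L := ((centralizer_le_normalizer _).trans hNL) hyC
  have hya : Commute y a := (mem_centralizer_iff.mp hyC a haP).symm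
  have haL : a ∈ L := (Subgroup.le_normalizer.trans hNL) haP
  -- a complement through `a` and `y`
  obtain ⟨E, hE, hXE⟩ := exists_compl_ge_of_not_sigma hG hL
    (sup_le (zpowers_le.mpr haL) (zpowers_le.mpr hyL)) (fun s hs hd => by
      have hd' : s ∣ Nat.card (zpowers a) * Nat.card (zpowers y) :=
        hd.trans (card_sup_dvd_mul (zpowers_le.mpr (centralizer_le_normalizer _
          ((centralizer_zpowers a).ge (mem_centralizer_of_commute hya)))))
      rw [Nat.card_zpowers, Nat.card_zpowers, hyo, orderOf_eq_prime hap ha1] at hd'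
      rcases hs.dvd_mul.mp hd' with h1 | h1
      · rw [(Nat.prime_dvd_prime_iff_eq hs hp.out).mp h1]; exact hp2.2.1
      · rw [(Nat.prime_dvd_prime_iff_eq hs hq).mp h1]; exact hqL)
  obtain ⟨B, hBE, hB⟩ := exists_plane_in_compl hG hL hE hp2
  have haB : a ∈ B := hB.mem_of_mem_compl hG hL hE hBE (hXE (mem_sup_left (mem_zpowers a))) hap
  have hbot := fixed_plane_inf_eq_bot hG hM hL hpσ hp2 hB haB (hPM haP) ha1
  obtain ⟨H, hH, hq2, haH, hyH⟩ := moved_plane hG hL hp2 hB haB ha1 (hPa ▸ hNL) hqp hyq hy1 hyL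
    ((hB.isExceptional hG hL).le_normalizer_of_compl hG hL hE hBE
      (hXE (mem_sup_right (mem_zpowers y)))) hya
    (fun hc => hy1 (mem_bot.mp (hbot ▸ (⟨hyσ, hc⟩ : y ∈ sigmaCore M ⊓ centralizer (B : Set G)))))
  exact not_tau2_of_shared hG hM hH (fun e => hq2.2.1 (e ▸ hqσ)) hqσ (sigmaCore_le M hyσ) hyH hyq
    hy1 ⟨haH, hPM haP⟩ ha1 hya hq2

/-- BG 13.12. -/
theorem plane_inf_centralizer_eq_bot (hp2 : p ∈ tau2 M) (hA : IsTauPair p M A) {r : ℕ}
    [Fact r.Prime] (hr : r ∈ tau1 M) {Q : Subgroup G} (hQ : Nat.card Q = r) (hQM : Q ≤ M)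
    (hQA : Q ≤ normalizer (A : Set G)) (hfix : sigmaCore M ⊓ centralizer (Q : Set G) ≠ ⊥) :
    A ⊓ centralizer (Q : Set G) = ⊥ := by
  by_contra hne
  have hrp : r ≠ p := fun e => hp2.2.2.2 (e ▸ hr.2.2.2.2)
  obtain ⟨a, ⟨haA, haQ⟩, ha1⟩ := exists_mem_ne_one _ hne
  obtain ⟨E, hE, hXE⟩ := exists_compl_ge_of_not_sigma hG hM (sup_le hA.le hQM) (fun s hs hd => by
    rcases hs.dvd_mul.mp (hd.trans (card_sup_dvd_mul hQA)) with h | h
    · rw [hA.card] at h
      rw [(Nat.prime_dvd_prime_iff_eq hs hp.out).mp (hs.dvd_of_dvd_pow h)]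
      exact hA.not_sigma
    · rw [hQ] at h
      rw [(Nat.prime_dvd_prime_iff_eq hs Fact.out).mp h]
      exact hr.2.1)
  have hfixed : ∀ x ∈ A, x ∈ centralizer (Q : Set G) →
      sigmaCore M ⊓ centralizer (Q : Set G) ≤ centralizer ({x} : Set G) := by
    intro x hx hxQ
    by_cases hx1 : x = 1
    · intro k _
      rw [hx1]
      exact mem_centralizer_singleton_iff.mpr (by rw [mul_one, one_mul])
    rw [← centralizer_zpowers]
    exact (Cfsg.Agent.S1428.result hG M hM E hE r hr Q (le_sup_right.trans hXE) hQ (zpowers x)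
      (zpowers_le.mpr ⟨hXE (mem_sup_left hx), hxQ⟩)
      (by rw [Nat.card_zpowers, orderOf_eq_prime (hA.elem.2 x hx) hx1]; exact hp.out)).trans
        inf_le_right
  obtain ⟨e, heQ, he1⟩ := exists_mem_ne_one Q
    (fun h => (Fact.out : r.Prime).ne_one (by rw [← hQ, h, card_bot]))
  have her : e ^ r = 1 := by
    have := pow_card_eq_one' (x := (⟨e, heQ⟩ : Q))
    rw [hQ] at this
    exact congrArg Subtype.val this
  have hQe : zpowers e = Q := eq_of_le_of_card_ge (zpowers_le.mpr heQ)
    (by rw [Nat.card_zpowers, orderOf_eq_prime her he1, hQ])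
  by_cases heA : e ∈ centralizer (A : Set G)
  · refine hfix (le_bot_iff.mp (hA.fixed_eq_bot hG hM ▸ le_inf inf_le_left fun k hk => ?_))
    rw [mem_centralizer_iff]
    intro x hx
    have hxQ : x ∈ centralizer (Q : Set G) := by
      rw [← hQe, centralizer_zpowers]
      exact mem_centralizer_singleton_iff.mpr (mem_centralizer_iff.mp heA x hx)
    exact (mem_centralizer_singleton_iff.mp (hfixed x hx hxQ hk)).symm
  have hCa : sigmaCore M ⊓ centralizer (zpowers a : Set G) ≠ ⊥ := fun h => hfix (le_bot_iff.mp (h ▸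
    le_inf inf_le_left ((hfixed a haA haQ).trans (le_of_eq (centralizer_zpowers a).symm))))
  obtain ⟨-, hu⟩ := hA.unique_centralizer hG hM (zpowers_le.mpr haA) hCa
    (by rwa [Ne, zpowers_eq_bot])
  have hNa := unique_normalizer_of_centralizer hG hM (by rwa [Ne, zpowers_eq_bot])
    (zpowers_le.mpr (hA.le haA)) hu
  have hea : Commute e a := (mem_centralizer_iff.mp haQ e heQ)
  obtain ⟨H, hH, hr2, haH, heH⟩ := moved_plane hG hM hp2 hA haA ha1 hNa hrp her he1 (hQM heQ)
    (hQA heQ) hea heA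
  have hu2 := unique_of_tau2_elt hG hH heH he1 (fun s hs hd => by
    rw [orderOf_eq_prime her he1] at hd
    rw [(Nat.prime_dvd_prime_iff_eq hs Fact.out).mp hd]
    exact hr2) ⟨heH, a, haH, ha1, hea⟩
  have hNe : normalizer (Q : Set G) ≤ H := by
    rw [← hQe]
    refine unique_normalizer_of_centralizer hG hH (by rwa [Ne, zpowers_eq_bot])
      (zpowers_le.mpr heH) fun K hK hle => hu2.2 K hK (by rwa [← centralizer_zpowers])
  exact hr2.2.1 (sigma_of_line_overgroup hG hM (Or.inl hr) hQ hQM hfix hH hNe)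

end Cfsg.Agent.OddLocal
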