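import Cfsg.Agent.OddLocal.Bender
import Cfsg.Agent.OddLocal.InvTransitivity
import Mathlib.GroupTheory.SchurZassenhaus

/-!
The transitivity theorem for groups with `p`-constrained `p`-locals.
-/

set_option autoImplicit false
set_option linter.unusedSectionVars false
set_option linter.style.haveILetI false

namespace Cfsg.Agent.OddLocal

open Subgroup Cfsg
open scoped Pointwise commutatorElement

universe u

variable {G : Type u} [Group G] [Finite G] {p : ℕ} [hp : Fact p.Prime]

theorem coprime_of_piNum_prime {Y : Subgroup G} (hY : PiNum (primesNotDvd p) Y) :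
    (Nat.card Y).Coprime p :=
  Nat.Coprime.symm (hp.out.coprime_iff_not_dvd.mpr fun h => (hY p hp.out h).2 dvd_rfl)

theorem piNum_of_coprime {Y : Subgroup G} (hY : (Nat.card Y).Coprime p) :
    PiNum (primesNotDvd p) Y := fun r hr hd => ⟨hr, fun h => by
  rw [(Nat.prime_dvd_prime_iff_eq hr hp.out).mp h] at hd
  exact hp.out.coprime_iff_not_dvd.mp hY.symm hd⟩

/-- If `E` is central in `C(E)` and contains its `p`-elements, the `p'`-subgroups of `C(E)` lie in
`O_{p'}(C(E))`. -/
theorem le_core_centralizer {E : Subgroup G} (hEp : IsPGroup p E) [IsMulCommutative E]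
    (hEfull : ∀ x ∈ centralizer (E : Set G), IsPGroup p (zpowers x) → x ∈ E) {Y : Subgroup G}
    (hY : Y ≤ centralizer (E : Set G)) (hYπ : PiNum (primesNotDvd p) Y) :
    Y ≤ piCoreOf (primesNotDvd p) (centralizer (E : Set G)) := by
  set C := centralizer (E : Set G) with hC
  have hEC : E ≤ C := le_centralizer_iff_isMulCommutative.mpr inferInstance
  set E' := E.subgroupOf C with hE'
  have hcent : ∀ e ∈ E', ∀ c : C, c * e = e * c := fun e he c =>
    Subtype.ext (mem_centralizer_iff.mp c.2 (e : G) he).symm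
  haveI : E'.Normal := ⟨fun e he c => by rw [hcent e he c, mul_inv_cancel_right]; exact he⟩
  have hidx : E'.index.Coprime p := by
    obtain ⟨P⟩ : Nonempty (Sylow p C) := inferInstance
    have hPE : (P : Subgroup C) ≤ E' := fun x hx => hEfull x x.2
      ((P.2.map C.subtype).to_le (zpowers_le.mpr (mem_map_of_mem C.subtype hx)))
    exact Nat.Coprime.symm (hp.out.coprime_iff_not_dvd.mpr fun h =>
      P.not_dvd_index (h.trans (index_dvd_of_le hPE)))
  have hcop : (Nat.card E').Coprime E'.index := by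
    obtain ⟨k, hk⟩ := IsPGroup.iff_card.mp hEp
    rw [hE', Coprime.card_subgroupOf hEC, hk]
    exact hidx.symm.pow_left k
  obtain ⟨W, hW⟩ := Subgroup.exists_left_complement'_of_coprime hcop
  have hWn : W.Normal := ⟨fun w hw c => by
    obtain ⟨⟨⟨w₀, hw₀⟩, ⟨e, he⟩⟩, hc⟩ := hW.2 c
    simp only at hc
    rw [← hc]
    have : w₀ * e * w * (w₀ * e)⁻¹ = w₀ * w * w₀⁻¹ := by
      rw [mul_assoc w₀ e, ← hcent e he w]
      group
    rw [this]
    exact mul_mem (mul_mem hw₀ hw) (inv_mem hw₀)⟩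
  have hWcard : (Nat.card W).Coprime p := by
    have h1 := hW.card_mul_card
    have h2 := Subgroup.card_mul_index E'
    rw [← h1, mul_comm (Nat.card W)] at h2
    rwa [← Nat.eq_of_mul_eq_mul_left Nat.card_pos h2]
  have hle : Y.subgroupOf C ≤ W := by
    refine Core.le_of_coprime_index ?_
    have h1 : W.index = Nat.card E' := by
      have h1 := hW.card_mul_card
      have h2 := Subgroup.card_mul_index W
      rw [← h1] at h2
      exact Nat.eq_of_mul_eq_mul_left Nat.card_pos h2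
    obtain ⟨k, hk⟩ := IsPGroup.iff_card.mp hEp
    rw [h1, hE', Coprime.card_subgroupOf hEC, Coprime.card_subgroupOf hY, hk]
    exact (coprime_of_piNum_prime hYπ).pow_right k
  have hWle : W ≤ piCore (primesNotDvd p) C := le_sSup ⟨hWn, piNum_of_coprime hWcard⟩
  intro y hy
  exact ⟨⟨y, hY hy⟩, hWle (hle hy), rfl⟩

/-- Thompson transitivity with `p`-constrained `p`-locals. -/
theorem linked_of_pConstrained_locals
    (hloc : ∀ T : Subgroup G, IsPGroup p T → T ≠ ⊥ → IsPConstrained p ↥(normalizer (T : Set G)))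
    (hcl : p = 2 → ∀ S : Subgroup G, IsPGroup p S → ∀ a ∈ S, ∀ b ∈ S, ∀ c ∈ S, ⁅⁅a, b⁆, c⁆ = 1)
    {E : Subgroup G} (hEp : IsPGroup p E) [IsMulCommutative E] (hE3 : ¬ PRankLE p 2 E)
    (hEfull : ∀ x ∈ centralizer (E : Set G), IsPGroup p (zpowers x) → x ∈ E)
    {q : ℕ} [Fact q.Prime] (hqp : q ≠ p) :
    ∀ Q₁ ∈ maxInvSubgroups ⊤ E {q}, ∀ Q₂ ∈ maxInvSubgroups ⊤ E {q},
      Linked (piCoreOf (primesNotDvd p) (centralizer (E : Set G))) Q₁ Q₂ := by
  have hqπ : q ∈ primesNotDvd p := ⟨Fact.out, fun h =>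
    hqp ((Nat.prime_dvd_prime_iff_eq Fact.out hp.out).mp h)⟩
  have hA : ∀ r : ℕ, r.Prime → r ∣ Nat.card E → r ∉ primesNotDvd p := fun r hr hd h =>
    h.2 (by rw [show r = p from mem_singleton_of_isPGroup hEp r hr hd])
  have hsolE : Group.IsSolvable E := Layer.isSolvable_of_isPGroup hEp
  -- an elementary subgroup of order at least `p ^ 3`
  simp only [PRankLE] at hE3
  push Not at hE3
  obtain ⟨E₁, hE₁c, hE₁p, hE₁card⟩ := hE3
  set E₀ := E₁.map E.subtype with hE₀
  have hE₀E : E₀ ≤ E := map_subtype_le _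
  have hE₀e : IsElementaryAbelian p E₀ := by
    refine ⟨⟨⟨?_⟩⟩, ?_⟩
    · rintro ⟨a, ha⟩ ⟨b, hb⟩
      exact Subtype.ext (congrArg (fun z : E => (z : G))
        (IsMulCommutative.is_comm.comm (⟨a, hE₀E ha⟩ : E) ⟨b, hE₀E hb⟩))
    · rintro _ ⟨a, ha, rfl⟩
      exact congrArg Subtype.val (hE₁p a ha)
  have hcard : p ^ 3 ≤ Nat.card E₀ := by
    rw [hE₀, card_map_of_injective E.subtype_injective]
    obtain ⟨k, hk⟩ := IsPGroup.iff_card.mp (hEp.to_subgroup E₁)
    rw [hk] at hE₁card ⊢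
    exact Nat.pow_le_pow_right hp.out.pos ((Nat.pow_lt_pow_iff_right hp.out.one_lt).mp hE₁card)
  intro Q₁ h₁ Q₂ h₂
  refine linked_of_step hqπ hA (fun Y hY hYπ => le_core_centralizer hEp hEfull hY hYπ)
    (fun _ => True) (fun _ _ _ _ => trivial) ?_ Q₁ h₁ Q₂ h₂ trivial
  intro P₁ hP₁ P₂ hP₂ _ hlt₁ hlt₂
  set D := P₁ ⊓ P₂ with hD
  have hPq : ∀ P : Subgroup G, P ∈ maxInvSubgroups ⊤ E {q} → IsPGroup q P := fun P hP =>
    isPGroup_of_singleton hP.1.2.1
  have hPp : ∀ P : Subgroup G, P ∈ maxInvSubgroups ⊤ E {q} → ¬ p ∣ Nat.card P := fun P hP h =>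
    hqp (Set.mem_singleton_iff.mp (hP.1.2.1 p hp.out h)).symm
  have hED : E ≤ normalizer (D : Set G) := Coprime.le_normalizer_inf hP₁.1.2.2 hP₂.1.2.2
  obtain ⟨a, ha, ha1, hn₁, hn₂⟩ := Signalizer.exists_common_fixed hE₀e hcard (hPq P₁ hP₁)
    (hPq P₂ hP₂) (hPp P₁ hP₁) (hPp P₂ hP₂) (hE₀E.trans hP₁.1.2.2) (hE₀E.trans hP₂.1.2.2)
    (hE₀E.trans hED) hlt₁ hlt₂
  set T := zpowers a with hT
  set N := normalizer (T : Set G) with hN
  have hTE : T ≤ E := zpowers_le.mpr (hE₀E ha)
  have hEN : E ≤ N := (le_centralizer_iff.mp (hTE.trans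
    (le_centralizer_iff_isMulCommutative.mpr inferInstance))).trans (centralizer_le_normalizer _)
  have hEaC : E ≤ centralizer {a} := fun b hb => mem_centralizer_singleton_iff.mpr
    (congrArg Subtype.val (IsMulCommutative.is_comm.comm (⟨b, hb⟩ : E) ⟨a, hE₀E ha⟩))
  have hcN : IsPConstrained p N := hloc T (hEp.to_le hTE) (by rwa [Ne, zpowers_eq_bot])
  set O := (pPrimeCore p ↥N).map N.subtype with hO
  have hON : N ≤ normalizer (O : Set G) :=
    LocalStructure.le_normalizer_map_characteristic (Q := N) Subgroup.le_normalizer _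
  haveI : IsMulCommutative (E.subgroupOf N) := ⟨⟨fun x y => Subtype.ext (Subtype.ext
    (congrArg (fun z : E => (z : G))
      (IsMulCommutative.is_comm.comm (⟨((x : N) : G), x.2⟩ : E) ⟨((y : N) : G), y.2⟩)))⟩⟩
  -- invariant `q`-subgroups of `N` lie in `O`
  have hin : ∀ U : Subgroup G, U ≤ N → IsPGroup q U → E ≤ normalizer (U : Set G) → U ≤ O := by
    intro U hUN hUq hUE
    have hUp : (Nat.card (U.subgroupOf N)).Coprime p := by
      rw [Coprime.card_subgroupOf hUN]
      obtain ⟨k, hk⟩ := IsPGroup.iff_card.mp hUq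
      rw [hk]
      exact ((Nat.coprime_primes Fact.out hp.out).mpr hqp).pow_left k
    have hEp' : IsPGroup p (E.subgroupOf N) := hEp.comap_of_injective _ N.subtype_injective
    have hUE' : E.subgroupOf N ≤ normalizer ((U.subgroupOf N : Subgroup N) : Set N) := by
      intro x hx
      rw [mem_normalizer_iff]
      exact fun y => mem_normalizer_iff.mp (hUE hx) (y : G)
    have hfull : ∀ x ∈ centralizer ((E.subgroupOf N : Subgroup N) : Set N), ∀ k : ℕ,
        x ^ p ^ k = 1 → x ∈ E.subgroupOf N := by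
      intro x hx k hk
      refine hEfull x (mem_centralizer_iff.mpr fun e he =>
        congrArg Subtype.val (mem_centralizer_iff.mp hx ⟨e, hEN he⟩ he)) ?_
      obtain ⟨j, -, hj⟩ := (Nat.dvd_prime_pow hp.out).mp
        (orderOf_dvd_of_pow_eq_one (congrArg Subtype.val hk : (x : G) ^ p ^ k = 1))
      exact IsPGroup.of_card (n := j) (by rw [Nat.card_zpowers, hj])
    have hle : U.subgroupOf N ≤ pPrimeCore p ↥N := by
      by_cases h2 : p = 2
      · refine le_pPrimeCore_of_invariant_class_two hcN ?_ hEp' hfull hUp hUE'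
        intro S x hx y hy z hz
        exact Subtype.ext (hcl h2 ((S : Subgroup N).map N.subtype) (S.2.map _) _
          (mem_map_of_mem _ hx) _ (mem_map_of_mem _ hy) _ (mem_map_of_mem _ hz))
      · exact le_pPrimeCore_of_invariant_odd hcN h2 hEp'
          (fun x hx hxp => hfull x hx 1 (by rwa [pow_one])) hUp hUE'
    rw [← map_subgroupOf_eq_of_le hUN]
    exact map_mono hle
  set X := normalizer (D : Set G) with hX
  set W := D ⊔ O ⊓ X with hW
  have hUle : ∀ P : Subgroup G, P ∈ maxInvSubgroups ⊤ E {q} →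
      X ⊓ P ⊓ centralizer {a} ≤ O ⊓ X ∧
      E ≤ normalizer ((X ⊓ P ⊓ centralizer {a} : Subgroup G) : Set G) := by
    intro P hP
    have hn := Coprime.le_normalizer_inf (Coprime.le_normalizer_inf
      (hED.trans Subgroup.le_normalizer) hP.1.2.2) (hEaC.trans Subgroup.le_normalizer)
    refine ⟨le_inf (hin _ ?_ ((hPq P hP).to_le (inf_le_left.trans inf_le_right)) hn)
      (inf_le_left.trans inf_le_left), hn⟩
    intro x hx
    refine centralizer_le_normalizer _ (mem_centralizer_iff.mpr ?_)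
    rintro _ ⟨j, rfl⟩
    exact ((show Commute a x from
      (mem_centralizer_singleton_iff.mp hx.2).symm).zpow_left j).eq
  have hOX : O ⊓ X ≤ normalizer (D : Set G) := inf_le_right
  have hWπ : PiNum (primesNotDvd p) W := by
    refine piNum_of_coprime ?_
    rw [hW, sup_comm]
    refine Layer.coprime_card_sup hOX (Nat.Coprime.coprime_dvd_left (card_dvd_of_le inf_le_left)
      ?_) (coprime_of_piNum_prime ((piNum_of_isPGroup hqπ (hPq P₁ hP₁)).mono inf_le_left))
    rw [hO, card_map_of_injective N.subtype_injective]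
    exact Core.coprime_card_pPrimeCore
  have hEW : E ≤ normalizer (W : Set G) :=
    Coprime.le_normalizer_sup hED (Coprime.le_normalizer_inf (hEN.trans hON)
      (hED.trans Subgroup.le_normalizer))
  refine ⟨W, D ⊔ (X ⊓ P₁ ⊓ centralizer {a}), D ⊔ (X ⊓ P₂ ⊓ centralizer {a}), hEW, hWπ,
    Or.inl hsolE, sup_le_sup_left (hUle P₁ hP₁).1 D, sup_le_sup_left (hUle P₂ hP₂).1 D,
    sup_le inf_le_left (inf_le_left.trans inf_le_right),
    sup_le inf_le_right (inf_le_left.trans inf_le_right),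
    Coprime.le_normalizer_sup hED (hUle P₁ hP₁).2, Coprime.le_normalizer_sup hED (hUle P₂ hP₂).2,
    lt_of_le_of_ne le_sup_left fun h => hn₁ (h ▸ le_sup_right),
    lt_of_le_of_ne le_sup_left fun h => hn₂ (h ▸ le_sup_right)⟩

end Cfsg.Agent.OddLocal
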