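import Cfsg.Agent.OddLocal.TypeUnique

/-!
# Types II, III and IV (BG 16.1)
-/

namespace Cfsg.Agent.OddLocal

open Subgroup
open scoped commutatorElement

universe u

variable {G : Type u} [Group G] [Finite G] {M K U : Subgroup G}

variable (hG : IsMinSimpleOddOrder G) (hM : IsCoatom M)
include hG hM

theorem typeII_iff (h : IsSigmaDecomposition M K U) : IsOfTypeII M ↔ K ≠ ⊥ ∧ U ≠ ⊥ := by
  constructor
  · rintro ⟨W₁, V, W₂, hP, hV1, -, -, -, hVN, -, -⟩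
    obtain ⟨hK1, -, -, hb, hc⟩ := typeP_invariants hG hM h hP
    refine ⟨hK1, fun hU => ?_⟩
    by_cases he : fittingHallOf M = sigmaCore M
    · exact hV1 (hc hU he)
    · exact hVN (hb hU he).2
  · rintro ⟨hK1, hU1⟩
    have he := fittingHallOf_eq_of_nilpotent hG hM (sigmaCore_nilpotent_of_U hG hM h hU1)
    obtain ⟨V, hVn, hKV, hV, hVU, -⟩ := exists_typeP_compl hG hM h hK1
    obtain ⟨hp, hTI, -⟩ := S1372.result hG M hM K U h hK1 hU1
    obtain ⟨hUc, hUn⟩ := S1363.result hG M hM K U h hK1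
    obtain rfl := hVU he
    exact ⟨K, V, kStar M K, isTypePWith_of_compl hG hM h hK1 hVn hKV hV, hU1, hp, hTI, hUc, hUn,
      derived_typeF hG hM h hK1 hU1, fittingHallOf_derived_eq hG hM h hK1 he⟩

theorem typeIII_or_IV_iff (h : IsSigmaDecomposition M K U) :
    (IsOfTypeIII M ∨ IsOfTypeIV M) ↔ K ≠ ⊥ ∧ U = ⊥ ∧ fittingHallOf M ≠ sigmaCore M := by
  constructor
  · intro ht
    obtain ⟨W₁, V, W₂, hP, hV1, hVN⟩ : ∃ W₁ V W₂ : Subgroup G, IsTypePWith M W₁ V W₂ ∧ V ≠ ⊥ ∧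
        normalizer (V : Set G) ≤ M := by
      rcases ht with ⟨W₁, V, W₂, hP, hV1, -, -, -, hVN⟩ | ⟨W₁, V, W₂, hP, hV1, -, -, -, hVN⟩ <;>
        exact ⟨W₁, V, W₂, hP, hV1, hVN⟩
    obtain ⟨hK1, -, ha, -, hc⟩ := typeP_invariants hG hM h hP
    have hU : U = ⊥ := by_contra fun hU1 => (ha hU1).2.2 hVN
    exact ⟨hK1, hU, fun he => hV1 (hc hU he)⟩
  · rintro ⟨hK1, hU, hne⟩
    obtain ⟨V, hVn, hKV, hV, -, -⟩ := exists_typeP_compl hG hM h hK1
    have hP := isTypePWith_of_compl hG hM h hK1 hVn hKV hV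
    obtain ⟨-, -, -, hb, -⟩ := typeP_invariants hG hM h hP
    obtain ⟨hV1, hVN⟩ := hb hU hne
    obtain ⟨-, hd⟩ := coreData_of_ne hG hM h hne
    by_cases hVc : IsMulCommutative V
    · exact Or.inl ⟨K, V, kStar M K, hP, hV1, hd.card_K_prime, hd.fittingOf_TI, hVc, hVN⟩
    · exact Or.inr ⟨K, V, kStar M K, hP, hV1, hd.card_K_prime, hd.fittingOf_TI, hVc, hVN⟩

end Cfsg.Agent.OddLocal
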