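import Cfsg.Agent.OddLocal.FittingTI
import Cfsg.Agent.OddLocal.KappaDerived

/-!
# Type `P` data of a maximal subgroup with `K ≠ 1` (BG 16.1, type `P` part)
-/

namespace Cfsg.Agent.OddLocal

open Subgroup
open scoped commutatorElement

universe u

variable {G : Type u} [Group G] [Finite G] {M K U : Subgroup G}

variable (hG : IsMinSimpleOddOrder G) (hM : IsCoatom M)
include hG hM

theorem isSelfNormalizingCyclic_kappa (hK : IsPiHallOf (kappa M) K M) (hK1 : K ≠ ⊥) :
    IsSelfNormalizingCyclic K (kStar M K) := by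
  have hm : IsMember (K ⊔ kStar M K) M K := ⟨hM, hK, hK1, rfl⟩
  refine ⟨hK1, hm.kStar_ne_bot hG, Coprime.inf_eq_bot_of_coprime (kappa_kStar_coprime hG hM hK),
    fun a ha b hb => mem_centralizer_iff.1 (mem_inf.1 hb).2 a ha,
    kappa_W_cyclic hG hM hK hK1, fun X hX hne => ?_⟩
  rw [← memberRest_eq hG hM hK hK1] at hX
  haveI := kappa_W_comm hG hM hK hK1
  refine le_antisymm (fun g hg => ?_) (fun w hw => ?_)
  · obtain ⟨z, hz⟩ := hne
    exact hm.mem_of_conj hG (hX hz) (hX ((hg z).1 hz))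
  · have hfix : ∀ x ∈ K ⊔ kStar M K, w * x * w⁻¹ = x :=
      fun x hx => by rw [setLike_mul_comm hw hx, mul_inv_cancel_right]
    intro x
    constructor
    · intro hx
      rwa [hfix x (hX hx).1]
    · intro hx
      have h2 : w * x * w⁻¹ ∈ K ⊔ kStar M K := (hX hx).1
      have hxW : x ∈ K ⊔ kStar M K := by
        have := mul_mem (mul_mem (inv_mem hw) h2) hw
        simpa [mul_assoc] using this
      rwa [hfix x hxW] at hx

theorem isComplIn_derived_kappa (h : IsSigmaDecomposition M K U) (hK1 : K ≠ ⊥) :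
    IsComplIn ⁅M, M⁆ K M := by
  refine ⟨commutator_le_self M, h.hall.1, ?_, fun m hm => ?_⟩
  · refine Coprime.inf_eq_bot_of_coprime (Nat.coprime_of_dvd fun r hr h1 h2 => ?_)
    exact (isPiHallOf_derived hG hM h hK1).2.1 r hr h1 (h.hall.2.1 r hr h2)
  · have hn : K ≤ normalizer ((U ⊔ sigmaCore M : Subgroup G) : Set G) :=
      h.hall.1.trans (kappa_decomp_normal hG hM h)
    obtain ⟨a, ha, b, hb, e⟩ :=
      (Coprime.mem_sup_of_le_normalizer hn).1 ((kappa_decomp_sup hG hM h).ge hm)
    exact ⟨a, by rw [derived_eq hG hM h hK1]; exact ha, b, hb, e.symm⟩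

theorem derived_inf_centralizer (h : IsSigmaDecomposition M K U) (hK1 : K ≠ ⊥) {x : G}
    (hx : x ∈ K) (hx1 : x ≠ 1) : ⁅M, M⁆ ⊓ centralizer ({x} : Set G) = kStar M K := by
  have hd := isComplIn_derived_kappa hG hM h hK1
  have hle : kStar M K ≤ ⁅M, M⁆ :=
    (kStar_le_derived hG hM h hK1).trans (commutator_le_self _)
  have h1 : ⁅M, M⁆ ⊓ centralizer ({x} : Set G) = (K ⊔ kStar M K) ⊓ ⁅M, M⁆ := by
    rw [← kappa_inf_centralizer hG hM h.hall hK1 hx hx1]
    refine le_antisymm (le_inf (inf_le_inf (commutator_le_self M) le_rfl) inf_le_left)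
      (le_inf inf_le_right (inf_le_left.trans inf_le_right))
  rw [h1, Coprime.dedekind ((le_centralizer_iff.1 (le_normalizer_kStar M K)).trans
    (centralizer_le_normalizer _)) hle, inf_comm, hd.2.2.1, bot_sup_eq]

/-- Complement of `M_F` in `M'`: `U` if `M_F = M_σ`, nilpotent of order prime to `q` otherwise. -/
theorem exists_typeP_compl (h : IsSigmaDecomposition M K U) (hK1 : K ≠ ⊥) :
    ∃ V : Subgroup G, Group.IsNilpotent V ∧ K ≤ normalizer (V : Set G) ∧
      IsComplIn (fittingHallOf M) V ⁅M, M⁆ ∧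
      (fittingHallOf M = sigmaCore M → V = U) ∧
      (fittingHallOf M ≠ sigmaCore M → V ≤ sigmaCore M ∧ V ≠ ⊥) := by
  have hMd := derived_eq hG hM h hK1
  by_cases he : fittingHallOf M = sigmaCore M
  · have hU := (sigmaDecomposition_structure hG hM h hK1).1
    refine ⟨U, ?_, h.normal, ?_, fun _ => rfl, fun hne => absurd he hne⟩
    · letI : CommGroup U := { mul_comm := fun a b => mul_comm' a b }
      exact CommGroup.isNilpotent
    · rw [he, hMd]
      refine ⟨le_sup_right, le_sup_left, ?_, fun m hm => ?_⟩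
      · exact eq_bot_iff.2 (le_trans (le_inf inf_le_right (inf_le_left.trans le_sup_right))
          h.compl.2.2.1.le)
      · rw [sup_comm] at hm
        obtain ⟨a, ha, b, hb, e⟩ := (Coprime.mem_sup_of_le_normalizer
          (h.compl.1.trans (le_normalizer_sigmaCore M))).1 hm
        exact ⟨a, ha, b, hb, e.symm⟩
  · obtain ⟨hU1, hc⟩ := coreData_of_ne hG hM h he
    rw [hc.derived]
    have := Fact.mk hc.prime
    set π : Set ℕ := {r | ¬ r ∣ Nat.card (fittingHallOf M)} with hπ
    obtain ⟨V, hV, hKV⟩ := Coprime.exists_invariant_hall hc.le_normalizer_core hc.coprime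
      hc.solvable_core π
    have hFs : fittingHallOf M ≤ sigmaCore M := fittingHallOf_le_sigmaCore hG hM
    have hbot : fittingHallOf M ⊓ V = ⊥ :=
      Coprime.inf_eq_bot_of_coprime (Nat.coprime_of_dvd fun r hr h1 h2 => hV.2.1 r hr h2 h1)
    have hVn : V ≤ normalizer (fittingHallOf M : Set G) :=
      hV.1.trans ((sigmaCore_le M).trans (le_normalizer_fittingHallOf M))
    have hle : sigmaCore M ≤ fittingHallOf M ⊔ V := by
      refine relIndex_eq_one.1 ?_
      by_contra hne
      obtain ⟨r, hr, hd⟩ := Nat.exists_prime_and_dvd hne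
      by_cases hrF : r ∣ Nat.card (fittingHallOf M)
      · have h1 : r ∣ (fittingHallOf M).relIndex M := by
          rw [← relIndex_mul_relIndex _ _ _ hFs (sigmaCore_le M)]
          exact Dvd.dvd.mul_right (hd.trans (relIndex_dvd_of_le_left _ le_sup_left)) _
        refine Nat.not_coprime_of_dvd_of_dvd hr.one_lt (card_fittingHallOf M ▸ hrF) ?_
          (coprime_fittingHall M)
        rwa [fittingHallOf, relIndex, subgroupOf,
          comap_map_eq_self_of_injective M.subtype_injective] at h1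
      · exact hV.2.2 r hr hrF (hd.trans (relIndex_dvd_of_le_left _ le_sup_right))
    refine ⟨V, hc.quotient_facts.2 V hV.1 (eq_bot_iff.2 ((inf_le_inf
        hc.coreSylow_le_fittingHallOf le_rfl).trans hbot.le)), hKV,
      ⟨hFs, hV.1, hbot, fun m hm => ?_⟩, fun e => absurd e he, fun _ => ⟨hV.1, fun hV1 => he ?_⟩⟩
    · obtain ⟨a, ha, b, hb, e⟩ := (Coprime.mem_sup_of_le_normalizer hVn).1 (hle hm)
      exact ⟨a, ha, b, hb, e.symm⟩
    · rw [hV1, sup_bot_eq] at hle
      exact le_antisymm hFs hle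

theorem isTypePWith_of_compl (h : IsSigmaDecomposition M K U) (hK1 : K ≠ ⊥) {V : Subgroup G}
    (hVn : Group.IsNilpotent V) (hKV : K ≤ normalizer (V : Set G))
    (hV : IsComplIn (fittingHallOf M) V ⁅M, M⁆) : IsTypePWith M K V (kStar M K) := by
  have hfe := fittingOf_eq_sup (centralizer_fittingHallOf_nilpotent hG hM)
  rw [sup_comm] at hfe
  refine
    { W₁_ne := hK1
      W₁_cyclic := h.cyclic
      W₁_hall := ?_
      W₁_compl := isComplIn_derived_kappa hG hM h hK1
      U_nilpotent := hVn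
      U_normal := hKV
      U_compl := hV
      H_not_cyclic := fittingHallOf_not_isCyclic hG hM h hK1
      derived_two_le := hfe ▸ second_derived_le_fittingOf hG hM
      fitting_eq := hfe.symm
      fitting_le := fittingOf_le_derived hG hM ?_
      W₂_le := le_inf (kStar_le_fittingHallOf hG hM h) (kStar_le_derived hG hM h hK1)
      W₂_centralizer := fun x hx hx1 => derived_inf_centralizer hG hM h hK1 hx hx1
      selfNormalizing := isSelfNormalizingCyclic_kappa hG hM h.hall hK1 }
  · exact Nat.coprime_of_dvd fun r hr h1 h2 => h.hall.2.2 r hr (h.hall.2.1 r hr h1) h2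
  · obtain ⟨r, hr, hd⟩ := exists_prime_dvd_of_ne_bot hK1
    exact ⟨r, h.hall.2.1 r hr hd⟩

/-- Conversely, type `P` data force `κ(M) ≠ ∅`, and `W₁` is then a Hall `κ(M)`-subgroup. -/
theorem kappa_of_typeP (h : IsSigmaDecomposition M K U) {W₁ V W₂ : Subgroup G}
    (hP : IsTypePWith M W₁ V W₂) : K ≠ ⊥ := by
  intro hK1
  obtain ⟨r, hr, hd⟩ := exists_prime_dvd_of_ne_bot hP.W₁_ne
  haveI := Fact.mk hr
  obtain ⟨x, hx⟩ := exists_prime_orderOf_dvd_card' r hd
  have hxo : orderOf (x : G) = r := by rw [orderOf_coe, hx]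
  have hx1 : (x : G) ≠ 1 := fun e => hr.one_lt.ne (by rw [← hxo, e, orderOf_one])
  have hidx : W₁.relIndex M = Nat.card ↥⁅M, M⁆ := by
    have h1 := Coprime.card_mul_relIndex_of_le hP.W₁_compl.2.1
    rw [← IsComplIn.card_mul hP.W₁_compl, mul_comm (Nat.card ↥⁅M, M⁆)] at h1
    exact Nat.eq_of_mul_eq_mul_left Nat.card_pos h1
  have hnd : ¬ r ∣ Nat.card ↥⁅M, M⁆ := fun e =>
    Nat.not_coprime_of_dvd_of_dvd hr.one_lt hd (hidx ▸ e) hP.W₁_hall
  have hσ : r ∉ sigma M := fun hs => hnd ((by
      obtain ⟨P⟩ : Nonempty (Sylow r M) := inferInstance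
      have h1 := card_dvd_of_le (sylow_le_commutator_of_sigma hG hM hs P)
      rw [card_map_of_injective M.subtype_injective] at h1
      exact (P.dvd_card_of_dvd_card hs.2.1).trans h1))
  have hW₁M : W₁ ≤ M := hP.W₁_compl.2.1
  have hrank : PRankLE r 1 M := by
    obtain ⟨P⟩ : Nonempty (Sylow r M) := inferInstance
    refine pRankLE_of_sylow P (pRankLE_one_of_isCyclic ?_)
    haveI := hP.W₁_cyclic
    obtain ⟨m, hm, hle⟩ := exists_conj_le_of_relIndex (π := {s | s = r}) (isSolvable_coatom hG hM)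
      hW₁M (fun s hs hsr hds => by
        rw [hsr, hidx] at hds; exact hnd hds)
      (map_subtype_le (P : Subgroup M)) (fun s hs hds => by
        rw [card_map_of_injective M.subtype_injective] at hds
        exact mem_singleton_of_isPGroup P.2 s hs hds)
    have h1 : IsCyclic ↥(((P : Subgroup M).map M.subtype).map (MulAut.conj m).toMonoidHom) :=
      Subgroup.isCyclic_of_le hle
    rw [← MulEquiv.isCyclic (equivMapOfInjective _ _ (MulAut.conj m).injective)] at h1
    rwa [← MulEquiv.isCyclic (equivMapOfInjective _ _ M.subtype_injective)] at h1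
  have ht1 : r ∈ tau1 M :=
    ⟨hr, hσ, hd.trans (card_dvd_of_le hW₁M), hnd, hrank⟩
  have hκ : r ∈ kappa M := by
    refine kappa_of_fixed hG hM (Or.inl ht1) (P := zpowers (x : G))
      (by rw [Nat.card_zpowers, hxo]) (zpowers_le.2 (hW₁M x.2)) fun hbot => ?_
    have hW₂ : W₂ ≤ sigmaCore M ⊓ centralizer (zpowers (x : G) : Set G) := by
      rw [centralizer_zpowers]
      refine le_inf (hP.W₂_le.trans (inf_le_left.trans (fittingHallOf_le_sigmaCore hG hM))) ?_
      rw [← hP.W₂_centralizer x x.2 hx1]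
      exact inf_le_right
    exact hP.selfNormalizing.2.1 (le_bot_iff.1 (hbot ▸ hW₂))
  have h2 := h.hall.2.2 r hr hκ
  rw [hK1, relIndex_bot_left] at h2
  exact h2 (hd.trans (card_dvd_of_le hW₁M))

end Cfsg.Agent.OddLocal
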