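import Cfsg.Agent.OddLocal.TypeP
import Cfsg.Agent.S1363
import Cfsg.Agent.S1372
import Cfsg.Agent.OddLocal.UStructure
import Cfsg.Agent.LocalStructure.OmegaAction

/-!
# The invariants of type `P` data, and type `F` (BG 16.1)
-/

namespace Cfsg.Agent.OddLocal

open Subgroup
open scoped commutatorElement

universe u

variable {G : Type u} [Group G] [Finite G] {M K U : Subgroup G}

instance fittingHall_characteristic {X : Type*} [Group X] [Finite X] :
    (fittingHall X).Characteristic := by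
  refine characteristic_iff_map_le.2 fun e => ?_
  rw [map_le_iff_le_comap]
  refine sSup_le fun N hN => ?_
  rw [← map_le_iff_le_comap]
  refine le_sSup ⟨hN.1.map _ e.surjective, ?_, ?_⟩
  · exact (Group.isNilpotent_congr
      (equivMapOfInjective N e.toMonoidHom e.injective)).mp hN.2.1
  · rw [card_map_of_injective (f := e.toMonoidHom) e.injective]
    exact hN.2.2.coprime_dvd_right (index_map_dvd (f := e.toMonoidHom) N e.surjective)

theorem le_fittingHallOf {X N : Subgroup G} (hNX : N ≤ X) (hn : X ≤ normalizer (N : Set G))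
    (hN : Group.IsNilpotent N) (hc : (Nat.card N).Coprime (N.relIndex X)) :
    N ≤ fittingHallOf X := by
  rw [← map_subgroupOf_eq_of_le hNX]
  refine map_mono (le_sSup ⟨normal_subgroupOf_of_le_normalizer hn,
    (Group.isNilpotent_congr (subgroupOfEquivOfLe hNX)).mpr hN, ?_⟩)
  rw [Coprime.card_subgroupOf hNX]
  exact hc

theorem isPiHallOf_typeP_compl {M' V : Subgroup G} (hM' : M' ≤ M)
    (hV : IsComplIn (fittingHallOf M) V M') :
    IsPiHallOf {r | ¬ r ∣ Nat.card (fittingHallOf M)} V M' := by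
  have hcop := coprime_of_inf_eq_bot (hV.2.1.trans hM') hV.2.2.1
  refine ⟨hV.2.1, fun r hr hd hF => Nat.not_coprime_of_dvd_of_dvd hr.one_lt hF hd hcop,
    fun r hr hF hd => hF ?_⟩
  have h1 := Coprime.card_mul_relIndex_of_le hV.2.1
  rw [← IsComplIn.card_mul hV, mul_comm (Nat.card (fittingHallOf M))] at h1
  rwa [Nat.eq_of_mul_eq_mul_left Nat.card_pos h1] at hd

theorem card_compl_eq {A B B' N : Subgroup G} (h : IsComplIn A B N) (h' : IsComplIn A B' N) :
    Nat.card B = Nat.card B' :=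
  Nat.eq_of_mul_eq_mul_left Nat.card_pos ((IsComplIn.card_mul h).trans (IsComplIn.card_mul h').symm)

theorem normalizer_map_conj_le {V : Subgroup G} {c : G} (hc : c ∈ M)
    (hle : normalizer (V : Set G) ≤ M) :
    normalizer ((V.map (MulAut.conj c).toMonoidHom : Subgroup G) : Set G) ≤ M := by
  intro g hg
  have h1 : c⁻¹ * g * c ∈ normalizer (V : Set G) := by
    refine mem_normalizer_of_map_conj ?_
    rw [← map_conj_map_conj, ← map_conj_map_conj, map_conj_eq_self_of_mem hg, map_conj_inv_cancel]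
  have h3 := mul_mem (mul_mem hc (hle h1)) (inv_mem hc)
  simpa [mul_assoc] using h3

variable (hG : IsMinSimpleOddOrder G) (hM : IsCoatom M)
include hG hM

theorem fittingHallOf_derived_eq (h : IsSigmaDecomposition M K U) (hK1 : K ≠ ⊥)
    (he : fittingHallOf M = sigmaCore M) : fittingHallOf ⁅M, M⁆ = fittingHallOf M := by
  have hD : ⁅M, M⁆ ≤ M := commutator_le_self M
  have hHall := isPiHallOf_derived hG hM h hK1
  refine le_antisymm ?_ ?_
  · set F := fittingHallOf ⁅M, M⁆ with hF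
    have hFle : F ≤ ⁅M, M⁆ := fittingHallOf_le _
    refine le_fittingHallOf (hFle.trans hD)
      (LocalStructure.le_normalizer_map_characteristic (Q := ⁅M, M⁆)
        (le_normalizer_commutator_of Subgroup.le_normalizer Subgroup.le_normalizer) _)
      (fittingHallOf_nilpotent _) ?_
    refine Nat.coprime_of_dvd fun r hr h1 h2 => ?_
    rw [← relIndex_mul_relIndex _ _ _ hFle hD] at h2
    rcases hr.dvd_mul.1 h2 with h3 | h3
    · refine Nat.not_coprime_of_dvd_of_dvd hr.one_lt (card_fittingHallOf ⁅M, M⁆ ▸ h1) ?_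
        (coprime_fittingHall ↥(⁅M, M⁆ : Subgroup G))
      rwa [hF, fittingHallOf, relIndex, subgroupOf,
        comap_map_eq_self_of_injective (Subgroup.subtype_injective _)] at h3
    · exact hHall.2.2 r hr (hHall.2.1 r hr (h1.trans (card_dvd_of_le hFle))) h3
  · rw [he]
    refine le_fittingHallOf (sigmaCore_le_derived hG hM) (hD.trans (le_normalizer_sigmaCore M))
      (he ▸ fittingHallOf_nilpotent M) ?_
    refine Nat.coprime_of_dvd fun r hr h1 h2 => ?_
    exact (isPiHallOf_sigmaCore hG hM).2.2 r hr (piNum_sigmaCore M r hr h1)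
      (h2.trans (Dvd.intro _ (relIndex_mul_relIndex _ _ M (sigmaCore_le_derived hG hM) hD)))

/-- Nontrivial nilpotent Hall subgroups of `M_σ` have their normalisers in `M`. -/
theorem normalizer_le_of_hall {π : Set ℕ} {V : Subgroup G} (hV : IsPiHallOf π V (sigmaCore M))
    (hVn : Group.IsNilpotent V) (hV1 : V ≠ ⊥) : normalizer (V : Set G) ≤ M := by
  obtain ⟨r, hr, hrV⟩ := exists_prime_dvd_of_ne_bot hV1
  haveI := Fact.mk hr
  obtain ⟨S⟩ : Nonempty (Sylow r V) := inferInstance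
  have hSn : (S : Subgroup V).Normal :=
    ((Group.isNilpotent_of_finite_tfae (G := V)).out 0 3 (a := Group.IsNilpotent V)
      (b := ∀ (q : ℕ) (_ : Fact q.Prime) (T : Sylow q V), (T : Subgroup V).Normal)).mp hVn r
        inferInstance S
  haveI := Sylow.characteristic_of_normal S hSn
  refine (LocalStructure.le_normalizer_map_characteristic (Q := V) le_rfl (S : Subgroup V)).trans ?_
  set R := (S : Subgroup V).map V.subtype with hR
  have hRV : R ≤ V := map_subtype_le _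
  have hRM : R ≤ M := hRV.trans (hV.1.trans (sigmaCore_le M))
  have hrσ : r ∈ sigma M := piNum_sigmaCore M r hr (hrV.trans (card_dvd_of_le hV.1))
  have hnd : ¬ r ∣ (R.subgroupOf M).index := fun hd => by
    change r ∣ R.relIndex M at hd
    rw [← relIndex_mul_relIndex R V M hRV (hV.1.trans (sigmaCore_le M)),
      ← relIndex_mul_relIndex V _ M hV.1 (sigmaCore_le M)] at hd
    rcases hr.dvd_mul.1 hd with h1 | h1
    · rw [hR, relIndex, subgroupOf, comap_map_eq_self_of_injective V.subtype_injective] at h1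
      exact S.not_dvd_index h1
    · rcases hr.dvd_mul.1 h1 with h2 | h2
      · exact hV.2.2 r hr (hV.2.1 r hr hrV) h2
      · exact (isPiHallOf_sigmaCore hG hM).2.2 r hr hrσ h2
  have hp : IsPGroup r (R.subgroupOf M) :=
    ((S.2.map V.subtype).of_equiv (subgroupOfEquivOfLe hRM).symm)
  have h1 := sigma_normalizer_le hrσ (hp.toSylow hnd)
  rwa [IsPGroup.toSylow_coe, map_subgroupOf_eq_of_le hRM] at h1

/-- The invariants of type `P` data of `M`. -/
theorem typeP_invariants (h : IsSigmaDecomposition M K U) {W₁ V W₂ : Subgroup G}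
    (hP : IsTypePWith M W₁ V W₂) :
    K ≠ ⊥ ∧ Nat.card W₁ = Nat.card K ∧
      (U ≠ ⊥ → V ≠ ⊥ ∧ IsMulCommutative V ∧ ¬ normalizer (V : Set G) ≤ M) ∧
      (U = ⊥ → fittingHallOf M ≠ sigmaCore M → V ≠ ⊥ ∧ normalizer (V : Set G) ≤ M) ∧
      (U = ⊥ → fittingHallOf M = sigmaCore M → V = ⊥) := by
  have hK1 := kappa_of_typeP hG hM h hP
  obtain ⟨V₀, hV₀n, -, hV₀, hVU, hVne⟩ := exists_typeP_compl hG hM h hK1
  have hD : ⁅M, M⁆ ≤ M := commutator_le_self M
  obtain ⟨c, hc, hcV⟩ := Coprime.exists_conj_isPiHallOf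
    (Coprime.isSolvable_of_le hD (isSolvable_coatom hG hM))
    (isPiHallOf_typeP_compl hD hV₀) (isPiHallOf_typeP_compl hD hP.U_compl)
  have hcV' : V₀.map (MulAut.conj c).toMonoidHom = V := hcV
  have hbot : V₀ = ⊥ ↔ V = ⊥ := by
    rw [← hcV', map_eq_bot_iff_of_injective _ (MulAut.conj c).injective]
  refine ⟨hK1, card_compl_eq hP.W₁_compl (isComplIn_derived_kappa hG hM h hK1),
    fun hU1 => ?_, fun hU hne => ?_, fun hU he => ?_⟩
  · have he := fittingHallOf_eq_of_nilpotent hG hM (sigmaCore_nilpotent_of_U hG hM h hU1)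
    obtain rfl := hVU he
    obtain ⟨hUc, hUn⟩ := S1363.result hG M hM K V₀ h hK1
    refine ⟨fun e => hU1 (hbot.2 e), ?_, fun hle => hUn ?_⟩
    · subst hcV'
      haveI := hUc
      infer_instance
    · have := normalizer_map_conj_le (inv_mem (hD hc)) hle
      rwa [← hcV', map_conj_inv_cancel] at this
  · obtain ⟨hVs, hV1⟩ := hVne hne
    refine ⟨fun e => hV1 (hbot.2 e), ?_⟩
    rw [← hcV']
    refine normalizer_map_conj_le (hD hc)
      (normalizer_le_of_hall hG hM (π := {r | ¬ r ∣ Nat.card (fittingHallOf M)}) ?_ hV₀n hV1)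
    have hMd : ⁅M, M⁆ = sigmaCore M := by rw [derived_eq hG hM h hK1, hU, bot_sup_eq]
    exact hMd ▸ isPiHallOf_typeP_compl hD hV₀
  · exact hbot.1 ((hVU he).trans hU)

theorem sigmaHat_of_mem {x y : G} (hy : y ∈ M) (hx : x ∈ sigmaCore M) (hx1 : x ≠ 1)
    (hyx : y * x = x * y) : y ∈ sigmaHat M := ⟨hy, x, hx, hx1, hyx⟩

/-- `M'` is of type `F` when `K ≠ 1` and `U ≠ 1`. -/
theorem derived_typeF (h : IsSigmaDecomposition M K U) (hK1 : K ≠ ⊥) (hU1 : U ≠ ⊥) :
    IsOfTypeF ↥⁅M, M⁆ := by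
  have he := fittingHallOf_eq_of_nilpotent hG hM (sigmaCore_nilpotent_of_U hG hM h hU1)
  have hFD := fittingHallOf_derived_eq hG hM h hK1 he
  set D := ⁅M, M⁆ with hDdef
  have hDM : D ≤ M := commutator_le_self M
  obtain ⟨V₀, -, -, hV₀, hVU, -⟩ := exists_typeP_compl hG hM h hK1
  obtain rfl := hVU he
  have hUc := (sigmaDecomposition_structure hG hM h hK1).1
  have hmemF : ∀ x : D, x ∈ fittingHall D ↔ (x : G) ∈ fittingHallOf M := fun x => by
    rw [← hFD]
    exact ⟨fun hx => mem_map_of_mem _ hx, fun ⟨y, hy, e⟩ => (Subtype.ext e : y = x) ▸ hy⟩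
  obtain ⟨U₀, hU₀, hexp, hfpf⟩ := exists_fpf_exponent hG hM h
  have hU₀D : U₀ ≤ D := hU₀.trans hV₀.2.1
  refine ⟨Coprime.isSolvable_of_le hDM (isSolvable_coatom hG hM),
    hG.1.of_dvd_nat (card_subgroup_dvd_card D), fun e => ?_, fun e => hU1 ?_,
    V₀.subgroupOf D, fun e => hU1 ?_, ?_, ⟨V₀.subgroupOf D, le_rfl, Subgroup.le_normalizer, ?_,
      fun x _ _ => inf_le_left⟩, U₀.subgroupOf D, fun y hy => hU₀ hy, ?_, fun u hu hu1 x hx hc => ?_⟩
  · refine fittingHallOf_ne_bot hG hM ?_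
    rw [← hFD, fittingHallOf, e, Subgroup.map_bot]
  · refine eq_bot_iff.2 (le_trans (le_inf ?_ le_rfl) hV₀.2.2.1.le)
    intro x hx
    exact (hmemF ⟨x, hV₀.2.1 hx⟩).1 (e ▸ mem_top _)
  · exact eq_bot_iff.2 fun x hx => by
      have : (⟨x, hV₀.2.1 hx⟩ : D) ∈ V₀.subgroupOf D := hx
      rw [e, mem_bot] at this
      exact mem_bot.2 (congrArg Subtype.val this)
  · refine isComplement'_of_disjoint_and_mul_eq_univ ?_ ?_
    · rw [disjoint_iff, eq_bot_iff]
      intro x hx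
      have : (x : G) ∈ fittingHallOf M ⊓ V₀ :=
        mem_inf.2 ⟨(hmemF x).1 (mem_inf.1 hx).1, (mem_inf.1 hx).2⟩
      rw [hV₀.2.2.1, mem_bot] at this
      exact mem_bot.2 (Subtype.ext this)
    · refine Set.eq_univ_of_forall fun x => ?_
      obtain ⟨a, ha, b, hb, e⟩ := hV₀.2.2.2 x x.2
      exact ⟨⟨a, hV₀.1 ha⟩, (hmemF _).2 ha, ⟨b, hV₀.2.1 hb⟩, hb, Subtype.ext e.symm⟩
  · exact ⟨⟨fun a b => Subtype.ext (Subtype.ext (congrArg (fun z : V₀ => (z : G))
      (hUc.1.1 ⟨((a : D) : G), a.2⟩ ⟨((b : D) : G), b.2⟩)))⟩⟩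
  · rw [Monoid.exponent_eq_of_mulEquiv (subgroupOfEquivOfLe hU₀D),
      Monoid.exponent_eq_of_mulEquiv (subgroupOfEquivOfLe hV₀.2.1), hexp]
  · refine Subtype.ext ?_
    by_contra hx1
    refine hu1 (Subtype.ext (hfpf u hu (sigmaHat_of_mem hG hM (hDM u.2) ?_ hx1
      (congrArg Subtype.val hc))))
    exact he ▸ (hmemF x).1 hx

/-- A maximal subgroup of type `F` has `κ(M) = ∅`. -/
theorem eq_bot_of_typeF (h : IsSigmaDecomposition M K U) (hF : IsOfTypeF ↥M) : K = ⊥ := by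
  by_contra hK1
  obtain ⟨-, -, -, -, E', hE'1, hE', ⟨U₁, hU₁, hU₁n, hU₁c, hstab⟩, U₀, hU₀, hexp, hfpf⟩ := hF
  set E := E'.map M.subtype with hE
  have hEM : E ≤ M := map_subtype_le _
  have hmemE : ∀ {y : G} (hy : y ∈ M), y ∈ E ↔ (⟨y, hy⟩ : M) ∈ E' := fun {y} hy =>
    ⟨fun ⟨z, hz, e⟩ => (Subtype.ext e : z = ⟨y, hy⟩) ▸ hz, fun hz => ⟨_, hz, rfl⟩⟩
  have hEF : fittingHallOf M ⊓ E = ⊥ := by
    rw [eq_bot_iff]
    intro y hy
    obtain ⟨⟨z, hz, e⟩, ⟨z', hz', e'⟩⟩ := mem_inf.1 hy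
    have hzz : z' = z := Subtype.ext (e'.trans e.symm)
    have : z ∈ fittingHall M ⊓ E' := mem_inf.2 ⟨hz, hzz ▸ hz'⟩
    rw [hE'.disjoint.eq_bot, mem_bot] at this
    rw [mem_bot, ← e, this]; rfl
  have hidx : ∀ r : ℕ, r.Prime → r ∈ kappa M → ¬ r ∣ E.relIndex M := by
    intro r hr hrκ hd
    rw [hE, relIndex, subgroupOf, comap_map_eq_self_of_injective M.subtype_injective,
      hE'.index_eq_card, ← card_fittingHallOf] at hd
    exact hrκ.2.2.1 (piNum_sigmaCore M r hr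
      (hd.trans (card_dvd_of_le (fittingHallOf_le_sigmaCore hG hM))))
  -- a `κ`-Hall subgroup inside `E`
  obtain ⟨m, hm, hle⟩ := exists_conj_le_of_relIndex (π := kappa M) (isSolvable_coatom hG hM) hEM
    hidx h.hall.1 h.hall.2.1
  set K' := K.map (MulAut.conj m).toMonoidHom with hK'
  have hK'M : K' ≤ M := hle.trans hEM
  have hK'1 : K' ≠ ⊥ := by
    rw [hK', Ne, map_eq_bot_iff_of_injective _ (MulAut.conj m).injective]; exact hK1
  have hK'H : IsPiHallOf (kappa M) K' M :=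
    Coprime.isPiHallOf_conj h.hall (Subgroup.le_normalizer hm)
  obtain ⟨⟨U', hU'⟩, -⟩ := S1352.result hG M hM K' (kappa_pair hG hM hK'H hK'1).1 hK'H
  have hW := IsMember.kStar_ne_bot hG (⟨hM, hK'H, hK'1, rfl⟩ : IsMember (K' ⊔ kStar M K') M K')
  obtain ⟨w, hw, hw1⟩ := exists_mem_ne_one _ hW
  have hwF := kStar_le_fittingHallOf hG hM hU' hw
  have hwM : w ∈ M := fittingHallOf_le M hwF
  have hwF' : (⟨w, hwM⟩ : M) ∈ fittingHall M := by
    obtain ⟨z, hz, e⟩ := hwF
    exact (Subtype.ext e : z = ⟨w, hwM⟩) ▸ hz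
  have hKU₁ : ∀ y (hy : y ∈ K'), (⟨y, hK'M hy⟩ : M) ∈ U₁ := fun y hy => by
    refine hstab ⟨w, hwM⟩ hwF' (fun e => hw1 (congrArg Subtype.val e))
      (mem_inf.2 ⟨(hmemE _).1 (hle hy), mem_centralizer_singleton_iff.2 (Subtype.ext ?_)⟩)
    exact mem_centralizer_iff.1 (mem_inf.1 hw).2 y hy
  -- `E ∩ M'` is trivial
  obtain ⟨k, hk, hk1⟩ := exists_mem_ne_one _ hK'1
  have hfree : ∀ v ∈ E, v ∈ ⁅M, M⁆ → Commute v k → v = 1 := fun v hv hvD hc => by
    have h1 : v ∈ ⁅M, M⁆ ⊓ centralizer ({k} : Set G) :=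
      mem_inf.2 ⟨hvD, mem_centralizer_singleton_iff.2 hc⟩
    rw [derived_inf_centralizer hG hM hU' hK'1 hk hk1] at h1
    have h2 : v ∈ fittingHallOf M ⊓ E := mem_inf.2 ⟨kStar_le_fittingHallOf hG hM hU' h1, hv⟩
    rwa [hEF, mem_bot] at h2
  have hcomm : ∀ v ∈ E, v ∈ ⁅M, M⁆ → v = 1 := fun v hv hvD => by
    refine hfree v hv hvD ?_
    have hkM := hK'M hk
    have hvM := hEM hv
    set c := v * k * v⁻¹ * k⁻¹ with hc
    have hcU : (⟨c, mul_mem (mul_mem (mul_mem hvM hkM) (inv_mem hvM)) (inv_mem hkM)⟩ : M) ∈ U₁ := by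
      have h1 := (mem_normalizer_iff.1 (hU₁n ((hmemE hvM).1 hv)) _).1 (hKU₁ k hk)
      exact mul_mem h1 (inv_mem (hKU₁ k hk))
    have hcE : c ∈ E := (hmemE _).2 (hU₁ hcU)
    have hcD : c ∈ ⁅M, M⁆ := commutator_mem_commutator hvM hkM
    have hck : Commute c k := congrArg Subtype.val (hU₁c.1.1 ⟨_, hcU⟩ ⟨_, hKU₁ k hk⟩ |>
      congrArg Subtype.val)
    have := hfree c hcE hcD hck
    rw [hc, mul_inv_eq_one, mul_inv_eq_iff_eq_mul] at this
    exact this
  have hEK : E ≤ K' := by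
    intro e he
    obtain ⟨a, ha, b, hb, rfl⟩ := (isComplIn_derived_kappa hG hM hU' hK'1).2.2.2 e (hEM he)
    have haE : a ∈ E := by simpa using mul_mem he (inv_mem (hle hb))
    rw [hcomm a haE ha, one_mul]
    exact hb
  -- so `U₀ = E` is cyclic, against the fixed points
  haveI : IsCyclic K' := (kappa_pair hG hM hK'H hK'1).1
  haveI : IsCyclic E := Subgroup.isCyclic_of_le hEK
  haveI : IsCyclic E' :=
    (MulEquiv.isCyclic (equivMapOfInjective E' M.subtype M.subtype_injective)).2 inferInstance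
  haveI : IsCyclic U₀ := Subgroup.isCyclic_of_le hU₀
  have heq : U₀ = E' := by
    refine eq_of_le_of_card_ge hU₀ (le_of_eq ?_)
    rw [← IsCyclic.exponent_eq_card (α := U₀), ← IsCyclic.exponent_eq_card (α := E'), hexp]
  have hkE' : (⟨k, hK'M hk⟩ : M) ∈ U₀ := heq ▸ (hmemE _).1 (hle hk)
  refine hw1 (congrArg Subtype.val (hfpf _ hkE' (fun e => hk1 (congrArg Subtype.val e))
    ⟨w, hwM⟩ hwF' (Subtype.ext ?_)))
  exact mem_centralizer_iff.1 (mem_inf.1 hw).2 k hk

end Cfsg.Agent.OddLocal
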