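import Cfsg.Agent.OddLocal.RichSubgroups
import Cfsg.Agent.OddLocal.CyclicSylowStep
import Cfsg.Agent.OddLocal.RankTwoFitting
import Cfsg.Agent.Fusion.Transfer

/-!
The uniqueness theorem for minimal simple groups of odd order.
-/

set_option autoImplicit false
set_option linter.unusedSectionVars false
set_option linter.style.haveILetI false

namespace Cfsg.Agent.OddLocal

open Subgroup Cfsg
open scoped Pointwise commutatorElement

universe u

variable {G : Type u} [Group G] [Finite G] {p : ℕ} [hp : Fact p.Prime]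

theorem le_of_unique {T X L : Subgroup G} (hT : InUniqueMaximal T) (hL : IsCoatom L) (hTL : T ≤ L)
    (hTX : T ≤ X) (hX : X ≠ ⊤) : X ≤ L := by
  obtain ⟨L', hL', hXL'⟩ := (eq_top_or_exists_le_coatom X).resolve_left hX
  obtain ⟨M, -, hM⟩ := hT
  rw [hM L ⟨hL, hTL⟩, ← hM L' ⟨hL', hTX.trans hXL'⟩]
  exact hXL'

theorem eq_of_unique {T X L : Subgroup G} (hT : InUniqueMaximal T) (hL : IsCoatom L) (hTL : T ≤ L)
    (hX : IsCoatom X) (hTX : T ≤ X) : X = L := by
  obtain ⟨M, -, hM⟩ := hT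
  rw [hM L ⟨hL, hTL⟩, hM X ⟨hX, hTX⟩]

/-- Subgroups of cyclic subgroups are cyclic. -/
theorem isCyclic_of_le {X Y : Subgroup G} (hY : IsCyclic Y) (h : X ≤ Y) : IsCyclic X :=
  haveI := hY
  isCyclic_of_injective (inclusion h) (inclusion_injective h)

theorem normalizer_le_normalizer_omegaCenter {s : ℕ} [Fact s.Prime] {X : Subgroup G} :
    normalizer (X : Set G) ≤ normalizer (omegaCenter s X : Set G) := by
  have key : ∀ m ∈ normalizer (X : Set G), ∀ x ∈ omegaCenter s X, m * x * m⁻¹ ∈ omegaCenter s X := by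
    intro m hm x hx
    obtain ⟨hxQ, hxq, hxc⟩ := mem_omegaCenter_iff.mp hx
    refine mem_omegaCenter_iff.mpr ⟨(mem_normalizer_iff.mp hm x).mp hxQ,
      by rw [conj_pow, hxq, mul_one, mul_inv_cancel], fun v hv => ?_⟩
    have hv' : m⁻¹ * v * m ∈ X := by
      have := (mem_normalizer_iff.mp (inv_mem hm) v).mp hv
      rwa [inv_inv] at this
    have h1 := (hxc _ hv').map (MulAut.conj m).toMonoidHom
    simp only [MulEquiv.toMonoidHom_eq_coe, MonoidHom.coe_coe, MulAut.conj_apply] at h1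
    rwa [show m * (m⁻¹ * v * m) * m⁻¹ = v by group] at h1
  intro n hn
  rw [mem_normalizer_iff]
  refine fun x => ⟨key n hn x, fun hx => ?_⟩
  have := key n⁻¹ (inv_mem hn) _ hx
  rwa [show n⁻¹ * (n * x * n⁻¹) * n⁻¹⁻¹ = x by group] at this

/-- An abelian Sylow subgroup of a minimal simple group lies in the derived group of its normaliser. -/
theorem sylow_le_commutator_normalizer (hG : IsMinSimpleOddOrder G) (P : Sylow p G)
    (hP : IsMulCommutative (P : Subgroup G)) :
    (P : Subgroup G) ≤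
      ⁅normalizer ((P : Subgroup G) : Set G), normalizer ((P : Subgroup G) : Set G)⁆ := by
  haveI := hG.2.1
  have htop : commutator G = ⊤ := by
    rcases (inferInstance : (commutator G).Normal).eq_bot_or_eq_top with h | h
    · refine absurd ⟨⟨fun a b => commutatorElement_eq_one_iff_mul_comm.mp (mem_bot.mp
        (h.le (commutator_mem_commutator (mem_top a) (mem_top b))))⟩⟩ hG.2.2.1
    · exact h
  have h := Fusion.commutator_inf_eq_of_controls P _ Subgroup.le_normalizer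
    fun x hx g hg => Fusion.exists_mem_normalizer_conj_of_isMulCommutative P hP hx g hg
  rw [htop, top_inf_eq] at h
  exact h.le.trans inf_le_left

section MinSimple

variable (hG : IsMinSimpleOddOrder G) {P : Sylow p G} {A : Subgroup G}
  (hA : IsSCN (P : Subgroup G) A)
  (hTH : TransitivityHypothesis A) (hπA : primesNotDvd (Nat.card A) = primesNotDvd p)
  {E : Subgroup G} (hEA : E ≤ A) (hEe : IsElementaryAbelian p E) (hE3 : p ^ 3 ≤ Nat.card E)
  (hPE : (P : Subgroup G) ≤ normalizer (E : Set G))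

include hA in
theorem le_centralizer_self_of_scn : A ≤ centralizer (A : Set G) := fun a ha =>
  (hA.2.2.ge ha).2

include hG hA hTH hπA hEA hEe hE3 in
/-- Invariant `r`-subgroups lie in conjugates of a maximal `P`-invariant one. -/
theorem exists_conj_le {r : ℕ} [Fact r.Prime] (hrp : r ≠ p) {T : Subgroup G}
    (hT : T ∈ maxInvSubgroups ⊤ (P : Subgroup G) {r}) {R : Subgroup G} (hR : IsPGroup r R)
    (hAR : A ≤ normalizer (R : Set G)) :
    ∃ k ∈ centralizer (A : Set G), R ≤ MulAut.conj k • T := by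
  have hAp : IsPGroup p A := P.2.to_le hA.1
  have hrA : ¬ r ∣ Nat.card A := (hπA ▸ (⟨Fact.out, fun h => hrp
    ((Nat.prime_dvd_prime_iff_eq Fact.out hp.out).mp h)⟩ : r ∈ primesNotDvd p) :
    r ∈ primesNotDvd (Nat.card A)).2
  have hZ : ¬ RankLE 2 ↥(A ⊓ centralizer (A : Set G)) :=
    not_rankLE_of_elementary (r := p) (le_inf hEA (hEA.trans (le_centralizer_self_of_scn hA))) hEe hE3
  have hPtop : (P : Subgroup G) ≠ ⊤ := ne_top_of_isPGroup_minSimple hG P.2
  haveI hn : (A.subgroupOf (P : Subgroup G)).Normal :=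
    (normal_subgroupOf_iff_le_normalizer hA.1).mpr hA.2.1
  have hPπ : ∀ s : ℕ, s.Prime → s ∣ Nat.card (P : Subgroup G) → s ∣ Nat.card A := by
    intro s hs hd
    obtain ⟨k, hk⟩ := IsPGroup.iff_card.mp P.2
    have hsp := (Nat.prime_dvd_prime_iff_eq hs hp.out).mp (hs.dvd_of_dvd_pow (hk ▸ hd))
    by_contra h
    have h2 : s ∈ primesNotDvd (Nat.card A) := ⟨hs, h⟩
    rw [hπA] at h2
    exact h2.2 (hsp ▸ dvd_rfl)
  obtain ⟨hsub, -⟩ := transitive_of_subnormal hG hTH hrA hPtop hPπ hA.1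
    (Subgroup.Normal.isSubnormal hn) fun Q₁ h₁ Q₂ h₂ => linked_of_rank_three hG hTH hrA hZ h₁ h₂
  obtain ⟨Q, hQ, hRQ⟩ := exists_max_ge (A := A) hR hAR
  obtain ⟨k, hk, hkQ⟩ := linked_of_rank_three hG hTH hrA hZ (hsub hT) hQ
  exact ⟨k, piCoreOf_le _ _ hk, hRQ.trans (le_of_eq (by rw [hkQ, Coprime.conj_smul_eq_map]))⟩

/-! #### One maximal overgroup of `P` whose Fitting subgroup has rank three -/

section Data

variable {L : Subgroup G} (hL : IsCoatom L) (hPL : (P : Subgroup G) ≤ L)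
  {q : ℕ} [hq : Fact q.Prime] (hqp : q ≠ p) {Q : Subgroup G}
  (hQ : Q ∈ maxInvSubgroups ⊤ (P : Subgroup G) {q}) (hQL : Q ≤ L)
  {F : Subgroup G} (hFQ : F ≤ Q) (hFe : IsElementaryAbelian q F) (hF3 : q ^ 3 ≤ Nat.card F)
  (hU : ∀ V : Subgroup G, IsElementaryAbelian q V → q ^ 3 ≤ Nat.card V → InUniqueMaximal V)

include hG hL hQL hU in
theorem normalizer_le_of_rich {X : Subgroup G} (hX : Rich q Q X) (hX1 : X ≠ ⊥) (hXtop : X ≠ ⊤) :
    normalizer (X : Set G) ≤ L := by
  obtain ⟨T, hTQ, hTX, hTe, hT3⟩ := hX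
  exact le_of_unique (hU T hTe hT3) hL (hTQ.trans hQL)
    (hTX.trans (centralizer_le_normalizer _)) (ne_top_of_normal_ne_bot hG hX1 hXtop)

include hFe hF3 in
theorem two_ne_of_elementary (hG' : IsMinSimpleOddOrder G) : q ≠ 2 :=
  prime_ne_two_of_pGroup hG' (Coprime.ea_isPGroup hFe) (Coprime.ea_ne_bot three_ne_zero hF3)

include hG hL hQL hFQ hFe hF3 hU hQ hqp in
theorem good_of_noncyclic {c : G} (hcE : c ∈ normalizer (Q : Set G)) (hc1 : c ≠ 1) (hc : c ^ p = 1)
    (hnc : ¬ IsCyclic (Q ⊓ centralizer {c} : Subgroup G)) : centralizer {c} ≤ L := by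
  have hq2 := two_ne_of_elementary hFe hF3 hG
  obtain ⟨B, hBC, hBe, hB2, T, hTQ, hTB, hTe, hT3⟩ := exists_rich_fixed hq2 hFQ hFe hF3
    (isPGroup_of_singleton hQ.1.2.1) hqp hcE hc hnc
  have hBU : InUniqueMaximal B := inUniqueMaximal_of_rank_three_centralizer hG hFe.1
    (not_pRankLE_of_elementary le_rfl hFe hF3) (hU F hFe hF3) (Coprime.ea_isPGroup hBe)
    (Coprime.ea_not_isCyclic hBe hB2) (not_pRankLE_of_elementary hTB hTe hT3)
  exact le_of_unique hBU hL (hBC.trans (inf_le_left.trans hQL)) (hBC.trans inf_le_right)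
    (centralizer_ne_top hG hc1)

include hA hEA hQ in
theorem mem_normalizer_of_mem {c : G} (hc : c ∈ E) : c ∈ normalizer (Q : Set G) :=
  hQ.1.2.2 (hA.1 (hEA hc))

include hA hEA in
theorem le_centralizer_of_mem {c : G} (hc : c ∈ E) : centralizer (A : Set G) ≤ centralizer {c} :=
  fun x hx => mem_centralizer_singleton_iff.mpr (mem_centralizer_iff.mp hx c (hEA hc)).symm

include hEe in
theorem coprime_card_of_pGroup {r : ℕ} [Fact r.Prime] (hrp : r ≠ p) {R : Subgroup G}
    (hR : IsPGroup r R) : (Nat.card E).Coprime (Nat.card R) := by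
  obtain ⟨k, hk⟩ := IsPGroup.iff_card.mp hR
  refine Coprime.ea_coprime hEe (hk ▸ fun h => hrp ?_)
  exact ((Nat.prime_dvd_prime_iff_eq hp.out Fact.out).mp (hp.out.dvd_of_dvd_pow h)).symm

include hEe hE3 in
theorem not_isCyclic_of_cocyclic {B : Subgroup G} (hB : B ∈ Coprime.Cocyclic E) : ¬ IsCyclic B := by
  obtain ⟨hBE, a, ha, hsup⟩ := hB
  refine Coprime.ea_not_isCyclic (Coprime.ea_mono hEe hBE) ?_
  have hn : zpowers a ≤ normalizer (B : Set G) :=
    (zpowers_le.mpr ha).trans ((Coprime.ea_le_centralizer hEe).trans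
      ((centralizer_le hBE).trans (centralizer_le_normalizer _)))
  have h1 := Nat.le_of_dvd (Nat.mul_pos Nat.card_pos Nat.card_pos) (hsup ▸ (sup_comm B (zpowers a) ▸
    Layer.card_sup_dvd_of_le_normalizer hn : Nat.card (B ⊔ zpowers a : Subgroup G) ∣ _))
  rw [Nat.card_zpowers] at h1
  have h2 : orderOf a ≤ p := Nat.le_of_dvd hp.out.pos (orderOf_dvd_of_pow_eq_one (hEe.2 a ha))
  refine Nat.le_of_mul_le_mul_right ?_ hp.out.pos
  rw [← pow_succ]
  exact hE3.trans (h1.trans (le_of_eq (mul_comm _ _) |>.trans (Nat.mul_le_mul_left _ h2)))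

include hG hA hEA hEe hE3 hL hQL hFQ hFe hF3 hU hQ hqp in
theorem exists_good : ∃ c ∈ E, c ≠ 1 ∧ centralizer {c} ≤ L := by
  have hq2 := two_ne_of_elementary hFe hF3 hG
  have hQq := isPGroup_of_singleton hQ.1.2.1
  haveI := hEe.1
  have hEQ : E ≤ normalizer (Q : Set G) := fun c hc => mem_normalizer_of_mem hA hEA hQ hc
  set D := omegaTwo q Q with hD
  set Z := omegaCenter q Q with hZdef
  obtain ⟨z, hz, hz1⟩ := exists_mem_omegaCenter hQq fun h =>
    Coprime.ea_ne_bot three_ne_zero hF3 (le_bot_iff.mp (h ▸ hFQ))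
  have hEZ : E ≤ normalizer (Z : Set G) := hEQ.trans normalizer_le_normalizer_omegaCenter
  obtain ⟨B, hB, w, hw, hw1⟩ : ∃ B ∈ Coprime.Cocyclic E, ∃ w ∈ Z ⊓ centralizer (B : Set G), w ≠ 1 := by
    by_contra h
    push Not at h
    refine hz1 (mem_bot.mp (?_ : z ∈ (⊥ : Subgroup G)))
    rw [← hZdef, ← Coprime.iSup_cocyclic_centralizer_eq hEZ
      (coprime_card_of_pGroup hEe hqp (hQq.to_le omegaCenter_le))] at hz
    exact (iSup₂_le fun B hB x hx => mem_bot.mpr (h B hB x hx) :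
      (⨆ B ∈ Coprime.Cocyclic E, Z ⊓ centralizer (B : Set G)) ≤ ⊥) hz
  by_contra hno
  push Not at hno
  haveI : IsMulCommutative B := (Coprime.ea_mono hEe hB.1).1
  have hwq : w ^ q = 1 := (mem_omegaCenter_iff.mp hw.1).2.1
  have hle : D ≤ zpowers w := by
    rw [hD]
    rw [← Coprime.iSup_centralizer_eq (not_isCyclic_of_cocyclic hEe hE3 hB)
      (hB.1.trans (hEQ.trans (normalizer_le_normalizer_omegaTwo hq2)))
      ((coprime_card_of_pGroup hEe hqp (hQq.to_le (omegaTwo_le hq2))).coprime_dvd_left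
        (card_dvd_of_le hB.1))]
    refine iSup₂_le fun c hc x hx => ?_
    obtain ⟨hxQ, hxq, -⟩ := (mem_omegaTwo_iff hq2).mp hx.1
    have hcyc : IsCyclic (Q ⊓ centralizer {c} : Subgroup G) := by
      by_contra hnc
      exact hno c (hB.1 hc.1) hc.2 (good_of_noncyclic hG hL hqp hQ hQL hFQ hFe hF3 hU
        (hEQ (hB.1 hc.1)) hc.2 (hEe.2 c (hB.1 hc.1)) hnc)
    refine Fusion.mem_zpowers_of_orderOf_dvd hcyc ⟨hxQ, hx.2⟩
      ⟨omegaCenter_le hw.1, mem_centralizer_singleton_iff.mpr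
        (mem_centralizer_iff.mp hw.2 c hc.1).symm⟩ ?_
    rw [orderOf_eq_prime hwq hw1]
    exact orderOf_dvd_of_pow_eq_one hxq
  have h1 := (sq_le_card_omegaTwo hq2 hFQ hFe hF3 hQq).trans
    (Nat.le_of_dvd Nat.card_pos (card_dvd_of_le hle))
  rw [Nat.card_zpowers, orderOf_eq_prime hwq hw1] at h1
  have := (Nat.pow_le_pow_iff_right hq.out.one_lt).mp (h1.trans (pow_one q).ge)
  omega

include hG hA hEA hEe hE3 hL hQL hFQ hFe hF3 hU hQ hqp in
theorem centralizer_le_data : centralizer (A : Set G) ≤ L := by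
  obtain ⟨c, hc, -, hcL⟩ := exists_good hG hA hEA hEe hE3 hL hqp hQ hQL hFQ hFe hF3 hU
  exact (le_centralizer_of_mem hA hEA hc).trans hcL

include hG hA hTH hπA hEA hEe hE3 hL hQL hFQ hFe hF3 hU hQ hqp in
theorem invariant_q_le {R : Subgroup G} (hR : IsPGroup q R) (hAR : A ≤ normalizer (R : Set G)) :
    R ≤ L := by
  obtain ⟨k, hk, hle⟩ := exists_conj_le hG hA hTH hπA hEA hEe hE3 hqp hQ hR hAR
  have hkL := centralizer_le_data hG hA hEA hEe hE3 hL hqp hQ hQL hFQ hFe hF3 hU hk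
  intro x hx
  have h1 : k⁻¹ * x * k ∈ L := hQL (Coprime.mem_conj_smul.mp (hle hx))
  have := L.mul_mem (L.mul_mem hkL h1) (L.inv_mem hkL)
  simpa [mul_assoc] using this

include hG hA hTH hπA hEA hEe hE3 hL hPL hQL hFQ hFe hF3 hU hQ hqp in
/-- The sweep: with a mover `e` of `omegaTwo`, invariant `r`-subgroups lie in `L`. -/
theorem le_of_sweep {r : ℕ} [hr : Fact r.Prime] (hrp : r ≠ p) {R : Subgroup G} (hR : IsPGroup r R)
    (hAR : A ≤ normalizer (R : Set G)) {e : G} (he : e ∈ E)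
    (heD : e ∉ centralizer (omegaTwo q Q : Set G))
    (hcond : ∀ c ∈ E, c ≠ 1 → ¬ centralizer {c} ≤ L →
      ¬ omegaTwo q Q ⊓ centralizer {c} ≤ centralizer {e} → R ⊓ centralizer {c} ≠ ⊥ →
      ∀ V : Subgroup G, IsPGroup r V → V ≤ centralizer {c} → A ≤ normalizer (V : Set G) →
        V ⊓ centralizer {e} ≤ L ∨ V ≤ centralizer {e}) : R ≤ L := by
  by_cases hrq : r = q
  · subst hrq
    exact invariant_q_le hG hA hTH hπA hEA hEe hE3 hL hqp hQ hQL hFQ hFe hF3 hU hR hAR
  have hq2 := two_ne_of_elementary hFe hF3 hG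
  have hQq := isPGroup_of_singleton hQ.1.2.1
  haveI := hEe.1
  have hAp : IsPGroup p A := P.2.to_le hA.1
  have hAL : A ≤ L := hA.1.trans hPL
  rw [← Coprime.iSup_cocyclic_centralizer_eq (hEA.trans hAR) (coprime_card_of_pGroup hEe hrp hR)]
  refine iSup₂_le fun B hB => ?_
  by_cases hb : R ⊓ centralizer (B : Set G) = ⊥
  · rw [hb]; exact bot_le
  have hsub : ∀ c ∈ B, centralizer (B : Set G) ≤ centralizer {c} := fun c hc x hx =>
    mem_centralizer_singleton_iff.mpr (mem_centralizer_iff.mp hx c hc).symm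
  by_cases hgood : ∃ c ∈ B, c ≠ 1 ∧ centralizer {c} ≤ L
  · obtain ⟨c, hc, -, hcL⟩ := hgood
    exact inf_le_right.trans ((hsub c hc).trans hcL)
  push Not at hgood
  haveI : IsMulCommutative B := (Coprime.ea_mono hEe hB.1).1
  have hAQ : A ≤ normalizer (Q : Set G) := hA.1.trans hQ.1.2.2
  have hAD : A ≤ normalizer (omegaTwo q Q : Set G) :=
    hAQ.trans (normalizer_le_normalizer_omegaTwo hq2)
  obtain ⟨c, hc, hc1, hmove⟩ : ∃ c ∈ B, c ≠ 1 ∧
      ¬ omegaTwo q Q ⊓ centralizer {c} ≤ centralizer {e} := by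
    by_contra h
    push Not at h
    refine heD (mem_centralizer_iff.mpr fun d hd => ?_)
    rw [SetLike.mem_coe, ← Coprime.iSup_centralizer_eq (not_isCyclic_of_cocyclic hEe hE3 hB)
      ((hB.1.trans hEA).trans hAD)
      ((coprime_card_of_pGroup hEe hqp (hQq.to_le (omegaTwo_le hq2))).coprime_dvd_left
        (card_dvd_of_le hB.1))] at hd
    exact mem_centralizer_singleton_iff.mp ((iSup₂_le fun c hc => h c hc.1 hc.2 :
      (⨆ a ∈ {a : G | a ∈ B ∧ a ≠ 1}, omegaTwo q Q ⊓ centralizer {a}) ≤ centralizer {e}) hd)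
  have hcE : c ∈ E := hB.1 hc
  have hcA : c ∈ A := hEA hcE
  have hcnot : ¬ centralizer {c} ≤ L := hgood c hc hc1
  have hCQ : IsCyclic (Q ⊓ centralizer {c} : Subgroup G) := by
    by_contra hnc
    exact hcnot (good_of_noncyclic hG hL hqp hQ hQL hFQ hFe hF3 hU
      (mem_normalizer_of_mem hA hEA hQ hcE) hc1 (hEe.2 c hcE) hnc)
  set Y := omegaTwo q Q ⊓ centralizer {c} with hY
  haveI hYc : IsCyclic Y := isCyclic_of_le hCQ (inf_le_inf_right _ (omegaTwo_le hq2))
  obtain ⟨g, hg⟩ := isCyclic_iff_exists_zpowers_eq_top.mp hYc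
  set y : G := (g : G) with hydef
  have hYeq : Y = zpowers y := by
    have := congrArg (Subgroup.map Y.subtype) hg
    rwa [MonoidHom.map_zpowers, ← MonoidHom.range_eq_map, Subgroup.range_subtype, eq_comm] at this
  have hy1 : y ≠ 1 := by
    intro h
    apply hmove
    rw [hYeq, h, zpowers_one_eq_bot]
    exact bot_le
  have hyD : y ∈ omegaTwo q Q := g.2.1
  have hyo : orderOf y = q := orderOf_eq_prime ((mem_omegaTwo_iff hq2).mp hyD).2.1 hy1
  have hey : ¬ Commute e y := fun h => hmove (by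
    rw [hYeq, zpowers_le, mem_centralizer_singleton_iff]
    exact h.eq.symm)
  have hAcc : A ≤ centralizer {c} := fun a ha =>
    mem_centralizer_singleton_iff.mpr (mem_centralizer_iff.mp (le_centralizer_self_of_scn hA ha) c hcA).symm
  have hAY : A ≤ normalizer (zpowers y : Set G) :=
    hYeq ▸ Coprime.le_normalizer_inf hAD (hAcc.trans Subgroup.le_normalizer)
  have hNy : normalizer (zpowers y : Set G) ≤ L :=
    normalizer_le_of_rich hG hL hQL hU (rich_of_mem_omegaTwo hq2 hFQ hFe hF3 hyD)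
      (zpowers_ne_bot.mpr hy1)
      (ne_top_of_isPGroup_minSimple (q := q) hG (IsPGroup.of_card (n := 1) (by
        rw [pow_one, Nat.card_zpowers, hyo])))
  set π := primesNotDvd (Nat.card A) with hπdef
  set W := piCoreOf π (centralizer {c}) with hW
  have hCtop : centralizer ({c} : Set G) ≠ ⊤ := centralizer_ne_top hG hc1
  have hWC : W ≤ centralizer {c} := piCoreOf_le _ _
  have hAW : A ≤ normalizer (W : Set G) := hAcc.trans (le_normalizer_piCoreOf _ _)
  have hcop : (Nat.card A).Coprime (Nat.card W) :=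
    coprime_card_of_piNum (fun s _ hd h => h.2 hd) (piNum_piCoreOf π _)
  haveI := hAp.isNilpotent
  have hAs : Group.IsSolvable A := inferInstance
  have hmem : ∀ (s : ℕ) [Fact s.Prime], s ≠ p → ∀ V : Subgroup G, IsPGroup s V →
      V ≤ centralizer {c} → A ≤ normalizer (V : Set G) → V ≤ W := by
    intro s _ hsp V hV hVC hAV
    refine le_piCoreOf_of_hypothesis hTH hCtop hAcc hVC (piNum_of_isPGroup ?_ hV) hAV
    rw [← hπdef, hπA]
    exact ⟨Fact.out, fun h => hsp ((Nat.prime_dvd_prime_iff_eq Fact.out hp.out).mp h)⟩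
  have hcyc : ∀ S : Sylow q W, IsCyclic (S : Subgroup W) := by
    intro S
    obtain ⟨S₀, hS₀⟩ := Coprime.exists_invariant_sylow (p := q) hAW hcop (Or.inl hAs)
    obtain ⟨k, hk, hle⟩ := exists_conj_le hG hA hTH hπA hEA hEe hE3 hqp hQ (S₀.2.map W.subtype) hS₀
    have hcyc₀ : IsCyclic ((S₀ : Subgroup W).map W.subtype) := by
      haveI := hCQ
      have hle' : (S₀ : Subgroup W).map W.subtype ≤
          (Q ⊓ centralizer {c}).map (MulAut.conj k).toMonoidHom := by
        intro x hx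
        refine ⟨k⁻¹ * x * k, ⟨Coprime.mem_conj_smul.mp (hle hx), ?_⟩, by simp [mul_assoc]⟩
        have hkc : k ∈ centralizer {c} := le_centralizer_of_mem hA hEA hcE hk
        exact (centralizer {c}).mul_mem ((centralizer {c}).mul_mem ((centralizer {c}).inv_mem hkc)
          (((map_subtype_le _).trans hWC) hx)) hkc
      refine isCyclic_of_le ?_ hle'
      exact isCyclic_of_surjective _ ((MulAut.conj k).toMonoidHom.subgroupMap_surjective _)
    haveI : IsCyclic (S₀ : Subgroup W) := isCyclic_of_injective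
      ((S₀ : Subgroup W).equivMapOfInjective W.subtype W.subtype_injective).toMonoidHom
      (MulEquiv.injective _)
    exact isCyclic_of_surjective (Sylow.equiv S₀ S).toMonoidHom (MulEquiv.surjective _)
  refine invariant_le_of_cyclic_sylow (q := q) (r := r) (p := p) (Ne.symm hrq) (Ne.symm hrp) hAs
    (Coprime.isSolvable_of_le hWC (hG.2.2.2 _ hCtop)) hAW hcop hAL
    (inf_le_right.trans (centralizer_le_data hG hA hEA hEe hE3 hL hqp hQ hQL hFQ hFe hF3 hU))
    hcyc (hmem q hqp _ (IsPGroup.of_card (n := 1) (by rw [pow_one, Nat.card_zpowers, hyo]))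
      (hYeq ▸ inf_le_right) hAY (mem_zpowers y)) hyo hAY hNy (hEA he) (hEe.2 e he) hey
    (fun V hVW hV hAV => hcond c hcE hc1 hcnot hmove (fun h => hb (le_bot_iff.mp
      (h ▸ inf_le_inf_left R (hsub c hc)))) V hV (hVW.trans hWC) hAV)
    (R := R ⊓ centralizer (B : Set G)) ?_ (hR.to_le inf_le_left) ?_
  · exact hmem r hrp _ (hR.to_le inf_le_left) (inf_le_right.trans (hsub c hc))
      (Coprime.le_normalizer_inf hAR (Coprime.le_normalizer_centralizer
        ((le_centralizer_self_of_scn hA).trans ((centralizer_le (hB.1.trans hEA)).trans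
          (centralizer_le_normalizer _)))))
  · exact Coprime.le_normalizer_inf hAR (Coprime.le_normalizer_centralizer
        ((le_centralizer_self_of_scn hA).trans ((centralizer_le (hB.1.trans hEA)).trans
          (centralizer_le_normalizer _))))

include hG hA hTH hπA hEA hEe hE3 hPE hL hPL hQL hFQ hFe hF3 hU hQ hqp in
/-- Either `L` contains all invariant `p'`-subgroups, or the elements of `E` with centraliser in
`L` are those of a central subgroup of order `p` centralising `omegaTwo`. -/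
theorem localTo_or_exists :
    LocalTo p A L ∨ ∃ a ∈ E, a ≠ 1 ∧ centralizer {a} ≤ L ∧
      a ∈ centralizer ((P : Subgroup G) : Set G) ∧ a ∈ centralizer (omegaTwo q Q : Set G) ∧
      (∀ c ∈ E, c ∈ centralizer (omegaTwo q Q : Set G) → c ∈ zpowers a) ∧
      ∀ c ∈ E, c ≠ 1 → centralizer {c} ≤ L → c ∈ zpowers a := by
  have hq2 := two_ne_of_elementary hFe hF3 hG
  have hQq := isPGroup_of_singleton hQ.1.2.1
  have hAp : IsPGroup p A := P.2.to_le hA.1
  haveI := hAp.isNilpotent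
  have hAs : Group.IsSolvable A := inferInstance
  have hAπ : ∀ r : ℕ, r.Prime → r ∣ Nat.card A → r ∉ primesNotDvd p := fun r _ hd h => by
    rw [← hπA] at h
    exact h.2 hd
  by_cases hmove : ∃ g ∈ E, centralizer {g} ≤ L ∧ g ∉ centralizer (omegaTwo q Q : Set G)
  · obtain ⟨g, hgE, hgL, hgD⟩ := hmove
    refine Or.inl fun Y hY hAY => le_of_invariant_pGroups hAs hAπ hY hAY fun r hrπ hr R _ hR hAR => ?_
    haveI := Fact.mk hr
    exact le_of_sweep hG hA hTH hπA hEA hEe hE3 hL hPL hqp hQ hQL hFQ hFe hF3 hU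
      (fun h => hrπ.2 (h ▸ dvd_rfl)) hR hAR hgE hgD
      fun c _ _ _ _ _ V _ _ _ => Or.inl (inf_le_right.trans hgL)
  push Not at hmove
  set C := E ⊓ centralizer (omegaTwo q Q : Set G) with hC
  have hDnc : ¬ IsCyclic (omegaTwo q Q) := by
    intro hcyc
    obtain ⟨B, hBD, hBe, hB2, -⟩ := exists_rich_le_omegaTwo hq2 hFQ hFe hF3 hQq
    exact Coprime.ea_not_isCyclic hBe hB2 (isCyclic_of_le hcyc hBD)
  have hgood : ∀ c ∈ C, c ≠ 1 → centralizer {c} ≤ L := fun c hc hc1 =>
    good_of_noncyclic hG hL hqp hQ hQL hFQ hFe hF3 hU (mem_normalizer_of_mem hA hEA hQ hc.1) hc1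
      (hEe.2 c hc.1) fun h => hDnc (isCyclic_of_le h (le_inf (omegaTwo_le hq2) fun d hd =>
        mem_centralizer_singleton_iff.mpr (mem_centralizer_iff.mp hc.2 d hd)))
  by_cases hCc : IsCyclic C
  swap
  · refine Or.inl fun Y hY hAY => ?_
    haveI : IsMulCommutative C := (Coprime.ea_mono hEe inf_le_left).1
    rw [← Coprime.iSup_centralizer_eq hCc ((inf_le_left.trans hEA).trans hAY)
      (Coprime.ea_coprime (Coprime.ea_mono hEe inf_le_left) fun h => (hY p hp.out h).2 dvd_rfl)]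
    exact iSup₂_le fun c hc => inf_le_right.trans (hgood c hc.1 hc.2)
  obtain ⟨c₀, hc₀, hc₀1, hc₀L⟩ := exists_good hG hA hEA hEe hE3 hL hqp hQ hQL hFQ hFe hF3 hU
  have hc₀C : c₀ ∈ C := ⟨hc₀, hmove c₀ hc₀ hc₀L⟩
  have hc₀o : orderOf c₀ = p := orderOf_eq_prime (hEe.2 c₀ hc₀) hc₀1
  have hCz : C ≤ zpowers c₀ := fun x hx => Fusion.mem_zpowers_of_orderOf_dvd hCc hx hc₀C
    (by rw [hc₀o]; exact orderOf_dvd_of_pow_eq_one (hEe.2 x hx.1))
  have hCeq : C = zpowers c₀ := le_antisymm hCz (zpowers_le.mpr hc₀C)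
  refine Or.inr ⟨c₀, hc₀, hc₀1, hc₀L, ?_, hc₀C.2, fun c hc hcD => hCz ⟨hc, hcD⟩,
    fun c hc _ hcL => hCz ⟨hc, hmove c hc hcL⟩⟩
  -- `P` centralises the group of order `p`
  have hPC : (P : Subgroup G) ≤ normalizer (C : Set G) := Coprime.le_normalizer_inf hPE
    (Coprime.le_normalizer_centralizer
      (hQ.1.2.2.trans (normalizer_le_normalizer_omegaTwo hq2)))
  have hCP : C ≤ (P : Subgroup G) := inf_le_left.trans (hEA.trans hA.1)
  haveI : (C.subgroupOf (P : Subgroup G)).Normal := (normal_subgroupOf_iff_le_normalizer hCP).mpr hPC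
  obtain ⟨Z, hZC, hZc, -, hZcard⟩ := Fusion.exists_central_card_prime P.2
    (C.subgroupOf (P : Subgroup G)) (fun h => hc₀1 (by
      have h1 : (⟨c₀, hCP hc₀C⟩ : (P : Subgroup G)) ∈ C.subgroupOf (P : Subgroup G) := hc₀C
      rw [h, mem_bot] at h1
      exact congrArg Subtype.val h1))
  have hZeq : Z = C.subgroupOf (P : Subgroup G) := Subgroup.eq_of_le_of_card_ge hZC (by
    rw [hZcard, Coprime.card_subgroupOf hCP, hCeq, Nat.card_zpowers, hc₀o])
  have hmem : (⟨c₀, hCP hc₀C⟩ : (P : Subgroup G)) ∈ center (P : Subgroup G) :=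
    hZc (hZeq ▸ (hc₀C : (⟨c₀, hCP hc₀C⟩ : (P : Subgroup G)) ∈ C.subgroupOf (P : Subgroup G)))
  exact mem_centralizer_iff.mpr fun x hx =>
    congrArg Subtype.val (mem_center_iff.mp hmem ⟨x, hx⟩)

end Data

include hG in
/-- Derived groups of maximal subgroups with Fitting subgroup of rank at most two. -/
theorem commutator_le_fittingOf_of_rank_le_two {X : Subgroup G} (hX : IsCoatom X)
    (hr : RankLE 2 ↥(fittingOf X)) : ⁅X, X⁆ ≤ fittingOf X := by
  haveI : Group.IsSolvable X := hG.2.2.2 X hX.1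
  have h : RankLE 2 ↥(fittingSubgroup ↥X) := fun s hs =>
    haveI := Fact.mk hs
    pRankLE_of_injective ((fittingSubgroup ↥X).equivMapOfInjective X.subtype
      X.subtype_injective).toMonoidHom (MulEquiv.injective _) (hr s hs)
  rw [← map_subtype_commutator]
  exact map_mono (commutator_le_fitting_of_rank_le_two (odd_card_subgroup hG X) h)

include hG hA hTH hπA hEA hEe hE3 in
/-- When `F(X)` is small: `P` is not abelian and `P'` centralises the invariant `r`-subgroup. -/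
theorem small_fitting {X : Subgroup G} (hX : IsCoatom X) (hr2 : RankLE 2 ↥(fittingOf X))
    {r : ℕ} [hr : Fact r.Prime] (hrp : r ≠ p) {T : Subgroup G}
    (hT : T ∈ maxInvSubgroups ⊤ (P : Subgroup G) {r}) (hNT : normalizer (T : Set G) ≤ X) :
    ¬ IsMulCommutative (P : Subgroup G) ∧
      ∀ z ∈ ⁅(P : Subgroup G), (P : Subgroup G)⁆, z ∈ centralizer ((P : Subgroup G) : Set G) →
        T ≤ centralizer {z} := by
  have hTr := isPGroup_of_singleton hT.1.2.1
  have hPT : (P : Subgroup G) ≤ normalizer (T : Set G) := hT.1.2.2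
  have hPX : (P : Subgroup G) ≤ X := hPT.trans hNT
  have hX' := commutator_le_fittingOf_of_rank_le_two hG hX hr2
  refine ⟨fun hab => ?_, fun z hz hzP => ?_⟩
  · have hAp : IsPGroup p A := P.2.to_le hA.1
    have hrA : ¬ r ∣ Nat.card A := (hπA ▸ (⟨Fact.out, fun h => hrp
      ((Nat.prime_dvd_prime_iff_eq Fact.out hp.out).mp h)⟩ : r ∈ primesNotDvd p) :
      r ∈ primesNotDvd (Nat.card A)).2
    have hPπ : ∀ s : ℕ, s.Prime → s ∣ Nat.card (P : Subgroup G) → s ∣ Nat.card A := by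
      intro s hs hd
      obtain ⟨k, hk⟩ := IsPGroup.iff_card.mp P.2
      have hsp := (Nat.prime_dvd_prime_iff_eq hs hp.out).mp (hs.dvd_of_dvd_pow (hk ▸ hd))
      by_contra h
      have h2 : s ∈ primesNotDvd (Nat.card A) := ⟨hs, h⟩
      rw [hπA] at h2
      exact h2.2 (hsp ▸ dvd_rfl)
    haveI hn : (A.subgroupOf (P : Subgroup G)).Normal :=
      (normal_subgroupOf_iff_le_normalizer hA.1).mpr hA.2.1
    have hZ : ¬ RankLE 2 ↥(A ⊓ centralizer (A : Set G)) := not_rankLE_of_elementary (r := p)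
      (le_inf hEA (hEA.trans (le_centralizer_self_of_scn hA))) hEe hE3
    obtain ⟨-, htr⟩ := transitive_of_subnormal hG hTH hrA (ne_top_of_isPGroup_minSimple hG P.2) hPπ
      hA.1 (Subgroup.Normal.isSubnormal hn)
      fun Q₁ h₁ Q₂ h₂ => linked_of_rank_three hG hTH hrA hZ h₁ h₂
    have h1 := (normalizer_factorisation hG hTH hA.1 hPπ htr hT).1
    have hPF : (P : Subgroup G) ≤ fittingOf X :=
      (((le_inf le_rfl (sylow_le_commutator_normalizer hG P hab)).trans h1).trans
        (commutator_mono hNT hNT)).trans hX'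
    exact not_pRankLE_of_elementary ((hEA.trans hA.1).trans hPF) hEe hE3 (hr2 p hp.out)
  · have hzF : z ∈ fittingOf X := hX' (commutator_mono hPX hPX hz)
    have hzPm : z ∈ (P : Subgroup G) := (P : Subgroup G).commutator_le_self hz
    obtain ⟨k, hk⟩ := P.2 ⟨z, hzPm⟩
    have hcop : (Nat.card (P : Subgroup G)).Coprime (Nat.card T) := by
      obtain ⟨i, hi⟩ := IsPGroup.iff_card.mp P.2
      obtain ⟨j, hj⟩ := IsPGroup.iff_card.mp hTr
      rw [hi, hj]
      exact ((Nat.coprime_primes hp.out hr.out).mpr (Ne.symm hrp)).pow i j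
    haveI := P.2.isNilpotent
    rw [← Coprime.commutator_sup_centralizer hPT hcop (Or.inl inferInstance)]
    refine sup_le (fun t ht => ?_) (inf_le_right.trans fun x hx =>
      mem_centralizer_singleton_iff.mpr (mem_centralizer_iff.mp hx z hzPm).symm)
    have htF : t ∈ fittingOf X := hX' (commutator_mono (Subgroup.le_normalizer.trans hNT) hPX ht)
    have htT : t ∈ T := Coprime.commutator_le_of_le_normalizer hPT ht
    obtain ⟨j, hj⟩ := hTr ⟨t, htT⟩
    refine mem_centralizer_singleton_iff.mpr (commute_of_mem (isNilpotent_fittingOf X) htF hzF ?_).eq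
    refine Nat.Coprime.coprime_dvd_left
      (orderOf_dvd_of_pow_eq_one (congrArg Subtype.val hj : t ^ r ^ j = 1)) ?_
    exact Nat.Coprime.coprime_dvd_right
      (orderOf_dvd_of_pow_eq_one (congrArg Subtype.val hk : z ^ p ^ k = 1))
      (((Nat.coprime_primes hr.out hp.out).mpr hrp).pow j k)

include hG hA in
/-- A maximal overgroup of `P` with large Fitting subgroup yields the data. -/
theorem exists_data {X : Subgroup G} (hX : IsCoatom X) (hPX : (P : Subgroup G) ≤ X) {q : ℕ}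
    [hq : Fact q.Prime] (hF : ¬ PRankLE q 2 ↥(fittingOf X)) :
    ∃ Q ∈ maxInvSubgroups ⊤ (P : Subgroup G) {q}, Q ≤ X ∧
      ∃ F : Subgroup G, F ≤ Q ∧ IsElementaryAbelian q F ∧ q ^ 3 ≤ Nat.card F := by
  have _ := hA
  obtain ⟨F, hFF, hFe, hF3⟩ := exists_elementary_of_not_pRankLE hF
  have hR : IsPGroup q (rPart q (fittingOf X)) := isPGroup_rPart
  have hFR : F ≤ rPart q (fittingOf X) :=
    le_rPart_of_isPGroup (isNilpotent_fittingOf X) hFF (Coprime.ea_isPGroup hFe)
  obtain ⟨Q, hQ, hle⟩ := exists_max_ge (A := (P : Subgroup G)) hR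
    (hPX.trans (le_normalizer_rPart (le_normalizer_fittingOf X)))
  exact ⟨Q, hQ, le_of_unique (inUniqueMaximal_of_fitting_rank_three hG hX hF hFe hF3) hX
    (hFF.trans (fittingOf_le X)) (hFR.trans hle)
    (ne_top_of_isPGroup_minSimple hG (isPGroup_of_singleton hQ.1.2.1)), F, hFR.trans hle, hFe, hF3⟩

include hG hA hTH hπA hEA hEe hE3 hPE in
/-- Some maximal subgroup contains `A` and all its invariant `p'`-subgroups, unless some `F(M)`
has `p`-rank three. -/
theorem exists_localTo (hEΩ : ∀ x ∈ A, x ^ p = 1 → x ∈ E)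
    (hnone : ∀ M : Subgroup G, IsCoatom M → PRankLE p 2 ↥(fittingOf M)) :
    ∃ L : Subgroup G, IsCoatom L ∧ A ≤ L ∧ LocalTo p A L := by
  have hAp : IsPGroup p A := P.2.to_le hA.1
  haveI := hAp.isNilpotent
  have hAs : Group.IsSolvable A := inferInstance
  have hAπ : ∀ r : ℕ, r.Prime → r ∣ Nat.card A → r ∉ primesNotDvd p := fun r _ hd h => by
    rw [← hπA] at h
    exact h.2 hd
  have hEP : E ≤ (P : Subgroup G) := hEA.trans hA.1
  have hAE : A ≤ centralizer (E : Set G) :=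
    (le_centralizer_self_of_scn hA).trans (centralizer_le hEA)
  have hCz : ∀ z ∈ E, ∀ k ∈ centralizer (A : Set G), k ∈ centralizer {z} := fun z hz k hk =>
    le_centralizer_of_mem hA hEA hz hk
  -- maximal invariant subgroups exist
  have hexT : ∀ (r : ℕ) [Fact r.Prime], ∃ T, T ∈ maxInvSubgroups ⊤ (P : Subgroup G) {r} := by
    intro r _
    obtain ⟨T, hT, -⟩ := exists_max_ge (A := (P : Subgroup G)) (q := r) (U := ⊥) IsPGroup.of_bot
      ((le_top).trans (by rw [normalizer_eq_top_iff.mpr inferInstance]))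
    exact ⟨T, hT⟩
  -- a central element of the derived subgroup
  have hz0 : ¬ IsMulCommutative (P : Subgroup G) → ∃ z ∈ ⁅(P : Subgroup G), (P : Subgroup G)⁆,
      z ∈ centralizer ((P : Subgroup G) : Set G) ∧ z ≠ 1 ∧ z ∈ centralizer (A : Set G) ∧ z ^ p = 1 := by
    intro hna
    have hne : (commutator (P : Subgroup G)) ≠ ⊥ := fun h => hna ⟨⟨fun a b =>
      commutatorElement_eq_one_iff_mul_comm.mp (mem_bot.mp
        (h.le (commutator_mem_commutator (mem_top a) (mem_top b))))⟩⟩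
    obtain ⟨Z, hZN, hZc, -, hZcard⟩ := Fusion.exists_central_card_prime P.2 _ hne
    obtain ⟨z, hz, hz1⟩ := (Z.bot_or_exists_ne_one).resolve_left fun h => hp.out.ne_one
      (hZcard.symm.trans (by rw [h, card_bot]))
    refine ⟨z, ?_, mem_centralizer_iff.mpr fun x hx =>
      congrArg Subtype.val (mem_center_iff.mp (hZc hz) ⟨x, hx⟩), fun h => hz1 (Subtype.ext h),
      mem_centralizer_iff.mpr fun a ha =>
      congrArg Subtype.val (mem_center_iff.mp (hZc hz) ⟨a, hA.1 ha⟩), ?_⟩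
    · rw [← map_subtype_commutator]
      exact mem_map_of_mem _ (hZN hz)
    · have := orderOf_dvd_natCard (⟨z, hz⟩ : Z)
      rw [hZcard, orderOf_dvd_iff_pow_eq_one] at this
      exact congrArg (fun w : Z => ((w : (P : Subgroup G)) : G)) this
  have hconjle : ∀ {r : ℕ} [Fact r.Prime], r ≠ p → ∀ {T R S : Subgroup G},
      T ∈ maxInvSubgroups ⊤ (P : Subgroup G) {r} → IsPGroup r R → A ≤ normalizer (R : Set G) →
      T ≤ S → centralizer (A : Set G) ≤ S → R ≤ S := by
    intro r _ hrp T R S hT hR hAR hTS hCS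
    obtain ⟨k, hk, hle⟩ := exists_conj_le hG hA hTH hπA hEA hEe hE3 hrp hT hR hAR
    intro x hx
    have h1 : k⁻¹ * x * k ∈ S := hTS (Coprime.mem_conj_smul.mp (hle hx))
    have := S.mul_mem (S.mul_mem (hCS hk) h1) (S.inv_mem (hCS hk))
    simpa [mul_assoc] using this
  by_cases hbig : ∃ (L : Subgroup G) (q : ℕ), IsCoatom L ∧ (P : Subgroup G) ≤ L ∧ q.Prime ∧
      ¬ PRankLE q 2 ↥(fittingOf L)
  swap
  · -- all maximal overgroups of `P` have small Fitting subgroup
    push Not at hbig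
    have hsmall : ∀ X : Subgroup G, IsCoatom X → (P : Subgroup G) ≤ X → RankLE 2 ↥(fittingOf X) :=
      fun X hX hPX s hs => hbig X s hX hPX hs
    by_cases htriv : ∀ r : ℕ, r ∈ primesNotDvd p → ∀ T ∈ maxInvSubgroups ⊤ (P : Subgroup G) {r}, T = ⊥
    · obtain ⟨L, hL, hAL⟩ :=
        (eq_top_or_exists_le_coatom A).resolve_left (ne_top_of_isPGroup_minSimple hG hAp)
      refine ⟨L, hL, hAL, fun Y hY hAY => le_of_invariant_pGroups hAs hAπ hY hAY
        fun r hrπ hr R _ hR hAR => ?_⟩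
      haveI := Fact.mk hr
      obtain ⟨T, hT⟩ := hexT r
      obtain ⟨k, -, hle⟩ := exists_conj_le hG hA hTH hπA hEA hEe hE3
        (fun h => hrπ.2 (h ▸ dvd_rfl)) hT hR hAR
      intro x hx
      have h1 := Coprime.mem_conj_smul.mp (hle hx)
      rw [htriv r hrπ T hT, mem_bot, mul_assoc, inv_mul_eq_one] at h1
      rw [show x = 1 from mul_right_cancel (show x * k = 1 * k by rw [one_mul]; exact h1.symm)]
      exact one_mem L
    push Not at htriv
    obtain ⟨r₀, hr₀, T₀, hT₀, hT₀ne⟩ := htriv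
    haveI := Fact.mk hr₀.1
    have hsm : ∀ (r : ℕ) [Fact r.Prime], r ≠ p → ∀ T ∈ maxInvSubgroups ⊤ (P : Subgroup G) {r}, T ≠ ⊥ →
        ¬ IsMulCommutative (P : Subgroup G) ∧
        ∀ z ∈ ⁅(P : Subgroup G), (P : Subgroup G)⁆, z ∈ centralizer ((P : Subgroup G) : Set G) →
          T ≤ centralizer {z} := by
      intro r _ hrp T hT hne
      obtain ⟨X, hX, hNX⟩ := (eq_top_or_exists_le_coatom _).resolve_left (ne_top_of_normal_ne_bot hG
        hne (ne_top_of_isPGroup_minSimple hG (isPGroup_of_singleton hT.1.2.1)))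
      exact small_fitting hG hA hTH hπA hEA hEe hE3 hX (hsmall X hX (hT.1.2.2.trans hNX)) hrp hT hNX
    obtain ⟨z, hzP', hzP, hz1, hzA, -⟩ := hz0 (hsm r₀ (fun h => hr₀.2 (h ▸ dvd_rfl)) T₀ hT₀ hT₀ne).1
    obtain ⟨L, hL, hzL⟩ := (eq_top_or_exists_le_coatom _).resolve_left (centralizer_ne_top hG hz1)
    have hzAmem : z ∈ A := hA.2.2.le ⟨(P : Subgroup G).commutator_le_self hzP', hzA⟩
    have hCAz : centralizer (A : Set G) ≤ centralizer {z} := fun x hx =>
      mem_centralizer_singleton_iff.mpr (mem_centralizer_iff.mp hx z hzAmem).symm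
    refine ⟨L, hL, ((le_centralizer_self_of_scn hA).trans hCAz).trans hzL, fun Y hY hAY =>
      le_of_invariant_pGroups hAs hAπ hY hAY fun r hrπ hr R _ hR hAR => ?_⟩
    haveI := Fact.mk hr
    have hrp : r ≠ p := fun h => hrπ.2 (h ▸ dvd_rfl)
    obtain ⟨T, hT⟩ := hexT r
    refine (hconjle hrp hT hR hAR (?_ : T ≤ centralizer {z}) hCAz).trans hzL
    by_cases hne : T = ⊥
    · rw [hne]; exact bot_le
    · exact (hsm r hrp T hT hne).2 z hzP' hzP
  obtain ⟨L, q, hL, hPL, hqpr, hFq⟩ := hbig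
  haveI := Fact.mk hqpr
  have hqp : q ≠ p := fun h => by subst h; exact hFq (hnone L hL)
  obtain ⟨Q, hQ, hQL, F, hFQ, hFe, hF3⟩ := exists_data hG hA hL hPL hFq
  have hU : ∀ V : Subgroup G, IsElementaryAbelian q V → q ^ 3 ≤ Nat.card V → InUniqueMaximal V :=
    fun V h1 h2 => inUniqueMaximal_of_fitting_rank_three hG hL hFq h1 h2
  have hAL : A ≤ L := hA.1.trans hPL
  rcases localTo_or_exists hG hA hTH hπA hEA hEe hE3 hPE hL hPL hqp hQ hQL hFQ hFe hF3 hU with
    hloc | ⟨a, haE, ha1, haL, -, haD, haD', -⟩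
  · exact ⟨L, hL, hAL, hloc⟩
  have hCAL := centralizer_le_data hG hA hEA hEe hE3 hL hqp hQ hQL hFQ hFe hF3 hU
  by_cases hdone : ∃ L' : Subgroup G, IsCoatom L' ∧ A ≤ L' ∧ LocalTo p A L'
  · exact hdone
  refine ⟨L, hL, hAL, fun Y hY hAY =>
    le_of_invariant_pGroups hAs hAπ hY hAY fun r hrπ hr R _ hR hAR => ?_⟩
  haveI := Fact.mk hr
  have hrp : r ≠ p := fun h => hrπ.2 (h ▸ dvd_rfl)
  obtain ⟨T, hT⟩ := hexT r
  by_cases hTne : T = ⊥
  · exact hconjle hrp hT hR hAR (hTne ▸ bot_le) hCAL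
  obtain ⟨X, hX, hNX⟩ := (eq_top_or_exists_le_coatom _).resolve_left (ne_top_of_normal_ne_bot hG
    hTne (ne_top_of_isPGroup_minSimple hG (isPGroup_of_singleton hT.1.2.1)))
  have hPX : (P : Subgroup G) ≤ X := hT.1.2.2.trans hNX
  by_cases hsmall : RankLE 2 ↥(fittingOf X)
  · obtain ⟨hna, hzT⟩ := small_fitting hG hA hTH hπA hEA hEe hE3 hX hsmall hrp hT hNX
    obtain ⟨z, hzP', hzP, hz1, hzA, hzp⟩ := hz0 hna
    have hzAmem : z ∈ A := hA.2.2.le ⟨(P : Subgroup G).commutator_le_self hzP', hzA⟩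
    have hCAz : centralizer (A : Set G) ≤ centralizer {z} := fun x hx =>
      mem_centralizer_singleton_iff.mpr (mem_centralizer_iff.mp hx z hzAmem).symm
    have hall : ∀ V : Subgroup G, IsPGroup r V → A ≤ normalizer (V : Set G) →
        V ≤ centralizer {z} := fun V hV hAV => hconjle hrp hT hV hAV (hzT z hzP' hzP) hCAz
    have hzE : z ∈ E := hEΩ z hzAmem hzp
    by_cases hzD : z ∈ centralizer (omegaTwo q Q : Set G)
    · refine (hall R hR hAR).trans (le_trans ?_ haL)
      -- `z` generates the same subgroup as `a`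
      have hgen : zpowers z = zpowers a := Subgroup.eq_of_le_of_card_ge
        (zpowers_le.mpr (haD' z hzE hzD)) (by
          rw [Nat.card_zpowers, Nat.card_zpowers, Coprime.ea_orderOf hEe haE ha1,
            orderOf_eq_prime hzp hz1])
      rw [← FixedPointFree.centralizer_zpowers, hgen, FixedPointFree.centralizer_zpowers]
    · exact le_of_sweep hG hA hTH hπA hEA hEe hE3 hL hPL hqp hQ hQL hFQ hFe hF3 hU hrp hR hAR hzE hzD
        fun c _ _ _ _ _ V hV _ hAV => Or.inr (hall V hV hAV)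
  obtain ⟨s, hs, hFs⟩ : ∃ s : ℕ, s.Prime ∧ ¬ PRankLE s 2 ↥(fittingOf X) := by
    by_contra h
    push Not at h
    exact hsmall h
  haveI := Fact.mk hs
  by_cases hXL : X = L
  · refine hconjle hrp hT hR hAR ?_ hCAL
    rw [← hXL]
    exact Subgroup.le_normalizer.trans hNX
  have hsp : s ≠ p := fun h => by subst h; exact hFs (hnone X hX)
  obtain ⟨Q', hQ', hQ'X, F', hF'Q, hF'e, hF'3⟩ := exists_data hG hA hX hPX hFs
  have hU' : ∀ V : Subgroup G, IsElementaryAbelian s V → s ^ 3 ≤ Nat.card V → InUniqueMaximal V :=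
    fun V h1 h2 => inUniqueMaximal_of_fitting_rank_three hG hX hFs h1 h2
  have hQ'q := isPGroup_of_singleton hQ'.1.2.1
  have hAQ' : A ≤ normalizer (Q' : Set G) := hA.1.trans hQ'.1.2.2
  rcases localTo_or_exists hG hA hTH hπA hEA hEe hE3 hPE hX hPX hsp hQ' hQ'X hF'Q hF'e hF'3 hU' with
    hloc | ⟨b, hbE, hb1, hbX, -, hbD', -, hbgood⟩
  · exact absurd ⟨X, hX, hA.1.trans hPX, hloc⟩ hdone
  refine absurd ?_ hXL
  have hq2 := two_ne_of_elementary hFe hF3 hG
  have hs2 := two_ne_of_elementary hF'e hF'3 hG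
  have hQq := isPGroup_of_singleton hQ.1.2.1
  by_cases hbD : b ∈ centralizer (omegaTwo q Q : Set G)
  · -- then `C(a)` lies in both
    obtain ⟨B, hBD, hBe, hB2, W, -, hWB, hWe, hW3⟩ := exists_rich_le_omegaTwo hq2 hFQ hFe hF3 hQq
    have hBU : InUniqueMaximal B := inUniqueMaximal_of_rank_three_centralizer hG hFe.1
      (not_pRankLE_of_elementary le_rfl hFe hF3) (hU F hFe hF3) (Coprime.ea_isPGroup hBe)
      (Coprime.ea_not_isCyclic hBe hB2) (not_pRankLE_of_elementary hWB hWe hW3)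
    refine eq_of_unique hBU hL (hBD.trans ((omegaTwo_le hq2).trans hQL)) hX
      (fun x hx => hbX ?_)
    exact mem_centralizer_singleton_iff.mpr (mem_centralizer_iff.mp hbD x (hBD hx))
  -- otherwise `omegaTwo s Q'` lies in `L`
  set D' := omegaTwo s Q' with hD'
  have hD'L : D' ≤ L := by
    refine le_of_sweep hG hA hTH hπA hEA hEe hE3 hL hPL hqp hQ hQL hFQ hFe hF3 hU hsp
      (hQ'q.to_le (omegaTwo_le hs2)) (hAQ'.trans (normalizer_le_normalizer_omegaTwo hs2)) hbE hbD ?_
    intro c hcE hc1 _ hmove hne V hV hVc hAV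
    refine Or.inr ?_
    have hnb : ¬ centralizer {c} ≤ X := by
      intro hcX
      refine hmove (inf_le_right.trans ?_)
      have hgen : zpowers c = zpowers b := Subgroup.eq_of_le_of_card_ge
        (zpowers_le.mpr (hbgood c hcE hc1 hcX)) (by
          rw [Nat.card_zpowers, Nat.card_zpowers, Coprime.ea_orderOf hEe hbE hb1,
            Coprime.ea_orderOf hEe hcE hc1])
      rw [← FixedPointFree.centralizer_zpowers, hgen, FixedPointFree.centralizer_zpowers]
    have hU₁ : IsCyclic (Q' ⊓ centralizer {c} : Subgroup G) := by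
      by_contra hnc
      exact hnb (good_of_noncyclic hG hX hsp hQ' hQ'X hF'Q hF'e hF'3 hU'
        (mem_normalizer_of_mem hA hEA hQ' hcE) hc1 (hEe.2 c hcE) hnc)
    haveI := hU₁
    have hbU : b ∈ centralizer ((Q' ⊓ centralizer {c} : Subgroup G) : Set G) := by
      obtain ⟨w, hw, hw1⟩ := ((D' ⊓ centralizer {c}).bot_or_exists_ne_one).resolve_left hne
      obtain ⟨hwQ, hwq, -⟩ := (mem_omegaTwo_iff hs2).mp hw.1
      have hbn : zpowers b ≤ normalizer ((Q' ⊓ centralizer {c} : Subgroup G) : Set G) :=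
        zpowers_le.mpr (Coprime.le_normalizer_inf hAQ'
          (le_trans (show A ≤ centralizer {c} from fun x hx =>
            mem_centralizer_singleton_iff.mpr (mem_centralizer_iff.mp
              (le_centralizer_self_of_scn hA hx) c (hEA hcE)).symm)
            Subgroup.le_normalizer) (hEA hbE))
      have hcop : (Nat.card (zpowers b)).Coprime (Nat.card (Q' ⊓ centralizer {c} : Subgroup G)) := by
        obtain ⟨k, hk⟩ := IsPGroup.iff_card.mp (hQ'q.to_le (inf_le_left :
          Q' ⊓ centralizer ({c} : Set G) ≤ Q'))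
        rw [hk, Nat.card_zpowers, Coprime.ea_orderOf hEe hbE hb1]
        exact ((Nat.coprime_primes hp.out hs).mpr (Ne.symm hsp)).pow_right k
      haveI : IsMulCommutative (Q' ⊓ centralizer {c} : Subgroup G) := IsCyclic.isMulCommutative
      refine Coprime.le_centralizer_of_fixes_prime_order hbn hcop (fun v hv hvp x hx => ?_)
        (mem_zpowers b)
      have hvw : v ∈ zpowers w := by
        refine Fusion.mem_zpowers_of_orderOf_dvd hU₁ hv ⟨hwQ, hw.2⟩ ?_
        rw [orderOf_eq_prime hwq hw1]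
        obtain ⟨k, hk⟩ := hQ'q ⟨v, hv.1⟩
        obtain ⟨j, -, hj⟩ := (Nat.dvd_prime_pow hs).mp
          (orderOf_dvd_of_pow_eq_one (congrArg Subtype.val hk : v ^ s ^ k = 1))
        rw [hj] at hvp ⊢
        rcases Nat.eq_zero_or_pos j with h0 | h0
        · rw [h0, pow_zero] at hvp; exact absurd hvp Nat.not_prime_one
        · rw [show j = 1 from (Nat.Prime.pow_eq_iff hvp).mp rfl |>.2] 
          simp
      obtain ⟨i, rfl⟩ := mem_zpowers_iff.mp hvw
      obtain ⟨t, rfl⟩ := mem_zpowers_iff.mp hx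
      exact ((show Commute b w from (mem_centralizer_iff.mp hbD' w hw.1).symm).zpow_zpow t i).eq
    obtain ⟨k, hk, hle⟩ := exists_conj_le hG hA hTH hπA hEA hEe hE3 hsp hQ' hV hAV
    intro v hv
    have hkc : k ∈ centralizer {c} := hCz c hcE k hk
    have hkb : k ∈ centralizer {b} := hCz b hbE k hk
    have h1 : k⁻¹ * v * k ∈ centralizer {b} := mem_centralizer_singleton_iff.mpr
      (mem_centralizer_iff.mp hbU _ ⟨Coprime.mem_conj_smul.mp (hle hv),
        (centralizer {c}).mul_mem ((centralizer {c}).mul_mem ((centralizer {c}).inv_mem hkc) (hVc hv)) hkc⟩)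
    have := mul_mem (mul_mem hkb h1) (inv_mem hkb)
    simpa [mul_assoc] using this
  obtain ⟨B, hBD, hBe, hB2, W, -, hWB, hWe, hW3⟩ := exists_rich_le_omegaTwo hs2 hF'Q hF'e hF'3 hQ'q
  have hBU : InUniqueMaximal B := inUniqueMaximal_of_rank_three_centralizer hG hF'e.1
    (not_pRankLE_of_elementary le_rfl hF'e hF'3) (hU' F' hF'e hF'3) (Coprime.ea_isPGroup hBe)
    (Coprime.ea_not_isCyclic hBe hB2) (not_pRankLE_of_elementary hWB hWe hW3)
  exact eq_of_unique hBU hL (hBD.trans hD'L) hX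
    (hBD.trans ((omegaTwo_le hs2).trans hQ'X))

include hG hA in
/-- S1402. -/
theorem inUniqueMaximal_scn (hA3 : ¬ PRankLE p 2 ↥A) : InUniqueMaximal A := by
  obtain ⟨E₀, hE₀A, hE₀e, hE₀3⟩ := exists_elementary_of_not_pRankLE hA3
  have hAC := le_centralizer_self_of_scn hA
  haveI : IsMulCommutative A := le_centralizer_iff_isMulCommutative.mp hAC
  have hAp : IsPGroup p A := P.2.to_le hA.1
  have hAne : A ≠ ⊥ := fun h => Coprime.ea_ne_bot three_ne_zero hE₀3 (le_bot_iff.mp (h ▸ hE₀A))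
  have hAtop := ne_top_of_isPGroup_minSimple hG hAp
  by_cases hbig : ∃ M : Subgroup G, IsCoatom M ∧ ¬ PRankLE p 2 ↥(fittingOf M)
  · obtain ⟨M, hM, hF⟩ := hbig
    exact inUniqueMaximal_of_le (inUniqueMaximal_of_fitting_rank_three hG hM hF hE₀e hE₀3) hE₀A hAtop
  push Not at hbig
  have hpA : p ∣ Nat.card A := by
    obtain ⟨k, hk⟩ := IsPGroup.iff_card.mp hAp
    exact hk ▸ dvd_pow_self p fun h => hAne (Subgroup.card_eq_one.mp (by rw [hk, h, pow_zero]))
  have hTH : TransitivityHypothesis A :=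
    transitivityHypothesis_of_omega hG (hpA.trans (Subgroup.card_subgroup_dvd_card A)) hAp
      fun x hx hxp => mem_of_scn hA hx (k := 1) (by rwa [pow_one])
  have hE₀Ω : E₀ ≤ omegaCenter p A := fun x hx => mem_omegaCenter_iff.mpr
    ⟨hE₀A hx, hE₀e.2 x hx, fun v hv => (mem_centralizer_iff.mp (hAC (hE₀A hx)) v hv).symm⟩
  obtain ⟨L, hL, hAL, hloc⟩ := exists_localTo hG hA hTH (primesNotDvd_card_eq hAp hAne)
    omegaCenter_le omegaCenter_elementary
    (hE₀3.trans (Nat.le_of_dvd Nat.card_pos (card_dvd_of_le hE₀Ω)))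
    (hA.2.1.trans normalizer_le_normalizer_omegaCenter)
    (fun x hx hxp => mem_omegaCenter_iff.mpr
      ⟨hx, hxp, fun v hv => (mem_centralizer_iff.mp (hAC hx) v hv).symm⟩) hbig
  exact inUniqueMaximal_of_localTo hG hL hAL hAp hAne hloc

omit P A in
include hG in
/-- Every elementary abelian subgroup of rank three is a uniqueness subgroup. -/
theorem inUniqueMaximal_of_elementary_three {V : Subgroup G} (hVe : IsElementaryAbelian p V)
    (hV3 : p ^ 3 ≤ Nat.card V) : InUniqueMaximal V := by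
  obtain ⟨S, hVS⟩ := (Coprime.ea_isPGroup hVe).exists_le_sylow
  obtain ⟨A, hA, hA3⟩ := exists_scn_three hG S (not_pRankLE_of_elementary hVS hVe hV3)
  obtain ⟨E₀, hE₀A, hE₀e, hE₀3⟩ := exists_elementary_of_not_pRankLE hA3
  refine inUniqueMaximal_of_rank_three hG hE₀e hE₀3 ?_ hVe hV3
  refine inUniqueMaximal_of_centralizes hG (inUniqueMaximal_scn hG hA hA3)
    (hE₀A.trans (le_centralizer_self_of_scn hA)) ?_
  exact not_rankLE_of_elementary (r := p) le_rfl hE₀e
    ((Nat.pow_le_pow_right hp.out.pos (by norm_num)).trans hE₀3)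

end MinSimple

/-- The uniqueness theorem. -/
theorem inUniqueMaximal_of_not_rankLE (hG : IsMinSimpleOddOrder G) {K : Subgroup G} (hK : K ≠ ⊤)
    (hK2 : ¬ RankLE 1 ↥K)
    (hK3 : ¬ RankLE 2 ↥K ∨ ¬ RankLE 2 ↥(centralizer (K : Set G))) : InUniqueMaximal K := by
  rcases hK3 with h | h
  · obtain ⟨r, V, hr, hVK, hVe, hV3⟩ := exists_elementary_of_not_rankLE h
    haveI := Fact.mk hr
    exact inUniqueMaximal_of_le (inUniqueMaximal_of_elementary_three hG hVe hV3) hVK hK
  · obtain ⟨r, V, hr, hVC, hVe, hV3⟩ := exists_elementary_of_not_rankLE h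
    haveI := Fact.mk hr
    exact inUniqueMaximal_of_centralizes hG (inUniqueMaximal_of_elementary_three hG hVe hV3)
      (le_centralizer_iff.mp hVC) hK2

end Cfsg.Agent.OddLocal
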