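import Cfsg.Agent.FittingPQ.Main
import Cfsg.Agent.OddLocal.NonSigma

/-!
The configuration at the heart of BG Theorem 3.6: a `{p, q}`-group acting on a `p`-group, with an
element of prime order whose fixed points are small.
-/

set_option autoImplicit false
set_option linter.unusedSectionVars false
set_option linter.style.haveILetI false

namespace Cfsg.Agent.OddLocal.ZFix

open Subgroup Cfsg
open Cfsg.Agent.FittingPQ (ActData IsPiece)
open scoped commutatorElement

universe u v

theorem pow_card_mem_of_frobenius {E : Type u} {A : Type v} [Group E] [CommGroup A]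
    (φ : E →* MulAut A) (B : Subgroup E) [Finite B] (x : E) {r : ℕ} (hr : 0 < r) (hxr : x ^ r = 1)
    (hxB : ∀ b ∈ B, x * b * x⁻¹ ∈ B)
    (hfree : ∀ i, 0 < i → i < r → ∀ b ∈ B, Commute (x ^ i) b → b = 1)
    (hC : ∀ v, (∀ b ∈ B, φ b v = v) → v = 1) (W : Subgroup A) (hfix : ∀ v, φ x v = v → v ∈ W)
    (hWB : ∀ b ∈ B, ∀ w ∈ W, φ b w ∈ W) (v : A) : v ^ Nat.card B ∈ W := by
  have := Fintype.ofFinite B
  have hpowB : ∀ i : ℕ, ∀ b ∈ B, x ^ i * b * (x ^ i)⁻¹ ∈ B := by
    intro i
    induction i with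
    | zero => simp
    | succ i ih =>
      intro b hb
      have := hxB _ (ih b hb)
      convert this using 1
      rw [pow_succ', mul_inv_rev]
      group
  have hcomp : ∀ (a b : E) (w : A), φ a (φ b w) = φ (a * b) w := fun a b w => by
    rw [map_mul]; rfl
  have hC' : ∀ w : A, ∏ b : B, φ b w = 1 := fun w => by
    refine hC _ fun c hc => ?_
    simp only [map_prod, hcomp]
    exact Fintype.prod_bijective (fun b : B => (⟨c, hc⟩ : B) * b) (Group.mulLeft_bijective _)
      (fun b : B => φ (c * b) w) (fun b : B => φ b w) fun b => rfl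
  have horb : ∀ w : A, ∏ i ∈ Finset.range r, φ (x ^ i) w ∈ W := fun w => by
    refine hfix _ ?_
    simp only [map_prod, hcomp, ← pow_succ']
    obtain ⟨r', rfl⟩ := Nat.exists_eq_add_of_le' (show 1 ≤ r from hr)
    have h1 := Finset.prod_range_succ' (fun i => φ (x ^ i) w) r'
    rw [Finset.prod_range_succ, h1, hxr, pow_zero]
  have key : ∏ i ∈ Finset.range r, ∏ b : B, φ ((b : E) * x ^ i * (b : E)⁻¹) v ∈ W := by
    rw [Finset.prod_comm]
    refine W.prod_mem fun b _ => ?_
    have h1 := hWB b b.2 _ (horb (φ (b : E)⁻¹ v))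
    rw [map_prod] at h1
    simpa only [hcomp, ← mul_assoc] using h1
  obtain ⟨r', rfl⟩ := Nat.exists_eq_add_of_le' (show 1 ≤ r from hr)
  rw [Finset.prod_range_succ', Finset.prod_eq_one fun i hi => ?_, one_mul] at key
  · simpa [Finset.card_univ] using key
  · let f : B → B := fun b => ⟨(b : E) * (x ^ (i + 1) * (b : E)⁻¹ * (x ^ (i + 1))⁻¹),
      B.mul_mem b.2 (hpowB _ _ (B.inv_mem b.2))⟩
    have hf : Function.Bijective f := by
      refine Finite.injective_iff_bijective.mp fun a b hab => ?_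
      have h1 : (a : E) * x ^ (i + 1) * (a : E)⁻¹ = (b : E) * x ^ (i + 1) * (b : E)⁻¹ := by
        have h2 := congrArg (fun t : B => (t : E) * x ^ (i + 1)) hab
        simpa [f, mul_assoc] using h2
      have h3 : Commute (x ^ (i + 1)) ((b : E)⁻¹ * a) := by
        calc x ^ (i + 1) * ((b : E)⁻¹ * a)
            = (b : E)⁻¹ * ((b : E) * x ^ (i + 1) * (b : E)⁻¹) * a := by group
          _ = (b : E)⁻¹ * ((a : E) * x ^ (i + 1) * (a : E)⁻¹) * a := by rw [h1]
          _ = (b : E)⁻¹ * a * x ^ (i + 1) := by group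
      exact Subtype.ext (inv_mul_eq_one.mp (hfree (i + 1) (Nat.succ_pos i)
        (Nat.succ_lt_succ (Finset.mem_range.mp hi)) _ (B.mul_mem (B.inv_mem b.2) a.2) h3)).symm
    rw [← hC' (φ (x ^ (i + 1)) v)]
    refine Fintype.prod_bijective f hf _ _ fun b => ?_
    simp only [f, hcomp]
    congr 2
    group

variable {Γ : Type u} [Group Γ] [Finite Γ]

theorem isSolvable_zpowers (c : Γ) : Group.IsSolvable (zpowers c) :=
  Group.isSolvable_of_comm fun a b => IsMulCommutative.is_comm.comm a b

theorem coprime_zpowers {s n : ℕ} {c : Γ} (hc : c ^ s = 1) (h : s.Coprime n) :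
    (Nat.card (zpowers c)).Coprime n := by
  rw [Nat.card_zpowers]
  exact h.coprime_dvd_left (orderOf_dvd_of_pow_eq_one hc)

/-- A fixed-point-free element generates the commutator. -/
theorem commutator_eq_self {c : Γ} {s : ℕ} (hc : c ^ s = 1) {X : Subgroup Γ}
    (hcX : c ∈ normalizer (X : Set Γ)) (hcop : s.Coprime (Nat.card X))
    (hX : X ⊓ centralizer {c} = ⊥) : ⁅X, zpowers c⁆ = X := by
  have h := Coprime.commutator_sup_centralizer (zpowers_le.mpr hcX) (coprime_zpowers hc hcop)
    (Or.inl (isSolvable_zpowers c))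
  rwa [FixedPointFree.centralizer_zpowers, hX, sup_bot_eq] at h

/-- If `X` is fixed-point-free on the abelian `U` and `c` is fixed-point-free on `X`, then `U` is
generated by the `X`-conjugates of its fixed points of `c`. -/
theorem le_of_frobenius_fixed {s : ℕ} (hs : s.Prime) {c : Γ} (hc : c ^ s = 1) {U X A : Subgroup Γ}
    [IsMulCommutative U] (hXU : X ≤ normalizer (U : Set Γ)) (hcU : c ∈ normalizer (U : Set Γ))
    (hcX : c ∈ normalizer (X : Set Γ)) (hcop : (Nat.card X).Coprime (Nat.card U))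
    (hCX : U ⊓ centralizer (X : Set Γ) = ⊥) (hfX : X ⊓ centralizer {c} = ⊥)
    (hUA : U ⊓ centralizer {c} ≤ A) (hXA : X ≤ normalizer (A : Set Γ)) : U ≤ A := by
  set N := normalizer (U : Set Γ) with hN
  intro u hu
  open scoped IsMulCommutative in
  have h1 : (⟨u, hu⟩ : U) ^ Nat.card (X.subgroupOf N) ∈ A.subgroupOf U := by
    refine pow_card_mem_of_frobenius (normalizerMonoidHom U) (X.subgroupOf N) ⟨c, hcU⟩ hs.pos
      (Subtype.ext (by simpa using hc)) (fun b hb => (mem_normalizer_iff.mp hcX (b : Γ)).mp hb)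
      ?_ ?_ _ ?_ ?_ _
    · intro i hi hip b hb hcom
      have h1 : Commute (c ^ i) (b : Γ) := by
        have := congrArg Subtype.val hcom.eq
        simpa [Commute, SemiconjBy] using this
      obtain ⟨m, hm⟩ := exists_pow_eq_self_of_coprime (x := c) (n := i)
        (((hs.coprime_iff_not_dvd.mpr (Nat.not_dvd_of_pos_of_lt hi hip)).symm).coprime_dvd_right
          (orderOf_dvd_of_pow_eq_one hc))
      exact Subtype.ext (FixedPointFree.eq_one_of_fixed hfX hb (hm ▸ h1.pow_left m))
    · intro w hw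
      refine Subtype.ext (mem_bot.mp (hCX.le ⟨w.2, mem_centralizer_iff.mpr fun x hx => ?_⟩))
      exact mul_inv_eq_iff_eq_mul.mp (congrArg Subtype.val (hw ⟨x, hXU hx⟩ hx))
    · intro w hw
      exact hUA ⟨w.2, mem_centralizer_singleton_iff.mpr
        (mul_inv_eq_iff_eq_mul.mp (congrArg Subtype.val hw)).symm⟩
    · intro b hb w hw
      exact (mem_normalizer_iff.mp (hXA hb) (w : Γ)).mp hw
  rw [mem_subgroupOf, SubmonoidClass.coe_pow, Coprime.card_subgroupOf hXU] at h1
  obtain ⟨m, hm⟩ := exists_pow_eq_self_of_coprime (x := u) (n := Nat.card X)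
    (hcop.coprime_dvd_right (Subgroup.orderOf_dvd_natCard U hu))
  exact hm ▸ pow_mem h1 m

/-- A `p`-group has fixed points on every nontrivial `p`-group that it normalises. -/
theorem inf_centralizer_ne_bot {p : ℕ} [Fact p.Prime] {P : Subgroup Γ} (hP : IsPGroup p P) :
    ∀ U : Subgroup Γ, IsPGroup p U → P ≤ normalizer (U : Set Γ) → U ≠ ⊥ →
      U ⊓ centralizer (P : Set Γ) ≠ ⊥ := by
  intro U
  induction U using WellFoundedLT.induction with
  | _ U ih =>
    intro hU hPU hne
    have hlt := Coprime.commutator_lt_of_isPGroup hP hU hPU hne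
    by_cases h0 : ⁅U, P⁆ = ⊥
    · rw [inf_eq_left.mpr (commutator_eq_bot_iff_le_centralizer.mp h0)]
      exact hne
    · exact ne_bot_of_le_ne_bot
        (ih _ hlt (hU.to_le hlt.le) (normalizer_commutator_ge_right U P) h0)
        (inf_le_inf_right _ hlt.le)

/-- A `p`-group centralises the groups of order at most `p` that it normalises. -/
theorem le_centralizer_of_card_le {p : ℕ} [Fact p.Prime] {P U : Subgroup Γ} (hP : IsPGroup p P)
    (hU : IsPGroup p U) (hPU : P ≤ normalizer (U : Set Γ)) (hc : Nat.card U ≤ p) :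
    P ≤ centralizer (U : Set Γ) := by
  rw [le_centralizer_iff, ← commutator_eq_bot_iff_le_centralizer]
  by_contra hne
  have hUne : U ≠ ⊥ := fun h => hne (by rw [h, commutator_bot_left])
  have hlt := Coprime.commutator_lt_of_isPGroup hP hU hPU hUne
  obtain ⟨j, hj⟩ := (hU.to_le hlt.le).exists_card_eq
  have hj0 : j ≠ 0 := fun h0 => hne (Subgroup.card_eq_one.mp (by rw [hj, h0, pow_zero]))
  have h1 := Core.card_lt_of_lt hlt
  rw [hj] at h1
  have := Nat.le_self_pow hj0 p
  omega

/-- The structure of a `q`-group whose proper invariant subgroups are centralised. -/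
theorem class_two_of_minimal {q : ℕ} [Fact q.Prime] {Q A : Subgroup Γ} (hQ : IsPGroup q Q)
    (hAQ : A ≤ normalizer (Q : Set Γ)) (hQA : ⁅Q, A⁆ = Q) (hne : Q ≠ ⊥)
    (hmin : ∀ L : Subgroup Γ, L ≤ Q → L ≠ Q → normalizer (Q : Set Γ) ≤ normalizer (L : Set Γ) →
      A ≤ centralizer (L : Set Γ)) :
    ∃ F : Subgroup Γ, F ≤ Q ∧ F ≠ Q ∧ A ≤ centralizer (F : Set Γ) ∧ Q ≤ centralizer (F : Set Γ) ∧
      ⁅Q, Q⁆ ≤ F ∧ (∀ x ∈ Q, x ^ q ∈ F) ∧ IsElementaryAbelian q ⁅Q, Q⁆ := by
  haveI := hQ.isNilpotent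
  haveI : Nontrivial Q := (nontrivial_iff_ne_bot Q).mpr hne
  set P := (frattini Q).map Q.subtype with hP
  have hPQ : P ≤ Q := map_subtype_le _
  have hPne : P ≠ Q := fun he => by
    have h1 : frattini Q = ⊤ := map_injective Q.subtype_injective
      (he.trans (by rw [← MonoidHom.range_eq_map, range_subtype]))
    have h2 : (⊥ : Subgroup Q) = ⊤ := frattini_nongenerating (by rw [h1, sup_top_eq])
    exact top_ne_bot h2.symm
  have hDP : ⁅Q, Q⁆ ≤ P := by
    rw [← map_subtype_commutator]
    exact map_mono Core.commutator_le_frattini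
  have hAn : normalizer (Q : Set Γ) ≤ normalizer (P : Set Γ) :=
    Coprime.le_normalizer_map_of_characteristic le_rfl _ inferInstance
  have hAP : A ≤ centralizer (P : Set Γ) := hmin P hPQ hPne hAn
  have hQP : Q ≤ centralizer (P : Set Γ) := by
    refine commutator_eq_bot_iff_le_centralizer.mp ?_
    have h1 : ⁅⁅A, P⁆, Q⁆ = ⊥ := by
      rw [commutator_eq_bot_iff_le_centralizer.mpr hAP, commutator_bot_left]
    have h2 : ⁅⁅P, Q⁆, A⁆ = ⊥ := by
      refine le_bot_iff.mp ((commutator_mono (commutator_mono hPQ le_rfl) le_rfl).trans ?_)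
      rw [commutator_comm, le_bot_iff]
      exact commutator_eq_bot_iff_le_centralizer.mpr (hAP.trans (centralizer_le hDP))
    have h3 := Subgroup.commutator_commutator_eq_bot_of_rotate h1 h2
    rwa [hQA] at h3
  have hQD : Q ≤ centralizer ((⁅Q, Q⁆ : Subgroup Γ) : Set Γ) := hQP.trans (centralizer_le hDP)
  refine ⟨P, hPQ, hPne, hAP, hQP, hDP, fun x hx => ?_, ?_, ?_⟩
  · have h1 := mem_map_of_mem Q.subtype (Core.pow_mem_frattini hQ ⟨x, hx⟩)
    rwa [map_pow] at h1
  · exact ⟨⟨fun x y => Subtype.ext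
      (mem_centralizer_iff.mp (hQD (commutator_le_self Q y.2)) x x.2)⟩⟩
  · let S : Subgroup Γ :=
      { carrier := {z | z ∈ ⁅Q, Q⁆ ∧ z ^ q = 1}
        one_mem' := ⟨one_mem _, one_pow q⟩
        mul_mem' := fun {x y} hx hy => ⟨mul_mem hx.1 hy.1, by
          rw [(show Commute x y from mem_centralizer_iff.mp
            (hQD (commutator_le_self Q hy.1)) x hx.1).mul_pow, hx.2, hy.2, one_mul]⟩
        inv_mem' := fun {x} hx => ⟨inv_mem hx.1, by rw [inv_pow, hx.2, inv_one]⟩ }
    have hS : ⁅Q, Q⁆ ≤ S := by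
      rw [commutator_le]
      intro x hx y hy
      refine ⟨commutator_mem_commutator hx hy, ?_⟩
      have hxz : x * ⁅x, y⁆ = ⁅x, y⁆ * x :=
        (mem_centralizer_iff.mp (hQD hx) _ (commutator_mem_commutator hx hy)).symm
      have key : ∀ n : ℕ, ⁅x ^ n, y⁆ = ⁅x, y⁆ ^ n := by
        intro n
        induction n with
        | zero => simp
        | succ n ih =>
          have e : ⁅x * x ^ n, y⁆ = x * ⁅x ^ n, y⁆ * x⁻¹ * ⁅x, y⁆ := by
            simp only [commutatorElement_def]; group
          rw [pow_succ' x, e, ih, (show Commute x (⁅x, y⁆ ^ n) from Commute.pow_right hxz n).eq,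
            mul_inv_cancel_right, ← pow_succ]
      rw [← key]
      have hxP : x ^ q ∈ P := by
        have h1 := mem_map_of_mem Q.subtype (Core.pow_mem_frattini hQ ⟨x, hx⟩)
        rwa [map_pow] at h1
      exact commutatorElement_eq_one_iff_mul_comm.mpr (mem_centralizer_iff.mp (hQP hy) _ hxP)
    exact fun z hz => (hS hz).2

/-- An element of prime order without fixed points on the abelian `V` centralises every invariant
`q`-group acting faithfully on `V`, all orders being odd. -/
theorem commute_of_fpf {p q s : ℕ} [hp : Fact p.Prime] [hq : Fact q.Prime] (hs : s.Prime)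
    (hq2 : q ≠ 2) (hs2 : s ≠ 2) (hqp : q ≠ p) (hsp : s ≠ p) (hsq : s ≠ q) {c : Γ} (hc : c ^ s = 1)
    {V : Subgroup Γ} (hV : IsElementaryAbelian p V) (hcV : c ∈ normalizer (V : Set Γ))
    (hfix : V ⊓ centralizer {c} = ⊥) :
    ∀ Q : Subgroup Γ, IsPGroup q Q → c ∈ normalizer (Q : Set Γ) → Q ≤ normalizer (V : Set Γ) →
      Q ⊓ centralizer (V : Set Γ) = ⊥ → Q ≤ centralizer {c} := by
  intro Q
  induction Q using WellFoundedLT.induction with
  | _ Q ih =>
    intro hQ hcQ hQV hfaith
    by_contra hnc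
    haveI := hV.1
    set C := zpowers c with hC
    have hCQ : C ≤ normalizer (Q : Set Γ) := zpowers_le.mpr hcQ
    obtain ⟨n, hn⟩ := hQ.exists_card_eq
    have hsQ : s.Coprime (Nat.card Q) := by
      rw [hn]
      exact ((Nat.coprime_primes hs hq.out).mpr hsq).pow_right n
    have hmin : ∀ L : Subgroup Γ, L ≤ Q → L ≠ Q → C ≤ normalizer (L : Set Γ) →
        C ≤ centralizer (L : Set Γ) := by
      intro L hL hne hCL
      rw [le_centralizer_iff, hC, FixedPointFree.centralizer_zpowers]
      exact ih L (lt_of_le_of_ne hL hne) (hQ.to_le hL) (hCL (mem_zpowers c)) (hL.trans hQV)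
        (le_bot_iff.mp ((inf_le_inf_right _ hL).trans hfaith.le))
    have hQC : ⁅Q, C⁆ = Q := by
      by_contra hne
      have h1 := hmin _ (Coprime.commutator_le_of_le_normalizer hCQ) hne
        (normalizer_commutator_ge_right Q C)
      have h2 : ⁅⁅Q, C⁆, C⁆ = ⊥ :=
        commutator_eq_bot_iff_le_centralizer.mpr (le_centralizer_iff.mp h1)
      rw [Coprime.commutator_commutator_eq hCQ (coprime_zpowers hc hsQ)
        (Or.inl (isSolvable_zpowers c)), commutator_eq_bot_iff_le_centralizer, hC,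
        FixedPointFree.centralizer_zpowers] at h2
      exact hnc h2
    have hQne : Q ≠ ⊥ := fun h => hnc (by rw [h]; exact bot_le)
    obtain ⟨F, hFQ, -, hCF, -, hDF, -, hDe⟩ := class_two_of_minimal hQ hCQ hQC hQne (fun L hL hne hn => hmin L hL hne (hCQ.trans hn))
    have hqV : ¬ q ∣ Nat.card V := fun h => by
      obtain ⟨k, hk⟩ := IsPGroup.iff_card.mp (Coprime.ea_isPGroup hV)
      rw [hk] at h
      exact hqp ((Nat.prime_dvd_prime_iff_eq hq.out hp.out).mp (hq.out.dvd_of_dvd_pow h))
    have hcop : (Nat.card Q).Coprime (Nat.card V) := by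
      rw [hn]
      exact ((hq.out.coprime_iff_not_dvd.mpr hqV).pow_left n)
    by_cases hab : IsMulCommutative Q
    · haveI := hab
      have hfQ : Q ⊓ centralizer {c} = ⊥ := by
        have h := Coprime.centralizer_inf_commutator_eq_bot hCQ (coprime_zpowers hc hsQ)
        rwa [hQC, hC, FixedPointFree.centralizer_zpowers, inf_eq_left.mpr inf_le_left] at h
      have h1 := FixedPointFree.le_centralizer_of_frobenius hs hc hQV hcV hcQ hcop hfix hfQ
      exact hQne (by rw [← hfaith, inf_eq_left.mpr h1])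
    set Z := ⁅Q, Q⁆ with hZ
    have hZQ : Z ≤ Q := commutator_le_self Q
    have hCZ : C ≤ centralizer (Z : Set Γ) := hCF.trans (centralizer_le hDF)
    have hQZ : Q ≤ centralizer (Z : Set Γ) := by
      obtain ⟨F', -, -, -, hQF', hDF', -, -⟩ := class_two_of_minimal hQ hCQ hQC hQne (fun L hL hne hn => hmin L hL hne (hCQ.trans hn))
      exact hQF'.trans (centralizer_le hDF')
    obtain ⟨hd, hfd⟩ := FittingPQ.actData_commutator hq.out hDe (hZQ.trans hQV) hqV
      (le_bot_iff.mp ((inf_le_inf_right _ hZQ).trans hfaith.le))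
    set V' := ⁅V, Z⁆ with hV'
    have hV'V : V' ≤ V := Coprime.commutator_le_of_le_normalizer (hZQ.trans hQV)
    have hZne : Z ≠ ⊥ := fun h0 => hab ⟨⟨fun x y => Subtype.ext
      (mem_centralizer_iff.mp (commutator_eq_bot_iff_le_centralizer.mp h0 y.2) x x.2)⟩⟩
    have hV'ne : V' ≠ ⊥ := fun h0 => hZne (by
      rw [← hfd, h0, coe_bot, show centralizer ({1} : Set Γ) = ⊤ from eq_top_iff.mpr fun x _ =>
        mem_centralizer_singleton_iff.mpr (by simp), inf_top_eq])
    obtain ⟨B, hB, -⟩ := hd.exists_piece le_rfl hd.normal hV'ne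
    set W := V' ⊓ centralizer (B : Set Γ) with hW
    haveI : IsMulCommutative W := ⟨⟨fun x y => Subtype.ext
      (setLike_mul_comm (hV'V x.2.1) (hV'V y.2.1))⟩⟩
    have hnorm : ∀ a : Γ, a ∈ normalizer (V : Set Γ) → a ∈ centralizer (Z : Set Γ) →
        a ∈ normalizer (W : Set Γ) := fun a h1 h2 =>
      Coprime.le_normalizer_inf (zpowers_le.mpr (FixedPointFree.mem_normalizer_commutator h1
          (centralizer_le_normalizer _ h2)))
        (Coprime.le_normalizer_centralizer (zpowers_le.mpr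
          (centralizer_le_normalizer _ (centralizer_le hB.le h2)))) (mem_zpowers a)
    have hQW : Q ≤ normalizer (W : Set Γ) := fun a ha => hnorm a (hQV ha) (hQZ ha)
    set N := normalizer (W : Set Γ) with hN
    open scoped IsMulCommutative in
    let f : N →* MulAut W := W.normalizerMonoidHom
    have hf1 : ∀ a : N, f a = 1 ↔ (a : Γ) ∈ centralizer (W : Set Γ) := fun a => by
      rw [← MonoidHom.mem_ker]
      show a ∈ W.normalizerMonoidHom.ker ↔ _
      rw [normalizerMonoidHom_ker]
      exact Iff.rfl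
    let cN : N := ⟨c, hnorm c hcV (hCZ (mem_zpowers c))⟩
    set E := (Q.subgroupOf N).map f with hE
    have hZmap : ∀ {z : MulAut W}, z ∈ ⁅E, E⁆ → ∃ a : N, (a : Γ) ∈ Z ∧ f a = z := by
      intro z hz
      rw [hE, ← map_commutator] at hz
      obtain ⟨a, ha, rfl⟩ := hz
      refine ⟨a, ?_, rfl⟩
      have h1 := mem_map_of_mem N.subtype ha
      rw [map_commutator, map_subgroupOf_eq_of_le hQW] at h1
      exact h1
    have hcomZ : ∀ (y : N), (y : Γ) ∈ centralizer (Z : Set Γ) → ∀ {z : MulAut W}, z ∈ ⁅E, E⁆ →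
        f y * z = z * f y := by
      intro y hy z hz
      obtain ⟨a, ha, rfl⟩ := hZmap hz
      rw [← map_mul, ← map_mul]
      exact congrArg f (Subtype.ext (mem_centralizer_iff.mp hy a ha).symm)
    have hcl : ⁅E, E⁆ ≤ centralizer (E : Set _) := fun z hz => mem_centralizer_iff.mpr (by
      rintro _ ⟨y, hy, rfl⟩
      exact hcomZ y (hQZ hy) hz)
    have hxE : f cN ∈ normalizer (E : Set _) := by
      apply Coprime.mem_normalizer_of_conj_smul_eq
      rw [hE, Coprime.conj_smul_eq_map, Subgroup.map_map,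
        show (MulAut.conj (f cN)).toMonoidHom.comp f = f.comp (MulAut.conj cN).toMonoidHom from
          MonoidHom.ext fun a => by simp, ← Subgroup.map_map, ← Coprime.conj_smul_eq_map]
      congr 1
      ext a
      rw [Coprime.mem_conj_smul, mem_subgroupOf, mem_subgroupOf]
      simpa [cN] using (mem_normalizer_iff''.mp hcQ (a : Γ)).symm
    have hEdvd : Nat.card E ∣ q ^ n :=
      ((card_map_dvd _ f).trans (Coprime.card_subgroupOf hQW).dvd).trans hn.dvd
    haveI : Nontrivial W := (nontrivial_iff_ne_bot W).mpr hB.ne_bot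
    have hfree : ∀ z ∈ ⁅E, E⁆, z ≠ 1 → ∀ w : W, z w = w → w = 1 := by
      intro z hz hz1 w hw
      obtain ⟨a, ha, rfl⟩ := hZmap hz
      have haB : ¬ (zpowers (a : Γ)) ≤ B := fun hle => hz1 ((hf1 a).mpr
        (mem_centralizer_iff.mpr fun u hu =>
          (mem_centralizer_iff.mp hu.2 _ (hle (mem_zpowers _))).symm))
      have hsup := hd.piece_sup hB (zpowers_le.mpr ha) haB
      have h1 : (a : Γ) * w * (a : Γ)⁻¹ = w := congrArg Subtype.val hw
      refine Subtype.ext (mem_bot.mp (hd.fixed.le ⟨w.2.1, ?_⟩))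
      have hle : Z ≤ centralizer {(w : Γ)} := by
        rw [← hsup]
        refine sup_le (fun y hy => mem_centralizer_singleton_iff.mpr
          (mem_centralizer_iff.mp w.2.2 y hy)) (zpowers_le.mpr ?_)
        exact mem_centralizer_singleton_iff.mpr (mul_inv_eq_iff_eq_mul.mp h1)
      exact mem_centralizer_iff.mpr fun y hy => mem_centralizer_singleton_iff.mp (hle hy)
    open scoped IsMulCommutative in
    have hres := FittingPQ.hh_aut hp.out hs hsp
      (fun w : W => Subtype.ext (by simpa using hV.2 _ (hV'V w.2.1))) E (f cN)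
      (by rw [← map_pow, show cN ^ s = 1 from Subtype.ext (by simpa [cN] using hc), map_one])
      hxE (fun w hw => Subtype.ext (mem_bot.mp (hfix.le ⟨hV'V w.2.1, mem_centralizer_singleton_iff.mpr
        (mul_inv_eq_iff_eq_mul.mp (congrArg Subtype.val hw)).symm⟩)))
      ((((hq.out.coprime_iff_not_dvd.mpr hqV).pow_left n).coprime_dvd_left hEdvd).coprime_dvd_right
        (card_dvd_of_le (inf_le_left.trans hV'V)))
      ((((Nat.coprime_primes hq.out hs).mpr (Ne.symm hsq)).pow_left n).coprime_dvd_left hEdvd)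
      hcl (fun z hz => hcomZ cN (hCZ (mem_zpowers c)) hz) hfree
    have hEE : ⁅E, zpowers (f cN)⁆ = E := by
      rw [hE, ← MonoidHom.map_zpowers, ← map_commutator]
      congr 1
      apply map_injective N.subtype_injective
      rw [map_commutator, map_subgroupOf_eq_of_le hQW, MonoidHom.map_zpowers]
      exact hQC
    rcases hres with hleft | hright
    · rw [hEE] at hleft
      refine hd.piece_ne hB (le_antisymm hB.le ?_)
      rw [← hd.piece_kernel hB le_rfl hB.ne_bot]
      refine le_inf le_rfl ?_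
      rw [hZ, commutator_le]
      intro a ha b hb
      refine (hf1 ⟨⁅a, b⁆, hQW (hZQ (commutator_mem_commutator ha hb))⟩).mp ?_
      rw [show (⟨⁅a, b⁆, hQW (hZQ (commutator_mem_commutator ha hb))⟩ : N) =
        ⁅(⟨a, hQW ha⟩ : N), ⟨b, hQW hb⟩⁆ from rfl, map_commutatorElement,
        commutatorElement_eq_one_iff_mul_comm]
      exact (mem_centralizer_iff.mp (hleft (mem_map_of_mem f (show (⟨a, hQW ha⟩ : N) ∈ Q.subgroupOf N
        from ha))) _ (mem_map_of_mem f (show (⟨b, hQW hb⟩ : N) ∈ Q.subgroupOf N from hb))).symm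
    · have hle : (E ⊓ centralizer (E : Set (MulAut W))) ⊔ ⁅E, zpowers (f cN)⁆ ≤ E :=
        sup_le inf_le_left hEE.le
      have h1 : (s - 1) ^ 2 ∣ q ^ n :=
        hright ▸ (((relIndex_dvd_card _ _).trans (card_dvd_of_le hle)).trans hEdvd)
      obtain ⟨i, -, hi⟩ := (Nat.dvd_prime_pow hq.out).mp
        ((dvd_pow_self (s - 1) two_ne_zero).trans h1)
      have he : Even (s - 1) := by
        obtain ⟨m, hm⟩ := hs.odd_of_ne_two hs2
        exact ⟨m, by omega⟩
      rw [hi] at he
      exact Nat.not_even_iff_odd.mpr ((hq.out.odd_of_ne_two hq2).pow) he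

end Cfsg.Agent.OddLocal.ZFix
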